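import Mathlib

/-!
# Two transvections generating `SL(2,p)`: the permutation-theoretic part

A finite group acting like a subgroup of `PSL(2,K)` on the projective line, `K` algebraically
closed of odd characteristic `p`: non-trivial elements of order `p` fix one point, the other
non-trivial elements fix two. If there are two elements of order `p` with distinct fixed points
then there are two such elements `u`, `v` fixing `P`, `Q` with `u Q = v P`.

The proof is Klein's orbit count followed by a look at the single exceptional case `A₅`, `p = 3`.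
-/

set_option autoImplicit false

namespace Cfsg.Agent.Transfer

open MulAction

/-- Fixed-point behaviour of a subgroup of `PSL(2,K)` on the projective line. -/
structure IsPlanarAction (p : ℕ) (G X : Type*) [Group G] [MulAction G X] : Prop where
  one_fixed : ∀ g : G, g ≠ 1 → g ^ p = 1 → ∃ P : X, g • P = P ∧ ∀ Q : X, g • Q = Q → Q = P
  two_fixed : ∀ g : G, g ^ p ≠ 1 →
    ∃ P Q : X, P ≠ Q ∧ g • P = P ∧ g • Q = Q ∧ ∀ R : X, g • R = R → R = P ∨ R = Q
  mul_fixed : ∀ (u v : G) (P : X), u ^ p = 1 → v ^ p = 1 → u • P = P → v • P = P →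
    (u * v) ^ p = 1

/-- If all point stabilisers of an action on a finite type lie in `S` then the index of `S` divides
the number of points. -/
theorem index_dvd_card_of_stabilizer_le {H Y : Type*} [Group H] [MulAction H Y] [Finite Y]
    (S : Subgroup H) (h : ∀ y : Y, stabilizer H y ≤ S) : S.index ∣ Nat.card Y := by
  classical
  haveI := Fintype.ofFinite Y
  haveI : Fintype (orbitRel.Quotient H Y) := Fintype.ofFinite _
  rw [Nat.card_congr (selfEquivSigmaOrbits H Y), Nat.card_sigma]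
  refine Finset.dvd_sum fun o _ => ?_
  rw [Nat.card_coe_set_eq, ← index_stabilizer]
  exact Subgroup.index_dvd_of_le (h _)

/-- The arithmetic of the orbit equation. -/
theorem planar_arith {n q m d k : ℕ} (hq : 3 ≤ q) (hn : n = k * q + 1) (hk : 1 ≤ k)
    (hm : m ∣ q - 1) (he : d * (2 + n * (q - 2)) = n * (q * m)) :
    k = 1 ∨ (q = 3 ∧ m = 2 ∧ k = 3 ∧ d = 5) := by
  obtain ⟨a, rfl⟩ : ∃ a, q = a + 3 := ⟨q - 3, by omega⟩
  have hm' : m ≤ a + 2 := Nat.le_of_dvd (by omega) hm
  have hm1 : 0 < m := Nat.pos_of_ne_zero fun e => by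
    subst e; rw [zero_dvd_iff] at hm; omega
  simp only [show a + 3 - 2 = a + 1 by omega] at he
  subst hn
  by_cases hk1 : k = 1
  · exact Or.inl hk1
  right
  have hlt : d * (a + 1) < (a + 3) * m := by
    by_contra hc
    rw [not_lt] at hc
    have h1 := Nat.mul_le_mul_left (k * (a + 3) + 1) hc
    have hd0 : d = 0 := by nlinarith [he, h1]
    subst hd0
    rw [zero_mul] at he
    have : 0 < (k * (a + 3) + 1) * ((a + 3) * m) := by positivity
    omega
  obtain ⟨j, hj⟩ : ∃ j, (a + 3) * m = d * (a + 1) + j := Nat.exists_eq_add_of_le hlt.le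
  have hj1 : 1 ≤ j := by omega
  have h2d : 2 * d = (k * (a + 3) + 1) * j := by
    rw [hj] at he
    nlinarith [he]
  have h2m : 2 * m = j * (k * (a + 1) + 1) := by
    have h : (a + 3) * (2 * m) = (a + 3) * (j * (k * (a + 1) + 1)) := by
      nlinarith [hj, h2d]
    exact Nat.eq_of_mul_eq_mul_left (by omega) h
  have hk2 : 2 ≤ k := by omega
  have hj' : j = 1 := by
    by_contra hj'
    have : 2 * (2 * (a + 1) + 1) ≤ j * (k * (a + 1) + 1) :=
      Nat.mul_le_mul (by omega) (by nlinarith)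
    omega
  subst hj'
  rw [one_mul] at h2m
  have hk3 : k ≤ 3 := by nlinarith
  interval_cases k
  · omega
  · have ha : a = 0 := by omega
    subst ha
    have hm2 : m = 2 := by omega
    subst hm2
    omega

variable {G X : Type*} [Group G] [MulAction G X] {p : ℕ}

theorem IsPlanarAction.fix_unique (h : IsPlanarAction p G X) {g : G} (hg : g ≠ 1)
    (hgp : g ^ p = 1) {P Q : X} (hP : g • P = P) (hQ : g • Q = Q) : P = Q := by
  obtain ⟨R, -, hR⟩ := h.one_fixed g hg hgp
  rw [hR P hP, hR Q hQ]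

variable [Finite G] [hp : Fact p.Prime]

/-- The elements of order dividing `p` fixing a given point. -/
def planarT (h : IsPlanarAction p G X) (P : X) : Subgroup G where
  carrier := {g | g ^ p = 1 ∧ g • P = P}
  one_mem' := ⟨one_pow _, one_smul _ _⟩
  mul_mem' := fun {a b} ha hb => ⟨h.mul_fixed a b P ha.1 hb.1 ha.2 hb.2, by
    rw [mul_smul, hb.2, ha.2]⟩
  inv_mem' := fun {a} ha => ⟨by rw [inv_pow, ha.1, inv_one], inv_smul_eq_iff.mpr ha.2.symm⟩

theorem mem_planarT {h : IsPlanarAction p G X} {P : X} {g : G} :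
    g ∈ planarT h P ↔ g ^ p = 1 ∧ g • P = P := Iff.rfl

theorem planarT_isPGroup (h : IsPlanarAction p G X) (P : X) : IsPGroup p (planarT h P) :=
  fun g => ⟨1, Subtype.ext (by rw [pow_one]; exact g.2.1)⟩

/-- An element commuting with a non-trivial element of `planarT P` lies in it. -/
theorem planarT_of_commute (h : IsPlanarAction p G X) {P : X} {g u : G} (hu : u ∈ planarT h P)
    (hu1 : u ≠ 1) (hc : Commute g u) : g ∈ planarT h P := by
  have hgP : g • P = P := by
    refine h.fix_unique hu1 hu.1 ?_ hu.2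
    rw [← mul_smul, ← hc.eq, mul_smul, hu.2]
  refine ⟨?_, hgP⟩
  by_contra hg
  obtain ⟨A, B, hAB, hA, hB, hall⟩ := h.two_fixed g hg
  have key : ∀ R, g • R = R → R ≠ P → ∀ S, g • S = S → S = P ∨ S = R := by
    intro R hR hRP S hS
    rcases hall P hgP with rfl | rfl <;> rcases hall R hR with rfl | rfl <;>
      rcases hall S hS with rfl | rfl <;> simp_all
  obtain ⟨R, hR, hRP⟩ : ∃ R, g • R = R ∧ R ≠ P := by
    by_cases hAP : A = P
    · exact ⟨B, hB, fun hBP => hAB (hAP.trans hBP.symm)⟩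
    · exact ⟨A, hA, hAP⟩
  have hgu : g • (u • R) = u • R := by rw [← mul_smul, hc.eq, mul_smul, hR]
  rcases key R hR hRP _ hgu with h1 | h1
  · exact hRP (smul_left_cancel u (h1.trans hu.2.symm))
  · exact hRP (h.fix_unique hu1 hu.1 h1 hu.2)

theorem exists_sylow_eq_planarT (h : IsPlanarAction p G X) {P : X} (hP : planarT h P ≠ ⊥) :
    ∃ S : Sylow p G, (S : Subgroup G) = planarT h P := by
  obtain ⟨S, hS⟩ := (planarT_isPGroup h P).exists_le_sylow
  refine ⟨S, le_antisymm ?_ hS⟩
  obtain ⟨u, hu, hu1⟩ : ∃ u ∈ planarT h P, u ≠ 1 := by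
    obtain ⟨a, ha⟩ := Subgroup.ne_bot_iff_exists_ne_one.mp hP
    exact ⟨a.1, a.2, fun e => ha (Subtype.ext e)⟩
  haveI : Nontrivial (S : Subgroup G) :=
    ⟨⟨⟨u, hS hu⟩, 1, fun e => hu1 (congrArg Subtype.val e)⟩⟩
  haveI : Nontrivial (Subgroup.center (S : Subgroup G)) := S.isPGroup'.center_nontrivial
  obtain ⟨z, hz⟩ := exists_ne (1 : Subgroup.center (S : Subgroup G))
  have hzc : ∀ s ∈ (S : Subgroup G), Commute ((z : (S : Subgroup G)) : G) s := fun s hs =>
    congrArg Subtype.val (Subgroup.mem_center_iff.mp z.2 ⟨s, hs⟩).symm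
  have hz1 : ((z : (S : Subgroup G)) : G) ≠ 1 := fun e =>
    hz (Subtype.ext (Subtype.ext e))
  have hzT := planarT_of_commute h hu hu1 (hzc u (hS hu))
  exact fun s hs => planarT_of_commute h hzT hz1 (hzc s hs).symm

theorem exists_smul_eq_of_planarT (h : IsPlanarAction p G X) {P Q : X}
    (hP : planarT h P ≠ ⊥) (hQ : planarT h Q ≠ ⊥) : ∃ g : G, g • P = Q := by
  obtain ⟨S, hS⟩ := exists_sylow_eq_planarT h hP
  obtain ⟨S', hS'⟩ := exists_sylow_eq_planarT h hQ
  obtain ⟨g, hg⟩ := MulAction.exists_smul_eq G S S'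
  obtain ⟨u, hu, hu1⟩ : ∃ u ∈ planarT h P, u ≠ 1 := by
    obtain ⟨a, ha⟩ := Subgroup.ne_bot_iff_exists_ne_one.mp hP
    exact ⟨a.1, a.2, fun e => ha (Subtype.ext e)⟩
  have hgu : g * u * g⁻¹ ∈ planarT h Q := by
    rw [← hS', ← hg, Sylow.coe_subgroup_smul]
    exact ⟨u, (hS.symm ▸ hu : u ∈ (S : Subgroup G)), rfl⟩
  refine ⟨g, h.fix_unique (g := g * u * g⁻¹) ?_ hgu.1 ?_ hgu.2⟩
  · exact fun e => hu1 (conj_eq_one_iff.mp e)
  · rw [mul_smul, mul_smul, inv_smul_smul, hu.2]

theorem conj_mem_planarT (h : IsPlanarAction p G X) {P : X} {u : G} (hu : u ∈ planarT h P)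
    (g : G) : g * u * g⁻¹ ∈ planarT h (g • P) :=
  ⟨by rw [conj_pow, hu.1, mul_one, mul_inv_cancel], by rw [mul_smul, mul_smul, inv_smul_smul, hu.2]⟩

theorem planarT_smul_ne_bot (h : IsPlanarAction p G X) {P : X} (hP : planarT h P ≠ ⊥) (g : G) :
    planarT h (g • P) ≠ ⊥ := by
  obtain ⟨a, ha⟩ := Subgroup.ne_bot_iff_exists_ne_one.mp hP
  intro e
  have := conj_mem_planarT h a.2 g
  rw [e, Subgroup.mem_bot, conj_eq_one_iff] at this
  exact ha (Subtype.ext this)

/-- The points moved by nobody but the identity excluded: points with non-trivial stabiliser. -/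
theorem finite_planar_points (h : IsPlanarAction p G X) :
    {x : X | ∃ g : G, g ≠ 1 ∧ g • x = x}.Finite := by
  have : {x : X | ∃ g : G, g ≠ 1 ∧ g • x = x} ⊆
      ⋃ g : {g : G // g ≠ 1}, {x : X | g.1 • x = x} := fun x ⟨g, h1, h2⟩ =>
    Set.mem_iUnion.mpr ⟨⟨g, h1⟩, h2⟩
  refine (Set.finite_iUnion fun g : {g : G // g ≠ 1} => ?_).subset this
  by_cases hg : g.1 ^ p = 1
  · obtain ⟨P, -, hP⟩ := h.one_fixed g.1 g.2 hg
    exact (Set.finite_singleton P).subset fun x hx => hP x hx
  · obtain ⟨A, B, -, -, -, hAB⟩ := h.two_fixed g.1 hg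
    exact ((Set.finite_singleton B).insert A).subset fun x hx => hAB x hx

/-- The collision in the icosahedral case. -/
theorem collision_of_five (h : IsPlanarAction 3 G X) (hG : Nat.card G = 60)
    (hsix : ∀ x : X, planarT h x ≠ ⊥ →
      Nat.card (stabilizer G x) = 6 ∧ Nat.card (planarT h x) = 3)
    (hfive : ∀ x : X, planarT h x = ⊥ → (∃ g : G, g ≠ 1 ∧ g • x = x) →
      Nat.card (stabilizer G x) = 5)
    (hten : {x : X | planarT h x ≠ ⊥}.ncard = 10) :
    ∃ (u v : G) (P Q : X), u ^ 3 = 1 ∧ v ^ 3 = 1 ∧ u • P = P ∧ v • Q = Q ∧ P ≠ Q ∧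
      u • Q = v • P := by
  classical
  haveI := Fintype.ofFinite G
  -- involutions fix two points with stabilisers of order `6`
  have hinv3 : ∀ τ : G, τ ≠ 1 → τ * τ = 1 → τ ^ 3 ≠ 1 := by
    intro τ h1 h2 h3
    rw [pow_succ, pow_two, h2, one_mul] at h3
    exact h1 h3
  have heven : ∀ (τ : G) (x : X), τ ≠ 1 → τ * τ = 1 → τ • x = x → planarT h x ≠ ⊥ := by
    intro τ x h1 h2 hx e
    have h5 := hfive x e ⟨τ, h1, hx⟩
    have hd : orderOf (⟨τ, hx⟩ : stabilizer G x) ∣ 5 := h5 ▸ orderOf_dvd_natCard _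
    have h22 : orderOf (⟨τ, hx⟩ : stabilizer G x) = 2 :=
      orderOf_eq_prime (by rw [pow_two]; exact Subtype.ext h2)
        (fun e' => h1 (congrArg Subtype.val e'))
    rw [h22] at hd
    norm_num at hd
  have hout : ∀ (x : X) (g : G), planarT h x ≠ ⊥ → g • x = x → g ∉ planarT h x →
      g * g = 1 := by
    intro x g hx hgx hgT
    obtain ⟨h6, h3⟩ := hsix x hx
    let N := stabilizer G x
    let T' := (planarT h x).subgroupOf N
    have hT'card : Nat.card T' = 3 := by
      rw [Nat.card_congr (Subgroup.subgroupOfEquivOfLe (show planarT h x ≤ N from fun g hg => hg.2)).toEquiv, h3]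
    have hidx : T'.index = 2 := by
      have := T'.card_mul_index
      rw [hT'card, show Nat.card N = 6 from h6] at this
      omega
    haveI := Subgroup.normal_of_index_eq_two hidx
    have hsq : (⟨g, hgx⟩ : N) ^ 2 ∈ T' := hidx ▸ Subgroup.pow_index_mem T' _
    have hsq' : g ^ 2 ∈ planarT h x := hsq
    by_contra hne
    exact hgT (planarT_of_commute h hsq' (by rwa [pow_two]) (Commute.self_pow g 2))
  let Inv : Finset G := Finset.univ.filter fun τ => τ ≠ 1 ∧ τ * τ = 1
  have hInv : ∀ τ, τ ∈ Inv ↔ τ ≠ 1 ∧ τ * τ = 1 := fun τ => by simp [Inv]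
  have hfinΩ : {x : X | planarT h x ≠ ⊥}.Finite :=
    Set.finite_of_ncard_ne_zero (by omega)
  let Om := hfinΩ.toFinset
  have hOm : ∀ x, x ∈ Om ↔ planarT h x ≠ ⊥ := fun x => by simp [Om]
  have hOmcard : Om.card = 10 := by rw [← Set.ncard_eq_toFinset_card _ hfinΩ]; exact hten
  -- involutions at a point
  have hpt : ∀ x ∈ Om, (Inv.filter fun τ => τ • x = x).card = 3 := by
    intro x hx
    rw [hOm] at hx
    obtain ⟨h6, h3⟩ := hsix x hx
    have : (Inv.filter fun τ => τ • x = x) =
        (Finset.univ.filter fun g : G => g ∈ stabilizer G x) \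
          (Finset.univ.filter fun g : G => g ∈ planarT h x) := by
      ext g
      simp only [Finset.mem_filter, hInv, Finset.mem_sdiff, Finset.mem_univ, true_and,
        mem_stabilizer_iff]
      constructor
      · rintro ⟨⟨h1, h2⟩, hg⟩
        exact ⟨hg, fun hT => hinv3 g h1 h2 hT.1⟩
      · rintro ⟨hg, hT⟩
        exact ⟨⟨fun e => hT (e ▸ one_mem _), hout x g hx hg hT⟩, hg⟩
    rw [this, Finset.card_sdiff_of_subset]
    · rw [← Fintype.card_subtype, ← Fintype.card_subtype, ← Nat.card_eq_fintype_card,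
        ← Nat.card_eq_fintype_card]
      rw [show Nat.card {g : G // g ∈ stabilizer G x} = 6 from h6,
        show Nat.card {g : G // g ∈ planarT h x} = 3 from h3]
    · intro g hg
      simp only [Finset.mem_filter, Finset.mem_univ, true_and, mem_stabilizer_iff] at hg ⊢
      exact hg.2
  have hI : Inv.card = 15 := by
    have h2 : ∀ τ ∈ Inv, (Om.filter fun x => τ • x = x).card = 2 := by
      intro τ hτ
      rw [hInv] at hτ
      obtain ⟨A, B, hAB, hA, hB, hall⟩ := h.two_fixed τ (hinv3 τ hτ.1 hτ.2)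
      rw [Finset.card_eq_two]
      refine ⟨A, B, hAB, ?_⟩
      ext x
      simp only [Finset.mem_filter, hOm, Finset.mem_insert, Finset.mem_singleton]
      constructor
      · exact fun hx => hall x hx.2
      · rintro (rfl | rfl)
        · exact ⟨heven τ _ hτ.1 hτ.2 hA, hA⟩
        · exact ⟨heven τ _ hτ.1 hτ.2 hB, hB⟩
    have hsum := Finset.sum_card_bipartiteAbove_eq_sum_card_bipartiteBelow
      (fun (τ : G) (x : X) => τ • x = x) (s := Inv) (t := Om)
    simp only [Finset.bipartiteAbove, Finset.bipartiteBelow] at hsum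
    rw [Finset.sum_congr rfl h2, Finset.sum_congr rfl hpt, Finset.sum_const, Finset.sum_const,
      hOmcard] at hsum
    simp only [smul_eq_mul] at hsum
    omega
  -- all involutions are conjugate
  have hconj : ∀ τ σ, τ ∈ Inv → σ ∈ Inv → ∃ g : G, g * τ * g⁻¹ = σ := by
    intro τ σ hτ hσ
    rw [hInv] at hτ hσ
    obtain ⟨A, -, -, hA, -, -⟩ := h.two_fixed τ (hinv3 τ hτ.1 hτ.2)
    obtain ⟨B, -, -, hB, -, -⟩ := h.two_fixed σ (hinv3 σ hσ.1 hσ.2)
    have hBΩ := heven σ B hσ.1 hσ.2 hB
    obtain ⟨g, hg⟩ := exists_smul_eq_of_planarT h (heven τ A hτ.1 hτ.2 hA) hBΩ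
    set τ' := g * τ * g⁻¹ with hτ'
    have hτ'I : τ' ≠ 1 ∧ τ' * τ' = 1 :=
      ⟨fun e => hτ.1 (conj_eq_one_iff.mp e), by
        rw [hτ', show g * τ * g⁻¹ * (g * τ * g⁻¹) = g * (τ * τ) * g⁻¹ by group, hτ.2, mul_one,
          mul_inv_cancel]⟩
    have hτ'B : τ' • B = B := by
      rw [hτ', mul_smul, mul_smul, ← hg, inv_smul_smul, hA]
    -- the three elements of `T` give all three involutions at `B`
    have himg : (Finset.univ.filter fun s : G => s ∈ planarT h B).image
        (fun s => s * τ' * s⁻¹) = Inv.filter fun r => r • B = B := by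
      refine Finset.eq_of_subset_of_card_le ?_ ?_
      · intro r hr
        simp only [Finset.mem_image, Finset.mem_filter, Finset.mem_univ, true_and] at hr
        obtain ⟨s, hs, rfl⟩ := hr
        refine Finset.mem_filter.mpr ⟨(hInv _).mpr ⟨fun e => hτ'I.1 (conj_eq_one_iff.mp e), ?_⟩, ?_⟩
        · rw [show s * τ' * s⁻¹ * (s * τ' * s⁻¹) = s * (τ' * τ') * s⁻¹ by group, hτ'I.2, mul_one,
            mul_inv_cancel]
        · rw [mul_smul, mul_smul, inv_smul_eq_iff.mpr hs.2.symm, hτ'B, hs.2]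
      · rw [hpt B ((hOm B).mpr hBΩ), Finset.card_image_of_injOn, ← Fintype.card_subtype,
          ← Nat.card_eq_fintype_card]
        · rw [show Nat.card {g : G // g ∈ planarT h B} = 3 from (hsix B hBΩ).2]
        · intro s hs s' hs' e
          simp only [Finset.coe_filter, Finset.mem_univ, true_and, Set.mem_setOf_eq] at hs hs'
          by_contra hne
          have hc : Commute τ' (s'⁻¹ * s) := by
            have e' : s'⁻¹ * (s * τ' * s⁻¹) * s = s'⁻¹ * (s' * τ' * s'⁻¹) * s := by
              simp only at e; rw [e]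
            rw [Commute, SemiconjBy]
            calc τ' * (s'⁻¹ * s) = s'⁻¹ * (s' * τ' * s'⁻¹) * s := by group
              _ = s'⁻¹ * (s * τ' * s⁻¹) * s := e'.symm
              _ = _ := by group
          exact hinv3 τ' hτ'I.1 hτ'I.2 (planarT_of_commute h (mul_mem (inv_mem hs') hs)
            (fun e' => hne (inv_mul_eq_one.mp e').symm) hc).1
    have : σ ∈ Inv.filter fun r => r • B = B :=
      Finset.mem_filter.mpr ⟨(hInv σ).mpr hσ, hB⟩
    rw [← himg, Finset.mem_image] at this
    obtain ⟨s, -, hs⟩ := this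
    exact ⟨s * g, by rw [← hs, hτ']; group⟩
  obtain ⟨τ, hτ⟩ : ∃ τ, τ ∈ Inv := Finset.card_pos.mp (by omega)
  set C := Subgroup.centralizer ({τ} : Set G) with hC
  have hCmem : ∀ g, g ∈ C ↔ g * τ = τ * g := fun g => by
    rw [hC, Subgroup.mem_centralizer_singleton_iff]
  -- orbit-counting: all centralisers of involutions have order 4
  have hcard4 : ∀ r ∈ Inv, Nat.card (Subgroup.centralizer ({r} : Set G)) = 4 := by
    intro r hr
    have hfib : ∀ s ∈ Inv, (Finset.univ.filter fun g : G => g * r * g⁻¹ = s).card =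
        Nat.card (Subgroup.centralizer ({r} : Set G)) := by
      intro s hs
      obtain ⟨g₀, hg₀⟩ := hconj r s hr hs
      rw [← Fintype.card_subtype, ← Nat.card_eq_fintype_card]
      refine Nat.card_congr
        { toFun := fun g => ⟨g₀⁻¹ * g.1, ?_⟩
          invFun := fun c => ⟨g₀ * c.1, ?_⟩
          left_inv := fun g => by simp
          right_inv := fun c => by simp }
      · rw [Subgroup.mem_centralizer_singleton_iff]
        calc g₀⁻¹ * g.1 * r = g₀⁻¹ * (g.1 * r * g.1⁻¹) * g.1 := by group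
          _ = g₀⁻¹ * (g₀ * r * g₀⁻¹) * g.1 := by rw [g.2, hg₀]
          _ = _ := by group
      · have hc := Subgroup.mem_centralizer_singleton_iff.mp c.2
        calc g₀ * c.1 * r * (g₀ * c.1)⁻¹ = g₀ * (c.1 * r * c.1⁻¹) * g₀⁻¹ := by group
          _ = g₀ * r * g₀⁻¹ := by rw [hc, mul_inv_cancel_right]
          _ = s := hg₀
    have hmaps : Set.MapsTo (fun g : G => g * r * g⁻¹) ↑(Finset.univ : Finset G) ↑Inv := by
      intro g _
      rw [hInv] at hr
      exact (hInv _).mpr ⟨fun e => hr.1 (conj_eq_one_iff.mp e), by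
        rw [show g * r * g⁻¹ * (g * r * g⁻¹) = g * (r * r) * g⁻¹ by group, hr.2, mul_one,
          mul_inv_cancel]⟩
    have htot := Finset.card_eq_sum_card_fiberwise hmaps
    rw [Finset.sum_congr rfl hfib, Finset.sum_const, Finset.card_univ, hI, smul_eq_mul,
      ← Nat.card_eq_fintype_card, hG] at htot
    omega
  have hC4 : Nat.card C = 4 := hcard4 τ hτ
  have hexp : ∀ g ∈ C, g * g = 1 := by
    intro g hg
    by_contra hne
    have hg4 : orderOf g = 4 := by
      have hd : orderOf g ∣ 4 := hC4 ▸ Subgroup.orderOf_dvd_natCard C hg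
      have h2 : orderOf g ≠ 2 := fun e => hne (by rw [← pow_two, ← e, pow_orderOf_eq_one])
      have h1 : orderOf g ≠ 1 := fun e => hne (by rw [orderOf_eq_one_iff.mp e, mul_one])
      have h3 := Nat.le_of_dvd (by norm_num) hd
      interval_cases hh : orderOf g <;> omega
    have hg3 : g ^ 3 ≠ 1 := pow_ne_one_of_lt_orderOf (by norm_num) (by omega)
    obtain ⟨A, -, -, hA, -, -⟩ := h.two_fixed g hg3
    have hd : 4 ∣ Nat.card (stabilizer G A) := hg4 ▸ Subgroup.orderOf_dvd_natCard _ hA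
    by_cases hT : planarT h A = ⊥
    · rw [hfive A hT ⟨g, fun e => hne (by rw [e, mul_one]), hA⟩] at hd
      omega
    · rw [(hsix A hT).1] at hd
      omega
  have hcommC : ∀ a ∈ C, ∀ b ∈ C, a * b = b * a := by
    intro a ha b hb
    have h1 := hexp _ (mul_mem ha hb)
    calc a * b = a * (a * b * (a * b)) * b := by rw [h1, mul_one]
      _ = a * a * (b * a) * (b * b) := by group
      _ = b * a := by rw [hexp a ha, hexp b hb, one_mul, mul_one]
  have hCr : ∀ r ∈ C, r ≠ 1 → Subgroup.centralizer ({r} : Set G) = C := by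
    intro r hr hr1
    refine (Subgroup.eq_of_le_of_card_ge ?_ ?_).symm
    · exact fun a ha => Subgroup.mem_centralizer_singleton_iff.mpr (hcommC a ha r hr)
    · rw [hC4, hcard4 r ((hInv r).mpr ⟨hr1, hexp r hr⟩)]
  -- an element of order three normalising `C`
  have hN : Nat.card (Subgroup.normalizer (C : Set G)) = 12 := by
    have hIC : (Inv.filter fun r => r ∈ C) =
        (Finset.univ.filter fun g : G => g ∈ C).erase 1 := by
      ext r
      simp only [Finset.mem_filter, hInv, Finset.mem_erase, Finset.mem_univ, true_and]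
      exact ⟨fun hr => ⟨hr.1.1, hr.2⟩, fun hr => ⟨⟨hr.1, hexp r hr.2⟩, hr.2⟩⟩
    have hIC3 : (Inv.filter fun r => r ∈ C).card = 3 := by
      rw [hIC, Finset.card_erase_of_mem (by simp), ← Fintype.card_subtype,
        ← Nat.card_eq_fintype_card, show Nat.card {g : G // g ∈ C} = 4 from hC4]
    have hNeq : ∀ g : G, g ∈ Subgroup.normalizer (C : Set G) ↔ g * τ * g⁻¹ ∈ C := by
      intro g
      refine ⟨fun hg => (Subgroup.mem_normalizer_iff.mp hg τ).mp ((hCmem τ).mpr rfl),
        fun hg => ?_⟩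
      have h1 := hCr _ hg (fun e => ((hInv τ).mp hτ).1 (conj_eq_one_iff.mp e))
      rw [Subgroup.mem_normalizer_iff]
      intro x
      rw [← SetLike.mem_coe, ← SetLike.mem_coe]
      show x ∈ C ↔ g * x * g⁻¹ ∈ C
      rw [hCmem x, ← h1, Subgroup.mem_centralizer_singleton_iff]
      constructor
      · intro hx
        calc g * x * g⁻¹ * (g * τ * g⁻¹) = g * (x * τ) * g⁻¹ := by group
          _ = g * (τ * x) * g⁻¹ := by rw [hx]
          _ = _ := by group
      · intro hx
        calc x * τ = g⁻¹ * (g * x * g⁻¹ * (g * τ * g⁻¹)) * g := by group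
          _ = g⁻¹ * (g * τ * g⁻¹ * (g * x * g⁻¹)) * g := by rw [hx]
          _ = _ := by group
    have hmaps : Set.MapsTo (fun g : G => g * τ * g⁻¹)
        ↑(Finset.univ.filter fun g : G => g ∈ Subgroup.normalizer (C : Set G))
        ↑(Inv.filter fun r => r ∈ C) := by
      intro g hg
      simp only [Finset.coe_filter, Finset.mem_univ, true_and, Set.mem_setOf_eq] at hg
      have h1 := (hNeq g).mp hg
      simp only [Finset.coe_filter, hInv, Set.mem_setOf_eq]
      exact ⟨⟨fun e => ((hInv τ).mp hτ).1 (conj_eq_one_iff.mp e), hexp _ h1⟩, h1⟩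
    have hfib : ∀ r ∈ Inv.filter (fun r => r ∈ C),
        ((Finset.univ.filter fun g : G => g ∈ Subgroup.normalizer (C : Set G)).filter
          fun g => g * τ * g⁻¹ = r).card = 4 := by
      intro r hr
      rw [Finset.mem_filter] at hr
      obtain ⟨g₀, hg₀⟩ := hconj τ r hτ hr.1
      rw [Finset.filter_filter, ← Fintype.card_subtype, ← Nat.card_eq_fintype_card, ← hC4]
      refine Nat.card_congr
        { toFun := fun g => ⟨g₀⁻¹ * g.1, ?_⟩
          invFun := fun c => ⟨g₀ * c.1, ?_⟩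
          left_inv := fun g => by simp
          right_inv := fun c => by simp }
      · rw [hCmem]
        calc g₀⁻¹ * g.1 * τ = g₀⁻¹ * (g.1 * τ * g.1⁻¹) * g.1 := by group
          _ = g₀⁻¹ * (g₀ * τ * g₀⁻¹) * g.1 := by rw [g.2.2, hg₀]
          _ = _ := by group
      · have hc := (hCmem c.1).mp c.2
        have he : g₀ * c.1 * τ * (g₀ * c.1)⁻¹ = r := by
          calc g₀ * c.1 * τ * (g₀ * c.1)⁻¹ = g₀ * (c.1 * τ * c.1⁻¹) * g₀⁻¹ := by group
            _ = g₀ * τ * g₀⁻¹ := by rw [hc, mul_inv_cancel_right]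
            _ = r := hg₀
        exact ⟨(hNeq _).mpr (he.symm ▸ hr.2), he⟩
    have htot := Finset.card_eq_sum_card_fiberwise hmaps
    rw [Finset.sum_congr rfl hfib, Finset.sum_const, hIC3, smul_eq_mul,
      ← Fintype.card_subtype, ← Nat.card_eq_fintype_card] at htot
    exact htot
  obtain ⟨u', hu'⟩ := exists_prime_orderOf_dvd_card' (G := Subgroup.normalizer (C : Set G)) 3
    (by rw [hN]; norm_num)
  set u : G := u'.1 with hudef
  have hu3 : u ^ 3 = 1 := congrArg Subtype.val (hu' ▸ pow_orderOf_eq_one u')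
  have hu1 : u ≠ 1 := fun e => by
    have h' : u' = 1 := Subtype.ext e
    rw [h', orderOf_one] at hu'
    omega
  have hun : ∀ r, r ∈ C → u * r * u⁻¹ ∈ C := fun r hr =>
    (Subgroup.mem_normalizer_iff.mp u'.2 r).mp hr
  obtain ⟨P, hP, -⟩ := h.one_fixed u hu1 hu3
  have huT : u ∈ planarT h P := ⟨hu3, hP⟩
  obtain ⟨hτ1, hτ2⟩ := (hInv τ).mp hτ
  have hτC : τ ∈ C := (hCmem τ).mpr rfl
  -- `u` commutes with no involution of `C`
  have hnc : ∀ r ∈ C, r ≠ 1 → u * r ≠ r * u := fun r hr hr1 e =>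
    hinv3 r hr1 (hexp r hr) (planarT_of_commute h huT hu1 (show Commute r u from e.symm)).1
  set w := u * τ * u⁻¹ with hw
  have hwC : w ∈ C := hun τ hτC
  have hw1 : w ≠ 1 := fun e => hτ1 (conj_eq_one_iff.mp e)
  have hwτ : w ≠ τ := fun e => hnc τ hτC hτ1 (mul_inv_eq_iff_eq_mul.mp e)
  -- no involution of `C` fixes `P`
  have hnf : ∀ r ∈ C, r ≠ 1 → r • P ≠ P := by
    intro r hr hr1 hrP
    have h1 : r * u * r⁻¹ * u⁻¹ ∈ planarT h P := by
      have := conj_mem_planarT h huT r
      rw [hrP] at this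
      exact mul_mem this (inv_mem huT)
    have h2 : r * u * r⁻¹ * u⁻¹ ∈ C := by
      rw [show r * u * r⁻¹ * u⁻¹ = r * (u * r⁻¹ * u⁻¹) by group]
      exact mul_mem hr (hun _ (inv_mem hr))
    have h3 : r * u * r⁻¹ * u⁻¹ = 1 := by
      by_contra hne
      exact hinv3 _ hne (hexp _ h2) h1.1
    refine hnc r hr hr1 ?_
    calc u * r = r * u * r⁻¹ * u⁻¹ * (u * r) := by rw [h3, one_mul]
      _ = r * u := by group
  set r := u * w * u⁻¹ with hr
  have hrC : r ∈ C := hun w hwC
  have hr1 : r ≠ 1 := fun e => hw1 (conj_eq_one_iff.mp e)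
  have hrw : r ≠ w := fun e => hnc w hwC hw1 (mul_inv_eq_iff_eq_mul.mp e)
  have hrτ : r ≠ τ := by
    intro e
    refine hnc τ hτC hτ1 ?_
    have h1 : u ^ 2 * τ * (u ^ 2)⁻¹ = τ := by
      calc u ^ 2 * τ * (u ^ 2)⁻¹ = u * (u * τ * u⁻¹) * u⁻¹ := by rw [pow_two]; group
        _ = r := by rw [hr]
        _ = τ := e
    have h2 : Commute (u ^ 2) τ := mul_inv_eq_iff_eq_mul.mp h1
    have h3 := h2.pow_left 2
    rw [← pow_mul, show 2 * 2 = 3 + 1 by norm_num, pow_succ, hu3, one_mul] at h3
    exact h3.eq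
  have hrp : r = τ * w := by
    -- the three involutions of `C`
    have hτw : τ * w ∈ C := mul_mem hτC hwC
    by_contra hne
    have hsub : ({1, τ, w, r, τ * w} : Finset G) ⊆ Finset.univ.filter fun g : G => g ∈ C := by
      intro x hx
      simp only [Finset.mem_insert, Finset.mem_singleton] at hx
      simp only [Finset.mem_filter, Finset.mem_univ, true_and]
      rcases hx with rfl | rfl | rfl | rfl | rfl
      exacts [one_mem _, hτC, hwC, hrC, hτw]
    have hcard : ({1, τ, w, r, τ * w} : Finset G).card = 5 := by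
      have e1 : τ * w ≠ 1 := fun e => hwτ (by
        calc w = τ * τ * w := by rw [hτ2, one_mul]
          _ = τ := by rw [mul_assoc, e, mul_one])
      have e2 : τ * w ≠ τ := fun e => hw1 (mul_eq_left.mp e)
      have e3 : τ * w ≠ w := fun e => hτ1 (mul_eq_right.mp e)
      simp [Finset.card_insert_of_notMem, hw1.symm, hτ1.symm, hr1.symm, e1.symm, e2.symm,
        e3.symm, hwτ.symm, hrw.symm, hrτ.symm, hne]
    have := Finset.card_le_card hsub
    rw [hcard, ← Fintype.card_subtype, ← Nat.card_eq_fintype_card,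
      show Nat.card {g : G // g ∈ C} = 4 from hC4] at this
    omega
  -- the collision
  refine ⟨u ^ 2, τ * u * τ, P, τ • P, by rw [← pow_mul, mul_comm, pow_mul, hu3, one_pow], ?_,
    by rw [pow_two, mul_smul, hP, hP], by rw [mul_smul, mul_smul, ← mul_smul τ τ, hτ2, one_smul, hP],
    fun e => hnf τ hτC hτ1 e.symm, ?_⟩
  · have := conj_mem_planarT h huT τ
    rw [show τ⁻¹ = τ from inv_eq_of_mul_eq_one_left hτ2] at this
    exact this.1
  · have e1 : ∀ s : G, u • (s • P) = (u * s * u⁻¹) • P := fun s => by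
      rw [mul_smul, mul_smul, inv_smul_eq_iff.mpr hP.symm]
    have lhs : u ^ 2 • τ • P = r • P := by
      rw [pow_two, mul_smul, e1, ← hw, e1, ← hr]
    rw [lhs, mul_smul (τ * u) τ, mul_smul τ u, e1, ← hw, ← mul_smul, hrp]

variable (p) in
/-- **Collision lemma**: two elements of order `p` with distinct fixed points force elements `u`,
`v` of order `p`, fixing `P ≠ Q`, with `u Q = v P`. -/
theorem exists_collision (hp2 : p ≠ 2) (h : IsPlanarAction p G X) {u₀ v₀ : G} {P₀ Q₀ : X}
    (hu : u₀ ^ p = 1) (hu1 : u₀ ≠ 1) (hv : v₀ ^ p = 1) (hv1 : v₀ ≠ 1)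
    (hP : u₀ • P₀ = P₀) (hQ : v₀ • Q₀ = Q₀) (hPQ : P₀ ≠ Q₀) :
    ∃ (u v : G) (P Q : X), u ^ p = 1 ∧ v ^ p = 1 ∧ u • P = P ∧ v • Q = Q ∧ P ≠ Q ∧
      u • Q = v • P := by
  classical
  haveI := Fintype.ofFinite G
  have hP0 : planarT h P₀ ≠ ⊥ := fun e => hu1 (Subgroup.mem_bot.mp (e ▸ ⟨hu, hP⟩ : u₀ ∈ (⊥ : Subgroup G)))
  have hQ0 : planarT h Q₀ ≠ ⊥ := fun e => hv1 (Subgroup.mem_bot.mp (e ▸ ⟨hv, hQ⟩ : v₀ ∈ (⊥ : Subgroup G)))
  have hfin := finite_planar_points h
  let Xs := hfin.toFinset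
  have hXs : ∀ x, x ∈ Xs ↔ ∃ g : G, g ≠ 1 ∧ g • x = x := fun x => by simp [Xs]
  have hTXs : ∀ x, planarT h x ≠ ⊥ → x ∈ Xs := by
    intro x hx
    obtain ⟨a, ha⟩ := Subgroup.ne_bot_iff_exists_ne_one.mp hx
    exact (hXs x).mpr ⟨a.1, fun e => ha (Subtype.ext e), a.2.2⟩
  let Om := Xs.filter fun x => planarT h x ≠ ⊥
  have hOm : ∀ x, x ∈ Om ↔ planarT h x ≠ ⊥ := fun x => by
    simp only [Om, Finset.mem_filter]; exact ⟨fun hx => hx.2, fun hx => ⟨hTXs x hx, hx⟩⟩
  set q := Nat.card (planarT h P₀) with hqdef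
  set N := stabilizer G P₀ with hNdef
  set T' := (planarT h P₀).subgroupOf N with hT'def
  have hTN : planarT h P₀ ≤ N := fun g hg => hg.2
  set m := T'.index with hmdef
  have hT'card : Nat.card T' = q := Nat.card_congr (Subgroup.subgroupOfEquivOfLe hTN).toEquiv
  have hNcard : Nat.card N = q * m := by rw [← hT'card, hmdef, T'.card_mul_index]
  set n := Om.card with hndef
  have hsame : ∀ x ∈ Om, Nat.card (stabilizer G x) = q * m ∧ Nat.card (planarT h x) = q := by
    intro x hx
    obtain ⟨g, hg⟩ := exists_smul_eq_of_planarT h hP0 ((hOm x).mp hx)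
    refine ⟨hNcard ▸ (Nat.card_congr (stabilizerEquivStabilizer hg.symm).toEquiv).symm, ?_⟩
    obtain ⟨S, hS⟩ := exists_sylow_eq_planarT h ((hOm x).mp hx)
    obtain ⟨S', hS'⟩ := exists_sylow_eq_planarT h hP0
    rw [← hS, hqdef, ← hS']
    exact (Sylow.card_eq_multiplicity S).trans (Sylow.card_eq_multiplicity S').symm
  -- `|G| = n q m`
  have hOrb : orbit G P₀ = (Om : Set X) := by
    ext x
    simp only [Finset.mem_coe, hOm]
    exact ⟨fun ⟨g, hg⟩ => hg ▸ planarT_smul_ne_bot h hP0 g,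
      fun hx => exists_smul_eq_of_planarT h hP0 hx⟩
  have hGcard : Nat.card G = n * (q * m) := by
    rw [← N.index_mul_card, hNcard, hNdef, index_stabilizer, hOrb, Set.ncard_coe_finset]
  -- `m ∣ q - 1`
  have hmq : m ∣ q - 1 := by
    letI : MulAction N {x : G // x ∈ planarT h P₀ ∧ x ≠ 1} :=
      { smul := fun g x => ⟨g.1 * x.1 * g.1⁻¹,
          by
            have := conj_mem_planarT h x.2.1 g.1
            rwa [show g.1 • P₀ = P₀ from g.2] at this,
          fun e => x.2.2 (conj_eq_one_iff.mp e)⟩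
        one_smul := fun x => Subtype.ext (show (1 : G) * x.1 * (1 : G)⁻¹ = x.1 by simp)
        mul_smul := fun g g' x => Subtype.ext (show (g.1 * g'.1) * x.1 * (g.1 * g'.1)⁻¹ =
          g.1 * (g'.1 * x.1 * g'.1⁻¹) * g.1⁻¹ by group) }
    refine (show Nat.card {x : G // x ∈ planarT h P₀ ∧ x ≠ 1} = q - 1 from ?_) ▸
      index_dvd_card_of_stabilizer_le T' fun x g hg => ?_
    · rw [hqdef, Nat.card_eq_fintype_card, Nat.card_eq_fintype_card, Fintype.card_subtype,
        Fintype.card_subtype, ← Finset.card_erase_of_mem (a := (1 : G)) (by simp)]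
      congr 1
      ext g
      simp [and_comm]
    · rw [Subgroup.mem_subgroupOf]
      exact planarT_of_commute h x.2.1 x.2.2
        (mul_inv_eq_iff_eq_mul.mp (congrArg Subtype.val (mem_stabilizer_iff.mp hg)))
  -- `n ≡ 1 (mod q)`: `T` acts freely on the other points of `Om`
  have hn1 : q ∣ n - 1 := by
    letI : MulAction (planarT h P₀) {x : X // x ∈ Om ∧ x ≠ P₀} :=
      { smul := fun g x => ⟨g.1 • x.1, (hOm _).mpr (planarT_smul_ne_bot h ((hOm _).mp x.2.1) _),
          fun e => x.2.2 (smul_left_cancel g.1 (e.trans g.2.2.symm))⟩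
        one_smul := fun x => Subtype.ext (one_smul G x.1)
        mul_smul := fun g g' x => Subtype.ext (mul_smul g.1 g'.1 x.1) }
    haveI : Finite {x : X // x ∈ Om ∧ x ≠ P₀} :=
      Finite.of_equiv _ (Equiv.subtypeEquivRight (fun x => Finset.mem_erase.trans and_comm) :
        {x // x ∈ Om.erase P₀} ≃ {x : X // x ∈ Om ∧ x ≠ P₀})
    have hY : Nat.card {x : X // x ∈ Om ∧ x ≠ P₀} = n - 1 := by
      rw [Nat.card_congr (Equiv.subtypeEquivRight (fun x => and_comm.trans Finset.mem_erase.symm) :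
          {x : X // x ∈ Om ∧ x ≠ P₀} ≃ {x // x ∈ Om.erase P₀}), Nat.card_eq_finsetCard,
        Finset.card_erase_of_mem ((hOm _).mpr hP0)]
    suffices hs : ∀ x : {x : X // x ∈ Om ∧ x ≠ P₀}, stabilizer (planarT h P₀) x ≤ ⊥ by
      have := index_dvd_card_of_stabilizer_le ⊥ hs
      rwa [Subgroup.index_bot, hY] at this
    intro x g hg
    rw [Subgroup.mem_bot, Subtype.ext_iff]
    by_contra hg1
    exact x.2.2 (h.fix_unique hg1 g.2.1 g.2.2
      (congrArg Subtype.val (mem_stabilizer_iff.mp hg))).symm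
  have hq3 : 3 ≤ q := by
    obtain ⟨S, hS⟩ := exists_sylow_eq_planarT h hP0
    obtain ⟨k, hk⟩ := (IsPGroup.iff_card.mp (planarT_isPGroup h P₀))
    have hk0 : k ≠ 0 := fun e => hP0 (Subgroup.card_eq_one.mp (by rw [hk, e, pow_zero]))
    have h3 : 3 ≤ p := lt_of_le_of_ne hp.out.two_le (Ne.symm hp2)
    rw [hqdef, hk]
    exact h3.trans (Nat.le_self_pow hk0 p)
  have hm0 : 1 ≤ m := Nat.one_le_iff_ne_zero.mpr T'.index_ne_zero_of_finite
  obtain ⟨k, hk⟩ := hn1
  have hn2 : 2 ≤ n := Finset.one_lt_card.mpr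
    ⟨P₀, (hOm _).mpr hP0, Q₀, (hOm _).mpr hQ0, hPQ⟩
  have hnk : n = k * q + 1 := by rw [mul_comm]; omega
  have hk1 : 1 ≤ k := Nat.one_le_iff_ne_zero.mpr fun e => by simp [e] at hnk; omega
  -- the orbit equation
  have hkey : ∑ x ∈ Xs, ((Nat.card (stabilizer G x) - 1) + (Nat.card (planarT h x) - 1)) =
      2 * (Nat.card G - 1) := by
    set U : Finset G := Finset.univ.erase 1 with hUdef
    have e1 : ∀ x : X, Nat.card (stabilizer G x) - 1 = (U.filter fun g => g • x = x).card := by
      intro x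
      rw [Nat.card_eq_fintype_card, Fintype.card_subtype, hUdef, Finset.filter_erase,
        Finset.card_erase_of_mem (by simp)]
      rfl
    have e2 : ∀ x : X, Nat.card (planarT h x) - 1 =
        (U.filter fun g => g ^ p = 1 ∧ g • x = x).card := by
      intro x
      rw [Nat.card_eq_fintype_card, Fintype.card_subtype, hUdef, Finset.filter_erase,
        Finset.card_erase_of_mem (by simp)]
      simp only [mem_planarT]
    have e3 : ∀ g ∈ U, (Xs.filter fun x => g • x = x).card +
        (Xs.filter fun x => g ^ p = 1 ∧ g • x = x).card = 2 := by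
      intro g hg
      have hg1 : g ≠ 1 := Finset.ne_of_mem_erase hg
      by_cases hgp : g ^ p = 1
      · obtain ⟨A, hA, hall⟩ := h.one_fixed g hg1 hgp
        have : (Xs.filter fun x => g • x = x) = {A} := by
          ext x
          simp only [Finset.mem_filter, hXs, Finset.mem_singleton]
          exact ⟨fun hx => hall x hx.2, fun e => e ▸ ⟨⟨g, hg1, hA⟩, hA⟩⟩
        simp [hgp, this]
      · obtain ⟨A, B, hAB, hA, hB, hall⟩ := h.two_fixed g hgp
        have : (Xs.filter fun x => g • x = x) = {A, B} := by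
          ext x
          simp only [Finset.mem_filter, hXs, Finset.mem_insert, Finset.mem_singleton]
          refine ⟨fun hx => hall x hx.2, ?_⟩
          rintro (rfl | rfl)
          exacts [⟨⟨g, hg1, hA⟩, hA⟩, ⟨⟨g, hg1, hB⟩, hB⟩]
        simp [hgp, this, Finset.card_pair hAB]
    have s1 := Finset.sum_card_bipartiteAbove_eq_sum_card_bipartiteBelow
      (fun (g : G) (x : X) => g • x = x) (s := U) (t := Xs)
    have s2 := Finset.sum_card_bipartiteAbove_eq_sum_card_bipartiteBelow
      (fun (g : G) (x : X) => g ^ p = 1 ∧ g • x = x) (s := U) (t := Xs)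
    simp only [Finset.bipartiteAbove, Finset.bipartiteBelow] at s1 s2
    simp only [e1, e2, Finset.sum_add_distrib]
    rw [← s1, ← s2, ← Finset.sum_add_distrib, Finset.sum_congr rfl e3, Finset.sum_const,
      smul_eq_mul, hUdef, Finset.card_erase_of_mem (Finset.mem_univ _), Finset.card_univ,
      Nat.card_eq_fintype_card, mul_comm]
  set g' := Nat.card G with hg'
  let R := Xs \ Om
  have hR : ∀ x, x ∈ R ↔ x ∈ Xs ∧ planarT h x = ⊥ := fun x => by
    simp only [R, Finset.mem_sdiff, hOm, not_not]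
  have hsplit : ∑ x ∈ R, (Nat.card (stabilizer G x) - 1) + n * (q * m - 1 + (q - 1)) =
      2 * (g' - 1) := by
    rw [← hkey, ← Finset.sum_sdiff (s₁ := Om) (s₂ := Xs) (Finset.filter_subset _ _)]
    congr 1
    · refine Finset.sum_congr rfl fun x hx => ?_
      rw [((hR x).mp hx).2, Subgroup.card_bot]
      omega
    · rw [Finset.sum_congr rfl (g := fun _ => q * m - 1 + (q - 1)) fun x hx => by
        rw [(hsame x hx).1, (hsame x hx).2], Finset.sum_const, smul_eq_mul]
  -- orbits inside `R`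
  have horb : ∀ x ∈ R, ∃ O : Finset X, O ⊆ R ∧ x ∈ O ∧ (∀ y, y ∈ O ↔ y ∈ orbit G x) ∧
      ∑ y ∈ O, (Nat.card (stabilizer G y) - 1) = g' - O.card ∧ 2 * O.card ≤ g' ∧
      O.card * Nat.card (stabilizer G x) = g' := by
    intro x hx
    have hfinO : (orbit G x).Finite := Set.finite_range _
    refine ⟨hfinO.toFinset, ?_, by simp, fun y => by simp, ?_, ?_, ?_⟩
    · intro y hy
      obtain ⟨g, rfl⟩ := hfinO.mem_toFinset.mp hy
      obtain ⟨hx1, hx2⟩ := (hR x).mp hx
      obtain ⟨a, ha, hax⟩ := (hXs x).mp hx1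
      refine (hR _).mpr ⟨(hXs _).mpr ⟨g * a * g⁻¹, fun e => ha (conj_eq_one_iff.mp e), ?_⟩, ?_⟩
      · rw [mul_smul, mul_smul, inv_smul_smul, hax]
      · by_contra hne
        have := planarT_smul_ne_bot h hne g⁻¹
        rw [inv_smul_smul] at this
        exact this hx2
    all_goals
      have hc : hfinO.toFinset.card * Nat.card (stabilizer G x) = g' := by
        rw [← Set.ncard_eq_toFinset_card _ hfinO, ← index_stabilizer, Subgroup.index_mul_card]
    · rw [Finset.sum_congr rfl (g := fun _ => Nat.card (stabilizer G x) - 1) fun y hy => by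
        rw [Nat.card_congr (stabilizerEquivStabilizer
          (show y = (Classical.choose (hfinO.mem_toFinset.mp hy)) • x from
            (Classical.choose_spec (hfinO.mem_toFinset.mp hy)).symm)).toEquiv],
        Finset.sum_const, smul_eq_mul, Nat.mul_sub_one, hc]
    · obtain ⟨hx1, -⟩ := (hR x).mp hx
      obtain ⟨a, ha, hax⟩ := (hXs x).mp hx1
      haveI : Nontrivial (stabilizer G x) :=
        ⟨⟨⟨a, hax⟩, 1, fun e => ha (congrArg Subtype.val e)⟩⟩
      have h2 : 2 ≤ Nat.card (stabilizer G x) := Finite.one_lt_card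
      calc 2 * hfinO.toFinset.card ≤ Nat.card (stabilizer G x) * hfinO.toFinset.card :=
            Nat.mul_le_mul_right _ h2
        _ = g' := by rw [mul_comm, hc]
    · exact hc
  have hngq : n * (q * m - 1 + (q - 1)) + n = g' + n * (q - 1) := by
    rw [hGcard, ← Nat.mul_succ, ← mul_add]
    congr 1
    have : 1 ≤ q * m := Nat.one_le_iff_ne_zero.mpr (Nat.mul_ne_zero (by omega) (by omega))
    omega
  have hnq1 : n * (q - 1) = n * (q - 2) + n := by
    rw [← Nat.mul_succ]; congr 1; omega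
  have hnq : 2 ≤ n * (q - 2) :=
    le_trans hn2 (Nat.le_mul_of_pos_right n (by omega))
  have hRne : R.Nonempty := by
    by_contra hne
    rw [Finset.not_nonempty_iff_eq_empty] at hne
    rw [hne, Finset.sum_empty] at hsplit
    -- `g = n (q - 2) + 2`
    have hg : g' = n * (q - 2) + 2 := by omega
    have h1 : n * (q * m) ≥ n * q := Nat.mul_le_mul_left n (Nat.le_mul_of_pos_right q hm0)
    have h2 : n * q = n * (q - 2) + n * 2 := by rw [← mul_add]; congr 1; omega
    omega
  obtain ⟨x₁, hx₁⟩ := hRne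
  obtain ⟨O, hOR, hxO, hOmem, hOsum, hO2, hOcard⟩ := horb x₁ hx₁
  have hRO : R = O := by
    refine (Finset.Subset.antisymm hOR fun y hy => ?_).symm
    by_contra hyO
    obtain ⟨O', hO'R, hyO', hO'mem, hO'sum, hO'2, -⟩ := horb y hy
    have hdisj : Disjoint O O' := by
      rw [Finset.disjoint_left]
      intro z hz hz'
      refine hyO ((hOmem y).mpr ?_)
      rw [← orbit_eq_iff.mpr ((hOmem z).mp hz), orbit_eq_iff.mpr ((hO'mem z).mp hz')]
      exact mem_orbit_self y
    have := Finset.sum_le_sum_of_subset (f := fun y => Nat.card (stabilizer G y) - 1)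
      (Finset.union_subset hOR hO'R)
    rw [Finset.sum_union hdisj, hOsum, hO'sum] at this
    omega
  rw [hRO, hOsum] at hsplit
  set d := Nat.card (stabilizer G x₁) with hddef
  have hOc : O.card = 2 + n * (q - 2) := by omega
  have heq : d * (2 + n * (q - 2)) = n * (q * m) := by
    rw [← hOc, ← hGcard, mul_comm]; exact hOcard
  have hsphere : ∀ (A : X), planarT h A ≠ ⊥ → n = q + 1 → ∀ B, planarT h B ≠ ⊥ → B ≠ A →
      ∀ C, planarT h C ≠ ⊥ → C ≠ A → ∃ g ∈ planarT h A, g • B = C := by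
    intro A hA hnq' B hB hBA C hC hCA
    have himg : (Finset.univ.filter fun g : G => g ∈ planarT h A).image (fun g => g • B) =
        Om.erase A := by
      refine Finset.eq_of_subset_of_card_le ?_ ?_
      · intro z hz
        simp only [Finset.mem_image, Finset.mem_filter, Finset.mem_univ, true_and] at hz
        obtain ⟨g, hg, rfl⟩ := hz
        exact Finset.mem_erase.mpr ⟨fun e => hBA (smul_left_cancel g (e.trans hg.2.symm)),
          (hOm _).mpr (planarT_smul_ne_bot h hB g)⟩
      · rw [Finset.card_erase_of_mem ((hOm A).mpr hA), Finset.card_image_of_injOn,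
          ← Fintype.card_subtype, ← Nat.card_eq_fintype_card]
        · show n - 1 ≤ _
          rw [show Nat.card {g : G // g ∈ planarT h A} = q from (hsame A ((hOm A).mpr hA)).2]
          omega
        · intro s hs s' hs' e
          simp only [Finset.coe_filter, Finset.mem_univ, true_and, Set.mem_setOf_eq] at hs hs'
          by_contra hne
          have hm' := mul_mem (inv_mem hs') hs
          exact hBA (h.fix_unique (fun e' => hne (inv_mul_eq_one.mp e').symm) hm'.1 hm'.2
            (show (s'⁻¹ * s) • B = B by rw [mul_smul]; exact inv_smul_eq_iff.mpr e)).symm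
    have : C ∈ Om.erase A := Finset.mem_erase.mpr ⟨hCA, (hOm _).mpr hC⟩
    rw [← himg] at this
    simpa [Finset.mem_image] using this
  rcases planar_arith hq3 hnk hk1 hmq heq with rfl | ⟨hq, hm, hk3, hd⟩
  · obtain ⟨C, hC, hCP, hCQ⟩ : ∃ C ∈ Om, C ≠ P₀ ∧ C ≠ Q₀ := by
      have : 0 < ((Om.erase P₀).erase Q₀).card := by
        have h1 := Finset.pred_card_le_card_erase (a := P₀) (s := Om)
        have h2 := Finset.pred_card_le_card_erase (a := Q₀) (s := Om.erase P₀)
        omega
      obtain ⟨C, hC⟩ := Finset.card_pos.mp this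
      simp only [Finset.mem_erase] at hC
      exact ⟨C, hC.2.2, hC.2.1, hC.1⟩
    rw [hOm] at hC
    obtain ⟨u, hu', huC⟩ := hsphere P₀ hP0 (by omega) Q₀ hQ0 hPQ.symm C hC hCP
    obtain ⟨v, hv', hvC⟩ := hsphere Q₀ hQ0 (by omega) P₀ hP0 hPQ C hC hCQ
    exact ⟨u, v, P₀, Q₀, hu'.1, hv'.1, hu'.2, hv'.2, hPQ, huC.trans hvC.symm⟩
  · have hp3 : p = 3 := by
      obtain ⟨j, hj⟩ := (IsPGroup.iff_card.mp (planarT_isPGroup h P₀))
      rw [← hqdef, hq] at hj
      exact (Nat.prime_dvd_prime_iff_eq hp.out Nat.prime_three).mp (hj ▸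
        dvd_pow_self p (fun e => by rw [e, pow_zero] at hj; omega))
    subst hp3
    have hn10 : n = 10 := by rw [hnk, hk3, hq]
    refine collision_of_five h ?_ ?_ ?_ ?_
    · rw [← hg', hGcard, hq, hm, hn10]
    · intro x hx
      obtain ⟨a, b⟩ := hsame x ((hOm x).mpr hx)
      exact ⟨by rw [a, hq, hm], by rw [b, hq]⟩
    · intro x hx hfix
      have hxO : x ∈ O := hRO ▸ (hR x).mpr ⟨(hXs x).mpr hfix, hx⟩
      obtain ⟨g, hg⟩ := (hOmem x).mp hxO
      exact (Nat.card_congr (stabilizerEquivStabilizer hg.symm).toEquiv).symm.trans hd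
    · rw [← hn10, hndef, ← Set.ncard_coe_finset]
      congr 1
      ext x
      simp [hOm]

end Cfsg.Agent.Transfer
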