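import Mathlib
import Cfsg.Agent.Lib.Transfer.TransvectionPair

/-!
# Two transvections with product parameter one

A finite subgroup of `SL(2,K)`, `K` of odd characteristic `p`, containing two non-commuting
transvections contains transvections `1 + a`, `1 + b` with `a b + b a = 1`, that is, a pair
generating a copy of `SL(2,p)`.
-/

set_option autoImplicit false

namespace Cfsg.Agent.Transfer

open Matrix MulAction
open scoped LinearAlgebra.Projectivization MatrixGroups

section Basic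

variable {K : Type*} [Field K]

/-- The determinant of two vectors of the plane. -/
def det2 (z w : Fin 2 → K) : K := z 0 * w 1 - z 1 * w 0

theorem det2_smul_decomp (z w x : Fin 2 → K) :
    det2 x w • z + det2 z x • w = det2 z w • x := by
  ext i
  fin_cases i <;> simp [det2] <;> ring

theorem exists_smul_of_det2 {z w : Fin 2 → K} (hz : z ≠ 0) (h : det2 z w = 0) :
    ∃ c : K, w = c • z := by
  unfold det2 at h
  by_cases h0 : z 0 = 0
  · have h1 : z 1 ≠ 0 := fun e => hz (by ext i; fin_cases i <;> assumption)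
    refine ⟨w 1 / z 1, ?_⟩
    ext i
    fin_cases i
    · rw [h0, zero_mul, zero_sub, neg_eq_zero, mul_eq_zero] at h
      simp [h0, h.resolve_left h1]
    · simp [h1]
  · refine ⟨w 0 / z 0, ?_⟩
    ext i
    fin_cases i
    · simp [h0]
    · simp only [Fin.mk_one, Pi.smul_apply, smul_eq_mul]
      field_simp
      linear_combination h

theorem exists_span_of_det2 {z w : Fin 2 → K} (h : det2 z w ≠ 0) (x : Fin 2 → K) :
    ∃ α β : K, x = α • z + β • w := by
  refine ⟨det2 x w / det2 z w, det2 z x / det2 z w, ?_⟩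
  have h1 := det2_smul_decomp z w x
  calc x = (det2 z w)⁻¹ • (det2 z w • x) := by rw [smul_smul, inv_mul_cancel₀ h, one_smul]
    _ = _ := by rw [← h1, smul_add, smul_smul, smul_smul, div_eq_inv_mul, div_eq_inv_mul]

theorem det2_ne_zero {z w : Fin 2 → K} (hz : z ≠ 0) (hw : ∀ c : K, w ≠ c • z) :
    det2 z w ≠ 0 := fun h => by
  obtain ⟨c, hc⟩ := exists_smul_of_det2 hz h
  exact hw c hc

theorem det2_ne_zero_of_mk_ne {z w : Fin 2 → K} {hz : z ≠ 0} {hw : w ≠ 0}
    (h : Projectivization.mk K z hz ≠ Projectivization.mk K w hw) : det2 z w ≠ 0 :=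
  det2_ne_zero hz fun c hc => h ((Projectivization.mk_eq_mk_iff' K _ _ _ _).mpr
    ⟨c, hc.symm⟩).symm

/-- A matrix killing two independent vectors vanishes. -/
theorem eq_zero_of_det2 {M : Matrix (Fin 2) (Fin 2) K} {z w : Fin 2 → K} (h : det2 z w ≠ 0)
    (hz : M *ᵥ z = 0) (hw : M *ᵥ w = 0) : M = 0 := by
  refine Matrix.ext_of_mulVec_single fun i => ?_
  obtain ⟨α, β, e⟩ := exists_span_of_det2 h (Pi.single i 1)
  rw [e, mulVec_add, mulVec_smul, mulVec_smul, hz, hw, smul_zero, smul_zero, add_zero,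
    zero_mulVec]

/-- Nilpotent matrices with a common non-zero kernel vector multiply to zero. -/
theorem mul_eq_zero_of_common_ker {a b : Matrix (Fin 2) (Fin 2) K} (hb : b * b = 0)
    {z : Fin 2 → K} (hz : z ≠ 0) (haz : a *ᵥ z = 0) (hbz : b *ᵥ z = 0) : a * b = 0 := by
  by_cases hb0 : b = 0
  · rw [hb0, mul_zero]
  refine Matrix.ext_of_mulVec_single fun i => ?_
  rw [zero_mulVec, ← mulVec_mulVec]
  have h : det2 z (b *ᵥ Pi.single i 1) = 0 := by
    by_contra h
    exact hb0 (eq_zero_of_det2 h hbz (by rw [mulVec_mulVec, hb, zero_mulVec]))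
  obtain ⟨c, hc⟩ := exists_smul_of_det2 hz h
  rw [hc, mulVec_smul, haz, smul_zero]

theorem one_add_pow_of_sq {R : Type*} [Ring R] {a : R} (ha : a * a = 0) (k : ℕ) :
    (1 + a) ^ k = 1 + k • a := by
  induction k with
  | zero => simp
  | succ k ih =>
    rw [pow_succ, ih, add_mul, one_mul, smul_mul_assoc, mul_add, mul_one, ha, add_zero, succ_nsmul]
    abel

theorem sl_val_mul (A B : SL(2, K)) : (A * B).1 = A.1 * B.1 := rfl

theorem sl_val_one : (1 : SL(2, K)).1 = 1 := rfl

theorem sl_val_pow (A : SL(2, K)) (k : ℕ) : (A ^ k).1 = A.1 ^ k := by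
  induction k with
  | zero => rw [pow_zero, pow_zero, sl_val_one]
  | succ k ih => rw [pow_succ, pow_succ, sl_val_mul, ih]

theorem sl_smul_mk (M : SL(2, K)) {z : Fin 2 → K} (hz : z ≠ 0) (hMz : M.1 *ᵥ z ≠ 0) :
    M • Projectivization.mk K z hz = Projectivization.mk K (M.1 *ᵥ z) hMz := rfl

theorem sl_mulVec_ne_zero (M : SL(2, K)) {z : Fin 2 → K} (hz : z ≠ 0) : M.1 *ᵥ z ≠ 0 := by
  intro e
  apply hz
  have : ((M⁻¹ * M : SL(2, K)) : Matrix (Fin 2) (Fin 2) K) *ᵥ z = 0 := by
    rw [sl_val_mul, ← mulVec_mulVec, e, mulVec_zero]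
  rwa [inv_mul_cancel, sl_val_one, one_mulVec] at this

/-- Fixed points are eigenvectors. -/
theorem sl_fix_iff (M : SL(2, K)) {z : Fin 2 → K} (hz : z ≠ 0) :
    M • Projectivization.mk K z hz = Projectivization.mk K z hz ↔
      ∃ c : K, M.1 *ᵥ z = c • z := by
  rw [sl_smul_mk M hz (sl_mulVec_ne_zero M hz), Projectivization.mk_eq_mk_iff']
  exact exists_congr fun c => eq_comm

/-- A parabolic element `± (1 + N)`. -/
def IsPara (M : SL(2, K)) (l : K) (N : Matrix (Fin 2) (Fin 2) K) : Prop :=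
  l * l = 1 ∧ N * N = 0 ∧ M.1 = l • (1 + N)

theorem IsPara.fix_iff {M : SL(2, K)} {l : K} {N : Matrix (Fin 2) (Fin 2) K} (h : IsPara M l N)
    {z : Fin 2 → K} (hz : z ≠ 0) :
    M • Projectivization.mk K z hz = Projectivization.mk K z hz ↔ N *ᵥ z = 0 := by
  obtain ⟨hl, hN, hM⟩ := h
  rw [sl_fix_iff M hz]
  have e : M.1 *ᵥ z = l • z + l • (N *ᵥ z) := by
    rw [hM, smul_mulVec, add_mulVec, one_mulVec, smul_add]
  constructor
  · rintro ⟨c, hc⟩
    have h1 : N *ᵥ z = (l * c - 1) • z := by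
      have h2 := congrArg (fun v => l • v) (e.symm.trans hc)
      simp only [smul_add, smul_smul, hl, one_smul] at h2
      rw [sub_smul, one_smul, ← h2]
      abel
    have h3 : (0 : Fin 2 → K) = ((l * c - 1) * (l * c - 1)) • z := by
      calc (0 : Fin 2 → K) = N *ᵥ (N *ᵥ z) := by rw [mulVec_mulVec, hN, zero_mulVec]
        _ = N *ᵥ ((l * c - 1) • z) := congrArg (fun v => N *ᵥ v) h1
        _ = _ := by rw [mulVec_smul, h1, smul_smul]
    rcases smul_eq_zero.mp h3.symm with h4 | h4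
    · rw [h1, mul_self_eq_zero.mp h4, zero_smul]
    · exact absurd h4 hz
  · exact fun h0 => ⟨l, by rw [e, h0, smul_zero, add_zero]⟩

theorem IsPara.pow_char {M : SL(2, K)} {l : K} {N : Matrix (Fin 2) (Fin 2) K} (h : IsPara M l N)
    {p : ℕ} [CharP K p] : (M ^ p).1 = (l ^ p) • (1 : Matrix (Fin 2) (Fin 2) K) := by
  rw [sl_val_pow, h.2.2, smul_pow, one_add_pow_of_sq h.2.1,
    ← Nat.cast_smul_eq_nsmul K, CharP.cast_eq_zero, zero_smul, add_zero]

theorem sl_smul_eq_of_scalar {M : SL(2, K)} {c : K}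
    (h : M.1 = c • (1 : Matrix (Fin 2) (Fin 2) K)) (P : ℙ K (Fin 2 → K)) : M • P = P := by
  induction P using Projectivization.ind with | _ z hz => ?_
  exact (sl_fix_iff M hz).mpr ⟨c, by rw [h, smul_mulVec, one_mulVec]⟩

end Basic

section Closed

variable {K : Type*} [Field K] [IsAlgClosed K] {p : ℕ} [hp : Fact p.Prime] [CharP K p]

theorem sl_cases (M : SL(2, K)) : (∃ l N, IsPara M l N) ∨
    ∃ (l m : K) (z w : Fin 2 → K), det2 z w ≠ 0 ∧ l * m = 1 ∧ l * l ≠ 1 ∧
      M.1 *ᵥ z = l • z ∧ M.1 *ᵥ w = m • w := by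
  set t := M.1 0 0 + M.1 1 1 with ht
  obtain ⟨l, hl⟩ := IsAlgClosed.exists_root (Polynomial.C (1 : K) * Polynomial.X ^ 2 +
    Polynomial.C (-t) * Polynomial.X + Polynomial.C 1)
    (by rw [Polynomial.degree_quadratic one_ne_zero]; decide)
  have hl' : l * l - t * l + 1 = 0 := by
    have : (Polynomial.C (1 : K) * Polynomial.X ^ 2 +
        Polynomial.C (-t) * Polynomial.X + Polynomial.C 1).eval l = 0 := hl
    simp at this
    linear_combination this
  have hdet : M.1 0 0 * M.1 1 1 - M.1 0 1 * M.1 1 0 = 1 := by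
    rw [← det_fin_two]; exact M.2
  have hCH : M.1 * M.1 = t • M.1 - 1 := by
    ext i j
    fin_cases i <;> fin_cases j <;> simp [mul_apply, Fin.sum_univ_two, ht]
    · linear_combination -hdet
    · ring
    · ring
    · linear_combination -hdet
  by_cases hl1 : l * l = 1
  · left
    have ht2 : t = l + l := by
      linear_combination (-l) * hl' + (l - t) * hl1
    refine ⟨l, l • M.1 - 1, hl1, ?_, ?_⟩
    · rw [mul_sub, sub_mul, one_mul, mul_one, smul_mul_smul_comm, hl1, one_smul, hCH, ht2,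
        add_smul]
      abel
    · rw [show (1 : Matrix (Fin 2) (Fin 2) K) + (l • M.1 - 1) = l • M.1 by abel, smul_smul, hl1,
        one_smul]
  · right
    have hl0 : l ≠ 0 := fun e => by rw [e] at hl'; simp at hl'
    have hev : ∀ c : K, c * c - t * c + 1 = 0 → ∃ z : Fin 2 → K, z ≠ 0 ∧ M.1 *ᵥ z = c • z := by
      intro c hc
      obtain ⟨z, hz, hz'⟩ := (exists_mulVec_eq_zero_iff (M := M.1 - c • (1 : Matrix _ _ K))).mpr
        (by
          rw [det_fin_two]
          simp
          linear_combination hdet + hc)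
      refine ⟨z, hz, ?_⟩
      rwa [sub_mulVec, smul_mulVec, one_mulVec, sub_eq_zero] at hz'
    obtain ⟨z, hz, hzv⟩ := hev l hl'
    obtain ⟨w, hw, hwv⟩ := hev l⁻¹ (by field_simp; linear_combination hl')
    refine ⟨l, l⁻¹, z, w, det2_ne_zero hz fun c hc => ?_, mul_inv_cancel₀ hl0, hl1, hzv, hwv⟩
    have h1 : l • w = l⁻¹ • w := by
      rw [← hwv, hc, mulVec_smul, hzv, smul_comm]
    have h2 : (l - l⁻¹) • w = 0 := by rw [sub_smul, h1, sub_self]
    rcases smul_eq_zero.mp h2 with h3 | h3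
    · exact hl1 (by rw [sub_eq_zero] at h3; nth_rewrite 2 [h3]; exact mul_inv_cancel₀ hl0)
    · exact hw h3

omit [IsAlgClosed K] in
theorem IsPara.one_fixed {M : SL(2, K)} {l : K} {N : Matrix (Fin 2) (Fin 2) K} (h : IsPara M l N)
    (hN : N ≠ 0) : ∃ P : ℙ K (Fin 2 → K), M • P = P ∧ ∀ Q : ℙ K (Fin 2 → K), M • Q = Q → Q = P := by
  obtain ⟨i, hi⟩ : ∃ i, N *ᵥ Pi.single i 1 ≠ 0 := by
    by_contra hc
    push_neg at hc
    exact hN (Matrix.ext_of_mulVec_single fun i => by rw [hc, zero_mulVec])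
  refine ⟨Projectivization.mk K _ hi, (h.fix_iff hi).mpr (by rw [mulVec_mulVec, h.2.1, zero_mulVec]),
    fun Q hQ => ?_⟩
  induction Q using Projectivization.ind with | _ w hw => ?_
  by_contra hne
  exact hN (eq_zero_of_det2 (det2_ne_zero_of_mk_ne hne) ((h.fix_iff hw).mp hQ)
    (by rw [mulVec_mulVec, h.2.1, zero_mulVec]))

/-- The permutations of the projective line induced by a subgroup. -/
noncomputable def planarHom (L : Subgroup SL(2, K)) : L →* Equiv.Perm (ℙ K (Fin 2 → K)) :=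
  (toPermHom SL(2, K) (ℙ K (Fin 2 → K))).comp L.subtype

omit [IsAlgClosed K] in
theorem planarHom_smul (L : Subgroup SL(2, K)) (m : L) (P : ℙ K (Fin 2 → K)) :
    (planarHom L).rangeRestrict m • P = (m : SL(2, K)) • P := rfl

theorem isPlanarAction_range (hp2 : p ≠ 2) (L : Subgroup SL(2, K)) :
    IsPlanarAction p (planarHom L).range (ℙ K (Fin 2 → K)) := by
  have h2 : ∀ (m : L) (l μ : K) (z w : Fin 2 → K), det2 z w ≠ 0 → l * μ = 1 → l * l ≠ 1 →
      (m : SL(2, K)).1 *ᵥ z = l • z → (m : SL(2, K)).1 *ᵥ w = μ • w →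
      ((planarHom L).rangeRestrict m) ^ p ≠ 1 := by
    intro m l μ z w hd hlm hl hz hw hone
    have hpow : ∀ (c : K) (x : Fin 2 → K), (m : SL(2, K)).1 *ᵥ x = c • x → ∀ k : ℕ,
        ((m : SL(2, K)) ^ k).1 *ᵥ x = c ^ k • x := by
      intro c x hx k
      induction k with
      | zero => simp
      | succ k ih =>
        rw [pow_succ, sl_val_mul, ← mulVec_mulVec, hx, mulVec_smul, ih, smul_smul,
          pow_succ']
    have hz0 : z ≠ 0 := fun e => hd (by simp [det2, e])
    have hzw : z + w ≠ 0 := fun e => hd (by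
      rw [show w = -z from (neg_eq_of_add_eq_zero_right e).symm]; simp [det2]; ring)
    have hfix : ((m : SL(2, K)) ^ p) • Projectivization.mk K (z + w) hzw =
        Projectivization.mk K (z + w) hzw := by
      have h1 := planarHom_smul L (m ^ p) (Projectivization.mk K (z + w) hzw)
      rw [map_pow, hone, one_smul, Subgroup.coe_pow] at h1
      exact h1.symm
    obtain ⟨c, hc⟩ := (sl_fix_iff _ hzw).mp hfix
    rw [mulVec_add, hpow l z hz, hpow μ w hw, smul_add] at hc
    have h3 : (l ^ p - c) • z + (μ ^ p - c) • w = 0 := by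
      rw [sub_smul, sub_smul, ← add_sub_add_comm, hc, sub_self]
    have key : ∀ α β : K, α • z + β • w = 0 → α = 0 ∧ β = 0 := by
      intro α β he
      have h0 := congrFun he 0
      have h1 := congrFun he 1
      simp at h0 h1
      constructor
      · have : α * det2 z w = 0 := by unfold det2; linear_combination w 1 * h0 - w 0 * h1
        exact (mul_eq_zero.mp this).resolve_right hd
      · have : β * det2 z w = 0 := by unfold det2; linear_combination z 0 * h1 - z 1 * h0
        exact (mul_eq_zero.mp this).resolve_right hd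
    obtain ⟨e1, e2⟩ := key _ _ h3
    refine hl ?_
    have h4 : (l * l) ^ p = 1 := by
      rw [mul_pow]
      nth_rewrite 2 [sub_eq_zero.mp e1]
      rw [← sub_eq_zero.mp e2, ← mul_pow, hlm, one_pow]
    have h5 : (l * l - 1) ^ p = 0 := by rw [sub_pow_char, h4, one_pow, sub_self]
    exact sub_eq_zero.mp (eq_zero_of_pow_eq_zero h5)
  have hpara : ∀ g : (planarHom L).range, g ^ p = 1 →
      ∃ (m : L) (l : K) (N : Matrix (Fin 2) (Fin 2) K), (planarHom L).rangeRestrict m = g ∧
        IsPara (m : SL(2, K)) l N := by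
    intro g hg
    obtain ⟨m, rfl⟩ := (planarHom L).rangeRestrict_surjective g
    rcases sl_cases (m : SL(2, K)) with ⟨l, N, h⟩ | ⟨l, μ, z, w, hd, hlm, hl, hz, hw⟩
    · exact ⟨m, l, N, rfl, h⟩
    · exact absurd hg (h2 m l μ z w hd hlm hl hz hw)
  have hback : ∀ (m : L) (l : K) (N : Matrix (Fin 2) (Fin 2) K), IsPara (m : SL(2, K)) l N →
      ((planarHom L).rangeRestrict m) ^ p = 1 := by
    intro m l N h
    rw [← map_pow]
    refine Subtype.ext (Equiv.ext fun P => ?_)
    show ((m ^ p : L) : SL(2, K)) • P = P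
    rw [Subgroup.coe_pow]
    exact sl_smul_eq_of_scalar h.pow_char P
  refine ⟨fun g hg1 hg => ?_, fun g hg => ?_, fun u v P hu hv hPu hPv => ?_⟩
  · obtain ⟨m, l, N, rfl, h⟩ := hpara g hg
    have hN : N ≠ 0 := by
      rintro rfl
      refine hg1 (Subtype.ext (Equiv.ext fun P => ?_))
      show (m : SL(2, K)) • P = P
      exact sl_smul_eq_of_scalar (c := l) (by rw [h.2.2, add_zero]) P
    exact h.one_fixed hN
  · obtain ⟨m, rfl⟩ := (planarHom L).rangeRestrict_surjective g
    rcases sl_cases (m : SL(2, K)) with ⟨l, N, h⟩ | ⟨l, μ, z, w, hd, hlm, hl, hz, hw⟩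
    · exact absurd (hback m l N h) hg
    have hz0 : z ≠ 0 := fun e => hd (by simp [det2, e])
    have hw0 : w ≠ 0 := fun e => hd (by simp [det2, e])
    refine ⟨Projectivization.mk K z hz0, Projectivization.mk K w hw0, ?_, ?_, ?_, ?_⟩
    · intro e
      obtain ⟨c, hc⟩ := (Projectivization.mk_eq_mk_iff' K _ _ _ _).mp e
      exact hd (by rw [← hc]; simp [det2]; ring)
    · exact (sl_fix_iff _ hz0).mpr ⟨l, hz⟩
    · exact (sl_fix_iff _ hw0).mpr ⟨μ, hw⟩
    · intro R hR
      induction R using Projectivization.ind with | _ x hx => ?_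
      obtain ⟨c, hc⟩ := (sl_fix_iff (m : SL(2, K)) hx).mp hR
      obtain ⟨α, β, rfl⟩ := exists_span_of_det2 hd x
      rw [mulVec_add, mulVec_smul, mulVec_smul, hz, hw, smul_add, smul_smul, smul_smul, smul_smul,
        smul_smul] at hc
      by_cases hα : α = 0
      · refine Or.inr ((Projectivization.mk_eq_mk_iff' K _ _ _ _).mpr ⟨β, ?_⟩)
        rw [hα, zero_smul, zero_add]
      by_cases hβ : β = 0
      · refine Or.inl ((Projectivization.mk_eq_mk_iff' K _ _ _ _).mpr ⟨α, ?_⟩)
        rw [hβ, zero_smul, add_zero]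
      exfalso
      have h0 := congrFun hc 0
      have h1 := congrFun hc 1
      simp at h0 h1
      have e1 : α * (l - c) * det2 z w = 0 := by
        unfold det2; linear_combination w 1 * h0 - w 0 * h1
      have e2 : β * (μ - c) * det2 z w = 0 := by
        unfold det2; linear_combination z 0 * h1 - z 1 * h0
      have e3 : l = c := sub_eq_zero.mp
        ((mul_eq_zero.mp ((mul_eq_zero.mp e1).resolve_right hd)).resolve_left hα)
      have e4 : μ = c := sub_eq_zero.mp
        ((mul_eq_zero.mp ((mul_eq_zero.mp e2).resolve_right hd)).resolve_left hβ)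
      exact hl (by rw [e3, ← e4] at hlm ⊢; exact hlm)
  · obtain ⟨m, l, N, rfl, h⟩ := hpara u hu
    obtain ⟨m', l', N', rfl, h'⟩ := hpara v hv
    rw [← map_mul]
    induction P using Projectivization.ind with | _ z hz => ?_
    have hNz := (h.fix_iff hz).mp hPu
    have hN'z := (h'.fix_iff hz).mp hPv
    refine hback (m * m') (l * l') (N + N') ⟨?_, ?_, ?_⟩
    · linear_combination (l' * l') * h.1 + h'.1
    · rw [add_mul, mul_add, mul_add, h.2.1, h'.2.1, mul_eq_zero_of_common_ker h'.2.1 hz hNz hN'z,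
        mul_eq_zero_of_common_ker h.2.1 hz hN'z hNz, add_zero, add_zero]
    · rw [Subgroup.coe_mul, sl_val_mul, h.2.2, h'.2.2, smul_mul_smul_comm,
        add_mul, one_mul, mul_add, mul_one, mul_eq_zero_of_common_ker h'.2.1 hz hNz hN'z,
        add_zero]
      abel_nf

/-- The algebraically closed case, with the parabolic description. -/
theorem exists_pair_closed (hp2 : p ≠ 2) (L : Subgroup SL(2, K)) [Finite L] (U₀ V₀ : SL(2, K))
    (hU : U₀ ∈ L) (hV : V₀ ∈ L) (a₀ b₀ : Matrix (Fin 2) (Fin 2) K) (ha : a₀ * a₀ = 0)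
    (hb : b₀ * b₀ = 0) (hUa : U₀.1 = 1 + a₀) (hVb : V₀.1 = 1 + b₀) (hne : a₀ * b₀ + b₀ * a₀ ≠ 0) :
    ∃ U ∈ L, ∃ V ∈ L, (U.1 - 1) * (U.1 - 1) = 0 ∧ (V.1 - 1) * (V.1 - 1) = 0 ∧
      (U.1 - 1) * (V.1 - 1) + (V.1 - 1) * (U.1 - 1) = 1 := by
  have hG := isPlanarAction_range (p := p) hp2 L
  haveI : Finite (planarHom L).range :=
    Finite.of_surjective _ (planarHom L).rangeRestrict_surjective
  have hpu : IsPara U₀ 1 a₀ := ⟨one_mul 1, ha, by rw [one_smul, hUa]⟩
  have hpv : IsPara V₀ 1 b₀ := ⟨one_mul 1, hb, by rw [one_smul, hVb]⟩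
  have ha0 : a₀ ≠ 0 := fun e => hne (by rw [e, zero_mul, mul_zero, add_zero])
  have hb0 : b₀ ≠ 0 := fun e => hne (by rw [e, zero_mul, mul_zero, add_zero])
  have hpow : ∀ (M : SL(2, K)) (hM : M ∈ L) (N : Matrix (Fin 2) (Fin 2) K), IsPara M 1 N →
      ((planarHom L).rangeRestrict ⟨M, hM⟩) ^ p = 1 := by
    intro M hM N h
    rw [← map_pow]
    refine Subtype.ext (Equiv.ext fun P => ?_)
    exact sl_smul_eq_of_scalar (M := M ^ p) h.pow_char P
  have hne1 : ∀ (M : SL(2, K)) (hM : M ∈ L) (N : Matrix (Fin 2) (Fin 2) K), IsPara M 1 N →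
      N ≠ 0 → (planarHom L).rangeRestrict ⟨M, hM⟩ ≠ 1 := by
    intro M hM N h hN e
    refine hN (Matrix.ext_of_mulVec_single fun i => ?_)
    have hsi : (Pi.single i 1 : Fin 2 → K) ≠ 0 := by simp
    have h1 : M • Projectivization.mk K (Pi.single i 1 : Fin 2 → K) hsi = _ :=
      (planarHom_smul L ⟨M, hM⟩ _).symm.trans (by rw [e, one_smul])
    rw [(h.fix_iff hsi).mp h1, zero_mulVec]
  obtain ⟨P₀, hP₀, -⟩ := hpu.one_fixed ha0
  obtain ⟨Q₀, hQ₀, -⟩ := hpv.one_fixed hb0
  have hPQ : P₀ ≠ Q₀ := by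
    intro e
    subst e
    induction P₀ using Projectivization.ind with | _ z hz => ?_
    have h1 := (hpu.fix_iff hz).mp hP₀
    have h2 := (hpv.fix_iff hz).mp hQ₀
    exact hne (by rw [mul_eq_zero_of_common_ker hb hz h1 h2,
      mul_eq_zero_of_common_ker ha hz h2 h1, add_zero])
  obtain ⟨u, v, P, Q, hu, hv, huP, hvQ, hPQ', huv⟩ :=
    exists_collision p hp2 hG (hpow U₀ hU a₀ hpu) (hne1 U₀ hU a₀ hpu ha0) (hpow V₀ hV b₀ hpv)
      (hne1 V₀ hV b₀ hpv hb0) (P₀ := P₀) (Q₀ := Q₀) hP₀ hQ₀ hPQ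
  have hlift : ∀ g : (planarHom L).range, g ^ p = 1 → ∃ (M : L) (l : K)
      (N : Matrix (Fin 2) (Fin 2) K), (planarHom L).rangeRestrict M = g ∧
      IsPara (M : SL(2, K)) l N := by
    intro g hg
    obtain ⟨m, rfl⟩ := (planarHom L).rangeRestrict_surjective g
    rcases sl_cases (m : SL(2, K)) with ⟨l, N, h⟩ | ⟨l, μ, z, w, hd, hlm, hl, hz, hw⟩
    · exact ⟨m, l, N, rfl, h⟩
    · exfalso
      have hne' : (planarHom L).rangeRestrict m ≠ 1 := by
        intro e
        have hz0 : z + w ≠ 0 := fun e' => hd (by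
          rw [show w = -z from (neg_eq_of_add_eq_zero_right e').symm]; simp [det2]; ring)
        have h1 : (m : SL(2, K)) • Projectivization.mk K (z + w) hz0 = _ :=
          (planarHom_smul L m _).symm.trans (by rw [e, one_smul])
        obtain ⟨c, hc⟩ := (sl_fix_iff _ hz0).mp h1
        rw [mulVec_add, hz, hw, smul_add] at hc
        have h0 := congrFun hc 0
        have h1' := congrFun hc 1
        simp at h0 h1'
        have e1 : (l - c) * det2 z w = 0 := by
          unfold det2; linear_combination w 1 * h0 - w 0 * h1'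
        have e2 : (μ - c) * det2 z w = 0 := by
          unfold det2; linear_combination z 0 * h1' - z 1 * h0
        have e3 : l = c := sub_eq_zero.mp ((mul_eq_zero.mp e1).resolve_right hd)
        have e4 : μ = c := sub_eq_zero.mp ((mul_eq_zero.mp e2).resolve_right hd)
        exact hl (by rw [e3, ← e4] at hlm ⊢; exact hlm)
      rcases hG.one_fixed _ hne' hg with ⟨R, -, hR⟩
      have hz0 : z ≠ 0 := fun e => hd (by simp [det2, e])
      have hw0 : w ≠ 0 := fun e => hd (by simp [det2, e])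
      have e1 := hR (Projectivization.mk K z hz0)
        ((planarHom_smul L m _).trans ((sl_fix_iff _ hz0).mpr ⟨l, hz⟩))
      have e2 := hR (Projectivization.mk K w hw0)
        ((planarHom_smul L m _).trans ((sl_fix_iff _ hw0).mpr ⟨μ, hw⟩))
      obtain ⟨c, hc⟩ := (Projectivization.mk_eq_mk_iff' K _ _ _ _).mp (e1.trans e2.symm)
      exact hd (by subst hc; simp [det2]; ring)
  obtain ⟨M, l, a, rfl, hM⟩ := hlift u hu
  obtain ⟨M', l', b, rfl, hM'⟩ := hlift v hv
  induction P using Projectivization.ind with | _ z hz => ?_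
  induction Q using Projectivization.ind with | _ w hw => ?_
  rw [planarHom_smul] at huP hvQ
  rw [planarHom_smul, planarHom_smul] at huv
  have haz := (hM.fix_iff hz).mp huP
  have hbw := (hM'.fix_iff hw).mp hvQ
  have hd := det2_ne_zero_of_mk_ne hPQ'
  have hl0 : l ≠ 0 := fun e => by simpa [e] using hM.1
  have hl'0 : l' ≠ 0 := fun e => by simpa [e] using hM'.1
  -- the images of the kernel vectors
  obtain ⟨α, α', hα⟩ := exists_span_of_det2 hd (a *ᵥ w)
  obtain ⟨β, β', hβ⟩ := exists_span_of_det2 hd (b *ᵥ z)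
  have hind : ∀ x y : K, x • z + y • w = 0 → x = 0 ∧ y = 0 := by
    intro x y he
    have h0 := congrFun he 0
    have h1 := congrFun he 1
    simp at h0 h1
    constructor
    · have : x * det2 z w = 0 := by unfold det2; linear_combination w 1 * h0 - w 0 * h1
      exact (mul_eq_zero.mp this).resolve_right hd
    · have : y * det2 z w = 0 := by unfold det2; linear_combination z 0 * h1 - z 1 * h0
      exact (mul_eq_zero.mp this).resolve_right hd
  have hα' : α' = 0 := by
    have h1 : (0 : Fin 2 → K) = (α' * α) • z + (α' * α') • w := by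
      calc (0 : Fin 2 → K) = a *ᵥ (a *ᵥ w) := by rw [mulVec_mulVec, hM.2.1, zero_mulVec]
        _ = a *ᵥ (α • z + α' • w) := congrArg (fun x => a *ᵥ x) hα
        _ = _ := by rw [mulVec_add, mulVec_smul, mulVec_smul, haz, smul_zero, zero_add, hα,
          smul_add, smul_smul, smul_smul]
    exact mul_self_eq_zero.mp (hind _ _ h1.symm).2
  have hβ0 : β = 0 := by
    have h1 : (0 : Fin 2 → K) = (β * β) • z + (β * β') • w := by
      calc (0 : Fin 2 → K) = b *ᵥ (b *ᵥ z) := by rw [mulVec_mulVec, hM'.2.1, zero_mulVec]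
        _ = b *ᵥ (β • z + β' • w) := congrArg (fun x => b *ᵥ x) hβ
        _ = _ := by rw [mulVec_add, mulVec_smul, mulVec_smul, hbw, smul_zero, add_zero, hβ,
          smul_add, smul_smul, smul_smul]
    exact mul_self_eq_zero.mp (hind _ _ h1.symm).1
  rw [hα', zero_smul, add_zero] at hα
  rw [hβ0, zero_smul, zero_add] at hβ
  rw [sl_smul_mk _ hw (sl_mulVec_ne_zero _ hw), sl_smul_mk _ hz (sl_mulVec_ne_zero _ hz),
    Projectivization.mk_eq_mk_iff'] at huv
  obtain ⟨c, hc⟩ := huv
  simp only [hM.2.2, hM'.2.2, smul_mulVec, add_mulVec, one_mulVec, hα, hβ, smul_add,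
    smul_smul] at hc
  obtain ⟨e1, e2⟩ := hind (c * l' - l * α) (c * (l' * β') - l) (by
    rw [sub_smul, sub_smul, sub_add_sub_comm, hc, add_comm (l • w), sub_self])
  have hαβ : α * β' = 1 := by
    have : l * (α * β' - 1) = 0 := by linear_combination (-β') * e1 + e2
    exact sub_eq_zero.mp ((mul_eq_zero.mp this).resolve_left hl0)
  have hpow' : ∀ (M : L) (l : K) (N : Matrix (Fin 2) (Fin 2) K), IsPara (M : SL(2, K)) l N →
      ((M : SL(2, K)) ^ (p + 1)).1 - 1 = N := by
    intro M l N h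
    have hl : l ^ (p + 1) = 1 := by
      obtain ⟨j, hj⟩ := hp.out.eq_two_or_odd'.resolve_left hp2
      rw [hj, show 2 * j + 1 + 1 = 2 * (j + 1) by ring, pow_mul, pow_two, h.1, one_pow]
    rw [sl_val_pow, h.2.2, smul_pow, hl, one_smul, one_add_pow_of_sq h.2.1,
      succ_nsmul, ← Nat.cast_smul_eq_nsmul K, CharP.cast_eq_zero, zero_smul, zero_add,
      add_sub_cancel_left]
  refine ⟨_, pow_mem M.2 (p + 1), _, pow_mem M'.2 (p + 1), ?_, ?_, ?_⟩
  · rw [hpow' M l a hM, hM.2.1]
  · rw [hpow' M' l' b hM', hM'.2.1]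
  · rw [hpow' M l a hM, hpow' M' l' b hM', ← sub_eq_zero]
    refine eq_zero_of_det2 hd ?_ ?_
    · rw [sub_mulVec, add_mulVec, ← mulVec_mulVec, ← mulVec_mulVec, hβ, haz, mulVec_zero,
        add_zero, mulVec_smul, hα, smul_smul, mul_comm, hαβ, one_smul, one_mulVec, sub_self]
    · rw [sub_mulVec, add_mulVec, ← mulVec_mulVec, ← mulVec_mulVec, hbw, hα, mulVec_zero,
        zero_add, mulVec_smul, hβ, smul_smul, hαβ, one_smul, one_mulVec, sub_self]

end Closed

/-- **Planar pair theorem.** A finite subgroup of `SL(2,K)` with two non-commuting transvections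
contains transvections `1 + a`, `1 + b` with `a b + b a = 1`. -/
theorem exists_planar_pair {K : Type*} [Field K] {p : ℕ} [Fact p.Prime] [CharP K p] (hp2 : p ≠ 2)
    (L : Subgroup SL(2, K)) [Finite L] {U₀ V₀ : SL(2, K)} (hU : U₀ ∈ L) (hV : V₀ ∈ L)
    (ha : (U₀.1 - 1) * (U₀.1 - 1) = 0) (hb : (V₀.1 - 1) * (V₀.1 - 1) = 0)
    (hne : (U₀.1 - 1) * (V₀.1 - 1) + (V₀.1 - 1) * (U₀.1 - 1) ≠ 0) :
    ∃ U ∈ L, ∃ V ∈ L, (U.1 - 1) * (U.1 - 1) = 0 ∧ (V.1 - 1) * (V.1 - 1) = 0 ∧
      (U.1 - 1) * (V.1 - 1) + (V.1 - 1) * (U.1 - 1) = 1 := by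
  set ι := algebraMap K (AlgebraicClosure K) with hι
  haveI : CharP (AlgebraicClosure K) p := charP_of_injective_algebraMap ι.injective p
  set f : SL(2, K) →* SL(2, AlgebraicClosure K) := SpecialLinearGroup.map ι with hf
  set F := ι.mapMatrix (m := Fin 2) with hF
  have hFinj : Function.Injective F := fun A B h => by
    ext i j
    exact ι.injective (congrFun (congrFun h i) j)
  have hcoe : ∀ M : SL(2, K), (f M).1 - 1 = F (M.1 - 1) := fun M => by
    rw [map_sub, map_one]; rfl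
  haveI : Finite (L.map f) := Finite.of_surjective (f.subgroupMap L) (f.subgroupMap_surjective L)
  obtain ⟨_, ⟨U, hUL, rfl⟩, _, ⟨V, hVL, rfl⟩, h1, h2, h3⟩ :=
    exists_pair_closed (p := p) hp2 (L.map f) (f U₀) (f V₀) ⟨_, hU, rfl⟩ ⟨_, hV, rfl⟩
      ((f U₀).1 - 1) ((f V₀).1 - 1) (by rw [hcoe, ← map_mul, ha, map_zero])
      (by rw [hcoe, ← map_mul, hb, map_zero]) (add_sub_cancel _ _).symm (add_sub_cancel _ _).symm
      (by
        rw [hcoe, hcoe, ← map_mul, ← map_mul, ← map_add]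
        exact fun e => hne (hFinj (e.trans (map_zero F).symm)))
  rw [hcoe, ← map_mul] at h1 h2
  rw [hcoe, hcoe, ← map_mul, ← map_mul, ← map_add] at h3
  exact ⟨U, hUL, V, hVL, hFinj (h1.trans (map_zero F).symm), hFinj (h2.trans (map_zero F).symm),
    hFinj (h3.trans (map_one F).symm)⟩

end Cfsg.Agent.Transfer
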