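import Mathlib
import Cfsg.Agent.Lib.Transfer.PlanarPair

/-!
# Quadratic pairs contain `SL(2,p)` on its natural module

Two quadratically acting elements of a finite linear group in odd characteristic `p`, generating
a group that is not a `p`-group, give elements `u`, `v` of that group and vectors `e₁ ≠ 0`, `e₂`
on which `u`, `v` act as the standard transvections.
-/

set_option autoImplicit false

namespace Cfsg.Agent.Transfer

open Matrix Polynomial
open scoped MatrixGroups

variable {p : ℕ} [hp : Fact p.Prime] {V : Type*} [AddCommGroup V] [Module (ZMod p) V] [Finite V]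
  {H : Type*} [Group H] [Finite H]

/-- If the anticommutator of `a` and `b` is nilpotent then so is every group element minus one. -/
theorem exists_pow_eq_one_of_nilpotent_anticomm (ρ : H →* Module.End (ZMod p) V) (x y : H)
    (hx : (ρ x - 1) * (ρ x - 1) = 0) (hy : (ρ y - 1) * (ρ y - 1) = 0)
    (hc : IsNilpotent ((ρ x - 1) * (ρ y - 1) + (ρ y - 1) * (ρ x - 1))) {g : H}
    (hg : g ∈ Subgroup.closure ({x, y} : Set H)) : ∃ k : ℕ, ρ g ^ p ^ k = 1 := by
  rcases subsingleton_or_nontrivial (Module.End (ZMod p) V) with hE | hE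
  · exact ⟨0, Subsingleton.elim _ _⟩
  haveI : CharP (Module.End (ZMod p) V) p :=
    charP_of_injective_algebraMap (algebraMap (ZMod p) (Module.End (ZMod p) V)).injective p
  obtain ⟨k, hk⟩ := hc
  set a := ρ x - 1 with ha
  set b := ρ y - 1 with hb
  set c := a * b + b * a with hcdef
  let F : Submodule (ZMod p) V → Submodule (ZMod p) V := fun W => W.map a ⊔ W.map b
  let W : ℕ → Submodule (ZMod p) V := fun i => F^[i] ⊤
  have hW : ∀ i, W (i + 1) = (W i).map a ⊔ (W i).map b := fun i =>
    Function.iterate_succ_apply' F i ⊤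
  have hanti : ∀ i, W (i + 1) ≤ W i := by
    intro i
    induction i with
    | zero => exact le_top
    | succ i ih =>
      refine (hW (i + 1)).le.trans (le_of_le_of_eq ?_ (hW i).symm)
      exact sup_le_sup (Submodule.map_mono ih) (Submodule.map_mono ih)
  have hca : a * c = c * a := by
    rw [hcdef, mul_add, add_mul, mul_assoc, ← mul_assoc a a b, hx, zero_mul, zero_add,
      mul_assoc b a a, hx, mul_zero, add_zero]
  have hcb : b * c = c * b := by
    rw [hcdef, mul_add, add_mul, ← mul_assoc b b a, hy, zero_mul, add_zero,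
      mul_assoc a b b, hy, mul_zero, zero_add, mul_assoc]
  have hW3 : ∀ i, W (i + 3) ≤ (W (i + 1)).map c := by
    intro i
    induction i with
    | zero =>
      have hab : a * (b * a) = c * a := by
        rw [← hca, hcdef, mul_add, ← mul_assoc a a b, hx, zero_mul, zero_add]
      have hba : b * (a * b) = c * b := by
        rw [← hcb, hcdef, mul_add, ← mul_assoc b b a, hy, zero_mul, add_zero]
      have e : ∀ f g : Module.End (ZMod p) V, ∀ S : Submodule (ZMod p) V,
          (S.map g).map f = S.map (f * g) := fun f g S => (Submodule.map_comp g f S).symm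
      rw [hW 2, hW 1, hW 0]
      show _ ≤ _
      simp only [Submodule.map_sup, e, ← mul_assoc, hx, hy, zero_mul, Submodule.map_zero,
        bot_sup_eq, sup_bot_eq]
      simp only [mul_assoc, hab, hba, hx, hy, mul_zero, Submodule.map_zero, bot_sup_eq,
        sup_bot_eq]
      exact le_rfl
    | succ i ih =>
      have e : ∀ f : Module.End (ZMod p) V, f * c = c * f → ∀ S : Submodule (ZMod p) V,
          (S.map c).map f = (S.map f).map c := fun f hf S => by
        rw [← Submodule.map_comp, ← Submodule.map_comp]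
        exact congrArg (fun φ => Submodule.map φ S) hf
      rw [show i + 1 + 3 = i + 3 + 1 by ring, hW (i + 3), hW (i + 1), Submodule.map_sup,
        ← e a hca, ← e b hcb]
      exact sup_le_sup (Submodule.map_mono ih) (Submodule.map_mono ih)
  have hWk : ∀ j, W (2 * j + 1) ≤ Submodule.map (c ^ j) ⊤ := by
    intro j
    induction j with
    | zero => simp [Module.End.one_eq_id]
    | succ j ih =>
      calc W (2 * (j + 1) + 1) = W (2 * j + 3) := by ring_nf
        _ ≤ (W (2 * j + 1)).map c := hW3 (2 * j)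
        _ ≤ (Submodule.map (c ^ j) ⊤).map c := Submodule.map_mono ih
        _ = Submodule.map (c ^ (j + 1)) ⊤ := by
          rw [← Submodule.map_comp, pow_succ']; rfl
  have hbot : W (2 * k + 1) = ⊥ := by
    have := hWk k
    rw [hk, Submodule.map_zero] at this
    exact le_bot_iff.mp this
  let S : Submonoid H :=
    { carrier := {g | ∀ i, ∀ v ∈ W i, (ρ g - 1) v ∈ W (i + 1)}
      one_mem' := fun i v _ => by simp
      mul_mem' := fun {g g'} hg hg' i v hv => by
        have e : (ρ (g * g') - 1) v = (ρ g - 1) ((ρ g' - 1) v) + (ρ g - 1) v + (ρ g' - 1) v := by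
          simp [Module.End.mul_apply]; abel
        rw [e]
        exact add_mem (add_mem (hanti _ (hg _ _ (hg' i v hv))) (hg i v hv)) (hg' i v hv) }
  have hgS : g ∈ S := by
    refine Subgroup.closure_induction (p := fun g _ => g ∈ S) ?_ S.one_mem
      (fun _ _ _ _ h1 h2 => S.mul_mem h1 h2) (fun z _ hz => ?_) hg
    · intro z hz i v hv
      rw [hW]
      rcases hz with rfl | rfl
      · exact Submodule.mem_sup_left (Submodule.mem_map_of_mem hv)
      · exact Submodule.mem_sup_right (Submodule.mem_map_of_mem hv)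
    · rw [← (isOfFinOrder_of_finite z).mem_powers_iff_mem_zpowers.mpr (Subgroup.inv_mem _
        (Subgroup.mem_zpowers z)) |>.choose_spec]
      exact S.pow_mem hz _
  have hpow : ∀ n v, ((ρ g - 1) ^ n) v ∈ W n := by
    intro n
    induction n with
    | zero => exact fun v => Submodule.mem_top
    | succ n ih => exact fun v => by rw [pow_succ', Module.End.mul_apply]; exact hgS n _ (ih v)
  have hz : (ρ g - 1) ^ (2 * k + 1) = 0 := LinearMap.ext fun v => by
    have := hpow (2 * k + 1) v
    rwa [hbot, Submodule.mem_bot] at this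
  refine ⟨2 * k + 1, ?_⟩
  have h1 : (ρ g - 1) ^ p ^ (2 * k + 1) = 0 :=
    pow_eq_zero_of_le (Nat.lt_pow_self hp.out.one_lt).le hz
  rw [sub_pow_char_pow_of_commute _ _ (Commute.one_right _), one_pow, sub_eq_zero] at h1
  exact h1

/-- **Quadratic pair theorem.** -/
theorem exists_natural_pair (hp2 : p ≠ 2) (ρ : H →* Module.End (ZMod p) V) {x y : H}
    (hx : (ρ x - 1) * (ρ x - 1) = 0) (hy : (ρ y - 1) * (ρ y - 1) = 0) {g₀ : H}
    (hg₀ : g₀ ∈ Subgroup.closure ({x, y} : Set H)) (hng : ∀ k : ℕ, ρ g₀ ^ p ^ k ≠ 1) :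
    ∃ u ∈ Subgroup.closure ({x, y} : Set H), ∃ v ∈ Subgroup.closure ({x, y} : Set H),
      ∃ e₁ e₂ : V, e₁ ≠ 0 ∧ ρ u e₁ = e₁ ∧ ρ u e₂ = e₁ + e₂ ∧ ρ v e₁ = e₁ + e₂ ∧ ρ v e₂ = e₂ := by
  classical
  set a := ρ x - 1 with ha
  set b := ρ y - 1 with hb
  set c := a * b + b * a with hcdef
  have hnil : ¬ IsNilpotent c := fun h => by
    obtain ⟨k, hk⟩ := exists_pow_eq_one_of_nilpotent_anticomm ρ x y hx hy h hg₀
    exact hng k hk
  have hca : Commute a c := by
    show a * c = c * a
    rw [hcdef, mul_add, add_mul, mul_assoc, ← mul_assoc a a b, hx, zero_mul, zero_add,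
      mul_assoc b a a, hx, mul_zero, add_zero]
  have hcb : Commute b c := by
    show b * c = c * b
    rw [hcdef, mul_add, add_mul, ← mul_assoc b b a, hy, zero_mul, add_zero,
      mul_assoc a b b, hy, mul_zero, zero_add, mul_assoc]
  -- a non-zero root of the minimal polynomial of `c`
  haveI : Module.Finite (ZMod p) V := Module.Finite.of_finite
  have hint : IsIntegral (ZMod p) c := Algebra.IsIntegral.isIntegral c
  obtain ⟨g, hμ, hXg⟩ := exists_eq_pow_rootMultiplicity_mul_and_not_dvd (minpoly (ZMod p) c)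
    (minpoly.ne_zero hint) 0
  rw [map_zero, sub_zero] at hμ hXg
  have hgu : ¬ IsUnit g := by
    intro hu
    refine hnil ⟨rootMultiplicity 0 (minpoly (ZMod p) c), ?_⟩
    have h0 := minpoly.aeval (ZMod p) c
    rw [hμ, map_mul, map_pow, aeval_X] at h0
    exact ((hu.map (aeval c)).mul_left_eq_zero).mp h0
  have hg0 : g ≠ 0 := fun e => hXg (e ▸ dvd_zero _)
  obtain ⟨f, hfi, h, hh⟩ := WfDvdMonoid.exists_irreducible_factor hgu hg0
  have hXf : ¬ X ∣ f := fun hd => hXg (hd.trans ⟨h, hh⟩)
  set h' := X ^ rootMultiplicity 0 (minpoly (ZMod p) c) * h with hh'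
  have hμ' : minpoly (ZMod p) c = f * h' := by rw [hμ, hh, hh']; ring
  have hh'0 : aeval c h' ≠ 0 := by
    intro h0
    obtain ⟨r, hr⟩ := minpoly.dvd (ZMod p) c h0
    rw [hμ'] at hr
    have hh'ne : h' ≠ 0 := fun e => minpoly.ne_zero hint (by rw [hμ', e, mul_zero])
    have h1 : f * r = 1 := mul_right_cancel₀ hh'ne (by
      calc f * r * h' = f * h' * r := by ring
        _ = 1 * h' := by rw [← hr, one_mul])
    exact hfi.not_isUnit (IsUnit.of_mul_eq_one r h1)
  obtain ⟨v₀, hv₀⟩ : ∃ v, (aeval c h') v ≠ 0 := by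
    by_contra hc
    exact hh'0 (LinearMap.ext fun v => by simpa using not_exists.mp hc v)
  have hker0 : (aeval c f) ((aeval c h') v₀) = 0 := by
    rw [← Module.End.mul_apply, ← map_mul, ← hμ', minpoly.aeval, LinearMap.zero_apply]
  have hcomm : ∀ (d : Module.End (ZMod p) V), Commute d c → ∀ (P : (ZMod p)[X]) (v : V),
      d ((aeval c P) v) = (aeval c P) (d v) := fun d hd P v => by
    rw [← Module.End.mul_apply, ← Module.End.mul_apply]
    refine congrArg (fun φ : Module.End (ZMod p) V => φ v) ?_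
    induction P using Polynomial.induction_on' with
    | add P Q hP hQ => rw [map_add, mul_add, add_mul, hP, hQ]
    | monomial n r =>
      rw [aeval_monomial, ← mul_assoc, ← Algebra.commutes r d, mul_assoc, (hd.pow_right n).eq,
        mul_assoc]
  obtain ⟨e, he0, hef, hea⟩ : ∃ e : V, e ≠ 0 ∧ (aeval c f) e = 0 ∧ a e = 0 := by
    by_cases hav : a ((aeval c h') v₀) = 0
    · exact ⟨_, hv₀, hker0, hav⟩
    · refine ⟨_, hav, by rw [← hcomm a hca, hker0, map_zero], ?_⟩
      rw [← Module.End.mul_apply, hx, LinearMap.zero_apply]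
  set w := b e with hw
  have haw : a w = c e := by
    rw [hw, hcdef, LinearMap.add_apply, Module.End.mul_apply, Module.End.mul_apply, hea,
      map_zero, add_zero]
  have hbw : b w = 0 := by rw [hw, ← Module.End.mul_apply, hy, LinearMap.zero_apply]
  haveI : Fact (Irreducible f) := ⟨hfi⟩
  -- the map `K² → V`
  let K := AdjoinRoot f
  let rep : K → (ZMod p)[X] := Function.surjInv (AdjoinRoot.mk_surjective)
  have hrep : ∀ k : K, AdjoinRoot.mk f (rep k) = k := Function.surjInv_eq AdjoinRoot.mk_surjective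
  have hwf : (aeval c f) w = 0 := by rw [hw, ← hcomm b hcb, hef, map_zero]
  have hwd : ∀ (P Q : (ZMod p)[X]) (v : V), (aeval c f) v = 0 →
      AdjoinRoot.mk f P = AdjoinRoot.mk f Q → (aeval c P) v = (aeval c Q) v := by
    intro P Q v hv hPQ
    obtain ⟨r, hr⟩ := AdjoinRoot.mk_eq_mk.mp hPQ
    rw [← sub_eq_zero, ← LinearMap.sub_apply, ← map_sub, hr, mul_comm, map_mul,
      Module.End.mul_apply, hv, map_zero]
  let η : V → K → V := fun v k => (aeval c (rep k)) v
  have hη : ∀ v, (aeval c f) v = 0 → ∀ P, η v (AdjoinRoot.mk f P) = (aeval c P) v :=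
    fun v hv P => hwd _ _ v hv (hrep _)
  have hηadd : ∀ v, (aeval c f) v = 0 → ∀ k l : K, η v (k + l) = η v k + η v l := by
    intro v hv k l
    induction k using AdjoinRoot.induction_on with | _ P => ?_
    induction l using AdjoinRoot.induction_on with | _ Q => ?_
    rw [← map_add, hη v hv, hη v hv, hη v hv, map_add, LinearMap.add_apply]
  let Φ : (Fin 2 → K) → V := fun u => η e (u 0) + η w (u 1)
  set γ : K := AdjoinRoot.root f with hγ
  have hγ0 : γ ≠ 0 := fun e0 => by
    rw [hγ, ← AdjoinRoot.mk_X, AdjoinRoot.mk_eq_zero] at e0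
    exact hXf (dvd_trans (by rfl) (hfi.associated_of_dvd irreducible_X e0).symm.dvd)
  have hηX : ∀ v, (aeval c f) v = 0 → ∀ k : K, η (c v) k = η v (γ * k) := by
    intro v hv k
    induction k using AdjoinRoot.induction_on with | _ P => ?_
    have hcv : (aeval c f) (c v) = 0 := by
      rw [← hcomm c (Commute.refl c), hv, map_zero]
    rw [hγ, ← AdjoinRoot.mk_X, ← map_mul, hη v hv, hη (c v) hcv, mul_comm, map_mul, aeval_X,
      Module.End.mul_apply]
  have haΦ : ∀ u : Fin 2 → K, a (Φ u) = Φ ![γ * u 1, 0] := by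
    intro u
    have h0 : η w (0 : K) = 0 := by
      rw [← map_zero (AdjoinRoot.mk f), hη w hwf, map_zero, LinearMap.zero_apply]
    show a (η e (u 0) + η w (u 1)) = η e (γ * u 1) + η w 0
    rw [map_add, hcomm a hca, hcomm a hca, hea, map_zero, zero_add, haw, h0, add_zero]
    exact hηX e hef (u 1)
  have hbΦ : ∀ u : Fin 2 → K, b (Φ u) = Φ ![0, u 0] := by
    intro u
    have h0 : η e (0 : K) = 0 := by
      rw [← map_zero (AdjoinRoot.mk f), hη e hef, map_zero, LinearMap.zero_apply]
    show b (η e (u 0) + η w (u 1)) = η e 0 + η w (u 0)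
    rw [map_add, hcomm b hcb, hcomm b hcb, hbw, map_zero, add_zero, h0, zero_add]
  have hΦadd : ∀ u u' : Fin 2 → K, Φ (u + u') = Φ u + Φ u' := by
    intro u u'
    show η e (u 0 + u' 0) + η w (u 1 + u' 1) =
      (η e (u 0) + η w (u 1)) + (η e (u' 0) + η w (u' 1))
    rw [hηadd e hef, hηadd w hwf]
    abel
  have hηinj : ∀ k : K, η e k = 0 → k = 0 := by
    intro k hk
    induction k using AdjoinRoot.induction_on with | _ P => ?_
    rw [hη e hef] at hk
    by_contra hne
    rw [AdjoinRoot.mk_eq_zero] at hne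
    obtain ⟨s, t, hst⟩ := hfi.coprime_iff_not_dvd.mpr hne
    apply he0
    calc e = (aeval c (s * f + t * P)) e := by rw [hst, map_one, Module.End.one_apply]
      _ = 0 := by
        rw [map_add, LinearMap.add_apply, map_mul, map_mul, Module.End.mul_apply,
          Module.End.mul_apply, hef, hk, map_zero, map_zero, add_zero]
  have hΦ0 : ∀ u : Fin 2 → K, Φ u = 0 → u = 0 := by
    intro u hu
    have h1 := haΦ u
    rw [hu, map_zero] at h1
    have h2 : η w (0 : K) = 0 := by
      rw [← map_zero (AdjoinRoot.mk f), hη w hwf, map_zero, LinearMap.zero_apply]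
    change (0 : V) = η e (γ * u 1) + η w 0 at h1
    rw [h2, add_zero] at h1
    have hu1 : u 1 = 0 := (mul_eq_zero.mp (hηinj _ h1.symm)).resolve_left hγ0
    change η e (u 0) + η w (u 1) = 0 at hu
    rw [hu1, h2, add_zero] at hu
    ext i
    fin_cases i
    · exact hηinj _ hu
    · exact hu1
  -- the planar group
  let X₀ : SL(2, K) := ⟨!![1, γ; 0, 1], by simp [det_fin_two]⟩
  let Y₀ : SL(2, K) := ⟨!![1, 0; 1, 1], by simp [det_fin_two]⟩
  set L := Subgroup.closure ({X₀, Y₀} : Set SL(2, K)) with hL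
  have hR : ∀ M ∈ L, ∃ g ∈ Subgroup.closure ({x, y} : Set H),
      ∀ u, ρ g (Φ u) = Φ (M.1 *ᵥ u) := by
    intro M hM
    refine Subgroup.closure_induction (p := fun M _ => ∃ g ∈ Subgroup.closure ({x, y} : Set H),
      ∀ u, ρ g (Φ u) = Φ (M.1 *ᵥ u)) ?_ ⟨1, one_mem _, fun u => by simp⟩ ?_ ?_ hM
    · rintro M (rfl | rfl)
      · refine ⟨x, Subgroup.subset_closure (Set.mem_insert _ _), fun u => ?_⟩
        have : (X₀.1 *ᵥ u) = u + ![γ * u 1, 0] := by
          ext i; fin_cases i <;> simp [X₀, mulVec, dotProduct, Fin.sum_univ_two]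
        rw [this, hΦadd, ← haΦ, ha, LinearMap.sub_apply, Module.End.one_apply, add_sub_cancel]
      · refine ⟨y, Subgroup.subset_closure (Set.mem_insert_of_mem _ rfl), fun u => ?_⟩
        have : (Y₀.1 *ᵥ u) = u + ![0, u 0] := by
          ext i; fin_cases i <;> simp [Y₀, mulVec, dotProduct, Fin.sum_univ_two, add_comm]
        rw [this, hΦadd, ← hbΦ, hb, LinearMap.sub_apply, Module.End.one_apply, add_sub_cancel]
    · rintro M N - - ⟨g, hg, hgM⟩ ⟨g', hg', hgN⟩
      refine ⟨g * g', mul_mem hg hg', fun u => ?_⟩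
      rw [map_mul, Module.End.mul_apply, hgN, hgM, sl_val_mul, mulVec_mulVec]
    · rintro M - ⟨g, hg, hgM⟩
      refine ⟨g⁻¹, inv_mem hg, fun u => ?_⟩
      have h1 := hgM ((M⁻¹).1 *ᵥ u)
      rw [mulVec_mulVec, ← sl_val_mul, mul_inv_cancel, sl_val_one, one_mulVec] at h1
      rw [← h1, ← Module.End.mul_apply, ← map_mul, inv_mul_cancel, map_one, Module.End.one_apply]
  haveI : Module.Finite (ZMod p) K := (AdjoinRoot.powerBasis hfi.ne_zero).finite
  haveI : Finite K := Module.finite_of_finite (ZMod p)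
  haveI : CharP K p := charP_of_injective_algebraMap (algebraMap (ZMod p) K).injective p
  haveI : Finite SL(2, K) := Subtype.finite
  have hXa : X₀.1 - 1 = !![0, γ; 0, 0] := by
    ext i j; fin_cases i <;> fin_cases j <;> simp [X₀]
  have hYb : Y₀.1 - 1 = !![0, 0; 1, 0] := by
    ext i j; fin_cases i <;> fin_cases j <;> simp [Y₀]
  obtain ⟨U, hU, U', hU', hA, hB, hAB⟩ := exists_planar_pair (p := p) hp2 L
    (Subgroup.subset_closure (Set.mem_insert _ _) : X₀ ∈ L)
    (Subgroup.subset_closure (Set.mem_insert_of_mem _ rfl) : Y₀ ∈ L)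
    (by rw [hXa]; ext i j; fin_cases i <;> fin_cases j <;> simp)
    (by rw [hYb]; ext i j; fin_cases i <;> fin_cases j <;> simp)
    (by
      rw [hXa, hYb]
      intro h
      have := congrFun (congrFun h 0) 0
      simp at this
      exact hγ0 this)
  set A := U.1 - 1 with hAdef
  set B := U'.1 - 1 with hBdef
  obtain ⟨z, hz⟩ : ∃ z : Fin 2 → K, A *ᵥ z ≠ 0 := by
    by_contra hc
    have hA0 : A = 0 := Matrix.ext_of_mulVec_single fun i => by
      rw [zero_mulVec]
      exact not_not.mp (not_exists.mp hc (Pi.single i 1))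
    rw [hA0, zero_mul, mul_zero, add_zero] at hAB
    exact one_ne_zero hAB.symm
  set E := A *ᵥ z with hE
  have hAE : A *ᵥ E = 0 := by rw [hE, mulVec_mulVec, hA, zero_mulVec]
  have hBBE : B *ᵥ (B *ᵥ E) = 0 := by rw [mulVec_mulVec, hB, zero_mulVec]
  have hABE : A *ᵥ (B *ᵥ E) = E := by
    have h1 := congrArg (fun M => M *ᵥ E) hAB
    simp only [add_mulVec, ← mulVec_mulVec, hAE, mulVec_zero, add_zero, one_mulVec] at h1
    exact h1
  obtain ⟨gu, hgu, hguΦ⟩ := hR U hU
  obtain ⟨gv, hgv, hgvΦ⟩ := hR U' hU'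
  have hUval : ∀ u, U.1 *ᵥ u = A *ᵥ u + u := fun u => by
    rw [hAdef, sub_mulVec, one_mulVec, sub_add_cancel]
  have hVval : ∀ u, U'.1 *ᵥ u = B *ᵥ u + u := fun u => by
    rw [hBdef, sub_mulVec, one_mulVec, sub_add_cancel]
  refine ⟨gu, hgu, gv, hgv, Φ E, Φ (B *ᵥ E), fun h0 => hz (hΦ0 _ h0), ?_, ?_, ?_, ?_⟩
  · rw [hguΦ, hUval, hAE, zero_add]
  · rw [hguΦ, hUval, hABE, hΦadd]
  · rw [hgvΦ, hVval, hΦadd, add_comm]
  · rw [hgvΦ, hVval, hBBE, zero_add]

end Cfsg.Agent.Transfer
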