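import Mathlib
import Cfsg.Prelude.Def_PLocal
import Cfsg.Agent.Lib.Transfer.QuadPairSL2
import Cfsg.Agent.Lib.LinearGroups.GL2

/-!
# Natural pairs: `SL(2,p)` and `Qd(p)` as sections

A natural pair in a group consists of `u`, `v` and commuting `e₁ ≠ 1`, `e₂` of exponent `p` on
which conjugation by `u`, `v` is given by the two standard transvections. It yields a section
`SL(2,p)` of `⟨u,v⟩` and, for odd `p`, a section `Qd(p)`.
-/

set_option autoImplicit false

namespace Cfsg.Agent.Transfer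

open Matrix
open scoped MatrixGroups

/-- Two elements acting on two others as the standard transvections of the natural module. -/
structure NatPair (p : ℕ) {G : Type*} [Group G] (u v e₁ e₂ : G) : Prop where
  pow_one : e₁ ^ p = 1
  pow_two : e₂ ^ p = 1
  comm : Commute e₁ e₂
  ne : e₁ ≠ 1
  u_one : u * e₁ * u⁻¹ = e₁
  u_two : u * e₂ * u⁻¹ = e₁ * e₂
  v_one : v * e₁ * v⁻¹ = e₁ * e₂
  v_two : v * e₂ * v⁻¹ = e₂

theorem NatPair.map {p : ℕ} {G G' : Type*} [Group G] [Group G'] {u v e₁ e₂ : G}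
    (h : NatPair p u v e₁ e₂) (f : G →* G') (hf : f e₁ ≠ 1) :
    NatPair p (f u) (f v) (f e₁) (f e₂) where
  pow_one := by rw [← map_pow, h.pow_one, map_one]
  pow_two := by rw [← map_pow, h.pow_two, map_one]
  comm := h.comm.map f
  ne := hf
  u_one := by rw [← map_inv, ← map_mul, ← map_mul, h.u_one]
  u_two := by rw [← map_inv, ← map_mul, ← map_mul, h.u_two, map_mul]
  v_one := by rw [← map_inv, ← map_mul, ← map_mul, h.v_one, map_mul]
  v_two := by rw [← map_inv, ← map_mul, ← map_mul, h.v_two]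

variable {p : ℕ} [hp : Fact p.Prime]

/-- The upper standard transvection. -/
def tU (p : ℕ) [Fact p.Prime] : SL(2, ZMod p) := LinGrp.uSL (1 : ZMod p)

/-- The lower standard transvection. -/
def tL (p : ℕ) [Fact p.Prime] : SL(2, ZMod p) := LinGrp.lSL (1 : ZMod p)

theorem lSL_add {F : Type*} [Field F] (s t : F) :
    LinGrp.lSL s * LinGrp.lSL t = LinGrp.lSL (s + t) := by
  apply Subtype.ext
  rw [sl_val_mul, LinGrp.lSL_val, LinGrp.lSL_val, LinGrp.lSL_val, Matrix.mul_fin_two]
  congr 1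
  simp

theorem lSL_natCast {F : Type*} [Field F] (k : ℕ) :
    LinGrp.lSL (k : F) = LinGrp.lSL 1 ^ k := by
  induction k with
  | zero =>
    rw [Nat.cast_zero, pow_zero]
    apply Subtype.ext
    rw [sl_val_one, LinGrp.lSL_val, Matrix.one_fin_two]
  | succ k ih => rw [Nat.cast_succ, ← lSL_add, ih, pow_succ]

theorem uSL_natCast {F : Type*} [Field F] (k : ℕ) :
    LinGrp.uSL (k : F) = LinGrp.uSL 1 ^ k := by
  induction k with
  | zero => rw [Nat.cast_zero, LinGrp.uSL_zero, pow_zero]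
  | succ k ih => rw [Nat.cast_succ, ← LinGrp.uSL_add, ih, pow_succ]

theorem closure_tU_tL : Subgroup.closure ({tU p, tL p} : Set SL(2, ZMod p)) = ⊤ := by
  set S := Subgroup.closure ({tU p, tL p} : Set SL(2, ZMod p))
  have hu : ∀ a : ZMod p, LinGrp.uSL a ∈ S := by
    intro a
    have hm : tU p ∈ S := Subgroup.subset_closure (Set.mem_insert _ _)
    have hm' : LinGrp.uSL (1 : ZMod p) ∈ S := by simpa only [tU] using hm
    rw [← ZMod.natCast_zmod_val a, uSL_natCast]
    exact S.pow_mem hm' _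
  have hl : ∀ a : ZMod p, LinGrp.lSL a ∈ S := by
    intro a
    have hm : tL p ∈ S := Subgroup.subset_closure (Set.mem_insert_of_mem _ (Set.mem_singleton _))
    have hm' : LinGrp.lSL (1 : ZMod p) ∈ S := by simpa only [tL] using hm
    rw [← ZMod.natCast_zmod_val a, lSL_natCast]
    exact S.pow_mem hm' _
  rw [eq_top_iff, ← LinGrp.closure_transvectionSet, Subgroup.closure_le]
  rintro _ ⟨i, j, hij, a, rfl⟩
  fin_cases i <;> fin_cases j <;> first | (exact absurd rfl hij) | skip
  · have he : Matrix.SpecialLinearGroup.transvection hij a = LinGrp.uSL a := by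
      ext i j
      fin_cases i <;> fin_cases j <;>
        simp [LinGrp.uSL_val, Matrix.SpecialLinearGroup.transvection_coe, Matrix.single]
    rw [he]
    exact hu a
  · have he : Matrix.SpecialLinearGroup.transvection hij a = LinGrp.lSL a := by
      ext i j
      fin_cases i <;> fin_cases j <;>
        simp [LinGrp.lSL_val, Matrix.SpecialLinearGroup.transvection_coe, Matrix.single]
    rw [he]
    exact hl a

variable {G : Type*} [Group G] {u v e₁ e₂ : G}

/-- The point of the natural module with given coordinates. -/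
def natPoint (p : ℕ) (e₁ e₂ : G) (w : Fin 2 → ZMod p) : G := e₁ ^ (w 0).val * e₂ ^ (w 1).val

theorem NatPair.point_add (h : NatPair p u v e₁ e₂) (w w' : Fin 2 → ZMod p) :
    natPoint p e₁ e₂ (w + w') = natPoint p e₁ e₂ w * natPoint p e₁ e₂ w' := by
  have e : ∀ (z : G), z ^ p = 1 → ∀ a b : ZMod p, z ^ (a + b).val = z ^ a.val * z ^ b.val := by
    intro z hz a b
    rw [ZMod.val_add, ← pow_eq_pow_mod _ hz, pow_add]
  unfold natPoint
  rw [Pi.add_apply, Pi.add_apply, e e₁ h.pow_one, e e₂ h.pow_two]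
  calc e₁ ^ (w 0).val * e₁ ^ (w' 0).val * (e₂ ^ (w 1).val * e₂ ^ (w' 1).val)
      = e₁ ^ (w 0).val * (e₁ ^ (w' 0).val * e₂ ^ (w 1).val) * e₂ ^ (w' 1).val := by
        simp only [mul_assoc]
    _ = e₁ ^ (w 0).val * (e₂ ^ (w 1).val * e₁ ^ (w' 0).val) * e₂ ^ (w' 1).val := by
        rw [(h.comm.pow_pow _ _).eq]
    _ = _ := by simp only [mul_assoc]

theorem natPoint_zero (e₁ e₂ : G) : natPoint p e₁ e₂ 0 = 1 := by
  simp [natPoint]

/-- The natural module as a homomorphism. -/
def NatPair.pointHom (h : NatPair p u v e₁ e₂) : Multiplicative (Fin 2 → ZMod p) →* G where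
  toFun w := natPoint p e₁ e₂ w.toAdd
  map_one' := natPoint_zero e₁ e₂
  map_mul' w w' := h.point_add w.toAdd w'.toAdd

theorem NatPair.conj_u (h : NatPair p u v e₁ e₂) (w : Fin 2 → ZMod p) :
    u * natPoint p e₁ e₂ w * u⁻¹ = natPoint p e₁ e₂ ((tU p).1 *ᵥ w) := by
  have e : (tU p).1 *ᵥ w = w + ![w 1, 0] := by
    ext i
    fin_cases i <;> simp [tU, LinGrp.uSL_val, mulVec, dotProduct, Fin.sum_univ_two]
  rw [e, h.point_add]
  unfold natPoint
  simp only [Matrix.cons_val_zero, Matrix.cons_val_one, ZMod.val_zero, pow_zero, mul_one]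
  calc u * (e₁ ^ (w 0).val * e₂ ^ (w 1).val) * u⁻¹
      = (u * e₁ * u⁻¹) ^ (w 0).val * (u * e₂ * u⁻¹) ^ (w 1).val := by
        rw [conj_pow, conj_pow]; group
    _ = e₁ ^ (w 0).val * (e₁ ^ (w 1).val * e₂ ^ (w 1).val) := by
        rw [h.u_one, h.u_two, h.comm.mul_pow]
    _ = _ := by rw [(h.comm.pow_pow (w 1).val (w 1).val).eq, ← mul_assoc]

theorem NatPair.conj_v (h : NatPair p u v e₁ e₂) (w : Fin 2 → ZMod p) :
    v * natPoint p e₁ e₂ w * v⁻¹ = natPoint p e₁ e₂ ((tL p).1 *ᵥ w) := by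
  have e : (tL p).1 *ᵥ w = w + ![0, w 0] := by
    ext i
    fin_cases i <;> simp [tL, LinGrp.lSL_val, mulVec, dotProduct, Fin.sum_univ_two, add_comm]
  rw [e, h.point_add]
  unfold natPoint
  simp only [Matrix.cons_val_zero, Matrix.cons_val_one, ZMod.val_zero, pow_zero, one_mul]
  calc v * (e₁ ^ (w 0).val * e₂ ^ (w 1).val) * v⁻¹
      = (v * e₁ * v⁻¹) ^ (w 0).val * (v * e₂ * v⁻¹) ^ (w 1).val := by
        rw [conj_pow, conj_pow]; group
    _ = e₁ ^ (w 0).val * (e₂ ^ (w 0).val * e₂ ^ (w 1).val) := by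
        rw [h.v_one, h.v_two, h.comm.mul_pow, mul_assoc]
    _ = _ := by
        rw [← pow_add, Nat.add_comm, pow_add, ← mul_assoc]

theorem NatPair.point_injective (h : NatPair p u v e₁ e₂) {w : Fin 2 → ZMod p}
    (hw : natPoint p e₁ e₂ w = 1) : w = 0 := by
  have hord : orderOf e₁ = p := orderOf_eq_prime h.pow_one h.ne
  have hval : ∀ a : ZMod p, e₁ ^ a.val = 1 → a = 0 := by
    intro a ha
    have := orderOf_dvd_of_pow_eq_one ha
    rw [hord] at this
    exact (ZMod.val_eq_zero a).mp (Nat.eq_zero_of_dvd_of_lt this (ZMod.val_lt a))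
  have h1 := h.conj_u w
  rw [hw, mul_one, mul_inv_cancel] at h1
  have e : (tU p).1 *ᵥ w = w + ![w 1, 0] := by
    ext i
    fin_cases i <;> simp [tU, LinGrp.uSL_val, mulVec, dotProduct, Fin.sum_univ_two]
  rw [e, h.point_add, hw, one_mul, natPoint] at h1
  simp at h1
  have hw1 : w 1 = 0 := hval _ h1.symm
  rw [natPoint, hw1, ZMod.val_zero, pow_zero, mul_one] at hw
  ext i
  fin_cases i
  · exact hval _ hw
  · exact hw1

/-- The action of `⟨u, v⟩` on the natural module. -/
theorem NatPair.exists_hom (h : NatPair p u v e₁ e₂) :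
    ∃ ψ : ↥(Subgroup.closure ({u, v} : Set G)) →* SL(2, ZMod p), Function.Surjective ψ ∧
      ∀ (g : Subgroup.closure ({u, v} : Set G)) (w : Fin 2 → ZMod p),
        (g : G) * natPoint p e₁ e₂ w * (g : G)⁻¹ = natPoint p e₁ e₂ ((ψ g).1 *ᵥ w) := by
  set X := Subgroup.closure ({u, v} : Set G)
  have hex : ∀ g : X, ∃ M : SL(2, ZMod p), ∀ w,
      (g : G) * natPoint p e₁ e₂ w * (g : G)⁻¹ = natPoint p e₁ e₂ (M.1 *ᵥ w) := by
    rintro ⟨g, hg⟩
    refine Subgroup.closure_induction (p := fun g _ => ∃ M : SL(2, ZMod p), ∀ w,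
      g * natPoint p e₁ e₂ w * g⁻¹ = natPoint p e₁ e₂ (M.1 *ᵥ w)) ?_ ⟨1, fun w => by simp⟩ ?_ ?_ hg
    · rintro z (rfl | rfl)
      · exact ⟨_, h.conj_u⟩
      · exact ⟨_, h.conj_v⟩
    · rintro a b - - ⟨A, hA⟩ ⟨B, hB⟩
      refine ⟨A * B, fun w => ?_⟩
      rw [sl_val_mul, ← mulVec_mulVec, ← hA, ← hB]
      group
    · rintro a - ⟨A, hA⟩
      refine ⟨A⁻¹, fun w => ?_⟩
      have h1 := hA ((A⁻¹).1 *ᵥ w)
      rw [mulVec_mulVec, ← sl_val_mul, mul_inv_cancel, sl_val_one, one_mulVec] at h1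
      rw [← h1]
      group
  choose ψ₀ hψ₀ using hex
  have huniq : ∀ (g : X) (M : SL(2, ZMod p)), (∀ w,
      (g : G) * natPoint p e₁ e₂ w * (g : G)⁻¹ = natPoint p e₁ e₂ (M.1 *ᵥ w)) → ψ₀ g = M := by
    intro g M hM
    refine Subtype.ext (Matrix.ext_of_mulVec_single fun i => ?_)
    have h1 := (hψ₀ g (Pi.single i 1)).symm.trans (hM (Pi.single i 1))
    have h2 : natPoint p e₁ e₂ ((ψ₀ g).1 *ᵥ Pi.single i 1 - M.1 *ᵥ Pi.single i 1) = 1 := by
      have h3 := h.point_add ((ψ₀ g).1 *ᵥ Pi.single i 1 - M.1 *ᵥ Pi.single i 1)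
        (M.1 *ᵥ Pi.single i 1)
      rw [sub_add_cancel, h1] at h3
      exact (mul_eq_right.mp h3.symm)
    exact sub_eq_zero.mp (h.point_injective h2)
  let ψ : X →* SL(2, ZMod p) :=
    MonoidHom.mk' ψ₀ fun a b => huniq _ _ fun w => by
      rw [sl_val_mul, ← mulVec_mulVec, ← hψ₀, ← hψ₀, Subgroup.coe_mul]
      group
  refine ⟨ψ, fun M => ?_, hψ₀⟩
  have hM : M ∈ Subgroup.closure ({tU p, tL p} : Set SL(2, ZMod p)) := by
    rw [closure_tU_tL]; exact Subgroup.mem_top M
  refine Subgroup.closure_induction (p := fun M _ => ∃ g, ψ g = M) ?_ ⟨1, map_one ψ⟩ ?_ ?_ hM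
  · rintro M (rfl | rfl)
    · exact ⟨⟨u, Subgroup.subset_closure (Set.mem_insert _ _)⟩, huniq _ _ h.conj_u⟩
    · exact ⟨⟨v, Subgroup.subset_closure (Set.mem_insert_of_mem _ rfl)⟩, huniq _ _ h.conj_v⟩
  · rintro a b - - ⟨x, rfl⟩ ⟨y, rfl⟩
    exact ⟨x * y, map_mul ψ x y⟩
  · rintro a - ⟨x, rfl⟩
    exact ⟨x⁻¹, map_inv ψ x⟩

/-- A surjection from a subgroup gives a section. -/
theorem exists_section_of_surjective {H : Type*} [Group H] {K : Subgroup G} (f : K →* H)
    (hf : Function.Surjective f) :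
    ∃ (L : Subgroup G) (_ : (L.subgroupOf K).Normal),
      Nonempty ((K ⧸ L.subgroupOf K) ≃* H) := by
  have e : (f.ker.map K.subtype).subgroupOf K = f.ker :=
    Subgroup.comap_map_eq_self_of_injective K.subtype_injective _
  haveI hn : ((f.ker.map K.subtype).subgroupOf K).Normal := by rw [e]; exact MonoidHom.normal_ker f
  exact ⟨_, hn, ⟨(QuotientGroup.quotientMulEquivOfEq e).trans
    (QuotientGroup.quotientKerEquivOfSurjective f hf)⟩⟩

/-- A natural pair gives a section `SL(2,p)` of the group it generates. -/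
theorem NatPair.exists_section (h : NatPair p u v e₁ e₂) :
    ∃ (L : Subgroup G) (_ : (L.subgroupOf (Subgroup.closure ({u, v} : Set G))).Normal),
      Nonempty ((↥(Subgroup.closure ({u, v} : Set G)) ⧸
        L.subgroupOf (Subgroup.closure ({u, v} : Set G))) ≃* SL(2, ZMod p)) := by
  obtain ⟨ψ, hψ, -⟩ := h.exists_hom
  exact exists_section_of_surjective ψ hψ

/-! ### `Qd(p)` -/

/-- The natural action of `SL(2,p)` on its module, written multiplicatively. -/
noncomputable def natAct (p : ℕ) [Fact p.Prime] : SL(2, ZMod p) →* MulAut (Multiplicative (Fin 2 → ZMod p)) where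
  toFun M :=
    { toFun := fun w => Multiplicative.ofAdd (M.1 *ᵥ w.toAdd)
      invFun := fun w => Multiplicative.ofAdd ((M⁻¹).1 *ᵥ w.toAdd)
      left_inv := fun w => by
        simp only [toAdd_ofAdd, mulVec_mulVec]
        rw [← sl_val_mul, inv_mul_cancel, sl_val_one, one_mulVec,
          ofAdd_toAdd]
      right_inv := fun w => by
        simp only [toAdd_ofAdd, mulVec_mulVec]
        rw [← sl_val_mul, mul_inv_cancel, sl_val_one, one_mulVec,
          ofAdd_toAdd]
      map_mul' := fun w w' => by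
        rw [toAdd_mul, mulVec_add, ofAdd_add] }
  map_one' := by ext w; simp
  map_mul' M N := by
    apply MulEquiv.ext
    intro w
    show Multiplicative.ofAdd ((M * N).1 *ᵥ w.toAdd) =
      Multiplicative.ofAdd (M.1 *ᵥ (Multiplicative.ofAdd (N.1 *ᵥ w.toAdd)).toAdd)
    rw [toAdd_ofAdd, mulVec_mulVec]
    rfl

theorem sl3_val_mul (A B : SL(3, ZMod p)) : (A * B).1 = A.1 * B.1 := rfl

/-- The affine group is isomorphic to `Qd(p)`. -/
theorem exists_equiv_qd :
    Nonempty ((Multiplicative (Fin 2 → ZMod p) ⋊[natAct p] SL(2, ZMod p)) ≃* ↥(Cfsg.qd p)) := by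
  let aff : SL(2, ZMod p) → (Fin 2 → ZMod p) → SL(3, ZMod p) := fun M w =>
    ⟨!![M.1 0 0, M.1 0 1, w 0; M.1 1 0, M.1 1 1, w 1; 0, 0, 1], by
      rw [det_fin_three]
      simp
      have hd : M.1 0 0 * M.1 1 1 - M.1 0 1 * M.1 1 0 = 1 := by rw [← det_fin_two]; exact M.2
      linear_combination hd⟩
  have haff : ∀ M w, (aff M w).1 =
      !![M.1 0 0, M.1 0 1, w 0; M.1 1 0, M.1 1 1, w 1; 0, 0, 1] := fun _ _ => rfl
  have hmul : ∀ M N w w', aff M w * aff N w' = aff (M * N) (w + M.1 *ᵥ w') := by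
    intro M N w w'
    apply Subtype.ext
    rw [sl3_val_mul, haff, haff, haff]
    ext i j
    fin_cases i <;> fin_cases j <;>
      simp [Matrix.mul_apply, Fin.sum_univ_two, Fin.sum_univ_three, mulVec, dotProduct] <;> ring
  let f : Multiplicative (Fin 2 → ZMod p) ⋊[natAct p] SL(2, ZMod p) →* SL(3, ZMod p) :=
    MonoidHom.mk' (fun a => aff a.right a.left.toAdd) fun a b => by
      rw [hmul]
      rfl
  have hf : Function.Injective f := by
    intro a b hab
    have h1 : (aff a.right a.left.toAdd).1 = (aff b.right b.left.toAdd).1 := congrArg Subtype.val hab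
    rw [haff, haff] at h1
    have e : ∀ i j, _ := fun i j => congrFun (congrFun h1 i) j
    apply SemidirectProduct.ext
    · refine Multiplicative.toAdd.injective (funext fun i => ?_)
      fin_cases i
      · simpa using e 0 2
      · simpa using e 1 2
    · apply Subtype.ext
      ext i j
      fin_cases i <;> fin_cases j
      · simpa using e 0 0
      · simpa using e 0 1
      · simpa using e 1 0
      · simpa using e 1 1
  have hr : f.range = Cfsg.qd p := by
    apply le_antisymm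
    · rintro _ ⟨a, rfl⟩
      refine Subgroup.subset_closure ⟨?_, ?_, ?_⟩ <;>
        simp [f, haff]
    · rw [Cfsg.qd, Subgroup.closure_le]
      rintro A ⟨h20, h21, h22⟩
      have hd : A.1 0 0 * A.1 1 1 - A.1 0 1 * A.1 1 0 = 1 := by
        have h3 := A.2
        rw [det_fin_three] at h3
        simp only [h20, h21, h22] at h3
        linear_combination h3
      refine ⟨⟨Multiplicative.ofAdd ![A.1 0 2, A.1 1 2],
        ⟨!![A.1 0 0, A.1 0 1; A.1 1 0, A.1 1 1], by rw [det_fin_two_of]; exact hd⟩⟩, ?_⟩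
      apply Subtype.ext
      show (aff _ _).1 = A.1
      rw [haff]
      ext i j
      fin_cases i <;> fin_cases j <;> simp [h20, h21, h22]
  exact ⟨(MonoidHom.ofInjective hf).trans (MulEquiv.subgroupCongr hr)⟩

variable [Finite G]

/-- A natural pair gives a section `Qd(p)`, `p` odd. -/
theorem NatPair.exists_qd_section (h : NatPair p u v e₁ e₂) (hp2 : p ≠ 2) :
    ∃ (K R : Subgroup G) (_ : (R.subgroupOf K).Normal),
      Nonempty ((K ⧸ R.subgroupOf K) ≃* ↥(Cfsg.qd p)) := by
  have hex := h.exists_hom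
  set X := Subgroup.closure ({u, v} : Set G)
  obtain ⟨ψ, hψ, hψc⟩ := hex
  haveI : Fact (Nat.Prime 2) := ⟨Nat.prime_two⟩
  let J : SL(2, ZMod p) := ⟨-1, by simp [det_fin_two]⟩
  have hJv : J.1 = -1 := rfl
  have hJ2 : J * J = 1 := by apply Subtype.ext; rw [sl_val_mul, hJv, sl_val_one]; simp
  have hJc : ∀ M : SL(2, ZMod p), M * J * M⁻¹ = J := by
    intro M
    rw [mul_inv_eq_iff_eq_mul]
    apply Subtype.ext
    rw [sl_val_mul, sl_val_mul, hJv, neg_mul, one_mul, mul_neg, mul_one]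
  have hJne : J ≠ 1 := by
    intro e
    have h00 := congrFun (congrFun (congrArg Subtype.val e) 0) 0
    rw [hJv, sl_val_one] at h00
    simp at h00
    have h2 : ((2 : ℕ) : ZMod p) = 0 := by push_cast; linear_combination -h00
    rw [ZMod.natCast_eq_zero_iff] at h2
    exact hp2 ((Nat.prime_dvd_prime_iff_eq hp.out Nat.prime_two).mp h2)
  set ZJ : Subgroup SL(2, ZMod p) := Subgroup.zpowers J with hZJ
  have hJord : orderOf J = 2 := orderOf_eq_prime (by rw [_root_.pow_two]; exact hJ2) hJne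
  have hZJ2 : Nat.card ZJ = 2 := by rw [Nat.card_zpowers, hJord]
  haveI : ZJ.Normal := ⟨fun a ha M => by
    obtain ⟨k, rfl⟩ := Subgroup.mem_zpowers_iff.mp ha
    rw [← conj_zpow, hJc]
    exact zpow_mem (Subgroup.mem_zpowers J) k⟩
  set Z := ZJ.comap ψ with hZ
  obtain ⟨S⟩ : Nonempty (Sylow 2 Z) := inferInstance
  set N := Subgroup.normalizer (((S : Subgroup Z).map Z.subtype : Subgroup X) : Set X) with hN
  have hsup : N ⊔ Z = ⊤ := Sylow.normalizer_sup_eq_top S
  -- the Sylow subgroup maps onto `{±1}`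
  obtain ⟨s, hsS, hsJ⟩ : ∃ s : Z, s ∈ (S : Subgroup Z) ∧ ψ (s : X) = J := by
    let ψZ : Z →* ZJ := (ψ.comp Z.subtype).codRestrict ZJ fun z => z.2
    have hψZ : Function.Surjective ψZ := fun a => by
      obtain ⟨x, hx⟩ := hψ a.1
      exact ⟨⟨x, by rw [hZ, Subgroup.mem_comap, hx]; exact a.2⟩, Subtype.ext hx⟩
    have htop : (S.mapSurjective hψZ : Subgroup ZJ) = ⊤ := by
      have hZp : IsPGroup 2 (⊤ : Subgroup ZJ) :=
        (IsPGroup.of_card (n := 1) (hZJ2.trans (_root_.pow_one 2).symm)).to_subgroup ⊤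
      exact ((S.mapSurjective hψZ).3 hZp le_top).symm
    have hmem : (⟨J, Subgroup.mem_zpowers J⟩ : ZJ) ∈ (S.mapSurjective hψZ : Subgroup ZJ) := by
      rw [htop]; exact Subgroup.mem_top _
    rw [Sylow.coe_mapSurjective] at hmem
    obtain ⟨s, hs, hs'⟩ := hmem
    exact ⟨s, hs, congrArg Subtype.val hs'⟩
  have hsN : (s : X) ∈ N :=
    Subgroup.le_normalizer (⟨s, hsS, rfl⟩ : (s : X) ∈ (S : Subgroup Z).map Z.subtype)
  have honto : ∀ M, ∃ l ∈ N, ψ l = M := by
    have htop : (⊤ : Subgroup SL(2, ZMod p)) ≤ N.map ψ := by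
      calc (⊤ : Subgroup SL(2, ZMod p)) = Subgroup.map ψ ⊤ := by
            rw [Subgroup.map_top_of_surjective ψ hψ]
        _ = N.map ψ ⊔ Z.map ψ := by rw [← hsup, Subgroup.map_sup]
        _ ≤ N.map ψ := by
          refine sup_le le_rfl ((Subgroup.map_comap_le ψ ZJ).trans ?_)
          rw [hZJ, Subgroup.zpowers_le]
          exact ⟨s, hsN, hsJ⟩
    exact fun M => htop (Subgroup.mem_top M)
  let L : Subgroup G := N.map X.subtype
  let ψL : L →* SL(2, ZMod p) :=
    ψ.comp ((Subgroup.inclusion (Subgroup.map_subtype_le N)) : L →* X)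
  have hψL : Function.Surjective ψL := by
    intro M
    obtain ⟨l, hl, rfl⟩ := honto M
    exact ⟨⟨l, ⟨l, hl, rfl⟩⟩, rfl⟩
  let φ : L →* MulAut (Multiplicative (Fin 2 → ZMod p)) := (natAct p).comp ψL
  let ι : Multiplicative (Fin 2 → ZMod p) ⋊[φ] L →* G :=
    SemidirectProduct.lift h.pointHom L.subtype fun l => MonoidHom.ext fun w =>
      (hψc (Subgroup.inclusion (Subgroup.map_subtype_le N) l) w.toAdd).symm
  have hι : Function.Injective ι := by
    rw [injective_iff_map_eq_one]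
    intro a ha
    have ha' : natPoint p e₁ e₂ a.left.toAdd * (a.right : G) = 1 := ha
    obtain ⟨m, hm, hme⟩ := a.right.2
    -- the point lies in `⟨u, v⟩` and normalises the Sylow `2`-subgroup
    set w := a.left.toAdd
    have hpt : natPoint p e₁ e₂ w = ((m⁻¹ : X) : G) := by
      rw [Subgroup.coe_inv, eq_inv_iff_mul_eq_one]
      rw [show (m : G) = (a.right : G) from hme]
      exact ha'
    have hmN : m⁻¹ ∈ N := inv_mem hm
    -- the commutator with `s` is a `p`-element of a `2`-group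
    have hc : natPoint p e₁ e₂ (-w + -w) = (((s : X) * m⁻¹ * (s : X)⁻¹ * m : X) : G) := by
      have h1 := hψc (s : X) w
      rw [hsJ, hJv, neg_mulVec, one_mulVec, hpt] at h1
      have h2 : natPoint p e₁ e₂ (-w) * natPoint p e₁ e₂ w = 1 := by
        rw [← h.point_add, neg_add_cancel, natPoint_zero]
      rw [h.point_add, Subgroup.coe_mul, Subgroup.coe_mul, Subgroup.coe_mul,
        Subgroup.coe_inv X (s : X), h1]
      congr 1
      rw [eq_inv_of_mul_eq_one_left h2, hpt, Subgroup.coe_inv, inv_inv]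
    have hmem : (s : X) * m⁻¹ * (s : X)⁻¹ * m ∈ (S : Subgroup Z).map Z.subtype := by
      have hs' : (s : X) ∈ (S : Subgroup Z).map Z.subtype := ⟨s, hsS, rfl⟩
      have h1 : m⁻¹ * (s : X)⁻¹ * m⁻¹⁻¹ ∈ (S : Subgroup Z).map Z.subtype :=
        (Subgroup.mem_normalizer_iff.mp hmN _).mp (inv_mem hs')
      rw [inv_inv] at h1
      simpa [mul_assoc] using mul_mem hs' h1
    obtain ⟨k, hk⟩ := (S.isPGroup'.map Z.subtype) ⟨_, hmem⟩
    have hk' : natPoint p e₁ e₂ (-w + -w) ^ 2 ^ k = 1 := by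
      rw [hc, ← Subgroup.coe_pow, show ((s : X) * m⁻¹ * (s : X)⁻¹ * m) ^ 2 ^ k = 1 from
        congrArg Subtype.val hk]
      rfl
    have hw0 : w = 0 := by
      have h3 : ∀ (z : Fin 2 → ZMod p) (j : ℕ), natPoint p e₁ e₂ z ^ j =
          natPoint p e₁ e₂ (j • z) := by
        intro z j
        induction j with
        | zero => rw [pow_zero, zero_smul, natPoint_zero]
        | succ j ih => rw [pow_succ, ih, succ_nsmul, h.point_add]
      rw [h3] at hk'
      have h4 := h.point_injective hk'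
      have h2u : (2 : ZMod p) ≠ 0 := by
        intro e
        have h2 : ((2 : ℕ) : ZMod p) = 0 := by exact_mod_cast e
        rw [ZMod.natCast_eq_zero_iff] at h2
        exact hp2 ((Nat.prime_dvd_prime_iff_eq hp.out Nat.prime_two).mp h2)
      ext i
      have h5 := congrFun h4 i
      simp only [Pi.smul_apply, Pi.add_apply, Pi.neg_apply, Pi.zero_apply, nsmul_eq_mul,
        Nat.cast_pow, Nat.cast_ofNat] at h5
      have h6 : (2 : ZMod p) ^ k * (2 * w i) = 0 := by linear_combination -h5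
      rcases mul_eq_zero.mp h6 with h7 | h7
      · exact absurd (eq_zero_of_pow_eq_zero h7) h2u
      · exact (mul_eq_zero.mp h7).resolve_left h2u
    refine SemidirectProduct.ext (Multiplicative.toAdd.injective hw0) (Subtype.ext ?_)
    rw [hw0, natPoint_zero, one_mul] at ha'
    exact ha'
  obtain ⟨E⟩ := exists_equiv_qd (p := p)
  let mp : Multiplicative (Fin 2 → ZMod p) ⋊[φ] L →*
      Multiplicative (Fin 2 → ZMod p) ⋊[natAct p] SL(2, ZMod p) :=
    SemidirectProduct.map (MonoidHom.id _) ψL fun l => MonoidHom.ext fun w => rfl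
  have hmp : Function.Surjective mp := by
    rintro ⟨w, M⟩
    obtain ⟨l, hl⟩ := hψL M
    exact ⟨⟨w, l⟩, SemidirectProduct.ext rfl hl⟩
  obtain ⟨R, hR, hne⟩ := exists_section_of_surjective
    ((E.toMonoidHom.comp mp).comp (MonoidHom.ofInjective hι).symm.toMonoidHom)
    (E.surjective.comp (hmp.comp (MonoidHom.ofInjective hι).symm.surjective))
  exact ⟨_, R, hR, hne⟩

end Cfsg.Agent.Transfer
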