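import Cfsg.Agent.Lib.Transfer.Residual
import Cfsg.Agent.Lib.LocalEvenA.Core
import Mathlib.Algebra.CharP.Lemmas
import Mathlib.Algebra.CharP.Basic
import Mathlib.Tactic.NoncommRing
import Mathlib.Algebra.Group.Subgroup.Finite

/-!
# Coprime and quadratic action

Thompson's A×B lemma, the Ω₁ lemma for abelian groups, and the elementary p-stability lemma:
for odd p a quadratically acting element commutes, modulo the kernel of the action, with an abelian
p'-group it normalises.
-/

set_option autoImplicit false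
set_option linter.style.haveILetI false

namespace Cfsg.Agent.Transfer

open Subgroup Cfsg
open scoped commutatorElement IsMulCommutative

variable {G : Type*} [Group G] {p : ℕ}

/-- Thompson's A×B lemma. -/
theorem commute_of_commute_fixed [Finite G] [hp : Fact p.Prime] {P V : Subgroup G}
    (hP : IsPGroup p P) (hV : IsPGroup p V) (hPV : P ≤ normalizer (V : Set G))
    {x : G} (hx : (orderOf x).Coprime p) (hxV : x ∈ normalizer (V : Set G))
    (hxP : ∀ y ∈ P, Commute x y) (h : ∀ v ∈ V, (∀ y ∈ P, Commute y v) → Commute x v) :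
    ∀ v ∈ V, Commute x v := by
  let W : Subgroup G := V ⊔ P
  haveI : Group.IsNilpotent W := (hV.to_sup_of_normal_left' hP hPV).isNilpotent
  suffices H : ∀ n : ℕ, ∀ u ∈ W.lowerCentralSeries n ⊓ V, Commute x u by
    exact fun v hv => H 0 v ⟨mem_sup_left hv, hv⟩
  obtain ⟨m, hm⟩ := (isNilpotent_iff_lowerCentralSeries W).mp inferInstance
  suffices H : ∀ k n : ℕ, m ≤ n + k → ∀ u ∈ W.lowerCentralSeries n ⊓ V, Commute x u by
    exact fun n => H m n (Nat.le_add_left _ _)
  intro k
  induction k with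
  | zero =>
    intro n hn u hu
    have h1 := W.lowerCentralSeries_antitone hn hu.1
    rw [hm, mem_bot] at h1
    exact h1 ▸ Commute.one_right x
  | succ k ih =>
    intro n hn u hu
    obtain ⟨huW, huV⟩ := mem_inf.mp hu
    have hbV : u⁻¹ * (x * u * x⁻¹) ∈ V :=
      mul_mem (inv_mem huV) ((mem_normalizer_iff.mp hxV u).mp huV)
    refine LocalEvenA.comm_of_coprime_chain hx
      (let ⟨j, hj⟩ := hV ⟨_, hbV⟩; ⟨j, congrArg Subtype.val hj⟩) (h _ hbV fun y hy => ?_)
    have hyc : y * u * y⁻¹ * u⁻¹ ∈ W.lowerCentralSeries (n + 1) ⊓ V := by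
      refine mem_inf.mpr ⟨?_, mul_mem ((mem_normalizer_iff.mp (hPV hy) u).mp huV) (inv_mem huV)⟩
      rw [Subgroup.lowerCentralSeries_succ, commutator_comm, ← commutatorElement_def]
      exact commutator_mem_commutator (mem_sup_right hy) huW
    have hc := ih (n + 1) (by omega) _ hyc
    set c := y * u * y⁻¹ * u⁻¹ with hc'
    have e1 : y * u * y⁻¹ = c * u := by rw [hc']; group
    have e2 : x * y = y * x := (hxP y hy).eq
    have e3 : y * (x * u * x⁻¹) * y⁻¹ = x * (c * u) * x⁻¹ := by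
      calc y * (x * u * x⁻¹) * y⁻¹ = (y * x) * u * (y * x)⁻¹ := by group
        _ = (x * y) * u * (x * y)⁻¹ := by rw [e2]
        _ = x * (y * u * y⁻¹) * x⁻¹ := by group
        _ = x * (c * u) * x⁻¹ := by rw [e1]
    show y * _ = _ * y
    have e4 : y * (u⁻¹ * (x * u * x⁻¹)) * y⁻¹ = u⁻¹ * (x * u * x⁻¹) := by
      calc y * (u⁻¹ * (x * u * x⁻¹)) * y⁻¹ = (y * u * y⁻¹)⁻¹ * (y * (x * u * x⁻¹) * y⁻¹) := by
            group
        _ = u⁻¹ * c⁻¹ * (x * c * (u * x⁻¹)) := by rw [e1, e3]; group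
        _ = u⁻¹ * (x * u * x⁻¹) := by rw [hc.eq]; group
    exact mul_inv_eq_iff_eq_mul.mp e4

/-- A `p'`-element fixing the elements of order `p` of an abelian `p`-group fixes the group. -/
theorem commute_of_commute_omega [Finite G] {V : Subgroup G} [IsMulCommutative V]
    (hV : IsPGroup p V) {x : G} (hx : (orderOf x).Coprime p) (hxV : x ∈ normalizer (V : Set G))
    (h : ∀ v ∈ V, v ^ p = 1 → Commute x v) : ∀ v ∈ V, Commute x v := by
  suffices H : ∀ k : ℕ, ∀ v ∈ V, v ^ p ^ k = 1 → Commute x v by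
    intro v hv
    obtain ⟨k, hk⟩ := hV ⟨v, hv⟩
    exact H k v hv (congrArg Subtype.val hk)
  intro k
  induction k with
  | zero => intro v _ h1; rw [pow_zero, pow_one] at h1; exact h1 ▸ Commute.one_right x
  | succ k ih =>
    intro v hv h1
    have hw : x * v * x⁻¹ ∈ V := (mem_normalizer_iff.mp hxV v).mp hv
    have hcomm : Commute v⁻¹ (x * v * x⁻¹) :=
      congrArg Subtype.val (mul_comm' (⟨v⁻¹, inv_mem hv⟩ : V) ⟨_, hw⟩)
    have hb : (v⁻¹ * (x * v * x⁻¹)) ^ p ^ k = 1 := by
      have h2 : Commute x (v ^ p ^ k) :=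
        h _ (pow_mem hv _) (by rw [← pow_mul, ← pow_succ, h1])
      rw [hcomm.mul_pow, inv_pow, conj_pow, h2.eq, mul_inv_cancel_right, inv_mul_cancel]
    exact LocalEvenA.comm_of_coprime_chain hx ⟨k, hb⟩ (ih _ (mul_mem (inv_mem hv) hw) hb)

/-- In characteristic `p ≠ 2`: if `(B-1)² = (B'-1)² = 0` and `B⁻¹B'` commutes with `B'B⁻¹` then
`B⁻¹B'` has `p`-power order. -/
theorem exists_pow_eq_one_of_quadratic {R : Type*} [Ring R] [hp : Fact p.Prime] (hodd : p ≠ 2)
    (hchar : (p : R) = 0) (n m : R) (hn : n * n = 0) (hm : m * m = 0)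
    (hc : Commute ((1 - n) * (1 + m)) ((1 + m) * (1 - n))) :
    ∃ k : ℕ, ((1 - n) * (1 + m)) ^ p ^ k = 1 := by
  rcases subsingleton_or_nontrivial R with hR | hR
  · exact ⟨0, Subsingleton.elim _ _⟩
  haveI : CharP R p := (CharP.charP_iff_prime_eq_zero hp.out).mpr hchar
  have h2 : IsUnit (2 : R) := by
    obtain ⟨j, hj⟩ : Odd p := hp.out.eq_two_or_odd'.resolve_left hodd
    refine isUnit_iff_exists.mpr ⟨((j + 1 : ℕ) : R), ?_, ?_⟩
    · have : ((2 * (j + 1) : ℕ) : R) = ((p + 1 : ℕ) : R) := by rw [hj]; ring_nf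
      simpa [hchar] using this
    · have : (((j + 1) * 2 : ℕ) : R) = ((p + 1 : ℕ) : R) := by rw [hj]; ring_nf
      simpa [hchar] using this
  set c := (1 - n) * (1 + m) with hcdef
  set d := (1 + m) * (1 - n) with hddef
  have t1 : ∀ z : R, z * n * n = 0 := fun z => by rw [mul_assoc, hn, mul_zero]
  have t2 : ∀ z : R, z * m * m = 0 := fun z => by rw [mul_assoc, hm, mul_zero]
  have e : c * d - d * c = 2 * (n * m * n + m * n * m) := by
    rw [hcdef, hddef]
    simp only [mul_sub, sub_mul, mul_add, add_mul, one_mul, mul_one, ← mul_assoc, t1, t2, hn, hm,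
      zero_mul, mul_zero, add_zero, zero_add, sub_zero, two_mul]
    abel
  rw [hc.eq, sub_self] at e
  have hsum : n * m * n + m * n * m = 0 := (h2.mul_right_eq_zero).mp e.symm
  have hnm : n * m * n = -(m * n * m) := eq_neg_of_add_eq_zero_left hsum
  have h4 : n * m * (n * m) = 0 := by
    have := congrArg (fun z => n * z) hnm
    simpa [← mul_assoc, hn] using this.symm
  have h4' : m * n * (m * n) = 0 := by
    have := congrArg (fun z => m * z) hnm
    simpa [← mul_assoc, hm] using this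
  set x := c - 1 with hxdef
  have hx : x = m - n - n * m := by rw [hxdef, hcdef]; noncomm_ring
  have hnil : x ^ 4 = 0 := by
    have a1 : n * m * n * m = 0 := by simpa [← mul_assoc] using h4
    have a2 : m * n * m * n = 0 := by simpa [← mul_assoc] using h4'
    rw [hx]
    simp only [pow_succ, pow_zero, one_mul, sub_mul, mul_sub, ← mul_assoc, t1, t2, hn, hm,
      a1, a2, neg_mul, mul_neg, neg_sub, zero_mul, mul_zero, sub_zero, zero_sub, neg_zero, sub_self, neg_neg]
  refine ⟨2, ?_⟩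
  have hle : 4 ≤ p ^ 2 := by nlinarith [hp.out.two_le]
  have : x ^ p ^ 2 = 0 := by
    obtain ⟨r, hr⟩ := Nat.exists_eq_add_of_le hle
    rw [hr, pow_add, hnil, zero_mul]
  rw [hxdef, sub_pow_char_pow_of_commute _ _ (Commute.one_right c), one_pow, sub_eq_zero] at this
  exact this

/-- The endomorphism of `V` induced by conjugation with a normalising element. -/
noncomputable def conjEnd (V : Subgroup G) [IsMulCommutative V] :
    normalizer (V : Set G) →* AddMonoid.End (Additive V) where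
  toFun g :=
    { toFun := fun v => Additive.ofMul ((normalizerMonoidHom V g) v.toMul)
      map_zero' := by simp
      map_add' := fun a b => by simp }
  map_one' := by
    apply AddMonoidHom.ext
    intro v
    show Additive.ofMul ((normalizerMonoidHom V 1) v.toMul) = v
    rw [map_one]; rfl
  map_mul' a b := by
    apply AddMonoidHom.ext
    intro v
    show Additive.ofMul ((normalizerMonoidHom V (a * b)) v.toMul) = Additive.ofMul ((normalizerMonoidHom V a) ((normalizerMonoidHom V b) v.toMul))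
    rw [map_mul]; rfl

/-- **p-stability, elementary case**: `p` odd, `V` abelian of exponent `p`, `Q` an abelian
`p'`-group normalised by `b`, all normalising `V`, and `b` quadratic on `V`; then `[b, Q]`
centralises `V`. -/
theorem commutator_centralizes_of_quadratic [Finite G] [hp : Fact p.Prime] (hodd : p ≠ 2)
    (V : Subgroup G) [IsMulCommutative V] (hexp : ∀ v ∈ V, v ^ p = 1) (Q : Subgroup G)
    [IsMulCommutative Q] (hQp : (Nat.card Q).Coprime p) (hQV : Q ≤ normalizer (V : Set G))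
    {b : G} (hbV : b ∈ normalizer (V : Set G)) (hbQ : b ∈ normalizer (Q : Set G))
    (hquad : ∀ v ∈ V, Commute b (b * v * b⁻¹ * v⁻¹))
    {y : G} (hy : y ∈ Q) : b⁻¹ * (y * b * y⁻¹) ∈ centralizer (V : Set G) := by
  set c := b⁻¹ * (y * b * y⁻¹) with hcdef
  have hcQ : c ∈ Q := by
    have h1 := mul_mem ((mem_normalizer_iff''.mp hbQ y).mp hy) (inv_mem hy)
    simpa [hcdef, mul_assoc] using h1
  have hdQ : (y * b * y⁻¹) * b⁻¹ ∈ Q := by
    have h1 := mul_mem hy ((mem_normalizer_iff.mp hbQ y⁻¹).mp (inv_mem hy))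
    simpa [mul_assoc] using h1
  let ρ := conjEnd V
  let bN : normalizer (V : Set G) := ⟨b, hbV⟩
  let yN : normalizer (V : Set G) := ⟨y, hQV hy⟩
  let n : AddMonoid.End (Additive V) := ρ bN - 1
  have hn : n * n = 0 := by
    apply AddMonoidHom.ext
    intro v
    have h1 := (hquad _ (Additive.toMul v).2).eq
    apply Additive.toMul.injective
    apply Subtype.ext
    show b * (b * (Additive.toMul v : V).1 * b⁻¹ / (Additive.toMul v : V).1) * b⁻¹ / (b * (Additive.toMul v : V).1 * b⁻¹ / (Additive.toMul v : V).1) = 1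
    simp only [div_eq_mul_inv]
    rw [h1]; group
  have hinv : ∀ g : normalizer (V : Set G), ρ g - 1 = n → ρ g⁻¹ = 1 - n := by
    intro g hg
    have h1 : ρ g = 1 + n := by rw [← hg]; abel
    have h2 : ρ g * (1 - n) = 1 := by rw [h1, add_mul, one_mul, mul_sub, mul_one, hn]; abel
    calc ρ g⁻¹ = ρ g⁻¹ * (ρ g * (1 - n)) := by rw [h2, mul_one]
      _ = ρ (g⁻¹ * g) * (1 - n) := by rw [map_mul, mul_assoc]
      _ = 1 - n := by rw [inv_mul_cancel, map_one, one_mul]
  let m := ρ (yN * bN * yN⁻¹) - 1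
  have hm : m * m = 0 := by
    have h1 : m = ρ yN * n * ρ yN⁻¹ := by
      show ρ (yN * bN * yN⁻¹) - 1 = _
      rw [map_mul, map_mul, show n = ρ bN - 1 from rfl, mul_sub, sub_mul, mul_one, ← map_mul ρ yN,
        ← map_mul ρ yN yN⁻¹, mul_inv_cancel, map_one]
    rw [h1]
    calc ρ yN * n * ρ yN⁻¹ * (ρ yN * n * ρ yN⁻¹)
        = ρ yN * n * (ρ yN⁻¹ * ρ yN) * n * ρ yN⁻¹ := by simp only [mul_assoc]
      _ = 0 := by rw [← map_mul, inv_mul_cancel, map_one, mul_one, mul_assoc (ρ yN), hn,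
                    mul_zero, zero_mul]
  have hb' : ρ (yN * bN * yN⁻¹) = 1 + m := by show _ = 1 + (_ - 1); abel
  have eC : ρ (bN⁻¹ * (yN * bN * yN⁻¹)) = (1 - n) * (1 + m) := by
    rw [map_mul, hinv bN rfl, hb']
  have eD : ρ ((yN * bN * yN⁻¹) * bN⁻¹) = (1 + m) * (1 - n) := by
    rw [map_mul, hinv bN rfl, hb']
  have hcomm : Commute (bN⁻¹ * (yN * bN * yN⁻¹)) ((yN * bN * yN⁻¹) * bN⁻¹) :=
    Subtype.ext (congrArg Subtype.val (mul_comm' (⟨_, hcQ⟩ : Q) ⟨_, hdQ⟩) :)
  have hchar : (p : AddMonoid.End (Additive V)) = 0 := by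
    apply AddMonoidHom.ext
    intro v
    show p • v = 0
    apply Additive.toMul.injective
    apply Subtype.ext
    exact hexp _ v.toMul.2
  obtain ⟨k, hk⟩ := exists_pow_eq_one_of_quadratic (p := p) hodd hchar n m hn hm
    (by rw [← eC, ← eD]; exact hcomm.map ρ)
  rw [← eC] at hk
  have hord : orderOf (bN⁻¹ * (yN * bN * yN⁻¹)) ∣ Nat.card Q := by
    rw [← Subgroup.orderOf_coe]
    show orderOf c ∣ _
    rw [← Subgroup.orderOf_mk c hcQ]
    exact _root_.orderOf_dvd_natCard _
  have hone : ρ (bN⁻¹ * (yN * bN * yN⁻¹)) = 1 := by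
    rw [← pow_one (ρ _), ← ((hQp.coprime_dvd_left hord).pow_right k).gcd_eq_one]
    exact pow_gcd_eq_one.mpr ⟨by rw [← map_pow, pow_orderOf_eq_one, map_one], hk⟩
  intro v hv
  have h1 := congrArg (fun f : AddMonoid.End (Additive V) =>
    (((f (Additive.ofMul ⟨v, hv⟩)).toMul : V) : G)) hone
  have h2 : c * v * c⁻¹ = v := h1
  exact (mul_inv_eq_iff_eq_mul.mp h2).symm

end Cfsg.Agent.Transfer
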