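import Cfsg.Agent.Lib.Transfer.Glauberman

/-!
# The stable normal closure W(S) of the omega subgroup of the centre
-/

set_option autoImplicit false
set_option linter.style.haveILetI false

namespace Cfsg.Agent.Transfer

open Subgroup Cfsg
open scoped commutatorElement Pointwise

universe u

variable {p : ℕ}

theorem isMaxAbIn_of_mem {S : Type*} [Group S] {A : Subgroup S}
    (h : A ∈ maxElementaryAbelianSubgroups p S) : IsMaxAbIn p ⊤ A :=
  ⟨le_top, h.1, fun B _ hB => h.2 B hB⟩

theorem omegaCenterThompson_le_of_max {S : Type*} [Group S] [Finite S] {A : Subgroup S}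
    (hA : A ∈ maxElementaryAbelianSubgroups p S) : omegaCenterThompson p S ≤ A := by
  rw [omegaCenterThompson, omegaOne, closure_le]
  rintro x ⟨⟨-, hxc⟩, hxp⟩
  exact mem_of_commute_maxAb (isMaxAbIn_of_mem hA) (mem_top x) hxp
    fun a ha => hxc a (le_sSup hA ha)

theorem omegaCenterThompson_abExp {S : Type*} [Group S] [Finite S] :
    AbExp p (omegaCenterThompson p S) := by
  obtain ⟨A, hA⟩ := exists_isMaxElemIn (p := p) (⊤ : Subgroup S)
  exact ea_mono (isMaxElemIn_top_iff.mp hA).1
    (omegaCenterThompson_le_of_max (isMaxElemIn_top_iff.mp hA))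

theorem omegaOne_center_le {S : Type*} [Group S] [Finite S] :
    omegaOne p (center S) ≤ omegaCenterThompson p S := by
  rw [omegaOne, closure_le]
  rintro x ⟨hx, hxp⟩
  obtain ⟨A, hA⟩ := exists_isMaxElemIn (p := p) (⊤ : Subgroup S)
  have hA' := isMaxElemIn_top_iff.mp hA
  refine subset_closure ⟨⟨le_sSup hA' ?_, fun y _ => mem_center_iff.mp hx y⟩, hxp⟩
  exact mem_of_commute_maxAb (isMaxAbIn_of_mem hA') (mem_top x) hxp
    fun a _ => mem_center_iff.mp hx a

theorem map_thompsonSubgroup {S S' : Type*} [Group S] [Group S'] (η : S ≃* S') :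
    (thompsonSubgroup p S).map η.toMonoidHom = thompsonSubgroup p S' := by
  rw [← thompsonSubgroupOf_top, ← thompsonSubgroupOf_top,
    map_thompsonSubgroupOf _ _ η.injective.injOn,
    map_top_of_surjective η.toMonoidHom η.surjective]

theorem map_omegaCenterThompson {S S' : Type u} [Group S] [Group S'] (η : S ≃* S') :
    (omegaCenterThompson p S).map η.toMonoidHom = omegaCenterThompson p S' := by
  rw [omegaCenterThompson, omegaCenterThompson, map_omegaOne _ η.injective,
    ← map_thompsonSubgroup η,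
    ← center_map_of_injOn η.toMonoidHom (η.injective.injOn)]

section

variable {S H : Type u} [Group S] [Group H]

theorem map_omegaCenterThompson_normal {τ : S →* H} (hτ : IsStableEmbedding p τ) :
    ((omegaCenterThompson p S).map τ).Normal := by
  obtain ⟨hinj, -, -, -, hJ, -⟩ := hτ
  rw [omegaCenterThompson, map_omegaOne τ hinj, ← center_map_of_injOn τ hinj.injOn]
  haveI := hJ
  refine normalizer_eq_top_iff.mp (top_le_iff.mp fun g _ => ?_)
  have hn : ((thompsonSubgroup p S).map τ ⊓
      centralizer (((thompsonSubgroup p S).map τ : Subgroup H) : Set H)).Normal := inferInstance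
  rw [mem_normalizer_iff_map_conj_eq]
  show (omegaOne p _).map (MulAut.conj g).toMonoidHom = _
  rw [map_omegaOne _ (MulAut.conj g).injective]
  congr 1
  exact mem_normalizer_iff_map_conj_eq.mp (by rw [normalizer_eq_top_iff.mpr hn]; exact mem_top g)

end

variable {S : Type u} [Group S] [Finite S]

theorem snc_member :
    omegaCenterThompson p S ∈ {W : Subgroup S | omegaOne p (center S) ≤ W ∧
      ∀ (H : Type u) [Group H] (τ : S →* H), IsStableEmbedding p τ → (W.map τ).Normal} :=
  ⟨omegaOne_center_le, fun _ _ _ hτ => map_omegaCenterThompson_normal hτ⟩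

theorem snc_le : stableNormalClosure p S ≤ omegaCenterThompson p S := sInf_le snc_member

theorem omegaOne_center_le_snc : omegaOne p (center S) ≤ stableNormalClosure p S :=
  le_sInf fun _ hW => hW.1

theorem snc_map_normal {H : Type u} [Group H] (τ : S →* H) (hτ : IsStableEmbedding p τ) :
    ((stableNormalClosure p S).map τ).Normal := by
  refine ⟨?_⟩
  rintro _ ⟨w, hw, rfl⟩ g
  obtain ⟨w', -, hw'⟩ := (map_omegaCenterThompson_normal hτ).conj_mem (τ w)
    (mem_map_of_mem τ (snc_le hw)) g
  refine ⟨w', mem_sInf.mpr fun M hM => ?_, hw'⟩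
  obtain ⟨w'', h1, h2⟩ := (hM.2 H τ hτ).conj_mem (τ w) (mem_map_of_mem τ (mem_sInf.mp hw M hM)) g
  exact hτ.1 (hw'.trans h2.symm) ▸ h1

theorem map_snc_le {S' : Type u} [Group S'] (η : S ≃* S') :
    (stableNormalClosure p S).map η.toMonoidHom ≤ stableNormalClosure p S' := by
  refine le_sInf fun M hM => ?_
  rw [map_le_iff_le_comap]
  refine sInf_le ⟨?_, fun H _ τ hτ => ?_⟩
  · rw [omegaOne, closure_le]
    rintro x ⟨hx, hxp⟩
    refine hM.1 (subset_closure ⟨mem_center_iff.mpr fun y => ?_, by rw [← map_pow, hxp, map_one]⟩)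
    obtain ⟨z, rfl⟩ := η.surjective y
    show η z * η x = η x * η z
    rw [← map_mul, ← map_mul, mem_center_iff.mp hx z]
  · have hτ' : IsStableEmbedding p (τ.comp η.symm.toMonoidHom) := by
      obtain ⟨hinj, hfin, hP, hc, hJ, hV⟩ := hτ
      refine ⟨hinj.comp η.symm.injective, hfin, ?_, hc, ?_, ?_⟩
      · obtain ⟨P, hP⟩ := hP
        refine ⟨P, ?_⟩
        rw [hP, MonoidHom.range_comp, (MonoidHom.range_eq_top (f := η.symm.toMonoidHom)).mpr η.symm.surjective,
          ← MonoidHom.range_eq_map]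
      · rw [← Subgroup.map_map, map_thompsonSubgroup η.symm]
        exact hJ
      · intro V _ hle
        rw [← Subgroup.map_map, map_omegaCenterThompson η.symm] at hle
        exact hV V hle
    have h := hM.2 H _ hτ'
    rw [← Subgroup.map_map] at h
    have e : M.map η.symm.toMonoidHom = M.comap η.toMonoidHom := map_equiv_eq_comap_symm' η.symm M
    rwa [e] at h

theorem map_snc {S' : Type u} [Group S'] (η : S ≃* S') :
    (stableNormalClosure p S).map η.toMonoidHom = stableNormalClosure p S' := by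
  haveI : Finite S' := Finite.of_equiv S η.toEquiv
  refine le_antisymm (map_snc_le η) ?_
  intro y hy
  exact ⟨η.symm y, map_snc_le η.symm ⟨y, hy, rfl⟩, η.apply_symm_apply y⟩

theorem snc_characteristic : (stableNormalClosure p S).Characteristic :=
  characteristic_iff_map_eq.mpr fun φ => map_snc φ

theorem snc_ne_bot [hp : Fact p.Prime] (hS : IsPGroup p S) [Nontrivial S] :
    stableNormalClosure p S ≠ ⊥ := by
  haveI := hS.center_nontrivial
  obtain ⟨x, hxZ, hxo, -⟩ := exists_orderOf_eq_zpowers_ea (hS.to_subgroup (center S))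
    ((nontrivial_iff_ne_bot _).mp inferInstance)
  intro hb
  have h1 : x ∈ stableNormalClosure p S :=
    omegaOne_center_le_snc (subset_closure ⟨hxZ, hxo ▸ pow_orderOf_eq_one x⟩)
  rw [hb, mem_bot] at h1
  rw [h1, orderOf_one] at hxo
  exact hp.out.one_lt.ne hxo

/-! ### Quadratic elements -/

theorem quad_iff {G : Type*} [Group G] [Finite G] (V : Subgroup G) (a : G) :
    ⁅⁅V, zpowers a⁆, zpowers a⁆ = ⊥ ↔ ∀ v ∈ V, Commute a (a * v * a⁻¹ * v⁻¹) := by
  constructor
  · intro h v hv
    have h1 : ⁅⁅v, a⁆, a⁆ ∈ (⊥ : Subgroup G) := h ▸ commutator_mem_commutator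
      (commutator_mem_commutator hv (mem_zpowers a)) (mem_zpowers a)
    have h2 : Commute ⁅v, a⁆ a := commutatorElement_eq_one_iff_commute.mp (mem_bot.mp h1)
    have e : a * v * a⁻¹ * v⁻¹ = ⁅v, a⁆⁻¹ := by rw [commutatorElement_inv, commutatorElement_def]
    rw [e]
    exact h2.symm.inv_right
  · intro h
    rw [commutator_eq_bot_iff_le_centralizer, commutator_le]
    intro v hv s hs z hz
    obtain ⟨n, rfl⟩ := (mem_powers_iff_mem_zpowers (x := a)).mpr hs
    obtain ⟨m, rfl⟩ := (mem_powers_iff_mem_zpowers (x := a)).mpr hz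
    have h1 : Commute a ⁅a, v⁆ := by rw [commutatorElement_def]; exact h v hv
    show a ^ m * ⁅v, a ^ n⁆ = ⁅v, a ^ n⁆ * a ^ m
    rw [← commutatorElement_inv, commutator_pow_left h1 n]
    exact ((h1.pow_right n).inv_right.pow_left m).eq

theorem mem_sup_of_pow_mem {G : Type u} [Group G] [Finite G] [hp : Fact p.Prime] (P : Sylow p G)
    (L C : Subgroup G) [L.Normal] [C.Normal] (h : ∀ x ∈ L, ∃ k, x ^ p ^ k ∈ C) :
    L ≤ C ⊔ ((P : Subgroup G) ⊓ L) := by
  obtain ⟨T, hT⟩ := exists_sylow_eq_subgroupOf P L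
  have h1 : (pResidual p L ⊔ (T : Subgroup L)).map L.subtype = L := by
    rw [pResidual_sup_sylow T, ← MonoidHom.range_eq_map, range_subtype]
  refine le_of_eq_of_le h1.symm ?_
  rw [Subgroup.map_sup, hT, subgroupOf_map_subtype]
  refine sup_le (le_sup_of_le_left ?_) le_sup_right
  rw [pResidual, MonoidHom.map_closure, closure_le]
  rintro _ ⟨x, hx, rfl⟩
  obtain ⟨k, hk⟩ := h x x.2
  obtain ⟨m, hm⟩ := exists_pow_eq_self_of_coprime (x := (x : G)) (n := p ^ k)
    (by rw [Subgroup.orderOf_coe]; exact (hx.pow_right k).symm)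
  show (x : G) ∈ C
  exact hm ▸ pow_mem hk m

theorem snc_quadratic [hp : Fact p.Prime] (x : S)
    (hq : ⁅⁅stableNormalClosure p S, zpowers x⁆, zpowers x⁆ = ⊥) :
    ⁅stableNormalClosure p S, zpowers x⁆ = ⊥ := by
  set W := stableNormalClosure p S with hW
  let U : Subgroup S := W ⊓ centralizer {y | ⁅⁅W, zpowers y⁆, zpowers y⁆ = ⊥}
  have hU : W ≤ U := by
    refine sInf_le ⟨?_, fun H _ τ hτ => ?_⟩
    · refine le_inf omegaOne_center_le_snc ?_
      rw [omegaOne, closure_le]
      rintro z ⟨hz, -⟩ y -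
      exact mem_center_iff.mp hz y
    haveI hVn : (W.map τ).Normal := snc_map_normal τ hτ
    obtain ⟨hinj, hfin, ⟨P, hP⟩, -, -, hV⟩ := hτ
    haveI := hfin
    set V := W.map τ
    set C := centralizer (V : Set H)
    set L := (pCore p (H ⧸ C)).comap (QuotientGroup.mk' C)
    refine ⟨?_⟩
    rintro _ ⟨w, ⟨hwW, hwc⟩, rfl⟩ g
    obtain ⟨w', hw'W, hw'⟩ := hVn.conj_mem (τ w) (mem_map_of_mem τ hwW) g
    refine ⟨w', ⟨hw'W, fun z hz => ?_⟩, hw'⟩
    set a := g⁻¹ * τ z * g with ha
    have haq : ∀ v ∈ V, Commute a (a * v * a⁻¹ * v⁻¹) := by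
      intro v hv
      obtain ⟨v', hv', hv'e⟩ := hVn.conj_mem v hv g
      have h1 := ((quad_iff W z).mp hz v' hv').map τ
      simp only [map_mul, map_inv, hv'e] at h1
      have h2 := h1.map (MulAut.conj g⁻¹).toMonoidHom
      simp only [MulEquiv.coe_toMonoidHom, MulAut.conj_apply, inv_inv] at h2
      have e : g⁻¹ * (τ z * (g * v * g⁻¹) * (τ z)⁻¹ * (g * v * g⁻¹)⁻¹) * g =
          a * v * a⁻¹ * v⁻¹ := by rw [ha]; group
      rwa [e, ← ha] at h2
    have haL : a ∈ L := hV V (map_mono snc_le) a ((quad_iff V a).mpr haq)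
    obtain ⟨c, hc, t, ht, hct⟩ := (Basics.mem_sup_of_le_normalizer le_normalizer_of_normal).mp
      (mem_sup_of_pow_mem P L C (fun x hx => exists_pow_mem_of_comap_pCore C hx) haL)
    obtain ⟨z', rfl⟩ : t ∈ τ.range := hP ▸ ht.1
    have hact : ∀ v ∈ V, a * v * a⁻¹ = τ z' * v * (τ z')⁻¹ := by
      intro v hv
      have h1 : τ z' * v * (τ z')⁻¹ ∈ V := hVn.conj_mem v hv _
      rw [hct, mul_inv_rev,
        show c * τ z' * v * ((τ z')⁻¹ * c⁻¹) = c * (τ z' * v * (τ z')⁻¹) * c⁻¹ by group,
        ← hc _ h1, mul_inv_cancel_right]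
    have hz' : ⁅⁅W, zpowers z'⁆, zpowers z'⁆ = ⊥ := by
      refine (quad_iff W z').mpr fun v hv => ?_
      have hvV := mem_map_of_mem τ hv
      set y := a * τ v * a⁻¹ * (τ v)⁻¹ with hy
      have hyV : y ∈ V := mul_mem (hVn.conj_mem _ hvV a) (inv_mem hvV)
      have h1 : a * y * a⁻¹ = y := by rw [(haq _ hvV).eq, mul_inv_cancel_right]
      rw [hact y hyV] at h1
      have h2 : Commute (τ z') y := mul_inv_eq_iff_eq_mul.mp h1
      rw [hy, hact _ hvV, ← map_inv, ← map_inv, ← map_mul, ← map_mul, ← map_mul] at h2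
      exact hinj (by rw [map_mul τ z', map_mul τ _ z']; exact h2.eq)
    have h3 : Commute a (τ w) := by
      rw [hct]
      exact (show Commute c (τ w) from (hc _ (mem_map_of_mem τ hwW)).symm).mul_left
        ((show Commute z' w from hwc z' hz').map τ)
    apply hinj
    rw [map_mul, map_mul, hw']
    have h4 := h3.map (MulAut.conj g).toMonoidHom
    have e : g * a * g⁻¹ = τ z := by rw [ha]; group
    simp only [MulEquiv.coe_toMonoidHom, MulAut.conj_apply, e] at h4
    exact h4.eq
  rw [commutator_eq_bot_iff_le_centralizer]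
  intro v hv z hz
  obtain ⟨i, rfl⟩ := mem_zpowers_iff.mp hz
  exact ((show Commute x v from (hU hv).2 x hq).zpow_left i).eq

/-! ### The analogue of the ZJ theorem -/

/-- `W(S)` for a subgroup. -/
def sncOf (p : ℕ) {G : Type u} [Group G] (S : Subgroup G) : Subgroup G :=
  (stableNormalClosure p S).map S.subtype

theorem map_sncOf {G H : Type u} [Group G] [Group H] [Finite G] (S : Subgroup G) (f : G →* H)
    (hf : Set.InjOn f S) : (sncOf p S).map f = sncOf p (S.map f) := by
  let η : S ≃* S.map f := MulEquiv.ofBijective (f.subgroupMap S)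
    ⟨fun a b h => Subtype.ext (hf a.2 b.2 (congrArg Subtype.val h)), f.subgroupMap_surjective S⟩
  rw [sncOf, sncOf, ← map_snc η, Subgroup.map_map, Subgroup.map_map]
  rfl

theorem snc_normal_of_actionPStable {G : Type u} [Group G] [Finite G] [hp : Fact p.Prime]
    (hst : IsActionPStable p G) (hc : centralizer (pCore p G : Set G) ≤ pCore p G)
    (S : Sylow p G) : (sncOf p (S : Subgroup G)).Normal := by
  classical
  obtain ⟨hst1, hst2, hst3⟩ := hst
  set X := pCore p G
  have hXp : IsPGroup p X := Basics.pCore_isPGroup p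
  have hXS : X ≤ (S : Subgroup G) := Basics.pCore_le_sylow p S
  set J := thompsonSubgroupOf p (S : Subgroup G) with hJ
  set N := normalizer (J : Set G)
  set W := sncOf p (S : Subgroup G) with hW
  have hSN : (S : Subgroup G) ≤ N := le_normalizer.trans (normalizer_le_normalizer_thompson _)
  let τ : (S : Subgroup G) →* N := inclusion hSN
  have hcomp : (N.subtype).comp τ = (S : Subgroup G).subtype := rfl
  have hτ : IsStableEmbedding p τ := by
    refine ⟨inclusion_injective hSN, inferInstance, ⟨S.subtype hSN, ?_⟩, ?_, ?_, ?_⟩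
    · rw [Sylow.coe_subtype, inclusion_range]
    · intro c hc'
      have h1 : (c : G) ∈ X := hc fun x hx => congrArg Subtype.val
        (hc' ⟨x, hSN (hXS hx)⟩ (Basics.le_pCore (N := X.subgroupOf N) hXp.comap_subtype hx))
      exact Basics.le_pCore (N := X.subgroupOf N) hXp.comap_subtype h1
    · have e : (thompsonSubgroup p (S : Subgroup G)).map τ = J.subgroupOf N := by
        apply map_injective N.subtype_injective
        rw [Subgroup.map_map, hcomp, subgroupOf_map_subtype, inf_eq_left.mpr le_normalizer]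
        rfl
      rw [e]
      exact (normal_subgroupOf_iff_le_normalizer le_normalizer).mpr le_rfl
    · intro V _ hle
      refine hst3 S V ?_
      refine (map_mono hle).trans_eq ?_
      rw [Subgroup.map_map, hcomp]
  have hNW : N ≤ normalizer (W : Set G) := by
    have hn := snc_map_normal τ hτ
    have h1 := le_normalizer_map N.subtype (H := (stableNormalClosure p _).map τ)
    rw [normalizer_eq_top_iff.mpr hn, ← MonoidHom.range_eq_map, range_subtype, Subgroup.map_map,
      hcomp] at h1
    exact h1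
  have hWS : W ≤ (S : Subgroup G) := map_subtype_le _
  have hSW : (S : Subgroup G) ≤ normalizer (W : Set G) := hSN.trans hNW
  have hWe : AbExp p W := ea_map (ea_mono omegaCenterThompson_abExp snc_le) _
  have hWJ : ∀ w ∈ W, ∀ j ∈ J, Commute j w := by
    rintro _ ⟨w, hw, rfl⟩ _ ⟨j, hj, rfl⟩
    have h1 : omegaCenterThompson p (S : Subgroup G) ≤
        centralizer (thompsonSubgroup p (S : Subgroup G) : Set (S : Subgroup G)) :=
      (closure_le _).mpr fun x hx => hx.1.2
    exact (show Commute j w from h1 (snc_le hw) j hj).map (S : Subgroup G).subtype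
  have hWX : W ≤ X := by
    intro a ha
    have hq : ⁅⁅X, zpowers a⁆, zpowers a⁆ ≤ (frattini X).map X.subtype := by
      refine le_of_eq_of_le ((quad_iff X a).mpr fun v hv => ?_) bot_le
      have h1 : v * a⁻¹ * v⁻¹ ∈ W := (mem_normalizer_iff.mp (hSW (hXS hv)) _).mp (inv_mem ha)
      have h2 : a * v * a⁻¹ * v⁻¹ = a * (v * a⁻¹ * v⁻¹) := by group
      rw [h2]
      exact AbExp.commute hWe ha (mul_mem ha h1)
    obtain ⟨D, hD, hkD, ⟨k, hk⟩, haD⟩ := hst2 a hq
    rw [sectionKernel_frattini_eq hc] at hkD hk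
    haveI := hD
    obtain ⟨i, hi⟩ := hXp.exists_card_eq
    have hDp : IsPGroup p D := IsPGroup.of_card (n := i + k) (by
      rw [pow_add, ← hi, ← hk, ← Basics.card_subgroupOf hkD]
      exact (card_mul_index (X.subgroupOf D)).symm)
    exact Basics.le_pCore hDp haD
  set V := normalClosure (W : Set G) with hV
  have hVX : V ≤ X := normalClosure_le_normal hWX
  have hconj : ∀ g : G, ∀ w ∈ W, ∀ v ∈ W, Commute (g * w * g⁻¹) v := by
    intro g w hw v hv
    have hxX : g * w * g⁻¹ ∈ X := (inferInstance : X.Normal).conj_mem w (hWX hw) g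
    set y : (S : Subgroup G) := ⟨g * w * g⁻¹, hXS hxX⟩
    have hq : ⁅⁅stableNormalClosure p (S : Subgroup G), zpowers y⁆, zpowers y⁆ = ⊥ := by
      refine (quad_iff _ _).mpr fun z hz => ?_
      have hzX : (z : G) ∈ X := hWX ⟨z, hz, rfl⟩
      have h1 : g⁻¹ * (z : G) * g ∈ normalizer (W : Set G) := hSW (hXS (by
        simpa using (inferInstance : X.Normal).conj_mem _ hzX g⁻¹))
      have h2 : w * ((g⁻¹ * (z : G) * g) * w⁻¹ * (g⁻¹ * (z : G) * g)⁻¹) ∈ W :=
        mul_mem hw ((mem_normalizer_iff.mp h1 _).mp (inv_mem hw))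
      have h3 := (AbExp.commute hWe hw h2).map (MulAut.conj g).toMonoidHom
      apply Subtype.ext
      show (y : G) * ((y : G) * z * (y : G)⁻¹ * (z : G)⁻¹) =
        (y : G) * z * (y : G)⁻¹ * (z : G)⁻¹ * (y : G)
      simp only [MulEquiv.coe_toMonoidHom, MulAut.conj_apply] at h3
      have e : g * (w * (g⁻¹ * (z : G) * g * w⁻¹ * (g⁻¹ * (z : G) * g)⁻¹)) * g⁻¹ =
          (y : G) * z * (y : G)⁻¹ * (z : G)⁻¹ := by simp only [y]; group
      rw [e] at h3
      exact h3.eq
    obtain ⟨v', hv', rfl⟩ := hv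
    have h := snc_quadratic y hq
    rw [commutator_eq_bot_iff_le_centralizer] at h
    exact (congrArg Subtype.val (h hv' y (mem_zpowers y)) :)
  have hgen : ∀ Y : Subgroup G, (∀ g : G, ∀ w ∈ W, g * w * g⁻¹ ∈ Y) → V ≤ Y := by
    intro Y hY
    rw [hV, normalClosure, closure_le]
    intro y hy
    obtain ⟨x, hx, hc⟩ := Group.mem_conjugatesOfSet_iff.mp hy
    obtain ⟨c, rfl⟩ := isConj_iff.mp hc
    exact hY c x hx
  have hVc : V ≤ centralizer (V : Set G) := by
    have h1 : V ≤ centralizer (W : Set G) :=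
      hgen _ fun g w hw v hv => ((hconj g w hw v hv).eq).symm
    refine hgen _ fun g w hw => ?_
    exact (inferInstance : (centralizer (V : Set G)).Normal).conj_mem w
      (fun v hv => (h1 hv w hw).symm) g
  have hVe : AbExp p V := by
    refine ⟨⟨⟨fun a b => Subtype.ext (hVc b.2 a a.2)⟩⟩, ?_⟩
    let Y : Subgroup G :=
      { carrier := {y | y ∈ V ∧ y ^ p = 1}
        one_mem' := ⟨one_mem _, one_pow _⟩
        mul_mem' := by
          rintro a b ⟨ha, ha'⟩ ⟨hb, hb'⟩
          refine ⟨mul_mem ha hb, ?_⟩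
          rw [Commute.mul_pow (hVc hb a ha : Commute a b), ha', hb', one_mul]
        inv_mem' := by
          rintro a ⟨ha, ha'⟩
          exact ⟨inv_mem ha, by rw [inv_pow, ha', inv_one]⟩ }
    intro y hy
    exact ((hgen Y fun g w hw => ⟨normalClosure_normal.conj_mem w (subset_normalClosure hw) g,
      by rw [conj_pow, hWe.2 w hw, mul_one, mul_inv_cancel]⟩) hy).2
  haveI : V.Normal := normalClosure_normal
  set C := centralizer (V : Set G)
  have hCW : C ≤ normalizer (W : Set G) := fun c hc => by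
    rw [mem_normalizer_iff_map_conj_eq]
    refine eq_of_le_of_card_ge ?_ (card_map_of_injective (MulAut.conj c).injective).ge
    rintro _ ⟨w, hw, rfl⟩
    show c * w * c⁻¹ ∈ W
    rw [← hc w (subset_normalClosure hw), mul_inv_cancel_right]
    exact hw
  refine normalizer_eq_top_iff.mp (top_le_iff.mp ?_)
  by_cases hall : JAb p (S : Subgroup G) ≤ C
  · rw [← sup_normalizer_inf_eq_top S C C fun x hx => ⟨0, by simpa using hx⟩]
    refine sup_le hCW ?_
    have h1 : JAb p ((S : Subgroup G) ⊓ C) = J := by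
      rw [hJ, ← JAb_prime]; exact JAb_eq_of_le inf_le_left (le_inf (JAb_le _) hall)
    exact ((normalizer_le_normalizer_JAb (e := p) _).trans_eq (by rw [h1])).trans hNW
  exfalso
  have hVS : V ≤ (S : Subgroup G) := hVX.trans hXS
  obtain ⟨U, hU, hUC⟩ : ∃ U, IsMaxAbIn p (S : Subgroup G) U ∧ ¬ U ≤ C := by
    by_contra h
    simp only [not_exists, not_and, not_not] at h
    exact hall (sSup_le h)
  have hnVU : ¬ V ≤ U := fun h => hUC fun a ha v hv => (AbExp.commute hU.2.1 (h hv) ha).eq
  set s := (S : Subgroup G).subtype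
  have hsS : (⊤ : Subgroup (S : Subgroup G)).map s = (S : Subgroup G) := by
    rw [← MonoidHom.range_eq_map, range_subtype]
  have hUt : IsMaxAbIn p (⊤ : Subgroup (S : Subgroup G)) (U.subgroupOf S) := by
    refine isMaxAbIn_of_map le_top s (subtype_injective _).injOn ?_
    rw [hsS, map_subgroupOf_eq_of_le hU.1]
    exact hU
  have hVs : AbExp p (V.subgroupOf (S : Subgroup G)) :=
    AbExp.of_map s (subtype_injective _).injOn (by rw [map_subgroupOf_eq_of_le hVS]; exact hVe)
  obtain ⟨A', hA', -, hA'n, hA'N⟩ := exists_normalized_maxAb S.isPGroup' (e := p) ⊤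
    (V.subgroupOf (S : Subgroup G)) (fun _ => hVs.1) (Or.inr hVs.2)
    ⟨_, hUt, by
      rw [commutator_le]
      intro a ha b hb
      rw [commutatorElement_eq_one_iff_commute.mpr (AbExp.commute hVs ha hb)]
      exact one_mem _,
    fun h => hnVU fun v hv => h (show (⟨v, hVS hv⟩ : (S : Subgroup G)) ∈
      V.subgroupOf (S : Subgroup G) from hv)⟩
  set A := A'.map s
  have hAmax : IsMaxAbIn p (S : Subgroup G) A := by
    have := isMaxAbIn_map hA' s (subtype_injective _).injOn
    rwa [hsS] at this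
  set L := (pCore p (G ⧸ C)).comap (QuotientGroup.mk' C)
  have hAL : A ≤ L := by
    intro a ha
    refine hst1 V hVe a ((quad_iff V a).mpr fun v hv => ?_)
    obtain ⟨a', ha', rfl⟩ := ha
    have h1 : (⟨v, hVS hv⟩ : (S : Subgroup G)) * a'⁻¹ * (⟨v, hVS hv⟩ : (S : Subgroup G))⁻¹ ∈ A' :=
      (mem_normalizer_iff.mp (hA'N (show (⟨v, hVS hv⟩ : (S : Subgroup G)) ∈
        V.subgroupOf (S : Subgroup G) from hv)) _).mp (inv_mem ha')
    have h2 : s a' * v * (s a')⁻¹ * v⁻¹ = s (a' * (⟨v, hVS hv⟩ * a'⁻¹ * ⟨v, hVS hv⟩⁻¹)) := by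
      simp only [map_mul, map_inv, s, Subgroup.subtype_apply]; group
    rw [h2]
    exact AbExp.commute hAmax.2.1 ⟨a', ha', rfl⟩ ⟨_, mul_mem ha' h1, rfl⟩
  set T := (S : Subgroup G) ⊓ L
  have hAT : A ≤ T := le_inf hAmax.1 hAL
  have hJT : JAb p T ≤ J := by rw [hJ, ← JAb_prime]; exact JAb_mono inf_le_left hAmax hAT
  have hsup := sup_normalizer_inf_eq_top S L C fun x hx => exists_pow_mem_of_comap_pCore C hx
  have hVJ : V ≤ centralizer (JAb p T : Set G) := by
    refine hgen _ fun g w hw => ?_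
    obtain ⟨n, hn, c, hc, rfl⟩ := (Basics.mem_sup_of_le_normalizer'
      le_normalizer_of_normal).mp (hsup.ge (mem_top g))
    have h1 : c * w * c⁻¹ ∈ centralizer (JAb p T : Set G) := by
      rw [← hc w (subset_normalClosure hw), mul_inv_cancel_right]
      exact fun j hj => hWJ w hw j (hJT hj)
    have h3 := (mem_normalizer_iff.mp (((normalizer_le_normalizer_JAb T).trans
      (normalizer_le_normalizer_centralizer' _)) hn) _).mp h1
    simpa [mul_assoc] using h3
  apply hA'n
  intro v hv
  have h1 : (v : G) ∈ A := mem_of_commute_maxAb hAmax v.2 (hVe.2 _ hv) fun a ha =>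
    hVJ hv a (le_JAb (isMaxAbIn_restrict inf_le_left hAmax hAT) ha)
  obtain ⟨v', hv', hve⟩ := h1
  exact (Subtype.ext hve : v' = v) ▸ hv'

theorem isActionPStable_of_core {G : Type u} [Group G] [Finite G] [hp : Fact p.Prime]
    (P : Sylow p G) (hst : PStableElts p G)
    (hsec : IsPStableOnSection p (pCore p G) ((frattini ↥(pCore p G)).map (pCore p G).subtype))
    (hmax : ∀ U : Subgroup G, (P : Subgroup G) ≤ U → U = P ∨ U = ⊤) : IsActionPStable p G := by
  have first : ∀ (V : Subgroup G) [V.Normal], IsElementaryAbelian p V → IsPStableOn p V := by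
    intro V _ hV a hq
    obtain ⟨u, c, hu, hc, huc, ⟨i, hi⟩, hco⟩ := exists_pPart_mul (p := p) a
    set C := centralizer (V : Set G)
    have hap : a ^ p ∈ C := by
      intro v hv
      have h1 : Commute a ⁅a, v⁆ := by
        rw [commutatorElement_def]; exact (quad_iff V a).mp hq v hv
      have h2 := commutator_pow_left h1 p
      have hmem : ⁅a, v⁆ ∈ V := by
        rw [commutatorElement_def]
        exact mul_mem ((inferInstance : V.Normal).conj_mem v hv a) (inv_mem hv)
      rw [hV.2 _ hmem, commutatorElement_eq_one_iff_commute] at h2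
      exact h2.symm.eq
    have hcC : c ∈ C := by
      obtain ⟨j, rfl⟩ := mem_zpowers_iff.mp hc
      have h1 : (a ^ j) ^ p ∈ C := by
        rw [← zpow_natCast, ← zpow_mul, mul_comm, zpow_mul, zpow_natCast]
        exact zpow_mem hap j
      obtain ⟨m, hm⟩ := exists_pow_eq_self_of_coprime (x := a ^ j) (n := p) hco.symm
      exact hm ▸ pow_mem h1 m
    have h := hst V (ea_isPGroup hV) u ⟨i, orderOf_dvd_iff_pow_eq_one.mp hi⟩
      (le_bot_iff.mp (le_of_le_of_eq (commutator_mono (commutator_mono le_rfl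
        (zpowers_le.mpr hu)) (zpowers_le.mpr hu)) hq))
    rw [← huc, QuotientGroup.mk_mul, (QuotientGroup.eq_one_iff c).mpr hcC, mul_one]
    exact h
  refine ⟨first, hsec, fun S => ?_⟩
  set N := normalizer (thompsonSubgroupOf p (S : Subgroup G) : Set G)
  intro V _ hle a hq
  set C := centralizer (V : Set N)
  haveI : C.Normal := inferInstance
  have hSN : (S : Subgroup G) ≤ N := le_normalizer.trans (normalizer_le_normalizer_thompson _)
  by_cases hNtop : N = ⊤
  · haveI hV' : (V.map N.subtype).Normal := by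
      refine ⟨?_⟩
      rintro _ ⟨v, hv, rfl⟩ g
      exact ⟨⟨g, hNtop ▸ mem_top g⟩ * v * ⟨g, hNtop ▸ mem_top g⟩⁻¹,
        ‹V.Normal›.conj_mem v hv _, rfl⟩
    have hq' : ⁅⁅V.map N.subtype, zpowers (a : G)⁆, zpowers (a : G)⁆ = ⊥ := by
      rw [← Subgroup.coe_subtype, ← MonoidHom.map_zpowers, ← map_commutator, ← map_commutator, hq,
        Subgroup.map_bot]
    have h := first (V.map N.subtype) (ea_mono (ea_map omegaCenterThompson_abExp _) hle) (a : G) hq'
    set L := (pCore p (G ⧸ centralizer ((V.map N.subtype : Subgroup G) : Set G))).comap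
      (QuotientGroup.mk' _)
    have hp1 : IsPGroup p ((L.subgroupOf N).map (QuotientGroup.mk' C)) := by
      rintro ⟨_, x, hx, rfl⟩
      obtain ⟨k, hk⟩ := exists_pow_mem_of_comap_pCore _ (show (x : G) ∈ L from hx)
      refine ⟨k, Subtype.ext ?_⟩
      rw [coe_pow, ← map_pow, coe_one]
      exact (QuotientGroup.eq_one_iff _).mpr fun v hv => Subtype.ext (hk _ ⟨v, hv, rfl⟩)
    haveI : ((L.subgroupOf N).map (QuotientGroup.mk' C)).Normal :=
      Subgroup.Normal.map inferInstance _ (QuotientGroup.mk'_surjective C)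
    exact Basics.le_pCore hp1 ⟨a, h, rfl⟩
  · obtain ⟨g, hg⟩ := MulAction.exists_smul_eq G P S
    have hN : N = (S : Subgroup G) := by
      have hP : (P : Subgroup G) ≤ N.comap (MulAut.conj g).toMonoidHom := by
        intro x hx
        refine hSN ?_
        rw [← hg, Sylow.coe_subgroup_smul]
        exact ⟨x, hx, rfl⟩
      rcases hmax _ hP with h | h
      · refine le_antisymm (fun n hn => ?_) hSN
        rw [← hg, Sylow.coe_subgroup_smul]
        refine ⟨g⁻¹ * n * g, h ▸ ?_, by simp [mul_assoc]⟩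
        simpa [mul_assoc] using hn
      · exact absurd (top_le_iff.mp fun n _ => by
          have := h.ge (mem_top (g⁻¹ * n * g))
          simpa [mul_assoc] using this) hNtop
    have hNp : IsPGroup p N := S.isPGroup'.to_le hN.le
    exact Basics.le_pCore ((hNp.to_quotient C).to_subgroup ⊤) (mem_top _)

/-- The functor `W(S)`. -/
def sncFunctor (p : ℕ) [hp : Fact p.Prime] : PCompFunctor.{u} p where
  W _ _ S := sncOf p S
  le _ _ _ := map_subtype_le _
  map _ _ _ _ _ _ S f _ hf := map_sncOf S f hf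
  ne_bot _ _ _ S hS h := by
    haveI : Nontrivial S := (nontrivial_iff_ne_bot S).mpr h
    rw [sncOf, Ne, map_eq_bot_iff_of_injective _ S.subtype_injective]
    exact snc_ne_bot hS
  normal _ _ _ P hc hst hsec hmax :=
    snc_normal_of_actionPStable (isActionPStable_of_core P hst hsec hmax) hc P

end Cfsg.Agent.Transfer
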