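import Cfsg.Agent.Lib.Transfer.MaxAbelian
import Cfsg.Agent.Lib.Basics.Cores
import Cfsg.Agent.Lib.Basics.Frattini
import Cfsg.Agent.Lib.Coprime23.Omega

/-!
# Glauberman's ZJ theorem
-/

set_option autoImplicit false
set_option linter.style.haveILetI false

namespace Cfsg.Agent.Transfer

open Subgroup Cfsg
open scoped commutatorElement Pointwise

universe u

variable {G : Type u} [Group G] {p : ℕ}

/-- Quadratically acting `p`-elements act through the largest normal `p`-subgroup, on every normal
`p`-subgroup. -/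
def PStableElts (p : ℕ) (G : Type*) [Group G] : Prop :=
  ∀ (V : Subgroup G) [V.Normal], IsPGroup p V → ∀ a : G, (∃ k, a ^ p ^ k = 1) →
    ⁅⁅V, zpowers a⁆, zpowers a⁆ = ⊥ →
      (QuotientGroup.mk a : G ⧸ centralizer (V : Set G)) ∈
        pCore p (G ⧸ centralizer (V : Set G))

theorem pStableElts_of_forall (h : ∀ (P : Subgroup G) [P.Normal], IsPGroup p P → IsPStableOn p P) :
    PStableElts p G := fun V _ hV a _ hq => h V hV a hq

theorem exists_pow_mem_of_comap_pCore [Finite G] [Fact p.Prime] (C : Subgroup G) [C.Normal]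
    {x : G} (hx : x ∈ (pCore p (G ⧸ C)).comap (QuotientGroup.mk' C)) :
    ∃ k, x ^ p ^ k ∈ C := by
  obtain ⟨k, hk⟩ := Basics.pCore_isPGroup (G := G ⧸ C) p ⟨_, hx⟩
  refine ⟨k, (QuotientGroup.eq_one_iff _).mp ?_⟩
  rw [QuotientGroup.mk_pow]
  exact congrArg Subtype.val hk

/-- The Frattini argument in the form used for p-stable actions. -/
theorem sup_normalizer_inf_eq_top [Finite G] [hp : Fact p.Prime] (S : Sylow p G)
    (L C : Subgroup G) [L.Normal] [C.Normal] (h : ∀ x ∈ L, ∃ k, x ^ p ^ k ∈ C) :
    C ⊔ normalizer (((S : Subgroup G) ⊓ L : Subgroup G) : Set G) = ⊤ := by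
  obtain ⟨T, hT⟩ := exists_sylow_eq_subgroupOf S L
  have hmap : (T : Subgroup L).map L.subtype = (S : Subgroup G) ⊓ L := by
    rw [hT, subgroupOf_map_subtype]
  have hsup := Sylow.normalizer_sup_eq_top T
  rw [hmap] at hsup
  have hL : L ≤ C ⊔ normalizer (((S : Subgroup G) ⊓ L : Subgroup G) : Set G) := by
    have h1 : (pResidual p L ⊔ (T : Subgroup L)).map L.subtype = L := by
      rw [pResidual_sup_sylow T, ← MonoidHom.range_eq_map, range_subtype]
    refine le_of_eq_of_le h1.symm ?_
    rw [Subgroup.map_sup, hmap]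
    refine sup_le ?_ (le_sup_of_le_right le_normalizer)
    refine le_sup_of_le_left ?_
    rw [pResidual, MonoidHom.map_closure, closure_le]
    rintro _ ⟨x, hx, rfl⟩
    obtain ⟨k, hk⟩ := h x x.2
    obtain ⟨m, hm⟩ := exists_pow_eq_self_of_coprime (x := (x : G)) (n := p ^ k)
      (by rw [Subgroup.orderOf_coe]; exact (hx.pow_right k).symm)
    show (x : G) ∈ C
    exact hm ▸ pow_mem hk m
  rw [← top_le_iff, ← hsup]
  exact sup_le le_sup_right hL

/-- A `p'`-element centralizing the elements of exponent `e` of a normal `p`-subgroup centralizes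
it. -/
theorem commute_of_commute_exp [Finite G] [hp : Fact p.Prime] (hodd : p ≠ 2) {e : ℕ}
    (he : e = 0 ∨ e = p) (B : Subgroup G) [B.Normal] (hB : IsPGroup p B) {x : G}
    (hx : (orderOf x).Coprime p) (h : ∀ b ∈ B, b ^ e = 1 → Commute x b) :
    ∀ b ∈ B, Commute x b := by
  rcases he with rfl | rfl
  · exact fun b hb => h b hb (pow_zero b)
  intro b hb
  let φ : G →* MulAut B := MulAut.conjNormal
  have hord : (orderOf (φ x)).Coprime e := hx.coprime_dvd_left (orderOf_map_dvd φ x)
  have h1 := Coprime23.fix_of_fix_omega hB hodd (φ x) hord (fun w hw => Subtype.ext (by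
    rw [MulAut.conjNormal_apply, (h w w.2 (by simpa using congrArg Subtype.val hw)).eq,
      mul_inv_cancel_right])) ⟨b, hb⟩
  have h2 := congrArg Subtype.val h1
  rw [MulAut.conjNormal_apply] at h2
  exact mul_inv_eq_iff_eq_mul.mp h2

theorem map_omegaOne {H : Type*} [Group H] (f : G →* H) (hf : Function.Injective f)
    (T : Subgroup G) : (omegaOne p T).map f = omegaOne p (T.map f) := by
  rw [omegaOne, omegaOne, MonoidHom.map_closure]
  congr 1
  ext y
  constructor
  · rintro ⟨x, ⟨hx, hxp⟩, rfl⟩
    exact ⟨⟨x, hx, rfl⟩, by rw [← map_pow, hxp, map_one]⟩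
  · rintro ⟨⟨x, hx, rfl⟩, hxp⟩
    exact ⟨x, ⟨hx, hf (by rw [map_pow, hxp, map_one])⟩, rfl⟩

variable [Finite G] [hp : Fact p.Prime]

/-- The key step of the ZJ theorem. -/
theorem inf_ZJAb_normal (hodd : p ≠ 2) {e : ℕ} (he : e = 0 ∨ e = p) (hst : PStableElts p G)
    (S : Sylow p G) : ∀ B : Subgroup G, B.Normal → IsPGroup p B →
      (B ⊓ ZJAb e (S : Subgroup G)).Normal := by
  intro B
  induction hn : Nat.card B using Nat.strong_induction_on generalizing B with
  | _ n ih =>
    subst hn
    intro hBn hBp
    haveI := hBn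
    set W := ZJAb e (S : Subgroup G) with hW
    have hBS : B ≤ (S : Subgroup G) := (Basics.le_pCore hBp).trans (Basics.pCore_le_sylow p S)
    have hWS : (S : Subgroup G) ≤ normalizer (W : Set G) :=
      le_normalizer.trans (normalizer_le_normalizer_ZJAb _)
    by_cases hcl : normalClosure ((B ⊓ W : Subgroup G) : Set G) ≠ B
    · set B0 := normalClosure ((B ⊓ W : Subgroup G) : Set G)
      have hle : B0 ≤ B := normalClosure_le_normal fun x hx => hx.1
      have h := ih _ (Basics.card_lt_of_lt (lt_of_le_of_ne hle hcl)) B0 rfl normalClosure_normal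
        (hBp.to_le hle)
      have heq : B0 ⊓ W = B ⊓ W := le_antisymm (inf_le_inf_right _ hle)
        (le_inf subset_normalClosure inf_le_right)
      rwa [heq] at h
    rw [not_not] at hcl
    have hgen : ∀ X : Subgroup G, (∀ g : G, ∀ x ∈ B ⊓ W, g * x * g⁻¹ ∈ X) → B ≤ X := by
      intro X hX
      rw [← hcl, normalClosure, closure_le]
      intro y hy
      obtain ⟨x, hx, hc⟩ := Group.mem_conjugatesOfSet_iff.mp hy
      obtain ⟨c, rfl⟩ := isConj_iff.mp hc
      exact hX c x hx
    by_cases hB0 : B = ⊥
    · rw [hB0, bot_inf_eq]; infer_instance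
    have hcent : ∀ M : Subgroup G, M.Normal → M ≤ W → B ≤ centralizer (M : Set G) := by
      intro M hM hMW
      refine hgen _ fun g x hx => ?_
      haveI := hM
      exact (inferInstance : (centralizer (M : Set G)).Normal).conj_mem x
        (fun m hm => (ZJAb_commute (hMW hm) hx.2).eq) g
    -- `B` has class two with derived group in `W`
    have hder : ⁅B, B⁆ ≤ W ∧ ∀ u ∈ B, ∀ z ∈ ⁅B, B⁆, Commute u z := by
      have hlt : ⁅B, B⁆ < B := by
        haveI : Nontrivial B := (nontrivial_iff_ne_bot B).mpr hB0
        haveI : Group.IsNilpotent B := hBp.isNilpotent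
        refine lt_of_le_of_ne (commutator_le_of_le_normalizer le_normalizer) fun heq => ?_
        have h1 : _root_.commutator B < ⊤ := Group.IsSolvable.commutator_lt_top_of_nontrivial B
        apply h1.ne
        apply map_injective B.subtype_injective
        rw [map_subtype_commutator, ← MonoidHom.range_eq_map, range_subtype, heq]
      have hMn := ih _ (Basics.card_lt_of_lt hlt) ⁅B, B⁆ rfl inferInstance (hBp.to_le hlt.le)
      set M := ⁅B, B⁆ ⊓ W with hM
      haveI := hMn
      have hle : ⁅B, B⁆ ≤ M := by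
        rw [commutator_le]
        intro u hu y hy
        have h1 : B ≤ (centralizer ((B.map (QuotientGroup.mk' M) : Subgroup (G ⧸ M)) :
            Set (G ⧸ M))).comap (QuotientGroup.mk' M) := by
          refine hgen _ fun g x hx => ?_
          have hcn : (centralizer ((B.map (QuotientGroup.mk' M) : Subgroup (G ⧸ M)) :
              Set (G ⧸ M))).Normal := by
            haveI : (B.map (QuotientGroup.mk' M)).Normal :=
              Subgroup.Normal.map hBn _ (QuotientGroup.mk'_surjective M)
            infer_instance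
          refine (hcn.comap (QuotientGroup.mk' M)).conj_mem x ?_ g
          rw [mem_comap]
          rintro _ ⟨y, hy, rfl⟩
          refine (commutatorElement_eq_one_iff_commute.mp ?_).eq
          rw [← map_commutatorElement]
          refine (QuotientGroup.eq_one_iff _).mpr ⟨commutator_mem_commutator hy hx.1, ?_⟩
          have h3 := mul_mem ((mem_normalizer_iff.mp (hWS (hBS hy)) x).mp hx.2) (inv_mem hx.2)
          rwa [← commutatorElement_def] at h3
        have h2 : Commute (QuotientGroup.mk' M y) (QuotientGroup.mk' M u) :=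
          h1 hu _ (mem_map_of_mem _ hy)
        refine (QuotientGroup.eq_one_iff _).mp ?_
        show QuotientGroup.mk' M ⁅u, y⁆ = 1
        rw [map_commutatorElement]
        exact commutatorElement_eq_one_iff_commute.mpr h2.symm
      have hc := hcent M hMn inf_le_right
      exact ⟨hle.trans inf_le_right, fun u hu z hz => ((hc hu) z (hle hz)).symm⟩
    have hc2 : ∀ u ∈ B, ∀ v ∈ B, ∀ w ∈ B, Commute ⁅u, v⁆ w := fun u hu v hv w hw =>
      (hder.2 w hw _ (commutator_mem_commutator hu hv)).symm
    -- powers
    have hpow : ∀ u ∈ B, u ^ e ∈ W ∧ ∀ v ∈ B, Commute (u ^ e) v := by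
      rcases he with rfl | rfl
      · intro u _; rw [pow_zero]; exact ⟨one_mem _, fun v _ => Commute.one_left v⟩
      set U := closure {y : G | ∃ x ∈ B, y = x ^ e}
      haveI hUn : U.Normal := by
        refine ⟨fun y hy g => ?_⟩
        induction hy using Subgroup.closure_induction with
        | mem y hy =>
          obtain ⟨x, hx, rfl⟩ := hy
          exact subset_closure ⟨g * x * g⁻¹, hBn.conj_mem x hx g, conj_pow.symm⟩
        | one => simp
        | mul y z _ _ iy iz => simpa [mul_assoc] using mul_mem iy iz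
        | inv y _ iy => simpa [mul_assoc] using inv_mem iy
      have hUΦ : U ≤ (frattini B).map B.subtype := by
        rw [closure_le]
        rintro _ ⟨x, hx, rfl⟩
        exact ⟨_, Basics.pow_mem_frattini hBp ⟨x, hx⟩, by simp⟩
      have hUB : U ≤ B := hUΦ.trans (map_subtype_le _)
      have hUlt : U < B := by
        refine lt_of_le_of_ne hUB fun heq => ?_
        haveI : Nontrivial B := (nontrivial_iff_ne_bot B).mpr hB0
        have h1 : frattini B = ⊤ := by
          rw [eq_top_iff]
          intro x _
          obtain ⟨w, hw, hwe⟩ := hUΦ (heq.ge x.2)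
          exact (Subtype.ext hwe : w = x) ▸ hw
        exact bot_ne_top (frattini_nongenerating (K := (⊥ : Subgroup B)) (by rw [h1, sup_top_eq]))
      have hMn := ih _ (Basics.card_lt_of_lt hUlt) U rfl hUn (hBp.to_le hUB)
      have hMc := hcent (U ⊓ W) hMn inf_le_right
      let X : Subgroup G :=
        { carrier := {u | u ∈ B ∧ u ^ e ∈ U ⊓ W}
          one_mem' := ⟨one_mem _, by rw [one_pow]; exact one_mem _⟩
          mul_mem' := by
            rintro a b ⟨ha, ha'⟩ ⟨hb, hb'⟩
            refine ⟨mul_mem ha hb, ?_⟩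
            have hcp : ⁅b, a⁆ ^ e = 1 := by
              rw [← commutator_pow_left (hc2 b hb a ha b hb).symm e,
                commutatorElement_eq_one_iff_commute]
              exact ((hMc ha) _ hb')
            obtain ⟨m, hm⟩ := dvd_choose_two_of_odd (hp.out.odd_of_ne_two hodd)
            rw [mul_pow_of_commute (hc2 b hb a ha a ha) (hc2 b hb a ha b hb), hm, pow_mul, hcp,
              one_pow, mul_one]
            exact mul_mem ha' hb'
          inv_mem' := by
            rintro a ⟨ha, ha'⟩
            exact ⟨inv_mem ha, by rw [inv_pow]; exact inv_mem ha'⟩ }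
      have hX : B ≤ X := hgen X fun g x hx => ⟨hBn.conj_mem x hx.1 g, by
        rw [conj_pow]
        exact hMn.conj_mem _ ⟨subset_closure ⟨x, hx.1, rfl⟩, pow_mem hx.2 e⟩ g⟩
      intro u hu
      exact ⟨(hX hu).2.2, fun v hv => ((hMc hv) _ (hX hu).2)⟩
    have hce : ∀ u ∈ B, ∀ v ∈ B, ⁅u, v⁆ ^ e = 1 := by
      intro u hu v hv
      rw [← commutator_pow_left (hc2 u hu v hv u hu).symm e, commutatorElement_eq_one_iff_commute]
      exact (hpow u hu).2 v hv
    have hde : ∀ z ∈ ⁅B, B⁆, z ^ e = 1 := by
      intro z hz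
      rw [Subgroup.commutator_def] at hz
      induction hz using Subgroup.closure_induction with
      | mem y hy => obtain ⟨u, hu, v, hv, rfl⟩ := hy; exact hce u hu v hv
      | one => exact one_pow _
      | mul y y' hy hy' ih ih' =>
        have h1 : Commute y y' := hder.2 y ((commutator_le_of_le_normalizer le_normalizer)
          (Subgroup.commutator_def B B ▸ hy)) y' (Subgroup.commutator_def B B ▸ hy')
        rw [h1.mul_pow, ih, ih', one_mul]
      | inv y _ ih => rw [inv_pow, ih, inv_one]
    let B1 : Subgroup G :=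
      { carrier := {u | u ∈ B ∧ u ^ e = 1}
        one_mem' := ⟨one_mem _, one_pow _⟩
        mul_mem' := by
          rintro a b ⟨ha, ha'⟩ ⟨hb, hb'⟩
          refine ⟨mul_mem ha hb, ?_⟩
          rw [mul_pow_of_commute (hc2 b hb a ha a ha) (hc2 b hb a ha b hb), ha', hb', one_mul,
            one_mul]
          rcases he with rfl | rfl
          · simp
          · obtain ⟨m, hm⟩ := dvd_choose_two_of_odd (hp.out.odd_of_ne_two hodd)
            rw [hm, pow_mul, hce b hb a ha, one_pow]
        inv_mem' := by
          rintro a ⟨ha, ha'⟩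
          exact ⟨inv_mem ha, by rw [inv_pow, ha', inv_one]⟩ }
    have hB1B : B1 ≤ B := fun u hu => hu.1
    haveI hB1n : B1.Normal := ⟨fun u hu g => ⟨hBn.conj_mem u hu.1 g, by
      rw [conj_pow, hu.2, mul_one, mul_inv_cancel]⟩⟩
    set C1 := centralizer (B1 : Set G) with hC1
    have hC1N : C1 ≤ normalizer ((B ⊓ W : Subgroup G) : Set G) := by
      obtain ⟨T, hT⟩ := exists_sylow_eq_subgroupOf S C1
      have h1 : (pResidual p C1 ⊔ (T : Subgroup C1)).map C1.subtype = C1 := by
        rw [pResidual_sup_sylow T, ← MonoidHom.range_eq_map, range_subtype]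
      rw [← h1, Subgroup.map_sup, hT, subgroupOf_map_subtype]
      refine sup_le ?_ ?_
      · rw [pResidual, MonoidHom.map_closure, closure_le]
        rintro _ ⟨x, hx, rfl⟩
        have hxo : (orderOf (x : G)).Coprime p := by rwa [Subgroup.orderOf_coe]
        have hc := commute_of_commute_exp hodd he B hBp hxo
          fun b hb hbe => (x.2 b ⟨hb, hbe⟩).symm
        show (x : G) ∈ normalizer ((B ⊓ W : Subgroup G) : Set G)
        rw [mem_normalizer_iff_map_conj_eq]
        refine eq_of_le_of_card_ge ?_ (card_map_of_injective (MulAut.conj (x : G)).injective).ge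
        rintro _ ⟨w, hw, rfl⟩
        show (x : G) * w * (x : G)⁻¹ ∈ B ⊓ W
        rw [(hc w hw.1).eq, mul_inv_cancel_right]
        exact hw
      · exact (inf_le_left.trans (le_inf (le_top.trans_eq (normalizer_eq_top (H := B)).symm) hWS)).trans
          inf_normalizer_le_normalizer_inf
    by_cases hall : ∀ U, IsMaxAbIn e (S : Subgroup G) U → B1 ≤ U
    · refine normalizer_eq_top_iff.mp ?_
      have hJ : JAb e (S : Subgroup G) ≤ C1 := sSup_le fun U hU u hu b hb =>
        (AbExp.commute hU.2.1 (hall U hU hb) hu).eq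
      rw [← top_le_iff, ← sup_normalizer_inf_eq_top S C1 C1 fun x hx => ⟨0, by simpa using hx⟩]
      refine sup_le hC1N ?_
      set T := (S : Subgroup G) ⊓ C1
      have hJT : JAb e T = JAb e (S : Subgroup G) :=
        JAb_eq_of_le inf_le_left (le_inf (JAb_le _) hJ)
      have hWT : ZJAb e T = W := by rw [hW, ZJAb, ZJAb, hJT]
      exact (le_inf (le_top.trans_eq (normalizer_eq_top (H := B)).symm)
        ((normalizer_le_normalizer_ZJAb T).trans_eq (by rw [hWT]))).trans
        inf_normalizer_le_normalizer_inf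
    · exfalso
      obtain ⟨U, hU, hUn⟩ := by simpa using hall
      have hBS1 : B1 ≤ (S : Subgroup G) := hB1B.trans hBS
      set s := (S : Subgroup G).subtype
      have hsS : (⊤ : Subgroup (S : Subgroup G)).map s = (S : Subgroup G) := by
        rw [← MonoidHom.range_eq_map, range_subtype]
      have hUt : IsMaxAbIn e (⊤ : Subgroup (S : Subgroup G)) (U.subgroupOf S) := by
        refine isMaxAbIn_of_map le_top s (subtype_injective _).injOn ?_
        rw [hsS, map_subgroupOf_eq_of_le hU.1]
        exact hU
      have hB1U : ⁅B1.subgroupOf (S : Subgroup G), B1.subgroupOf (S : Subgroup G)⁆ ≤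
          U.subgroupOf S := by
        rw [commutator_le]
        intro u hu v hv
        rw [mem_subgroupOf]
        have hz : ⁅(u : G), (v : G)⁆ ∈ ⁅B, B⁆ := commutator_mem_commutator hu.1 hv.1
        have := mem_of_commute_maxAb hU (hBS ((commutator_le_of_le_normalizer le_normalizer) hz))
          (hde _ hz) fun a ha => (hder.1 hz).2 a (le_JAb hU ha)
        simpa [commutatorElement_def] using this
      obtain ⟨A', hA', -, hA'n, hA'N⟩ := exists_normalized_maxAb S.isPGroup' (e := e) ⊤
        (B1.subgroupOf (S : Subgroup G)) (fun h => absurd h hodd)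
        (Or.inl (by
          rcases he with rfl | rfl
          · exact Or.inl rfl
          · exact Or.inr (hp.out.odd_of_ne_two hodd)))
        ⟨_, hUt, hB1U, fun h => hUn fun b hb => h (show (⟨b, hBS1 hb⟩ : (S : Subgroup G)) ∈
          B1.subgroupOf (S : Subgroup G) from hb)⟩
      set A := A'.map s with hA
      have hAmax : IsMaxAbIn e (S : Subgroup G) A := by
        have := isMaxAbIn_map hA' s (subtype_injective _).injOn
        rwa [hsS] at this
      have hB1A : ∀ b ∈ B1, ∀ a ∈ A, b * a * b⁻¹ ∈ A := by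
        rintro b hb _ ⟨a, ha, rfl⟩
        exact ⟨_, (mem_normalizer_iff.mp (hA'N (show (⟨b, hBS1 hb⟩ : (S : Subgroup G)) ∈
          B1.subgroupOf (S : Subgroup G) from hb)) a).mp ha, rfl⟩
      set L := (pCore p (G ⧸ C1)).comap (QuotientGroup.mk' C1) with hL
      have hAL : A ≤ L := by
        intro a ha
        obtain ⟨k, hk⟩ := S.isPGroup' ⟨a, hAmax.1 ha⟩
        refine hst B1 (hBp.to_le hB1B) a ⟨k, congrArg Subtype.val hk⟩ ?_
        rw [commutator_eq_bot_iff_le_centralizer, commutator_le]
        intro b hb s hs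
        intro z hz
        have hsA : s ∈ A := (zpowers_le.mpr ha) hs
        have hzA : z ∈ A := (zpowers_le.mpr ha) hz
        have hk : ⁅b, s⁆ ∈ A := by
          rw [commutatorElement_def]
          exact mul_mem (hB1A b hb s hsA) (inv_mem hsA)
        exact (AbExp.commute hAmax.2.1 hzA hk).eq
      set T := (S : Subgroup G) ⊓ L
      have hAT : A ≤ T := le_inf hAmax.1 hAL
      have hJT : JAb e T ≤ JAb e (S : Subgroup G) := JAb_mono inf_le_left hAmax hAT
      have hsup := sup_normalizer_inf_eq_top S L C1 fun x hx => exists_pow_mem_of_comap_pCore C1 hx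
      have hBc : B ≤ centralizer (JAb e T : Set G) := by
        refine hgen _ fun g x hx => ?_
        obtain ⟨n, hn, c, hc, rfl⟩ := (Basics.mem_sup_of_le_normalizer'
          le_normalizer_of_normal).mp (hsup.ge (mem_top g))
        have h1 : c * x * c⁻¹ ∈ centralizer (JAb e T : Set G) := by
          have h2 := (mem_normalizer_iff.mp (hC1N hc) x).mp hx
          exact centralizer_le hJT h2.2.2
        have h3 := (mem_normalizer_iff.mp (((normalizer_le_normalizer_JAb T).trans
          (normalizer_le_normalizer_centralizer' _)) hn) _).mp h1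
        simpa [mul_assoc] using h3
      apply hA'n
      intro b hb
      have h1 : (b : G) ∈ A := mem_of_commute_maxAb hAmax b.2 hb.2 fun a ha =>
        hBc hb.1 a (le_JAb (isMaxAbIn_restrict inf_le_left hAmax hAT) ha)
      obtain ⟨b', hb', hbe⟩ := h1
      exact (Subtype.ext hbe : b' = b) ▸ hb'

/-- Glauberman's ZJ theorem: normality. -/
theorem ZJAb_normal (hodd : p ≠ 2) {e : ℕ} (he : e = 0 ∨ e = p)
    (hc : centralizer (pCore p G : Set G) ≤ pCore p G) (hst : PStableElts p G) (S : Sylow p G) :
    (ZJAb e (S : Subgroup G)).Normal := by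
  set X := pCore p G
  set W := ZJAb e (S : Subgroup G) with hW
  have hXS : X ≤ (S : Subgroup G) := Basics.pCore_le_sylow p S
  have hWX : W ≤ X := by
    intro a ha
    obtain ⟨k, hk⟩ := S.isPGroup' ⟨a, ZJAb_le _ ha⟩
    have hq : ⁅⁅X, zpowers a⁆, zpowers a⁆ = ⊥ := by
      rw [commutator_eq_bot_iff_le_centralizer, commutator_le]
      intro x hx s hs z hz
      have hsW : s ∈ W := (zpowers_le.mpr ha) hs
      have hk : ⁅x, s⁆ ∈ W := by
        rw [commutatorElement_def]
        exact mul_mem ((mem_normalizer_iff.mp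
          (normalizer_le_normalizer_ZJAb _ (le_normalizer (hXS hx))) s).mp hsW) (inv_mem hsW)
      exact (ZJAb_commute ((zpowers_le.mpr ha) hz) hk).eq
    have h := hst X (Basics.pCore_isPGroup p) a ⟨k, congrArg Subtype.val hk⟩ hq
    refine Basics.le_pCore ?_ (show a ∈ (pCore p (G ⧸ centralizer (X : Set G))).comap
      (QuotientGroup.mk' _) from h)
    exact (Basics.pCore_isPGroup p).comap_of_ker_isPGroup _
      (by rw [QuotientGroup.ker_mk']; exact (Basics.pCore_isPGroup p).to_le hc)
  have h := inf_ZJAb_normal hodd he hst S X inferInstance (Basics.pCore_isPGroup p)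
  rwa [inf_eq_right.mpr hWX] at h

/-- Glauberman's ZJ theorem. -/
theorem ZJAb_characteristic (hodd : p ≠ 2) {e : ℕ} (he : e = 0 ∨ e = p)
    (hc : centralizer (pCore p G : Set G) ≤ pCore p G) (hst : PStableElts p G) (S : Sylow p G) :
    (ZJAb e (S : Subgroup G)).Characteristic := by
  have hn := ZJAb_normal hodd he hc hst S
  refine characteristic_iff_map_eq.mpr fun φ => ?_
  rw [map_ZJAb _ _ φ.injective.injOn]
  let S' : Sylow p G := S.mapSurjective (f := φ.toMonoidHom) φ.surjective
  obtain ⟨g, hg⟩ := MulAction.exists_smul_eq G S S'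
  have h1 : ((S : Subgroup G).map φ.toMonoidHom) =
      (S : Subgroup G).map (MulAut.conj g).toMonoidHom := by
    rw [← Sylow.coe_mapSurjective (f := φ.toMonoidHom) φ.surjective S]
    show (S' : Subgroup G) = _
    rw [← hg, Sylow.coe_subgroup_smul]
    rfl
  rw [h1, ← map_ZJAb _ _ (MulAut.conj g).injective.injOn]
  refine mem_normalizer_iff_map_conj_eq.mp ?_
  rw [normalizer_eq_top_iff.mpr hn]
  exact mem_top g

end Cfsg.Agent.Transfer
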