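import Mathlib
import Cfsg.Prelude.Def_Transfer
import Cfsg.Prelude.Def_PLocal
import Cfsg.Prelude.Def_Local
import Cfsg.Agent.Lib.Transfer.NatPair
import Cfsg.Agent.Lib.Transfer.Quadratic
import Cfsg.Agent.Lib.Transfer.ZJ
import Cfsg.Agent.Lib.Transfer.StableClosure
import Cfsg.Agent.Lib.Invol.BaerSuzuki
import Cfsg.Agent.Lib.Basics.Cores

/-!
# `p`-stability of groups not involving `SL(2,p)`, respectively `Qd(p)`

A quadratically acting element lying outside the largest normal `p`-subgroup modulo the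
centraliser yields a natural pair in a quotient, hence a section `SL(2,p)` and a section `Qd(p)`.
-/

set_option autoImplicit false

namespace Cfsg.Agent.Transfer

open Subgroup
open scoped MatrixGroups IsMulCommutative commutatorElement

variable {G : Type*} [Group G] {p : ℕ} [hp : Fact p.Prime]

/-- `x` lies in a subgroup normalised by `J` that is a `p`-group modulo `C`. -/
def OpMod (p : ℕ) (J C : Subgroup G) (x : G) : Prop :=
  ∃ N : Subgroup G, N ≤ J ∧ J ≤ normalizer (N : Set G) ∧ x ∈ N ∧ ∀ n ∈ N, ∃ k, n ^ p ^ k ∈ C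

theorem mk_mem_pCore_of_opMod [Finite G] {C : Subgroup G} [C.Normal] {x : G}
    (h : OpMod p (⊤ : Subgroup G) C x) : (QuotientGroup.mk x : G ⧸ C) ∈ pCore p (G ⧸ C) := by
  obtain ⟨N, -, hN, hx, hpow⟩ := h
  haveI : N.Normal := normalizer_eq_top_iff.mp (top_le_iff.mp hN)
  haveI : (N.map (QuotientGroup.mk' C)).Normal :=
    Subgroup.Normal.map inferInstance _ (QuotientGroup.mk'_surjective C)
  refine Basics.le_pCore (N := N.map (QuotientGroup.mk' C)) ?_ ⟨x, hx, rfl⟩
  rintro ⟨_, n, hn, rfl⟩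
  obtain ⟨k, hk⟩ := hpow n hn
  exact ⟨k, Subtype.ext (by rw [coe_pow, coe_one, ← map_pow]; exact (QuotientGroup.eq_one_iff _).mpr hk)⟩

theorem opMod_of_mk_mem_pCore [Finite G] {C : Subgroup G} [C.Normal] {x : G}
    (h : (QuotientGroup.mk x : G ⧸ C) ∈ pCore p (G ⧸ C)) : OpMod p (⊤ : Subgroup G) C x := by
  refine ⟨(pCore p (G ⧸ C)).comap (QuotientGroup.mk' C), le_top, ?_, h,
    fun n hn => exists_pow_mem_of_comap_pCore C hn⟩
  rw [normalizer_eq_top_iff.mpr inferInstance]

/-- **The basic alternative.** -/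
theorem exists_natPair_of_ea [Finite G] (hp2 : p ≠ 2) {W : Subgroup G}
    (hW : IsElementaryAbelian p W) {J : Subgroup G} (hJ : J ≤ normalizer (W : Set G)) {x : G}
    (hxJ : x ∈ J) (hq : ∀ w ∈ W, Commute x (x * w * x⁻¹ * w⁻¹))
    (hn : ¬ OpMod p J (centralizer (W : Set G)) x) :
    ∃ u ∈ J, ∃ v ∈ J, ∃ e₁ ∈ W, ∃ e₂ ∈ W, NatPair p u v e₁ e₂ := by
  classical
  haveI := hW.1
  have hsm : ∀ a : Additive W, p • a = 0 := fun a =>
    Additive.toMul.injective (Subtype.ext (hW.2 _ a.toMul.2))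
  haveI : Module (ZMod p) (Additive W) := AddCommGroup.zmodModule hsm
  let cj : J → (Additive W →+ Additive W) := fun g => AddMonoidHom.mk'
    (fun a => Additive.ofMul (⟨(g : G) * (Additive.toMul a : W).1 * (g : G)⁻¹,
      (mem_normalizer_iff.mp (hJ g.2) _).mp (Additive.toMul a : W).2⟩ : W))
    (fun a b => Additive.toMul.injective (Subtype.ext (by
      show (g : G) * ((Additive.toMul a : W).1 * (Additive.toMul b : W).1) * (g : G)⁻¹ =
        (g : G) * (Additive.toMul a : W).1 * (g : G)⁻¹ * ((g : G) * (Additive.toMul b : W).1 * (g : G)⁻¹)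
      group)))
  have hcj : ∀ (g : J) (a : Additive W), ((Additive.toMul (cj g a) : W) : G) =
      (g : G) * (Additive.toMul a : W).1 * (g : G)⁻¹ := fun _ _ => rfl
  let ρ₀ : J → Module.End (ZMod p) (Additive W) := fun g =>
    { toFun := cj g
      map_add' := map_add (cj g)
      map_smul' := fun c a => ZMod.map_smul (cj g) c a }
  have hone : ρ₀ 1 = 1 := by
    apply LinearMap.ext
    intro a
    apply Additive.toMul.injective
    apply Subtype.ext
    show ((Additive.toMul (cj 1 a) : W) : G) = (Additive.toMul a : W).1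
    rw [hcj, OneMemClass.coe_one, inv_one, one_mul, mul_one]
  have hmul : ∀ g h : J, ρ₀ (g * h) = ρ₀ g * ρ₀ h := by
    intro g h
    apply LinearMap.ext
    intro a
    apply Additive.toMul.injective
    apply Subtype.ext
    show ((Additive.toMul (cj (g * h) a) : W) : G) =
      ((Additive.toMul (cj g (cj h a)) : W) : G)
    rw [hcj, hcj, hcj, Subgroup.coe_mul]
    group
  let ρ : J →* Module.End (ZMod p) (Additive W) := ⟨⟨ρ₀, hone⟩, hmul⟩
  have hρ : ∀ (g : J) (w : W), ((Additive.toMul (ρ g (Additive.ofMul w)) : W) : G) =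
      (g : G) * w * (g : G)⁻¹ := fun g w => rfl
  have hker : ∀ g : J, g ∈ ρ.ker → (g : G) ∈ centralizer (W : Set G) := by
    intro g hg w hw
    have h1 := hρ g ⟨w, hw⟩
    rw [MonoidHom.mem_ker.mp hg] at h1
    exact eq_mul_inv_iff_mul_eq.mp h1
  set x' : J := ⟨x, hxJ⟩ with hx'
  have hxq : (ρ x' - 1) * (ρ x' - 1) = 0 := by
    apply LinearMap.ext
    intro a
    have h1 := (hq _ (Additive.toMul a).2).eq
    apply Additive.toMul.injective
    apply Subtype.ext
    show x * (x * (Additive.toMul a : W).1 * x⁻¹ / (Additive.toMul a : W).1) * x⁻¹ /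
      (x * (Additive.toMul a : W).1 * x⁻¹ / (Additive.toMul a : W).1) = 1
    simp only [div_eq_mul_inv]
    rw [h1]; group
  by_cases hBS : ∀ g : J ⧸ ρ.ker, IsPGroup p
      ↥(closure ({QuotientGroup.mk' ρ.ker x', g * QuotientGroup.mk' ρ.ker x' * g⁻¹} : Set (J ⧸ ρ.ker)))
  · exfalso
    obtain ⟨N, hN, hNp, hxN⟩ := Invol.baerSuzuki_element hBS
    refine hn ⟨(N.comap (QuotientGroup.mk' ρ.ker)).map J.subtype, map_subtype_le _, ?_,
      ⟨x', hxN, rfl⟩, ?_⟩
    · intro j hj
      rw [mem_normalizer_iff]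
      intro n
      constructor
      · rintro ⟨n', hn', rfl⟩
        refine ⟨⟨j, hj⟩ * n' * ⟨j, hj⟩⁻¹, ?_, rfl⟩
        exact (inferInstance : (N.comap (QuotientGroup.mk' ρ.ker)).Normal).conj_mem n' hn' _
      · rintro ⟨n', hn', he⟩
        refine ⟨⟨j, hj⟩⁻¹ * n' * ⟨j, hj⟩, ?_, ?_⟩
        · have := (inferInstance : (N.comap (QuotientGroup.mk' ρ.ker)).Normal).conj_mem n' hn'
            ⟨j, hj⟩⁻¹
          simpa using this
        · show j⁻¹ * (n' : G) * j = n
          rw [show (n' : G) = j * n * j⁻¹ from he]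
          group
    · rintro _ ⟨n, hn', rfl⟩
      obtain ⟨k, hk⟩ := hNp ⟨_, hn'⟩
      refine ⟨k, ?_⟩
      have h1 : QuotientGroup.mk' ρ.ker (n ^ p ^ k) = 1 := by
        rw [map_pow]
        exact congrArg Subtype.val hk
      have h2 := hker (n ^ p ^ k) ((QuotientGroup.eq_one_iff _).mp h1)
      simpa using h2
  · push_neg at hBS
    obtain ⟨g, hg⟩ := hBS
    obtain ⟨g, rfl⟩ := QuotientGroup.mk'_surjective ρ.ker g
    rw [← map_inv, ← map_mul, ← map_mul, ← Set.image_pair, ← MonoidHom.map_closure] at hg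
    simp only [IsPGroup, not_forall, not_exists] at hg
    obtain ⟨⟨_, z, hz, rfl⟩, hzk⟩ := hg
    have hyq : (ρ (g * x' * g⁻¹) - 1) * (ρ (g * x' * g⁻¹) - 1) = 0 := by
      have e : ρ (g * x' * g⁻¹) - 1 = ρ g * (ρ x' - 1) * ρ g⁻¹ := by
        rw [map_mul, map_mul, mul_sub, sub_mul, mul_one, ← map_mul ρ g g⁻¹, mul_inv_cancel, map_one]
      rw [e]
      calc ρ g * (ρ x' - 1) * ρ g⁻¹ * (ρ g * (ρ x' - 1) * ρ g⁻¹)
          = ρ g * (ρ x' - 1) * (ρ g⁻¹ * ρ g) * (ρ x' - 1) * ρ g⁻¹ := by simp only [mul_assoc]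
        _ = 0 := by rw [← map_mul, inv_mul_cancel, map_one, mul_one, mul_assoc (ρ g), hxq,
                      mul_zero, zero_mul]
    obtain ⟨u, -, v, -, e₁, e₂, he, hu1, hu2, hv1, hv2⟩ :=
      exists_natural_pair hp2 ρ hxq hyq hz (fun k hk => hzk k (Subtype.ext (by
        rw [coe_pow, coe_one, ← map_pow]
        exact (QuotientGroup.eq_one_iff _).mpr (MonoidHom.mem_ker.mpr (by rw [map_pow]; exact hk)))))
    refine ⟨u, u.2, v, v.2, (Additive.toMul e₁ : W), (Additive.toMul e₁ : W).2,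
      (Additive.toMul e₂ : W), (Additive.toMul e₂ : W).2, ?_⟩
    exact
      { pow_one := hW.2 _ (Additive.toMul e₁ : W).2
        pow_two := hW.2 _ (Additive.toMul e₂ : W).2
        comm := congrArg Subtype.val (mul_comm' (Additive.toMul e₁ : W) (Additive.toMul e₂))
        ne := fun h1 => he (Additive.toMul.injective (Subtype.ext h1))
        u_one := (hρ u _).symm.trans (congrArg (fun a => ((Additive.toMul a : W) : G)) hu1)
        u_two := (hρ u _).symm.trans (congrArg (fun a => ((Additive.toMul a : W) : G)) hu2)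
        v_one := (hρ v _).symm.trans (congrArg (fun a => ((Additive.toMul a : W) : G)) hv1)
        v_two := (hρ v _).symm.trans (congrArg (fun a => ((Additive.toMul a : W) : G)) hv2) }

/-- Some quotient of `G` contains a natural pair. -/
def HasNatPair (p : ℕ) (G : Type*) [Group G] : Prop :=
  ∃ (R : Subgroup G) (_ : R.Normal) (u v e₁ e₂ : G ⧸ R), NatPair p u v e₁ e₂

omit hp in
theorem HasNatPair.of_quotient (Z : Subgroup G) [Z.Normal] (h : HasNatPair p (G ⧸ Z)) :
    HasNatPair p G := by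
  obtain ⟨R, hR, u, v, e₁, e₂, h⟩ := h
  set R' := R.comap (QuotientGroup.mk' Z) with hR'
  have hZ : Z ≤ R' := fun z hz => by
    rw [hR', mem_comap, show QuotientGroup.mk' Z z = 1 from (QuotientGroup.eq_one_iff z).mpr hz]
    exact one_mem R
  have hmap : R'.map (QuotientGroup.mk' Z) = R :=
    map_comap_eq_self_of_surjective (QuotientGroup.mk'_surjective Z) R
  let e : G ⧸ R' ≃* (G ⧸ Z) ⧸ R :=
    (QuotientGroup.quotientQuotientEquivQuotient Z R' hZ).symm.trans
      (QuotientGroup.quotientMulEquivOfEq hmap)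
  exact ⟨R', inferInstance, _, _, _, _, h.map e.symm.toMonoidHom
    (fun h1 => h.ne (e.symm.injective (h1.trans (map_one _).symm)))⟩

theorem HasNatPair.of_pair {u v e₁ e₂ : G} (h : NatPair p u v e₁ e₂) : HasNatPair p G :=
  ⟨⊥, inferInstance, _, _, _, _, h.map (QuotientGroup.mk' (⊥ : Subgroup G))
    (fun h1 => h.ne (Subgroup.mem_bot.mp ((QuotientGroup.eq_one_iff e₁).mp h1)))⟩

/-- **`p`-stability alternative** for an arbitrary normal `p`-subgroup. -/
theorem opMod_or_hasNatPair.{u} {G : Type u} [Group G] [Finite G] (hp2 : p ≠ 2) (P : Subgroup G)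
    [hPn : P.Normal] (hP : IsPGroup p P) {x : G}
    (hq : ∀ v ∈ P, Commute x (x * v * x⁻¹ * v⁻¹)) :
    OpMod p ⊤ (centralizer (P : Set G)) x ∨ HasNatPair p G := by
  suffices key : ∀ (n : ℕ) (G : Type u) [Group G] [Finite G] (P : Subgroup G), P.Normal →
      IsPGroup p P → Nat.card P ≤ n → ∀ x : G, (∀ v ∈ P, Commute x (x * v * x⁻¹ * v⁻¹)) →
      OpMod p ⊤ (centralizer (P : Set G)) x ∨ HasNatPair p G from
    key _ G P hPn hP le_rfl x hq
  intro n
  induction n with
  | zero => intro G _ _ P _ _ hc; exact absurd hc (Nat.not_le.mpr Nat.card_pos)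
  | succ n ih =>
  intro G _ _ P hPn hP hc x hq
  by_cases hPbot : P = ⊥
  · subst hPbot
    exact Or.inl ⟨⊤, le_rfl, by rw [normalizer_eq_top_iff.mpr inferInstance], mem_top x,
      fun m _ => ⟨0, fun z hz => by rw [mem_bot.mp hz, one_mul, mul_one]⟩⟩
  let Z : Subgroup G :=
    { carrier := {z | z ∈ P ∧ z ^ p = 1 ∧ ∀ v ∈ P, v * z = z * v}
      one_mem' := ⟨one_mem P, one_pow p, fun v _ => by rw [mul_one, one_mul]⟩
      mul_mem' := fun {a b} ha hb => ⟨mul_mem ha.1 hb.1, by
        rw [(show Commute a b from hb.2.2 a ha.1).mul_pow, ha.2.1, hb.2.1, one_mul],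
        fun v hv => by rw [← mul_assoc, ha.2.2 v hv, mul_assoc, hb.2.2 v hv, ← mul_assoc]⟩
      inv_mem' := fun {a} ha => ⟨inv_mem ha.1, by rw [inv_pow, ha.2.1, inv_one],
        fun v hv => (show Commute v a from ha.2.2 v hv).inv_right.eq⟩ }
  have hZP : Z ≤ P := fun z hz => hz.1
  haveI hZn : Z.Normal := ⟨fun z hz g => ⟨hPn.conj_mem z hz.1 g, by
    rw [conj_pow, hz.2.1, mul_one, mul_inv_cancel], fun v hv => by
    have h1 := hz.2.2 (g⁻¹ * v * g) (by simpa using hPn.conj_mem v hv g⁻¹)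
    calc v * (g * z * g⁻¹) = g * (g⁻¹ * v * g * z) * g⁻¹ := by group
      _ = g * (z * (g⁻¹ * v * g)) * g⁻¹ := by rw [h1]
      _ = _ := by group⟩⟩
  have hZea : IsElementaryAbelian p Z :=
    ⟨⟨⟨fun a b => Subtype.ext (b.2.2.2 a a.2.1)⟩⟩, fun a ha => ha.2.1⟩
  have hZne : Z ≠ ⊥ := by
    haveI : Nontrivial P := (nontrivial_iff_ne_bot P).mpr hPbot
    haveI := hP.center_nontrivial
    obtain ⟨c, hc1⟩ := exists_prime_orderOf_dvd_card' (G := center P) p (by
      obtain ⟨j, hj⟩ := IsPGroup.iff_card.mp (hP.to_subgroup (center P))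
      rw [hj]
      refine dvd_pow_self p fun e => ?_
      rw [e, pow_zero] at hj
      exact absurd hj (Finite.one_lt_card).ne')
    intro hbot
    have hmem : ((c : P) : G) ∈ Z := ⟨(c : P).2, by
      rw [← Subgroup.coe_pow, ← Subgroup.coe_pow, ← hc1, pow_orderOf_eq_one]; rfl,
      fun v hv => congrArg Subtype.val (mem_center_iff.mp c.2 ⟨v, hv⟩)⟩
    rw [hbot, mem_bot] at hmem
    have : c = 1 := Subtype.ext (Subtype.ext hmem)
    rw [this, orderOf_one] at hc1
    exact hp.out.one_lt.ne hc1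
  by_cases h1 : OpMod p (⊤ : Subgroup G) (centralizer (Z : Set G)) x
  swap
  · obtain ⟨u, -, v, -, e₁, -, e₂, -, hpair⟩ := exists_natPair_of_ea hp2 hZea
      (by rw [normalizer_eq_top_iff.mpr hZn]) (mem_top x) (fun w hw => hq w (hZP hw)) h1
    exact Or.inr (HasNatPair.of_pair hpair)
  have hlt : Nat.card (P.map (QuotientGroup.mk' Z)) ≤ n := by
    have h2 := Subgroup.card_mul_index (Z.subgroupOf P)
    have h3 : Nat.card (P.map (QuotientGroup.mk' Z)) = (Z.subgroupOf P).index := by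
      rw [show P.map (QuotientGroup.mk' Z) = ((QuotientGroup.mk' Z).comp P.subtype).range by
          rw [MonoidHom.range_comp, range_subtype], ← Subgroup.index_ker, ← MonoidHom.comap_ker,
        QuotientGroup.ker_mk']
      rfl
    have h4 : 2 ≤ Nat.card (Z.subgroupOf P) := by
      rw [Nat.card_congr (subgroupOfEquivOfLe hZP).toEquiv]
      haveI : Nontrivial Z := (nontrivial_iff_ne_bot Z).mpr hZne
      exact Finite.one_lt_card
    rw [h3]
    have : 2 * (Z.subgroupOf P).index ≤ Nat.card P := h2 ▸ Nat.mul_le_mul_right _ h4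
    omega
  haveI : (P.map (QuotientGroup.mk' Z)).Normal := hPn.map _ (QuotientGroup.mk'_surjective Z)
  rcases ih (G ⧸ Z) (P.map (QuotientGroup.mk' Z)) inferInstance (hP.map _) hlt
      (QuotientGroup.mk' Z x) (by
        rintro _ ⟨v, hv, rfl⟩
        simpa only [map_mul, map_inv] using (hq v hv).map (QuotientGroup.mk' Z)) with h2 | h2
  swap
  · exact Or.inr (h2.of_quotient Z)
  obtain ⟨N₁, -, hN₁, hx₁, hp₁⟩ := h1
  obtain ⟨N₂, -, hN₂, hx₂, hp₂⟩ := h2
  haveI : N₁.Normal := normalizer_eq_top_iff.mp (top_le_iff.mp hN₁)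
  haveI : N₂.Normal := normalizer_eq_top_iff.mp (top_le_iff.mp hN₂)
  refine Or.inl ⟨N₁ ⊓ N₂.comap (QuotientGroup.mk' Z), le_top,
    by rw [normalizer_eq_top_iff.mpr inferInstance], ⟨hx₁, hx₂⟩, fun m hm => ?_⟩
  obtain ⟨k, hk⟩ := hp₁ m hm.1
  obtain ⟨l, hl⟩ := hp₂ (QuotientGroup.mk' Z m) hm.2
  refine ⟨max k l + 1, ?_⟩
  set m' := m ^ p ^ max k l with hm'
  have hmk : m' ∈ centralizer (Z : Set G) := by
    rw [hm', ← Nat.add_sub_cancel' (le_max_left k l), pow_add, pow_mul]
    exact pow_mem hk _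
  have hml : QuotientGroup.mk' Z m' ∈
      centralizer ((P.map (QuotientGroup.mk' Z) : Subgroup (G ⧸ Z)) : Set (G ⧸ Z)) := by
    rw [map_pow, ← Nat.add_sub_cancel' (le_max_right k l), pow_add, pow_mul]
    exact pow_mem hl _
  rw [pow_succ, pow_mul, ← hm']
  intro v hv
  have hzmem : m' * v * m'⁻¹ * v⁻¹ ∈ Z := by
    rw [← QuotientGroup.eq_one_iff]
    have h5 := hml (QuotientGroup.mk' Z v) ⟨v, hv, rfl⟩
    show QuotientGroup.mk' Z (m' * v * m'⁻¹ * v⁻¹) = 1
    rw [map_mul, map_mul, map_mul, map_inv, map_inv, ← h5]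
    group
  have h6 : Commute m' ⁅m', v⁆ := (hmk _ (by rw [commutatorElement_def]; exact hzmem)).symm
  have h7 := commutator_pow_left h6 p
  rw [commutatorElement_def m' v, hzmem.2.1] at h7
  exact (commutatorElement_eq_one_iff_commute.mp h7).symm.eq

/-- A section of a quotient is a section of the group. -/
theorem exists_section_of_quotient {R : Subgroup G} [R.Normal] {H : Type*} [Group H]
    (h : ∃ (K L : Subgroup (G ⧸ R)) (_ : (L.subgroupOf K).Normal),
      Nonempty ((K ⧸ L.subgroupOf K) ≃* H)) :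
    ∃ (K L : Subgroup G) (_ : (L.subgroupOf K).Normal),
      Nonempty ((K ⧸ L.subgroupOf K) ≃* H) := by
  obtain ⟨K, L, hL, ⟨e⟩⟩ := h
  refine ⟨K.comap (QuotientGroup.mk' R), exists_section_of_surjective
    (e.toMonoidHom.comp ((QuotientGroup.mk' (L.subgroupOf K)).comp
      ((QuotientGroup.mk' R).subgroupComap K))) ?_⟩
  exact e.surjective.comp ((QuotientGroup.mk'_surjective _).comp
    (MonoidHom.subgroupComap_surjective_of_surjective _ _ (QuotientGroup.mk'_surjective R)))

/-- A section of a subgroup is a section of the group. -/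
theorem exists_section_of_subgroup {J : Subgroup G} {H : Type*} [Group H]
    (h : ∃ (K L : Subgroup J) (_ : (L.subgroupOf K).Normal),
      Nonempty ((K ⧸ L.subgroupOf K) ≃* H)) :
    ∃ (K L : Subgroup G) (_ : (L.subgroupOf K).Normal),
      Nonempty ((K ⧸ L.subgroupOf K) ≃* H) := by
  obtain ⟨K, L, hL, ⟨e⟩⟩ := h
  let f := K.equivMapOfInjective J.subtype J.subtype_injective
  refine ⟨K.map J.subtype, exists_section_of_surjective
    (e.toMonoidHom.comp ((QuotientGroup.mk' (L.subgroupOf K)).comp f.symm.toMonoidHom)) ?_⟩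
  exact e.surjective.comp ((QuotientGroup.mk'_surjective _).comp f.symm.surjective)

theorem HasNatPair.exists_sl2_section (h : HasNatPair p G) :
    ∃ (K L : Subgroup G) (_ : (L.subgroupOf K).Normal),
      Nonempty ((K ⧸ L.subgroupOf K) ≃* SL(2, ZMod p)) := by
  obtain ⟨R, hR, u, v, e₁, e₂, h⟩ := h
  exact exists_section_of_quotient ⟨_, h.exists_section⟩

theorem HasNatPair.exists_qd_section [Finite G] (h : HasNatPair p G) (hp2 : p ≠ 2) :
    ∃ (K L : Subgroup G) (_ : (L.subgroupOf K).Normal),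
      Nonempty ((K ⧸ L.subgroupOf K) ≃* ↥(Cfsg.qd p)) := by
  obtain ⟨R, hR, u, v, e₁, e₂, h⟩ := h
  exact exists_section_of_quotient (h.exists_qd_section hp2)

/-- Groups without a natural pair in a quotient are `p`-stable on all normal `p`-subgroups. -/
theorem isPStableOn_of_not_hasNatPair [Finite G] (hp2 : p ≠ 2) (h : ¬ HasNatPair p G)
    (P : Subgroup G) [P.Normal] (hP : IsPGroup p P) : IsPStableOn p P := by
  intro a hq
  exact mk_mem_pCore_of_opMod
    ((opMod_or_hasNatPair hp2 P hP ((quad_iff P a).mp hq)).resolve_right h)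

theorem pStableElts_of_not_hasNatPair [Finite G] (hp2 : p ≠ 2) (h : ¬ HasNatPair p G) :
    PStableElts p G :=
  pStableElts_of_forall fun P _ hP => isPStableOn_of_not_hasNatPair hp2 h P hP

end Cfsg.Agent.Transfer
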