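import Mathlib
import Cfsg.Prelude.Def_Local
import Cfsg.Agent.Lib.Transfer.QuadStable
import Cfsg.Agent.Lib.Transfer.StableClosure

/-!
# Consequences of involving `SL(2,p)`

An `SL(2,p)` section, `p` odd, forces non-abelian Sylow `2`-subgroups, and for `p ≥ 5` excludes
`p`-solvability; groups without such a section are `p`-stable in the action sense.
-/

set_option autoImplicit false

namespace Cfsg.Agent.Transfer

open Subgroup Matrix
open scoped MatrixGroups commutatorElement

variable {p : ℕ} [hp : Fact p.Prime]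

theorem two_ne_zero_zmod (hodd : p ≠ 2) : (2 : ZMod p) ≠ 0 := by
  intro e
  have h2 : ((2 : ℕ) : ZMod p) = 0 := by exact_mod_cast e
  rw [ZMod.natCast_eq_zero_iff] at h2
  exact hodd ((Nat.prime_dvd_prime_iff_eq hp.out Nat.prime_two).mp h2)

/-- `SL(2,p)`, `p` odd, contains a non-abelian `2`-group. -/
theorem exists_two_group_sl2 (hodd : p ≠ 2) :
    ∃ Q : Subgroup SL(2, ZMod p), IsPGroup 2 Q ∧ ∃ a ∈ Q, ∃ b ∈ Q, a * b ≠ b * a := by
  haveI : Fact (Nat.Prime 2) := ⟨Nat.prime_two⟩
  obtain ⟨α, β, hαβ⟩ := ZMod.sq_add_sq p (-1 : ZMod p)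
  let i : SL(2, ZMod p) := ⟨!![0, 1; -1, 0], by simp [det_fin_two]⟩
  let j : SL(2, ZMod p) := ⟨!![α, β; β, -α], by
    rw [det_fin_two_of]; linear_combination -hαβ⟩
  let J : SL(2, ZMod p) := ⟨!![-1, 0; 0, -1], by simp [det_fin_two]⟩
  have hi2 : i * i = J := by
    apply Subtype.ext
    rw [sl_val_mul]
    ext r s
    fin_cases r <;> fin_cases s <;> simp [i, J]
  have hj2 : j * j = J := by
    apply Subtype.ext
    rw [sl_val_mul]
    ext r s
    fin_cases r <;> fin_cases s <;> simp [j, J] <;> first | linear_combination hαβ | ring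
  have hJ2 : J * J = 1 := by
    apply Subtype.ext
    rw [sl_val_mul, sl_val_one]
    ext r s
    fin_cases r <;> fin_cases s <;> simp [J]
  have hij : i * j = J * (j * i) := by
    apply Subtype.ext
    rw [sl_val_mul, sl_val_mul, sl_val_mul]
    ext r s
    fin_cases r <;> fin_cases s <;> simp [i, j, J]
  have hi4 : i ^ 4 = 1 := by
    rw [show (4 : ℕ) = 2 + 2 from rfl, pow_add, pow_two, hi2, hJ2]
  have hj4 : j ^ 4 = 1 := by
    rw [show (4 : ℕ) = 2 + 2 from rfl, pow_add, pow_two, hj2, hJ2]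
  have hconj : i * j * i⁻¹ = J * j := by rw [hij]; group
  have hJj : J * j ∈ zpowers j := hj2 ▸ mul_mem (mul_mem (mem_zpowers j) (mem_zpowers j))
    (mem_zpowers j)
  have hn : zpowers i ≤ normalizer (zpowers j : Set SL(2, ZMod p)) := by
    rw [zpowers_le, mem_normalizer_iff_map_conj_eq, MonoidHom.map_zpowers]
    refine eq_of_le_of_card_ge ?_ ?_
    · rw [zpowers_le]
      show i * j * i⁻¹ ∈ zpowers j
      rw [hconj]
      exact hJj
    · rw [← MonoidHom.map_zpowers, card_map_of_injective (MulAut.conj i).injective]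
  have hpg : ∀ x : SL(2, ZMod p), x ^ 4 = 1 → IsPGroup 2 (zpowers x) := by
    rintro x hx ⟨y, hy⟩
    obtain ⟨k, rfl⟩ := mem_zpowers_iff.mp hy
    refine ⟨2, Subtype.ext ?_⟩
    show (x ^ k) ^ 2 ^ 2 = 1
    rw [← zpow_natCast, ← _root_.zpow_mul, mul_comm, _root_.zpow_mul, zpow_natCast, show 2 ^ 2 = 4 from rfl, hx,
      _root_.one_zpow]
  refine ⟨zpowers i ⊔ zpowers j, (hpg i hi4).to_sup_of_normal_right' (hpg j hj4) hn, i,
    mem_sup_left (mem_zpowers i), j, mem_sup_right (mem_zpowers j), fun e => ?_⟩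
  rw [e] at hij
  have hJ1 : J = 1 := mul_eq_right.mp hij.symm
  have h00 := congrFun (congrFun (congrArg Subtype.val hJ1) 0) 0
  simp [J] at h00
  exact two_ne_zero_zmod hodd (by linear_combination -h00)

variable {G : Type*} [Group G]

/-- A group mapping onto `SL(2,p)` from a subgroup has non-abelian Sylow `2`-subgroups. -/
theorem not_isMulCommutative_sylow_two [Finite G] (hodd : p ≠ 2) {K : Subgroup G}
    (f : K →* SL(2, ZMod p)) (hf : Function.Surjective f) (T : Sylow 2 G) :
    ¬ IsMulCommutative (T : Subgroup G) := by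
  intro hT
  haveI : Fact (Nat.Prime 2) := ⟨Nat.prime_two⟩
  obtain ⟨Q, hQ, a, ha, b, hb, hab⟩ := exists_two_group_sl2 (p := p) hodd
  set Q' := Q.comap f with hQ'
  obtain ⟨S⟩ : Nonempty (Sylow 2 Q') := inferInstance
  let g : Q' →* Q := (f.comp Q'.subtype).codRestrict Q fun z => z.2
  have hg : Function.Surjective g := fun z => by
    obtain ⟨x, hx⟩ := hf z.1
    exact ⟨⟨x, by rw [hQ', mem_comap, hx]; exact z.2⟩, Subtype.ext hx⟩
  have htop : (S.mapSurjective hg : Subgroup Q) = ⊤ :=
    ((S.mapSurjective hg).3 (hQ.to_subgroup ⊤) le_top).symm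
  rw [Sylow.coe_mapSurjective] at htop
  obtain ⟨x, hx, hxa⟩ := (htop.ge (mem_top ⟨a, ha⟩) : _ ∈ (S : Subgroup Q').map g)
  obtain ⟨y, hy, hyb⟩ := (htop.ge (mem_top ⟨b, hb⟩) : _ ∈ (S : Subgroup Q').map g)
  let F : Q' →* G := K.subtype.comp Q'.subtype
  obtain ⟨R, hR⟩ := (S.isPGroup'.map F).exists_le_sylow
  obtain ⟨c, hc⟩ := MulAction.exists_smul_eq G T R
  have hmem : ∀ z ∈ (S : Subgroup Q'), c⁻¹ * F z * c ∈ (T : Subgroup G) := by
    intro z hz
    have h1 : F z ∈ (R : Subgroup G) := hR ⟨z, hz, rfl⟩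
    rw [← hc, Sylow.coe_subgroup_smul] at h1
    obtain ⟨t, ht, he⟩ := h1
    have ht' : c⁻¹ * F z * c = t := by
      rw [← he]
      show c⁻¹ * (c * t * c⁻¹) * c = t
      group
    rw [ht']
    exact ht
  haveI := hT
  have hcomm := congrArg Subtype.val
    (mul_comm' (⟨_, hmem x hx⟩ : (T : Subgroup G)) ⟨_, hmem y hy⟩)
  have hF : F (x * y) = F (y * x) := by
    rw [map_mul, map_mul]
    calc F x * F y = c * (c⁻¹ * F x * c * (c⁻¹ * F y * c)) * c⁻¹ := by group
      _ = c * (c⁻¹ * F y * c * (c⁻¹ * F x * c)) * c⁻¹ := by rw [show c⁻¹ * F x * c *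
          (c⁻¹ * F y * c) = c⁻¹ * F y * c * (c⁻¹ * F x * c) from hcomm]
      _ = _ := by group
  have hFi : Function.Injective F := K.subtype_injective.comp Q'.subtype_injective
  have he := congrArg g (hFi hF)
  rw [map_mul, map_mul, hxa, hyb] at he
  exact hab (congrArg Subtype.val he)

/-- `SL(2,p)` is perfect for `p ≥ 5`. -/
theorem commutator_sl2_eq_top (hp5 : 5 ≤ p) : commutator SL(2, ZMod p) = ⊤ := by
  rw [eq_top_iff, ← closure_tU_tL, closure_le]
  have h3 : (3 : ZMod p) ≠ 0 := by
    intro e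
    have h3' : ((3 : ℕ) : ZMod p) = 0 := by exact_mod_cast e
    rw [ZMod.natCast_eq_zero_iff] at h3'
    have := Nat.le_of_dvd (by norm_num) h3'
    omega
  have h2 := two_ne_zero_zmod (p := p) (by omega)
  let D : SL(2, ZMod p) := ⟨!![2, 0; 0, 2⁻¹], by rw [det_fin_two_of]; field_simp; ring⟩
  have hD : ∀ t : ZMod p, D * LinGrp.uSL t = LinGrp.uSL (4 * t) * D := by
    intro t
    apply Subtype.ext
    rw [sl_val_mul, sl_val_mul, LinGrp.uSL_val, LinGrp.uSL_val]
    ext r s
    fin_cases r <;> fin_cases s <;> simp [D]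
    field_simp
    ring
  have hD' : ∀ t : ZMod p, D * LinGrp.lSL (4 * t) = LinGrp.lSL t * D := by
    intro t
    apply Subtype.ext
    rw [sl_val_mul, sl_val_mul, LinGrp.lSL_val, LinGrp.lSL_val]
    ext r s
    fin_cases r <;> fin_cases s <;> simp [D]
    field_simp
    ring
  rintro z (rfl | rfl)
  · have e : tU p = ⁅D, LinGrp.uSL (3⁻¹ : ZMod p)⁆ := by
      rw [commutatorElement_def, hD, mul_inv_cancel_right]
      rw [eq_mul_inv_iff_mul_eq, tU, LinGrp.uSL_add]
      congr 1
      field_simp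
      ring
    rw [e]
    exact commutator_mem_commutator (mem_top _) (mem_top _)
  · have e : tL p = ⁅D, LinGrp.lSL (4 * (-3⁻¹) : ZMod p)⁆ := by
      rw [commutatorElement_def, hD', mul_inv_cancel_right]
      rw [eq_mul_inv_iff_mul_eq, tL, lSL_add]
      congr 1
      field_simp
      ring
    rw [e]
    exact commutator_mem_commutator (mem_top _) (mem_top _)

/-- A `p`-solvable group, `p ≥ 5`, has no section `SL(2,p)`. -/
theorem not_isPSolvable_of_surjective [Finite G] (hp5 : 5 ≤ p) {K : Subgroup G}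
    (f : K →* SL(2, ZMod p)) (hf : Function.Surjective f) : ¬ Cfsg.IsPSolvable p G := by
  rintro ⟨n, C, h0, h1, hmono, hn, hfac⟩
  let A : Fin (n + 1) → Subgroup SL(2, ZMod p) := fun i => ((C i).subgroupOf K).map f
  haveI hAn : ∀ i, (A i).Normal := fun i => ((hn i).comap K.subtype).map f hf
  have key : ∀ i, A i ≠ ⊤ := by
    intro i
    induction i using Fin.induction with
    | zero =>
      intro h
      have hb : A 0 = ⊥ := by simp [A, h0]
      haveI := hn 0
      rw [hb] at h
      have : tU p = 1 := mem_bot.mp (h ▸ mem_top _)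
      have h01 := congrFun (congrFun (congrArg Subtype.val this) 0) 1
      simp [tU, LinGrp.uSL_val] at h01
    | succ i ih =>
      intro htop
      haveI := hn i.castSucc
      have hpow : ∀ M : SL(2, ZMod p), M ^ (C i.castSucc).relIndex (C i.succ) ∈ A i.castSucc := by
        intro M
        obtain ⟨k, hk, rfl⟩ := (htop ▸ mem_top M : M ∈ A i.succ)
        refine ⟨k ^ (C i.castSucc).relIndex (C i.succ), ?_, map_pow f k _⟩
        show ((k ^ (C i.castSucc).relIndex (C i.succ) : K) : G) ∈ C i.castSucc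
        rw [coe_pow]
        exact Subgroup.pow_index_mem ((C i.castSucc).subgroupOf (C i.succ)) ⟨(k : G), hk⟩
      rcases hfac i with ⟨m, hm⟩ | hcop
      · refine ih ?_
        have hQ : IsPGroup p (SL(2, ZMod p) ⧸ A i.castSucc) := by
          intro q
          obtain ⟨M, rfl⟩ := QuotientGroup.mk'_surjective (A i.castSucc) q
          exact ⟨m, by rw [← map_pow]; exact (QuotientGroup.eq_one_iff _).mpr (hm ▸ hpow M)⟩
        haveI : Group.IsNilpotent (SL(2, ZMod p) ⧸ A i.castSucc) := hQ.isNilpotent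
        haveI : Group.IsPerfect (SL(2, ZMod p)) := ⟨commutator_sl2_eq_top hp5⟩
        by_contra hne
        haveI : Nontrivial (SL(2, ZMod p) ⧸ A i.castSucc) :=
          QuotientGroup.nontrivial_iff.mpr hne
        exact (Group.IsSolvable.commutator_lt_top_of_nontrivial (SL(2, ZMod p) ⧸ A i.castSucc)).ne
          (show commutator (SL(2, ZMod p) ⧸ A i.castSucc) = ⊤ from Group.IsPerfect.commutator_eq_top)
      · refine ih ?_
        rw [eq_top_iff, ← closure_tU_tL, closure_le]
        intro z hz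
        have hzp : z ^ p = 1 := by
          rcases hz with rfl | rfl
          · rw [tU, ← uSL_natCast, ZMod.natCast_self, LinGrp.uSL_zero]
          · rw [tL, ← lSL_natCast, ZMod.natCast_self]
            apply Subtype.ext
            rw [sl_val_one, LinGrp.lSL_val, Matrix.one_fin_two]
        obtain ⟨m, hm⟩ := exists_pow_eq_self_of_coprime (x := z)
          (hcop.coprime_dvd_right (orderOf_dvd_of_pow_eq_one hzp))
        exact hm ▸ pow_mem (hpow z) m
  exact key (Fin.last n) (by simp [A, h1, Subgroup.map_top_of_surjective f hf])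

theorem exists_surjective_of_section {K L : Subgroup G} [(L.subgroupOf K).Normal]
    (e : (K ⧸ L.subgroupOf K) ≃* SL(2, ZMod p)) :
    ∃ f : K →* SL(2, ZMod p), Function.Surjective f :=
  ⟨e.toMonoidHom.comp (QuotientGroup.mk' _), e.surjective.comp (QuotientGroup.mk'_surjective _)⟩

/-- Subgroups of `p`-solvable groups are `p`-solvable. -/
theorem isPSolvable_subgroup' [Finite G] (h : Cfsg.IsPSolvable p G) (S : Subgroup G) :
    Cfsg.IsPSolvable p S := by
  obtain ⟨n, C, h0, h1, hmono, hn, hfac⟩ := h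
  refine ⟨n, fun i => (C i).subgroupOf S, by simp [h0], by simp [h1],
    fun i j hij => Subgroup.comap_mono (hmono hij), fun i => (hn i).comap S.subtype, fun i => ?_⟩
  haveI := hn i.castSucc
  have hd : ((C i.castSucc).subgroupOf S).relIndex ((C i.succ).subgroupOf S) ∣
      (C i.castSucc).relIndex (C i.succ) := by
    rw [← Subgroup.inf_subgroupOf_right (C i.succ) S, Subgroup.relIndex_subgroupOf inf_le_right]
    rw [← Subgroup.relIndex_subgroupOf (inf_le_left : C i.succ ⊓ S ≤ C i.succ)]
    exact Subgroup.relIndex_dvd_index_of_normal _ _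
  rcases hfac i with ⟨m, hm⟩ | hc
  · rw [hm] at hd
    obtain ⟨j, -, hj⟩ := (Nat.dvd_prime_pow hp.out).mp hd
    exact Or.inl ⟨j, hj⟩
  · exact Or.inr (hc.coprime_dvd_left hd)

/-- Groups without an `SL(2,p)` section are `p`-stable in the action sense. -/
theorem isActionPStable_of_free [Finite G] (hodd : p ≠ 2)
    (h : ¬ ∃ (K L : Subgroup G) (_ : (L.subgroupOf K).Normal),
      Nonempty ((K ⧸ L.subgroupOf K) ≃* SL(2, ZMod p))) :
    Cfsg.IsActionPStable p G := by
  refine ⟨fun V _ hV => isPStableOn_of_not_hasNatPair hodd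
    (fun hn => h hn.exists_sl2_section) V (ea_isPGroup hV), ?_, ?_⟩
  · set X := Cfsg.pCore p G
    set N := (frattini X).map X.subtype with hN
    haveI : N.Normal := inferInstance
    intro a hq
    set π := QuotientGroup.mk' N
    haveI : (X.map π).Normal :=
      Subgroup.Normal.map inferInstance _ (QuotientGroup.mk'_surjective N)
    have hq' : ⁅⁅X.map π, zpowers (π a)⁆, zpowers (π a)⁆ = ⊥ := by
      rw [← MonoidHom.map_zpowers, ← map_commutator, ← map_commutator, Subgroup.map_eq_bot_iff,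
        QuotientGroup.ker_mk']
      exact hq
    have hst := isPStableOn_of_not_hasNatPair (G := G ⧸ N) hodd
      (fun hn => h (exists_section_of_quotient hn.exists_sl2_section)) (X.map π)
      ((Basics.pCore_isPGroup p).map π) (π a) hq'
    set C := centralizer ((X.map π : Subgroup (G ⧸ N)) : Set (G ⧸ N))
    let q : G →* (G ⧸ N) ⧸ C := (QuotientGroup.mk' C).comp π
    have hker : Cfsg.sectionKernel X N = q.ker := by
      rw [Cfsg.sectionKernel, ← MonoidHom.comap_ker, QuotientGroup.ker_mk']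
    refine ⟨(Cfsg.pCore p ((G ⧸ N) ⧸ C)).comap q, inferInstance, ?_, ?_, hst⟩
    · rw [hker]; exact Subgroup.ker_le_comap q _
    · obtain ⟨k, hk⟩ := IsPGroup.iff_card.mp (Basics.pCore_isPGroup (G := (G ⧸ N) ⧸ C) p)
      refine ⟨k, ?_⟩
      have hqs : Function.Surjective q :=
        (QuotientGroup.mk'_surjective C).comp (QuotientGroup.mk'_surjective N)
      rw [hker, ← MonoidHom.comap_bot, relIndex_comap, map_comap_eq_self_of_surjective hqs,
        relIndex_bot_left, hk]
  · intro S
    set M := normalizer (Cfsg.thompsonSubgroupOf p (S : Subgroup G) : Set G)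
    intro V _ hle
    have hVea : Cfsg.IsElementaryAbelian p (V.map M.subtype) :=
      ea_mono (ea_map omegaCenterThompson_abExp _) hle
    exact isPStableOn_of_not_hasNatPair hodd
      (fun hn => h (exists_section_of_subgroup hn.exists_sl2_section)) V
      (fun v => (ea_isPGroup hVea ⟨_, mem_map_of_mem M.subtype v.2⟩).imp fun k hk =>
        Subtype.ext (M.subtype_injective (by simpa using congrArg Subtype.val hk)))

end Cfsg.Agent.Transfer
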