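import Cfsg.Agent.Lib.Transfer.Control

/-!
# Transfer into abelian subgroups; Burnside-type criteria
-/

set_option autoImplicit false
set_option linter.style.haveILetI false

namespace Cfsg.Agent.Transfer

open Subgroup Cfsg
open scoped commutatorElement Pointwise

variable {G : Type*} [Group G] {p : ℕ}

/-- A central element of `G'` lying in an abelian subgroup `H` has `[G:H]`-th power `1`. -/
theorem pow_index_eq_one_of_mem_commutator_center (H : Subgroup G) [H.FiniteIndex]
    [IsMulCommutative H] (z : G) (hzH : z ∈ H) (hzc : z ∈ _root_.commutator G)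
    (hzz : z ∈ center G) : z ^ H.index = 1 := by
  open scoped IsMulCommutative in
  have key : ∀ (k : ℕ) (g : G), g⁻¹ * z ^ k * g ∈ H → g⁻¹ * z ^ k * g = z ^ k := fun k g _ => by
    have := mem_center_iff.mp (pow_mem hzz k) g
    rw [mul_assoc, ← this, inv_mul_cancel_left]
  open scoped IsMulCommutative in
  have h1 := MonoidHom.transfer_eq_pow (MonoidHom.id H) z key
  open scoped IsMulCommutative in
  have h2 : MonoidHom.transfer (MonoidHom.id H) z = 1 :=
    Abelianization.commutator_subset_ker _ hzc
  rw [h2] at h1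
  exact (congrArg Subtype.val h1).symm

/-- An abelian Hall subgroup meets `G' ∩ Z(G)` trivially. -/
theorem inf_commutator_center_eq_bot [Finite G] (H : Subgroup G) [IsMulCommutative H]
    (hH : Nat.Coprime (Nat.card H) H.index) :
    H ⊓ _root_.commutator G ⊓ center G = ⊥ := by
  refine le_bot_iff.mp fun z hz => ?_
  simp only [mem_inf] at hz
  refine mem_bot.mpr (orderOf_eq_one_iff.mp ?_)
  refine Nat.eq_one_of_dvd_coprimes hH ?_
    (orderOf_dvd_of_pow_eq_one (pow_index_eq_one_of_mem_commutator_center H z hz.1.1 hz.1.2 hz.2))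
  rw [← Subgroup.orderOf_mk z hz.1.1]
  exact orderOf_dvd_natCard _

theorem sylow_card_coprime_index [Finite G] [Fact p.Prime] (P : Sylow p G) :
    Nat.Coprime (Nat.card ↥(P : Subgroup G)) (P : Subgroup G).index :=
  P.card_coprime_index

/-- A `p`-power element normalizing a Sylow `p`-subgroup lies in it. -/
theorem mem_sylow_of_mem_normalizer [Finite G] [Fact p.Prime] (P : Sylow p G) {a : G}
    (ha : a ∈ normalizer (P : Set G)) (hk : ∃ k, orderOf a ∣ p ^ k) : a ∈ (P : Subgroup G) := by
  obtain ⟨k, hk⟩ := hk
  have hp : IsPGroup p (zpowers a) :=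
    IsPGroup.of_card_dvd_pow (n := k) (by rwa [Nat.card_zpowers])
  have h1 : zpowers a ≤ zpowers a ⊓ P := by
    rw [← hp.inf_normalizer_sylow P]; exact le_inf le_rfl (zpowers_le.mpr ha)
  exact (h1 (mem_zpowers a)).2

/-- Burnside's transfer theorem, stated with `HasNormalPComplement`. -/
theorem hasNormalPComplement_of_normalizer_le [Finite G] [Fact p.Prime] (P : Sylow p G)
    (h : normalizer (P : Set G) ≤ centralizer (P : Set G)) : HasNormalPComplement p G :=
  ⟨P, _, MonoidHom.normal_ker _, MonoidHom.ker_transferSylow_isComplement' P h⟩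

/-- The normalizer of an abelian Sylow subgroup in a group with a normal `p`-complement
centralizes it. -/
theorem normalizer_le_centralizer_of_hasNormalPComplement [Finite G] [Fact p.Prime]
    (P : Sylow p G) [IsMulCommutative (P : Subgroup G)] (h : HasNormalPComplement p G) :
    normalizer (P : Set G) ≤ centralizer (P : Set G) := by
  intro n hn x hx
  have hy : n⁻¹ * x * n ∈ (P : Subgroup G) := by
    simpa using (mem_normalizer_iff''.mp hn x).mp hx
  obtain ⟨z, hz, he⟩ := fusion_of_hasNormalPComplement P h x hx n hy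
  have hc : x * z = z * x :=
    congrArg Subtype.val (mul_comm' (⟨x, hx⟩ : (P : Subgroup G)) ⟨z, hz⟩)
  rw [mul_assoc, hc, inv_mul_cancel_left] at he
  have h2 : n * x = x * n := by
    conv_lhs => rw [he]
    group
  exact h2.symm

/-- An abelian Sylow `p`-subgroup on which no prime `q ≠ p` dividing `|G|` can act nontrivially
gives a normal `p`-complement. -/
theorem hasNormalPComplement_of_abelian [Finite G] [hp : Fact p.Prime] (P : Sylow p G)
    [IsMulCommutative (P : Subgroup G)]
    (h : ∀ q : ℕ, q.Prime → q ∣ Nat.card G → q ≠ p → ∀ F : Subgroup (P : Subgroup G), F ≠ ⊤ →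
      ¬ Nat.card (P : Subgroup G) ≡ Nat.card F [MOD q]) :
    HasNormalPComplement p G := by
  refine hasNormalPComplement_of_normalizer_le P ?_
  by_contra hnle
  let f := normalizerMonoidHom (P : Subgroup G)
  have hne : f.range ≠ ⊥ := by
    intro hb
    refine hnle fun n hn => ?_
    have : f ⟨n, hn⟩ = 1 := mem_bot.mp (hb ▸ ⟨_, rfl⟩)
    have h2 : (⟨n, hn⟩ : normalizer ((P : Subgroup G) : Set G)) ∈ f.ker := this
    rw [normalizerMonoidHom_ker] at h2
    exact h2
  obtain ⟨q, hq, hqd⟩ := Nat.exists_prime_and_dvd (fun h1 : Nat.card f.range = 1 =>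
    hne (card_eq_one.mp h1))
  haveI := Fact.mk hq
  obtain ⟨σ, hσ⟩ := exists_prime_orderOf_dvd_card' q hqd
  have hqG : q ∣ Nat.card G :=
    (hqd.trans (card_range_dvd f)).trans (card_subgroup_dvd_card _)
  have hqp : q ≠ p := by
    rintro rfl
    have hPker : ((P : Subgroup G).subgroupOf (normalizer ((P : Subgroup G) : Set G))) ≤ f.ker := by
      rw [normalizerMonoidHom_ker]
      exact fun y hy x hx => congrArg Subtype.val
        (mul_comm' (⟨x, hx⟩ : (P : Subgroup G)) ⟨y.1, hy⟩)
    have h1 : q ∣ ((P : Subgroup G).subgroupOf (normalizer ((P : Subgroup G) : Set G))).index := by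
      refine (hqd.trans ?_).trans (index_dvd_of_le hPker)
      rw [index_ker]
    exact P.not_dvd_index (h1.trans (relIndex_dvd_index_of_le le_normalizer))
  let Φ : Subgroup (MulAut (P : Subgroup G)) := zpowers (σ : MulAut (P : Subgroup G))
  have hσ' : orderOf (σ : MulAut (P : Subgroup G)) = q := by rw [Subgroup.orderOf_coe, hσ]
  have hΦ : IsPGroup q Φ := IsPGroup.of_card (n := 1) (by rw [Nat.card_zpowers, hσ', pow_one])
  let F : Subgroup (P : Subgroup G) :=
    MonoidHom.eqLocus (σ : MulAut (P : Subgroup G)).toMonoidHom (MonoidHom.id _)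
  refine h q hq hqG hqp F ?_ ?_
  · intro hF
    have : (σ : MulAut (P : Subgroup G)) = 1 := by
      refine MulEquiv.ext fun x => ?_
      have : x ∈ F := by rw [hF]; trivial
      exact this
    rw [this, orderOf_one] at hσ'
    exact hq.one_lt.ne hσ'
  · have e : (MulAction.fixedPoints Φ (P : Subgroup G)) = (F : Set (P : Subgroup G)) := by
      ext x
      constructor
      · intro hx; exact hx ⟨_, mem_zpowers _⟩
      · rintro hx ⟨τ, hτ⟩
        obtain ⟨i, rfl⟩ := mem_zpowers_iff.mp hτ
        have hs : (σ : MulAut (P : Subgroup G)) ∈ MulAction.stabilizer (MulAut (P : Subgroup G)) x :=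
          hx
        exact zpow_mem hs i
    have := hΦ.card_modEq_card_fixedPoints (P : Subgroup G)
    rwa [e] at this

end Cfsg.Agent.Transfer
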