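import Cfsg.Agent.Lib.Components.PConstrained
import Cfsg.Agent.Lib.Components.PLocal
import Cfsg.Agent.Lib.Coprime23.PSolv
import Cfsg.Agent.Lib.Transfer.Abelian
import Cfsg.Agent.Lib.Basics.Cores

/-!
# p-constrained groups: quotient, p-locals, criterion
-/

set_option autoImplicit false
set_option linter.style.haveILetI false

namespace Cfsg.Agent.Transfer

open Subgroup Cfsg Cfsg.Agent.Components

universe u

variable {G : Type*} [Group G] {H : Type*} [Group H] {p : ℕ}

theorem cp_congr (e : G ≃* H) (h : centralizer (pCore p G : Set G) ≤ pCore p G) :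
    centralizer (pCore p H : Set H) ≤ pCore p H := by
  intro x hx
  rw [← Components.map_pCore_equiv (p := p) e] at hx ⊢
  refine ⟨e.symm x, h fun y hy => e.injective ?_, e.apply_symm_apply x⟩
  rw [map_mul, map_mul, e.apply_symm_apply]
  exact hx _ ⟨y, hy, rfl⟩

theorem isPConstrained_quotient_iff [Finite G] [Fact p.Prime] :
    IsPConstrained p G ↔ IsPConstrained p (G ⧸ pPrimeCore p G) := by
  rw [isPConstrained_iff, isPConstrained_iff]
  let e : ((G ⧸ pPrimeCore p G) ⧸ pPrimeCore p (G ⧸ pPrimeCore p G)) ≃* G ⧸ pPrimeCore p G :=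
    (QuotientGroup.quotientMulEquivOfEq pPrimeCore_quotient_eq_bot).trans QuotientGroup.quotientBot
  exact ⟨cp_congr e.symm, cp_congr e⟩

theorem isPConstrained_congr [Finite G] [Fact p.Prime] (e : G ≃* H) (h : IsPConstrained p G) :
    IsPConstrained p H := by
  haveI : Finite H := Finite.of_equiv G e.toEquiv
  rw [isPConstrained_iff] at h ⊢
  exact cp_congr (QuotientGroup.congr _ _ e (Components.map_pPrimeCore_equiv e)) h

theorem isPConstrained_of_normal [Finite G] [Fact p.Prime] (C : Subgroup G) [C.Normal]
    (h : IsPConstrained p G) : IsPConstrained p C := by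
  rw [isPConstrained_iff_pLayer_eq_bot, pLayer_eq_bot_iff] at h ⊢
  set O := pPrimeCore p G
  let f : C →* G ⧸ O := (QuotientGroup.mk' O).comp C.subtype
  have hker : f.ker = pPrimeCore p C := by
    have h1 := map_subtype_pPrimeCore_of_subnormal (p := p)
      (isSubnormal_of_normal C)
    apply map_injective C.subtype_injective
    rw [h1]
    ext x
    constructor
    · rintro ⟨c, hc, rfl⟩
      exact mem_inf.mpr (And.intro ((QuotientGroup.eq_one_iff (N := O) _).mp hc) c.2) |> fun h => by
        simpa [inf_comm] using h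
    · intro hx
      obtain ⟨h2, h3⟩ := mem_inf.mp hx
      first
        | exact ⟨⟨x, h3⟩, (QuotientGroup.eq_one_iff (N := O) _).mpr h2, rfl⟩
        | exact ⟨⟨x, h2⟩, (QuotientGroup.eq_one_iff (N := O) _).mpr h3, rfl⟩
  haveI : f.range.Normal := by
    rw [MonoidHom.range_comp, range_subtype]
    exact Subgroup.Normal.map inferInstance _ (QuotientGroup.mk'_surjective O)
  have hr : layer ↥f.range = ⊥ := by
    have h1 := component_map_layer_le (G := G ⧸ O) (isSubnormal_of_normal f.range)
    rw [h, le_bot_iff, map_eq_bot_iff_of_injective _ (subtype_injective _)] at h1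
    exact h1
  have h2 := map_layer_equiv (((QuotientGroup.quotientMulEquivOfEq hker.symm).trans
    (QuotientGroup.quotientKerEquivRange f)))
  rw [hr, map_eq_bot_iff_of_injective _ (MulEquiv.injective _)] at h2
  exact h2

theorem isPConstrained_pLocal [Finite G] [Fact p.Prime] (hG : IsPConstrained p G) (P : Subgroup G)
    (hP : IsPGroup p P) :
    IsPConstrained p ↥(normalizer (P : Set G)) ∧ IsPConstrained p ↥(centralizer (P : Set G)) := by
  have hN : IsPConstrained p ↥(normalizer (P : Set G)) := isPConstrained_iff_pLayer_eq_bot.mpr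
    (pLocal_of_pLayer_eq_bot (isPConstrained_iff_pLayer_eq_bot.mp hG) hP).1
  refine ⟨hN, ?_⟩
  have hle : centralizer (P : Set G) ≤ normalizer (P : Set G) := by
    intro g hg
    rw [mem_normalizer_iff]
    intro x
    constructor
    · intro hx
      rwa [← hg x hx, mul_inv_cancel_right]
    · intro hx
      have h := hg _ hx
      rw [inv_mul_cancel_right] at h
      rwa [← mul_left_cancel h] at hx
  haveI : ((centralizer (P : Set G)).subgroupOf (normalizer (P : Set G))).Normal := by
    refine ⟨fun c hc n => ?_⟩
    show ((n : G) * c * (n : G)⁻¹) ∈ centralizer (P : Set G)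
    intro x hx
    have h1 : (n : G)⁻¹ * x * n ∈ P := (mem_normalizer_iff''.mp n.2 x).mp hx
    have h2 : Commute ((n : G)⁻¹ * x * n) (c : G) := hc _ h1
    have h3 := h2.map (MulAut.conj (n : G)).toMonoidHom
    simp only [MulEquiv.coe_toMonoidHom, MulAut.conj_apply] at h3
    rw [show (n : G) * ((n : G)⁻¹ * x * n) * (n : G)⁻¹ = x by group] at h3
    exact h3.eq
  exact isPConstrained_congr (subgroupOfEquivOfLe hle) (isPConstrained_of_normal _ hN)

theorem centralizer_pCore_le_of_pSolvable {X : Type u} [Group X] [Finite X] [hp : Fact p.Prime]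
    (hO : pPrimeCore p X = ⊥) (hs : IsPSolvable p ↥(centralizer (pCore p X : Set X))) :
    centralizer (pCore p X : Set X) ≤ pCore p X := by
  set C := centralizer (pCore p X : Set X) with hCdef
  set Z := (pCore p X).subgroupOf C
  haveI : C.Normal := inferInstance
  haveI : Z.Normal := inferInstance
  have hZc : ∀ z ∈ Z, ∀ c : C, Commute z c := fun z hz c =>
    Subtype.ext (c.2 (z : X) hz)
  have hpc : pCore p C ≤ Z := by
    intro x hx
    refine Basics.le_pCore ((Basics.pCore_isPGroup p).map C.subtype) ⟨x, hx, rfl⟩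
  by_contra hne
  haveI : Nontrivial (C ⧸ Z) := by
    rw [QuotientGroup.nontrivial_iff]
    intro h
    exact hne fun c hc => (h ▸ mem_top (⟨c, hc⟩ : C) : (⟨c, hc⟩ : C) ∈ Z)
  have hZp : IsPGroup p Z := (Basics.pCore_isPGroup p).comap_subtype
  rcases Coprime23.exists_core_ne_bot
      (Coprime23.isPSolvable_map (QuotientGroup.mk' Z) (QuotientGroup.mk'_surjective Z) hs)
    with h | h <;> apply h
  · rw [← le_bot_iff,
      ← map_comap_eq_self_of_surjective (QuotientGroup.mk'_surjective Z) (pCore p (C ⧸ Z))]
    have hM : IsPGroup p ((pCore p (C ⧸ Z)).comap (QuotientGroup.mk' Z)) :=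
      (Basics.pCore_isPGroup p).comap_of_ker_isPGroup _ (by rw [QuotientGroup.ker_mk']; exact hZp)
    refine (map_mono ((Basics.le_pCore hM).trans hpc)).trans ?_
    rw [le_bot_iff, Subgroup.map_eq_bot_iff, QuotientGroup.ker_mk']
  · rw [← le_bot_iff,
      ← map_comap_eq_self_of_surjective (QuotientGroup.mk'_surjective Z) (pPrimeCore p (C ⧸ Z))]
    set M := (pPrimeCore p (C ⧸ Z)).comap (QuotientGroup.mk' Z) with hMdef
    let T : Sylow p M := default
    have hT : ∀ t ∈ (T : Subgroup M), (t : C) ∈ Z := by
      intro t ht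
      obtain ⟨k, hk⟩ := T.isPGroup' ⟨t, ht⟩
      have h1 : QuotientGroup.mk' Z (t : C) ∈ pPrimeCore p (C ⧸ Z) := t.2
      have h2 : (orderOf (QuotientGroup.mk' Z (t : C))).Coprime p :=
        (Basics.pPrimeCore_coprime p).coprime_dvd_left
          (by rw [← Subgroup.orderOf_mk (QuotientGroup.mk' Z (t : C)) h1]
              exact _root_.orderOf_dvd_natCard _)
      have h3 : (t : C) ^ p ^ k = 1 := congrArg (fun z => ((z : M) : C)) (congrArg Subtype.val hk)
      exact (QuotientGroup.eq_one_iff _).mp (eq_one_of_pow_of_coprime (g := QuotientGroup.mk' Z (t : C))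
        ⟨k, orderOf_dvd_of_pow_eq_one (by rw [← map_pow, h3, map_one])⟩ h2)
    have hMM : HasNormalPComplement p M :=
      hasNormalPComplement_of_normalizer_le T fun y _ t ht =>
        Subtype.ext (hZc _ (hT t ht) (y : C)).eq
    have hR := hasNormalPComplement_iff.mp hMM
    haveI : (pResidual p M).Characteristic := pResidual_characteristic M p
    have hR0 : pResidual p M = ⊥ := by
      rw [← map_eq_bot_iff_of_injective _ M.subtype_injective,
        ← map_eq_bot_iff_of_injective _ C.subtype_injective, ← le_bot_iff, ← hO]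
      refine (map_mono (Basics.le_pPrimeCore (p := p) ?_)).trans (Basics.le_pPrimeCore ?_)
      · rw [card_map_of_injective M.subtype_injective]
        exact (hp.out.coprime_iff_not_dvd.mpr hR).symm
      · rw [card_map_of_injective C.subtype_injective]
        exact Basics.pPrimeCore_coprime p
    have hMp : IsPGroup p M := by
      intro y
      obtain ⟨k, hk⟩ := isPGroup_quotient_pResidual (G := M) (p := p) (QuotientGroup.mk y)
      refine ⟨k, ?_⟩
      rw [← QuotientGroup.mk_pow, QuotientGroup.eq_one_iff, hR0, mem_bot] at hk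
      exact hk
    refine (map_mono ((Basics.le_pCore hMp).trans hpc)).trans ?_
    rw [le_bot_iff, Subgroup.map_eq_bot_iff, QuotientGroup.ker_mk']

theorem isPConstrained_of_pSolvable_centralizer {X : Type u} [Group X] [Finite X] [Fact p.Prime]
    (P : Sylow p ↥(pPrimePCore p X))
    (hs : IsPSolvable p ↥(centralizer (((P : Subgroup ↥(pPrimePCore p X)).map
      (pPrimePCore p X).subtype : Subgroup X) : Set X))) : IsPConstrained p X := by
  rw [isPConstrained_iff]
  refine centralizer_pCore_le_of_pSolvable pPrimeCore_quotient_eq_bot ?_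
  have h := map_centralizer_of_coprime (N := pPrimeCore p X) Components.pPrimeCore_coprime
    (P.isPGroup'.map (pPrimePCore p X).subtype)
  rw [map_sylow_pPrimePCore P] at h
  rw [← h]
  exact Coprime23.isPSolvable_map _ (MonoidHom.subgroupMap_surjective _ _) hs

end Cfsg.Agent.Transfer
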