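import Cfsg.Prelude.Def_Transfer
import Mathlib.GroupTheory.PGroup
import Mathlib.Tactic.Group

/-!
# The Thompson subgroup (elementary abelian version)
-/

set_option autoImplicit false
set_option linter.style.haveILetI false

namespace Cfsg.Agent.Transfer

open Subgroup Cfsg
open scoped Pointwise

variable {G : Type*} [Group G] {H : Type*} [Group H] {p : ℕ}

theorem ea_bot : IsElementaryAbelian p (⊥ : Subgroup G) :=
  ⟨inferInstance, fun a ha => by rw [mem_bot.mp ha, one_pow]⟩

theorem ea_map {A : Subgroup G} (hA : IsElementaryAbelian p A) (f : G →* H) :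
    IsElementaryAbelian p (A.map f) := by
  refine ⟨⟨⟨?_⟩⟩, ?_⟩
  · rintro ⟨_, a, ha, rfl⟩ ⟨_, b, hb, rfl⟩
    haveI := hA.1
    exact Subtype.ext (by
      rw [coe_mul, coe_mul, ← map_mul, ← map_mul,
        show a * b = b * a from congrArg Subtype.val (mul_comm' (⟨a, ha⟩ : A) ⟨b, hb⟩)])
  · rintro _ ⟨a, ha, rfl⟩
    rw [← map_pow, hA.2 a ha, map_one]

theorem ea_of_map {A : Subgroup G} (f : G →* H) (hf : Set.InjOn f A)
    (h : IsElementaryAbelian p (A.map f)) : IsElementaryAbelian p A := by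
  refine ⟨⟨⟨fun a b => Subtype.ext (hf (mul_mem a.2 b.2) (mul_mem b.2 a.2) ?_)⟩⟩, fun a ha => ?_⟩
  · haveI := h.1
    show f ((a : G) * b) = f ((b : G) * a)
    rw [map_mul, map_mul]
    exact congrArg Subtype.val
      (mul_comm' (⟨f a, a.1, a.2, rfl⟩ : A.map f) ⟨f b, b.1, b.2, rfl⟩)
  · exact hf (pow_mem ha _) (one_mem _) (by rw [map_pow, h.2 _ ⟨a, ha, rfl⟩, map_one])

theorem ea_mono {A B : Subgroup G} (hB : IsElementaryAbelian p B) (h : A ≤ B) :
    IsElementaryAbelian p A := by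
  haveI := hB.1
  exact ⟨⟨⟨fun a b => Subtype.ext (congrArg Subtype.val
    (mul_comm' (⟨_, h a.2⟩ : B) ⟨_, h b.2⟩) :)⟩⟩, fun a ha => hB.2 a (h ha)⟩

theorem ea_commute {A : Subgroup G} (hA : IsElementaryAbelian p A) {a b : G} (ha : a ∈ A)
    (hb : b ∈ A) : a * b = b * a :=
  haveI := hA.1
  congrArg Subtype.val (mul_comm' (⟨a, ha⟩ : A) ⟨b, hb⟩)

theorem ea_isPGroup {A : Subgroup G} (hA : IsElementaryAbelian p A) : IsPGroup p A :=
  fun a => ⟨1, Subtype.ext (by simpa using hA.2 a.1 a.2)⟩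

/-- `A` is an elementary abelian subgroup of `T` of largest order. -/
def IsMaxElemIn (p : ℕ) (T A : Subgroup G) : Prop :=
  A ≤ T ∧ IsElementaryAbelian p A ∧
    ∀ B : Subgroup G, B ≤ T → IsElementaryAbelian p B → Nat.card B ≤ Nat.card A

theorem exists_isMaxElemIn [Finite G] (T : Subgroup G) : ∃ A, IsMaxElemIn p T A := by
  classical
  haveI : Fintype {A : Subgroup G // A ≤ T ∧ IsElementaryAbelian p A} := Fintype.ofFinite _
  obtain ⟨⟨A, hA1, hA2⟩, -, hmax⟩ := Finset.exists_max_image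
    (Finset.univ : Finset {A : Subgroup G // A ≤ T ∧ IsElementaryAbelian p A})
    (fun A => Nat.card (A.1 : Subgroup G)) ⟨⟨⊥, bot_le, ea_bot⟩, Finset.mem_univ _⟩
  exact ⟨A, hA1, hA2, fun B hB1 hB2 => hmax ⟨B, hB1, hB2⟩ (Finset.mem_univ _)⟩

theorem mem_maxElementaryAbelianSubgroups_iff (T : Subgroup G) (A : Subgroup T) :
    A ∈ maxElementaryAbelianSubgroups p T ↔ IsMaxElemIn p T (A.map T.subtype) := by
  constructor
  · rintro ⟨h1, h2⟩
    refine ⟨map_subtype_le A, ea_map h1 _, fun B hBT hB => ?_⟩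
    have h3 : IsElementaryAbelian p (B.subgroupOf T) :=
      ea_of_map T.subtype T.subtype_injective.injOn (by rwa [map_subgroupOf_eq_of_le hBT])
    have h4 := h2 _ h3
    rwa [← map_subgroupOf_eq_of_le hBT, card_map_of_injective T.subtype_injective,
      card_map_of_injective T.subtype_injective]
  · rintro ⟨-, h1, h2⟩
    refine ⟨ea_of_map T.subtype T.subtype_injective.injOn h1, fun B hB => ?_⟩
    have h4 := h2 (B.map T.subtype) (map_subtype_le B) (ea_map hB _)
    rwa [card_map_of_injective T.subtype_injective, card_map_of_injective T.subtype_injective]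
      at h4

theorem thompsonSubgroupOf_eq (T : Subgroup G) :
    thompsonSubgroupOf p T = sSup {A | IsMaxElemIn p T A} := by
  apply le_antisymm
  · rw [thompsonSubgroupOf, thompsonSubgroup, map_le_iff_le_comap, sSup_le_iff]
    intro A hA
    rw [← map_le_iff_le_comap]
    exact le_sSup ((mem_maxElementaryAbelianSubgroups_iff T A).mp hA)
  · refine sSup_le fun A hA => ?_
    rw [← map_subgroupOf_eq_of_le hA.1]
    refine map_mono (le_sSup ?_)
    rw [mem_maxElementaryAbelianSubgroups_iff, map_subgroupOf_eq_of_le hA.1]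
    exact hA

theorem le_thompsonSubgroupOf {T A : Subgroup G} (hA : IsMaxElemIn p T A) :
    A ≤ thompsonSubgroupOf p T := by
  rw [thompsonSubgroupOf_eq]; exact le_sSup hA

theorem thompsonSubgroupOf_le (T : Subgroup G) : thompsonSubgroupOf p T ≤ T :=
  map_subtype_le _

/-- The Thompson subgroup commutes with homomorphisms injective on the subgroup. -/
theorem map_thompsonSubgroupOf (T : Subgroup G) (f : G →* H) (hf : Set.InjOn f T) :
    (thompsonSubgroupOf p T).map f = thompsonSubgroupOf p (T.map f) := by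
  have hcard : ∀ A : Subgroup G, A ≤ T → Nat.card (A.map f) = Nat.card A := fun A hA =>
    Nat.card_image_of_injOn (hf.mono hA)
  have hback : ∀ B : Subgroup H, B ≤ T.map f → ((B.comap f) ⊓ T).map f = B := by
    intro B hB
    refine le_antisymm ((map_mono inf_le_left).trans (map_comap_le _ _)) fun b hb => ?_
    obtain ⟨a, ha, rfl⟩ := hB hb
    exact ⟨a, ⟨hb, ha⟩, rfl⟩
  rw [thompsonSubgroupOf_eq, thompsonSubgroupOf_eq]
  apply le_antisymm
  · rw [map_le_iff_le_comap, sSup_le_iff]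
    rintro A ⟨h1, h2, h3⟩
    rw [← map_le_iff_le_comap]
    refine le_sSup ⟨map_mono h1, ea_map h2 f, fun B hB hBe => ?_⟩
    rw [hcard A h1, ← hback B hB, hcard _ inf_le_right]
    refine h3 _ inf_le_right (ea_of_map f (hf.mono inf_le_right) ?_)
    rwa [hback B hB]
  · refine sSup_le ?_
    rintro B ⟨h1, h2, h3⟩
    rw [← hback B h1]
    refine map_mono (le_sSup ⟨inf_le_right,
      ea_of_map f (hf.mono inf_le_right) (by rwa [hback B h1]), fun A hA hAe => ?_⟩)
    rw [← hcard _ inf_le_right, hback B h1, ← hcard A hA]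
    exact h3 _ (map_mono hA) (ea_map hAe f)

theorem normalizer_le_normalizer_thompson (T : Subgroup G) :
    normalizer (T : Set G) ≤ normalizer (thompsonSubgroupOf p T : Set G) := by
  intro g hg
  rw [mem_normalizer_iff_map_conj_eq] at hg ⊢
  rw [map_thompsonSubgroupOf T _ (MulAut.conj g).injective.injOn]
  exact congrArg _ hg

theorem thompsonSubgroupOf_eq_of_le {S T : Subgroup G} [Finite G] (hTS : T ≤ S)
    (hJ : thompsonSubgroupOf p S ≤ T) : thompsonSubgroupOf p T = thompsonSubgroupOf p S := by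
  obtain ⟨A0, hA0⟩ := exists_isMaxElemIn (p := p) S
  have hA0T : A0 ≤ T := (le_thompsonSubgroupOf hA0).trans hJ
  rw [thompsonSubgroupOf_eq, thompsonSubgroupOf_eq]
  congr 1
  ext A
  constructor
  · rintro ⟨h1, h2, h3⟩
    exact ⟨h1.trans hTS, h2, fun B hB hBe => (hA0.2.2 B hB hBe).trans (h3 A0 hA0T hA0.2.1)⟩
  · intro hA
    exact ⟨(le_thompsonSubgroupOf hA).trans hJ, hA.2.1,
      fun B hB hBe => hA.2.2 B (hB.trans hTS) hBe⟩

theorem exists_orderOf_eq_zpowers_ea [Finite G] [hp : Fact p.Prime] {T : Subgroup G}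
    (hT : IsPGroup p T) (hT1 : T ≠ ⊥) :
    ∃ x ∈ T, orderOf x = p ∧ IsElementaryAbelian p (zpowers x) := by
  haveI : Nontrivial T := (nontrivial_iff_ne_bot T).mpr hT1
  obtain ⟨n, hn, hcard⟩ := (IsPGroup.nontrivial_iff_card hT).mp inferInstance
  obtain ⟨x, hx⟩ := exists_prime_orderOf_dvd_card' (G := T) p (hcard ▸ dvd_pow_self p hn.ne')
  refine ⟨x, x.2, by rw [Subgroup.orderOf_coe, hx], inferInstance, ?_⟩
  intro a ha
  obtain ⟨i, rfl⟩ := mem_zpowers_iff.mp ha
  rw [← zpow_natCast, ← zpow_mul, mul_comm, zpow_mul, zpow_natCast, ← hx, ← Subgroup.orderOf_coe,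
    pow_orderOf_eq_one, one_zpow]

theorem thompsonSubgroupOf_ne_bot [Finite G] [hp : Fact p.Prime] {T : Subgroup G}
    (hT : IsPGroup p T) (hT1 : T ≠ ⊥) : thompsonSubgroupOf p T ≠ ⊥ := by
  obtain ⟨x, hxT, hxo, hxe⟩ := exists_orderOf_eq_zpowers_ea hT hT1
  obtain ⟨A, hA⟩ := exists_isMaxElemIn (p := p) T
  intro hb
  have h1 := le_thompsonSubgroupOf hA
  rw [hb, le_bot_iff] at h1
  have h2 := hA.2.2 _ (zpowers_le.mpr hxT) hxe
  rw [Nat.card_zpowers, hxo, h1, card_bot] at h2
  exact absurd h2 (by have := hp.out.two_le; omega)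

end Cfsg.Agent.Transfer

namespace Cfsg.Agent.Transfer

open Subgroup Cfsg

variable {G : Type*} [Group G] {p : ℕ}

theorem thompsonSubgroupOf_top : thompsonSubgroupOf p (⊤ : Subgroup G) = thompsonSubgroup p G := by
  rw [thompsonSubgroupOf_eq, thompsonSubgroup]
  congr 1
  ext A
  exact ⟨fun h => ⟨h.2.1, fun B hB => h.2.2 B le_top hB⟩,
    fun h => ⟨le_top, h.1, fun B _ hB => h.2 B hB⟩⟩

theorem isMaxElemIn_top_iff {A : Subgroup G} :
    IsMaxElemIn p ⊤ A ↔ A ∈ maxElementaryAbelianSubgroups p G :=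
  ⟨fun h => ⟨h.2.1, fun B hB => h.2.2 B le_top hB⟩,
    fun h => ⟨le_top, h.1, fun B _ hB => h.2 B hB⟩⟩

theorem thompsonSubgroup_characteristic : (thompsonSubgroup p G).Characteristic := by
  refine characteristic_iff_map_eq.mpr fun e => ?_
  rw [← thompsonSubgroupOf_top, map_thompsonSubgroupOf _ _ e.injective.injOn,
    map_top_of_surjective e.toMonoidHom e.surjective]

theorem ea_sup {A B : Subgroup G} (hA : IsElementaryAbelian p A) (hB : IsElementaryAbelian p B)
    (hc : A ≤ centralizer (B : Set G)) : IsElementaryAbelian p (A ⊔ B : Subgroup G) := by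
  have hn : B ≤ normalizer (A : Set G) := by
    intro b hb
    rw [mem_normalizer_iff]
    intro a
    constructor
    · intro ha
      rwa [hc ha b hb, mul_inv_cancel_right]
    · intro ha
      have h := hc ha b hb
      rw [inv_mul_cancel_right] at h
      rwa [mul_left_cancel h] at ha
  have hmem : ∀ x : G, x ∈ A ⊔ B ↔ ∃ a ∈ A, ∃ b ∈ B, x = a * b := by
    intro x
    rw [← SetLike.mem_coe, coe_mul_of_right_le_normalizer_left A B hn, Set.mem_mul]
    simp only [SetLike.mem_coe]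
    constructor
    · rintro ⟨a, ha, b, hb, rfl⟩
      exact ⟨a, ha, b, hb, rfl⟩
    · rintro ⟨a, ha, b, hb, rfl⟩
      exact ⟨a, ha, b, hb, rfl⟩
  refine ⟨⟨⟨fun x y => Subtype.ext ?_⟩⟩, fun x hx => ?_⟩
  · obtain ⟨a, ha, b, hb, hxe⟩ := (hmem _).mp x.2
    obtain ⟨a', ha', b', hb', hye⟩ := (hmem _).mp y.2
    have e1 : Commute a (a' * b') :=
      (show Commute a a' from ea_commute hA ha ha').mul_right (hc ha b' hb').symm
    have e2 : Commute b (a' * b') :=
      (show Commute b a' from hc ha' b hb).mul_right (ea_commute hB hb hb')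
    rw [coe_mul, coe_mul, hxe, hye]
    exact (e1.mul_left e2).eq
  · obtain ⟨a, ha, b, hb, rfl⟩ := (hmem _).mp hx
    rw [Commute.mul_pow (hc ha b hb).symm, hA.2 a ha, hB.2 b hb, one_mul]

theorem ea_zpowers {x : G} (h : x ^ p = 1) : IsElementaryAbelian p (zpowers x) := by
  refine ⟨inferInstance, ?_⟩
  intro a ha
  obtain ⟨i, rfl⟩ := mem_zpowers_iff.mp ha
  rw [← zpow_natCast, ← zpow_mul, mul_comm, zpow_mul, zpow_natCast, h, one_zpow]

end Cfsg.Agent.Transfer
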