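import Cfsg.Agent.Lib.Transfer.Residual

/-!
# Fusion, transfer and the normal p-complement criteria
-/

set_option autoImplicit false
set_option linter.style.haveILetI false

namespace Cfsg.Agent.Transfer

open Subgroup Cfsg
open scoped commutatorElement Pointwise

variable {G : Type*} [Group G] {p : ℕ}

/-- If `ϕ` does not separate `G`-conjugate elements of `H`, the transfer of `ϕ` restricted to `H`
is the `[G : H]`-th power of `ϕ`. -/
theorem transfer_eq_pow_of_invariant {A : Type*} [CommGroup A] {H : Subgroup G} [H.FiniteIndex]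
    (ϕ : H →* A)
    (hinv : ∀ (g : G) (h : H) (hc : g⁻¹ * (h : G) * g ∈ H), ϕ ⟨g⁻¹ * (h : G) * g, hc⟩ = ϕ h)
    (x : H) : MonoidHom.transfer ϕ (x : G) = ϕ x ^ H.index := by
  classical
  have : Fintype (Quotient (MulAction.orbitRel (zpowers (x : G)) (G ⧸ H))) := Fintype.ofFinite _
  rw [MonoidHom.transfer_eq_prod_quotient_orbitRel_zpowers_quot, index_eq_sum_minimalPeriod H x,
    ← Finset.prod_pow_eq_pow_sum]
  refine Finset.prod_congr rfl fun q _ => ?_
  rw [← map_pow]
  exact hinv q.out.out (x ^ Function.minimalPeriod ((x : G) • ·) q.out) _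

/-- Nakayama's trick for a nilpotent group acting: `Q ≤ R[Q,S]` forces `Q ≤ R`. -/
theorem le_of_le_sup_commutator {Q R S : Subgroup G} [Group.IsNilpotent S] (hQS : Q ≤ S)
    (hR : S ≤ normalizer (R : Set G)) (h : Q ≤ R ⊔ ⁅Q, S⁆) : Q ≤ R := by
  have hn : ∀ n, Q ≤ R ⊔ S.lowerCentralSeries n := by
    intro n
    induction n with
    | zero => exact hQS.trans le_sup_right
    | succ n ih =>
      refine h.trans (sup_le le_sup_left (commutator_le.mpr fun q hq y hy => ?_))
      have hle : S.lowerCentralSeries n ≤ normalizer (R : Set G) :=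
        (S.lowerCentralSeries_antitone (Nat.zero_le n)).trans hR
      have hq' : q ∈ (↑R * ↑(S.lowerCentralSeries n) : Set G) := by
        rw [← coe_mul_of_right_le_normalizer_left R _ hle]
        exact ih hq
      obtain ⟨r, hr, c, hc, rfl⟩ := Set.mem_mul.mp hq'
      have e : ⁅r * c, y⁆ = r * ⁅c, y⁆ * r⁻¹ * ⁅r, y⁆ := by
        simp only [commutatorElement_def]; group
      rw [e]
      have hr' : r ∈ R ⊔ S.lowerCentralSeries (n + 1) := mem_sup_left hr
      refine mul_mem (mul_mem (mul_mem hr' ?_) (inv_mem hr')) (mem_sup_left ?_)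
      · exact mem_sup_right (by rw [Subgroup.lowerCentralSeries_succ]; exact commutator_mem_commutator hc hy)
      · rw [commutatorElement_def, mul_assoc (r * y), mul_assoc r, ← mul_assoc y]
        exact mul_mem hr ((mem_normalizer_iff.mp (hR hy) _).mp (inv_mem hr))
  obtain ⟨m, hm⟩ := (isNilpotent_iff_lowerCentralSeries S).mp ‹Group.IsNilpotent S›
  simpa [hm] using hn m

/-- A hyperfocal criterion: if modulo `R[P ∩ O^p(G), P]` the fusion inside `P ∩ O^p(G)` is trivial
then `P ∩ O^p(G) ≤ R`. -/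
theorem inf_pResidual_le_of_fusion [Finite G] [hp : Fact p.Prime] (P : Sylow p G) (R : Subgroup G)
    (hR : R ≤ (P : Subgroup G) ⊓ pResidual p G) (hRn : (P : Subgroup G) ≤ normalizer (R : Set G))
    (h : ∀ x ∈ (P : Subgroup G) ⊓ pResidual p G, ∀ g ∈ pResidual p G,
      g⁻¹ * x * g ∈ (P : Subgroup G) ⊓ pResidual p G →
      x⁻¹ * (g⁻¹ * x * g) ∈ R ⊔ ⁅(P : Subgroup G) ⊓ pResidual p G, (P : Subgroup G)⁆) :
    (P : Subgroup G) ⊓ pResidual p G ≤ R := by
  haveI : Group.IsNilpotent ↥(P : Subgroup G) := P.2.isNilpotent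
  refine le_of_le_sup_commutator inf_le_left hRn ?_
  generalize hMdef : pResidual p G = M at hR h ⊢
  haveI : M.Normal := hMdef ▸ inferInstance
  generalize hQdef : (P : Subgroup G) ⊓ M = Q at hR h ⊢
  have hQP : Q ≤ (P : Subgroup G) := hQdef ▸ inf_le_left
  have hQM : Q ≤ M := hQdef ▸ inf_le_right
  let W := R ⊔ ⁅Q, (P : Subgroup G)⁆
  have hPQ : ⁅Q, (P : Subgroup G)⁆ ≤ Q := by
    rw [← hQdef]
    exact le_inf ((commutator_mono inf_le_left le_rfl).trans
      (le_normalizer_iff_commutator_le_left.mp le_normalizer))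
      ((commutator_mono inf_le_right le_top).trans (commutator_le_left _ _))
  have hWQ : W ≤ Q := sup_le hR hPQ
  have hWn : (P : Subgroup G) ≤ normalizer (W : Set G) :=
    le_trans (le_inf hRn (normalizer_commutator_ge_right _ _))
      (normalizer_inf_normalizer_le_normalizer_sup _ _)
  let Q' : Subgroup M := Q.subgroupOf M
  let W' : Subgroup Q' := (W.subgroupOf M).subgroupOf Q'
  haveI : W'.Normal := ⟨fun w hw q => by
    simp only [W', mem_subgroupOf, coe_mul, coe_inv] at hw ⊢
    exact (mem_normalizer_iff.mp (hWn (hQP q.2)) _).mp hw⟩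
  haveI : IsMulCommutative (Q' ⧸ W') := by
    refine Normal.quotient_commutative_iff_commutator_le.mpr ?_
    rw [_root_.commutator_def, commutator_le]
    intro a _ b _
    simp only [W', mem_subgroupOf]
    refine mem_sup_right ?_
    have := commutator_mem_commutator (H₁ := Q) (H₂ := (P : Subgroup G)) a.2 (hQP b.2)
    simpa [commutatorElement_def] using this
  open scoped IsMulCommutative in
  have key : ∀ x : Q', (QuotientGroup.mk' W' x) ^ Q'.index = 1 := fun x => by
    rw [← transfer_eq_pow_of_invariant (QuotientGroup.mk' W') ?_ x]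
    · subst hMdef
      refine hom_pResidual_eq_one _ ?_ _
      exact (P.2.to_le hQP).of_equiv (subgroupOfEquivOfLe hQM).symm |>.to_quotient W'
    · intro g y hc
      symm
      rw [QuotientGroup.mk'_apply, QuotientGroup.mk'_apply, QuotientGroup.eq]
      simp only [W', mem_subgroupOf, coe_mul, coe_inv]
      exact h _ y.2 _ g.2 (by simpa [Q', mem_subgroupOf] using hc)
  intro x hx
  have hcop : Q'.index.Coprime p := by
    subst hMdef
    obtain ⟨S, hS⟩ := exists_sylow_eq_subgroupOf P (pResidual p G)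
    have : Q' = (S : Subgroup ↥(pResidual p G)) := by
      rw [hS]; show Q.subgroupOf _ = _
      rw [← hQdef, inf_subgroupOf_right]
    rw [this]
    exact (hp.out.coprime_iff_not_dvd.mpr S.not_dvd_index).symm
  have hx' : (⟨⟨x, hQM hx⟩, hx⟩ : Q') ∈ W' := by
    rw [← QuotientGroup.eq_one_iff]
    refine eq_one_of_pow_of_coprime (p := p) ?_ ?_
    · refine isPGroup_iff_orderOf_dvd_pow.mp ?_ _
      exact (P.2.to_le hQP).of_equiv (subgroupOfEquivOfLe hQM).symm |>.to_quotient W'
    · exact Nat.Coprime.coprime_dvd_left (orderOf_dvd_of_pow_eq_one (key _)) hcop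
  exact hx'

/-- If a Sylow `p`-subgroup controls its own fusion there is a normal `p`-complement. -/
theorem hasNormalPComplement_of_fusion [Finite G] [Fact p.Prime] (P : Sylow p G)
    (h : ∀ x ∈ (P : Subgroup G), ∀ g : G, g⁻¹ * x * g ∈ (P : Subgroup G) →
      ∃ z ∈ (P : Subgroup G), z⁻¹ * x * z = g⁻¹ * x * g) :
    HasNormalPComplement p G := by
  rw [hasNormalPComplement_iff_inf_eq_bot P]
  refine le_bot_iff.mp (inf_pResidual_le_of_fusion P ⊥ bot_le ?_ ?_)
  · rw [normalizer_eq_top]; exact le_top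
  · intro x hx g _ hg
    obtain ⟨z, hz, hzx⟩ := h x hx.1 g hg.1
    refine mem_sup_right ?_
    have := commutator_mem_commutator (H₁ := (P : Subgroup G) ⊓ pResidual p G)
      (inv_mem hx) (inv_mem hz)
    rw [← hzx]
    simpa [commutatorElement_def, mul_assoc] using this

/-- With a normal `p`-complement a Sylow `p`-subgroup controls its own fusion. -/
theorem fusion_of_hasNormalPComplement [Finite G] [Fact p.Prime] (P : Sylow p G)
    (h : HasNormalPComplement p G) (x : G) (hx : x ∈ (P : Subgroup G)) (g : G)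
    (hg : g⁻¹ * x * g ∈ (P : Subgroup G)) :
    ∃ z ∈ (P : Subgroup G), z⁻¹ * x * z = g⁻¹ * x * g := by
  have hc := isComplement'_pResidual (hasNormalPComplement_iff.mp h) P
  have hg' : g ∈ (↑(pResidual p G) * ↑(P : Subgroup G) : Set G) := by
    rw [← normal_mul, hc.sup_eq_top]; trivial
  obtain ⟨m, hm, z, hz, rfl⟩ := Set.mem_mul.mp hg'
  refine ⟨z, hz, ?_⟩
  have hmx : m⁻¹ * x * m ∈ (P : Subgroup G) := by
    have h2 := mul_mem (mul_mem hz hg) (inv_mem hz)
    simpa [mul_assoc] using h2
  have hbot := disjoint_iff.mp hc.disjoint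
  have : x⁻¹ * (m⁻¹ * x * m) ∈ pResidual p G ⊓ (P : Subgroup G) := by
    refine mem_inf.mpr ⟨?_, mul_mem (inv_mem hx) hmx⟩
    have h3 := Subgroup.Normal.conj_mem inferInstance m⁻¹ (inv_mem hm) x⁻¹
    simpa [mul_assoc] using mul_mem h3 hm
  rw [hbot, mem_bot, inv_mul_eq_one] at this
  have e : (m * z)⁻¹ * x * (m * z) = z⁻¹ * (m⁻¹ * x * m) * z := by group
  rw [e, ← this]

/-- The induction in Frobenius' theorem: if `N(D) = S C(D)` for `p`-subgroups `D`, Sylow subgroups
through `D` are conjugate under the centralizer of their intersection. -/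
theorem exists_centralizer_conj [Finite G] [hp : Fact p.Prime]
    (h : ∀ D : Subgroup G, IsPGroup p D → ∀ g ∈ normalizer (D : Set G), (orderOf g).Coprime p →
      g ∈ centralizer (D : Set G)) (n : ℕ) (P R : Sylow p G)
    (hn : Nat.card ↥(P : Subgroup G) ≤ Nat.card ↥((P : Subgroup G) ⊓ R : Subgroup G) + n) :
    ∃ c ∈ centralizer (((P : Subgroup G) ⊓ R : Subgroup G) : Set G), c • P = R := by
  induction n generalizing P R with
  | zero =>
    have h1 : (P : Subgroup G) ⊓ R = P := eq_of_le_of_card_ge inf_le_left (by simpa using hn)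
    have h2 : R = P := Sylow.ext (P.3 R.2 (inf_eq_left.mp h1))
    exact ⟨1, one_mem _, by rw [one_smul, h2]⟩
  | succ n ih =>
    generalize hD : (P : Subgroup G) ⊓ R = D at hn ⊢
    by_cases hPD : D = (P : Subgroup G)
    · have h2 : R = P := Sylow.ext (P.3 R.2 (inf_eq_left.mp (hD.trans hPD)))
      exact ⟨1, one_mem _, by rw [one_smul, h2]⟩
    have hDp : IsPGroup p D := hD ▸ P.2.to_inf_left
    have hDP : D ≤ P := hD ▸ inf_le_left
    have hDR : D ≤ R := hD ▸ inf_le_right
    -- normalizers grow inside both Sylow subgroups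
    have grow : ∀ S : Sylow p G, D ≤ S → D ≠ (S : Subgroup G) →
        D < (S : Subgroup G) ⊓ normalizer (D : Set G) := by
      intro S hS hne
      haveI : Group.IsNilpotent ↥(S : Subgroup G) := S.2.isNilpotent
      have := Group.normalizerCondition_of_isNilpotent (G := ↥(S : Subgroup G)) (D.subgroupOf S)
        (lt_top_iff_ne_top.mpr fun ht => hne (le_antisymm hS (subgroupOf_eq_top.mp ht)))
      obtain ⟨x, hx, hxD⟩ := SetLike.exists_of_lt this
      refine lt_of_le_of_ne (le_inf hS le_normalizer) fun he => hxD ?_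
      rw [mem_subgroupOf, he]
      refine ⟨x.2, mem_normalizer_iff.mpr fun y => ⟨fun hy => ?_, fun hy => ?_⟩⟩
      · exact (mem_normalizer_iff.mp hx ⟨y, hS hy⟩).mp hy
      · have hyS : y ∈ (S : Subgroup G) := by
          have := mul_mem (mul_mem (inv_mem x.2) (hS hy)) x.2
          simpa [mul_assoc] using this
        exact (mem_normalizer_iff.mp hx ⟨y, hyS⟩).mpr hy
    have hRD : D ≠ (R : Subgroup G) := fun he => by
      have h2 : P = R := Sylow.ext (R.3 P.2 (he ▸ hDP))
      exact hPD (by rw [← hD, ← h2, inf_idem])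
    set N := normalizer (D : Set G) with hN
    have hPN : IsPGroup p (((P : Subgroup G) ⊓ N).subgroupOf N) :=
      P.2.to_inf_left.comap_subtype
    have hRN : IsPGroup p (((R : Subgroup G) ⊓ N).subgroupOf N) :=
      R.2.to_inf_left.comap_subtype
    obtain ⟨S1, hS1⟩ := hPN.exists_le_sylow
    obtain ⟨S2, hS2⟩ := hRN.exists_le_sylow
    -- a conjugating element of the centralizer
    let C : Subgroup N := (centralizer (D : Set G)).subgroupOf N
    haveI : C.Normal := by
      simp only [C, hN]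
      rw [← normalizerMonoidHom_ker]
      exact MonoidHom.normal_ker _
    have hC : pResidual p N ≤ C := (closure_le _).mpr fun g hg =>
      h D hDp g g.2 (by rwa [Subgroup.orderOf_coe])
    obtain ⟨g, hg⟩ := MulAction.exists_smul_eq N S1 S2
    have hgmem : g ∈ (↑C * ↑(S1 : Subgroup N) : Set N) := by
      have h4 : C ⊔ (S1 : Subgroup N) = ⊤ :=
        top_le_iff.mp ((pResidual_sup_sylow S1).ge.trans (sup_le_sup_right hC _))
      rw [← normal_mul, h4]; trivial
    obtain ⟨c, hc, s, hs, rfl⟩ := Set.mem_mul.mp hgmem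
    have hs' : s • S1 = S1 :=
      Sylow.smul_eq_iff_mem_normalizer.mpr (le_normalizer hs)
    rw [mul_smul, hs'] at hg
    obtain ⟨T, hT⟩ : ∃ T : Sylow p G, (S1 : Subgroup N).map N.subtype ≤ T :=
      (S1.2.map N.subtype).exists_le_sylow
    have hPT : (P : Subgroup G) ⊓ N ≤ (P : Subgroup G) ⊓ T :=
      le_inf inf_le_left fun x hx => hT ⟨⟨x, hx.2⟩, hS1 hx, rfl⟩
    have hlt1 : Nat.card ↥D < Nat.card ↥((P : Subgroup G) ⊓ T : Subgroup G) := by
      refine lt_of_lt_of_le ?_ (card_le_of_le hPT)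
      by_contra hle
      exact (grow P hDP (Ne.intro hPD)).ne
        (eq_of_le_of_card_ge (grow P hDP hPD).le (not_lt.mp hle))
    obtain ⟨c1, hc1, hc1T⟩ := ih P T (by omega)
    have hc1D : c1 ∈ centralizer (D : Set G) :=
      centralizer_le ((le_inf hDP le_normalizer).trans hPT) hc1
    let T' : Sylow p G := (c : G) • T
    have hRT : (R : Subgroup G) ⊓ N ≤ (T' : Subgroup G) ⊓ (R : Subgroup G) := by
      refine le_inf (fun x hx => ?_) inf_le_left
      have hx2 : (⟨x, hx.2⟩ : N) ∈ (S2 : Subgroup N) := hS2 hx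
      rw [← hg] at hx2
      obtain ⟨y, hy, hyx⟩ := hx2
      have : (y : G) ∈ (T : Subgroup G) := hT ⟨y, hy, rfl⟩
      exact ⟨y, this, congrArg Subtype.val hyx⟩
    have hcardT : Nat.card ↥(T' : Subgroup G) = Nat.card ↥(P : Subgroup G) :=
      (Nat.card_congr (Sylow.equiv T' P).toEquiv)
    have hlt2 : Nat.card ↥D < Nat.card ↥((T' : Subgroup G) ⊓ R : Subgroup G) := by
      refine lt_of_lt_of_le ?_ (card_le_of_le hRT)
      by_contra hle
      exact (grow R hDR hRD).ne (eq_of_le_of_card_ge (grow R hDR hRD).le (not_lt.mp hle))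
    obtain ⟨c2, hc2, hc2R⟩ := ih T' R (by omega)
    have hc2D : c2 ∈ centralizer (D : Set G) :=
      centralizer_le ((le_inf hDR le_normalizer).trans hRT) hc2
    refine ⟨c2 * (c : G) * c1, mul_mem (mul_mem hc2D hc) hc1D, ?_⟩
    rw [mul_smul, mul_smul, hc1T]
    exact hc2R

/-- **Frobenius' normal `p`-complement criterion**. -/
theorem hasNormalPComplement_of_frobenius [Finite G] [Fact p.Prime]
    (h : ∀ D : Subgroup G, IsPGroup p D → ∀ g ∈ normalizer (D : Set G), (orderOf g).Coprime p →
      g ∈ centralizer (D : Set G)) : HasNormalPComplement p G := by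
  let P : Sylow p G := default
  refine hasNormalPComplement_of_fusion P fun x hx g hg => ?_
  obtain ⟨c, hc, hcP⟩ := exists_centralizer_conj h _ P (g • P) (Nat.le_add_left _ _)
  have hxgP : x ∈ ((g • P : Sylow p G) : Subgroup G) := by
    rw [Sylow.coe_subgroup_smul, mem_pointwise_smul_iff_inv_smul_mem]
    simpa using hg
  have hcx : Commute c x := (hc x ⟨hx, hxgP⟩).symm
  have hn : c⁻¹ * g ∈ normalizer (P : Set G) := by
    rw [← Sylow.smul_eq_iff_mem_normalizer, mul_smul, ← hcP, inv_smul_smul]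
  obtain ⟨a, b, ha, hb, hab, hak, hbc⟩ := exists_pPart_mul (p := p) (c⁻¹ * g)
  have haP : a ∈ (P : Subgroup G) := by
    have hab' : zpowers a ≤ normalizer (P : Set G) := by
      rw [zpowers_le]; exact zpowers_le.mpr hn ha
    have hpa : IsPGroup p (zpowers a) := by
      obtain ⟨k, hk⟩ := hak
      exact IsPGroup.of_card_dvd_pow (n := k) (by rwa [Nat.card_zpowers])
    have : zpowers a ≤ zpowers a ⊓ P := by
      rw [← hpa.inf_normalizer_sylow P]; exact le_inf le_rfl hab'
    exact (this (mem_zpowers a)).2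
  have hbC : b ∈ centralizer ((P : Subgroup G) : Set G) :=
    h _ P.2 b (zpowers_le.mpr hn hb) hbc
  refine ⟨a, haP, ?_⟩
  have hy : a⁻¹ * x * a ∈ (P : Subgroup G) := mul_mem (mul_mem (inv_mem haP) hx) haP
  have hgeq : g = c * (a * b) := by rw [hab, mul_inv_cancel_left]
  calc a⁻¹ * x * a = b⁻¹ * (a⁻¹ * x * a) * b := by
        rw [mul_assoc b⁻¹, hbC _ hy, inv_mul_cancel_left]
    _ = (a * b)⁻¹ * (c⁻¹ * x * c) * (a * b) := by
        rw [mul_assoc c⁻¹, ← hcx.eq, inv_mul_cancel_left]; group
    _ = g⁻¹ * x * g := by rw [hgeq]; group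

/-- The converse of Frobenius' criterion. -/
theorem centralizes_of_hasNormalPComplement [Finite G] [hp : Fact p.Prime]
    (h : HasNormalPComplement p G) (D : Subgroup G) (hD : IsPGroup p D) (g : G)
    (hg : g ∈ normalizer (D : Set G)) (ho : (orderOf g).Coprime p) :
    g ∈ centralizer (D : Set G) := by
  intro x hx
  have hM : ¬ p ∣ Nat.card ↥(pResidual p G) := hasNormalPComplement_iff.mp h
  have hbot : D ⊓ pResidual p G = ⊥ := by
    obtain ⟨P, hP⟩ := hD.exists_le_sylow
    rw [← le_bot_iff, ← sylow_disjoint_of_coprime P _ hM, inf_comm _ (P : Subgroup G)]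
    exact inf_le_inf_right _ hP
  have hgM := mem_pResidual_of_coprime ho
  have : x * g * x⁻¹ * g⁻¹ ∈ D ⊓ pResidual p G := by
    refine mem_inf.mpr ⟨?_, mul_mem (Subgroup.Normal.conj_mem inferInstance g hgM x) (inv_mem hgM)⟩
    have := (mem_normalizer_iff.mp hg _).mp (inv_mem hx)
    simpa [mul_assoc] using mul_mem hx this
  rw [hbot, mem_bot, mul_inv_eq_one, mul_inv_eq_iff_eq_mul] at this
  exact this

end Cfsg.Agent.Transfer
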