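import Cfsg.Agent.Lib.Transfer.Faithful
import Cfsg.Agent.Lib.Transfer.Abelian
import Cfsg.Agent.Lib.Basics.Cores
import Mathlib.GroupTheory.SemidirectProduct

/-!
# Thompson's normal p-complement theorem
-/

set_option autoImplicit false
set_option linter.style.haveILetI false

namespace Cfsg.Agent.Transfer

open Subgroup Cfsg
open scoped commutatorElement IsMulCommutative Pointwise

universe u

variable {G : Type*} [Group G] {H : Type*} [Group H] {p : ℕ}

/-- The hypothesis of Thompson's theorem at the subgroup `S`. -/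
def ThompsonHyp (p : ℕ) (S : Subgroup G) : Prop :=
  HasNormalPComplement p (normalizer (thompsonSubgroupOf p S : Set G)) ∧
    HasNormalPComplement p (centralizer ((S ⊓ centralizer (S : Set G) : Subgroup G) : Set G))

theorem hasNormalPComplement_of_le [Finite G] [Fact p.Prime] {A B : Subgroup G} (h : A ≤ B)
    (hB : HasNormalPComplement p B) : HasNormalPComplement p A :=
  hasNormalPComplement_of_injective (inclusion h) (inclusion_injective h) hB

theorem hasNormalPComplement_of_eq_top [Finite G] [Fact p.Prime] {A : Subgroup G} (h : A = ⊤)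
    (hA : HasNormalPComplement p A) : HasNormalPComplement p G := by
  subst h
  exact (hasNormalPComplement_congr topEquiv).mp hA

theorem hasNormalPComplement_map [Finite G] [Fact p.Prime] (f : G →* H) {A : Subgroup G}
    (hA : HasNormalPComplement p A) : HasNormalPComplement p (A.map f) :=
  hasNormalPComplement_of_surjective _ (f.subgroupMap_surjective A) hA

theorem center_map_of_injOn (f : G →* H) {S : Subgroup G} (hf : Set.InjOn f S) :
    (S.map f) ⊓ centralizer ((S.map f : Subgroup H) : Set H) =
      (S ⊓ centralizer (S : Set G)).map f := by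
  apply le_antisymm
  · rintro _ ⟨⟨a, ha, rfl⟩, hc⟩
    refine ⟨a, ⟨ha, fun b hb => hf (mul_mem hb ha) (mul_mem ha hb) ?_⟩, rfl⟩
    rw [map_mul, map_mul]
    exact hc (f b) ⟨b, hb, rfl⟩
  · rintro _ ⟨a, ⟨ha, hc⟩, rfl⟩
    refine ⟨⟨a, ha, rfl⟩, ?_⟩
    rintro _ ⟨b, hb, rfl⟩
    rw [← map_mul, ← map_mul, hc b hb]

theorem thompsonHyp_subgroup [Finite G] [Fact p.Prime] (K : Subgroup G) (S : Subgroup K)
    (hN : HasNormalPComplement p
      (normalizer (thompsonSubgroupOf p (S.map K.subtype) : Set G)))
    (hC : HasNormalPComplement p (centralizer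
      ((S.map K.subtype ⊓ centralizer (S.map K.subtype : Set G) : Subgroup G) : Set G))) :
    ThompsonHyp p S := by
  constructor
  · refine hasNormalPComplement_of_injective
      ((K.subtype.comp (Subgroup.subtype _)).codRestrict _ fun x => ?_) ?_ hN
    · have h := le_normalizer_map K.subtype (mem_map_of_mem K.subtype x.2)
      rwa [map_thompsonSubgroupOf S _ K.subtype_injective.injOn] at h
    · intro a b h
      have h' := congrArg Subtype.val h
      exact Subtype.ext (Subtype.ext h')
  · refine hasNormalPComplement_of_injective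
      ((K.subtype.comp (Subgroup.subtype _)).codRestrict _ fun x => ?_) ?_ hC
    · rw [center_map_of_injOn _ K.subtype_injective.injOn]
      rintro _ ⟨a, ha, rfl⟩
      exact congrArg Subtype.val (x.2 a ha)
    · intro a b h
      have h' := congrArg Subtype.val h
      exact Subtype.ext (Subtype.ext h')

theorem thompsonHyp_conj [Finite G] [Fact p.Prime] (e : G ≃* G) {S : Subgroup G}
    (h : ThompsonHyp p S) : ThompsonHyp p (S.map e.toMonoidHom) := by
  have hinj : Set.InjOn e.toMonoidHom S := e.injective.injOn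
  constructor
  · rw [← map_thompsonSubgroupOf S _ hinj, ← map_equiv_normalizer_eq]
    exact hasNormalPComplement_map _ h.1
  · rw [center_map_of_injOn _ hinj]
    refine hasNormalPComplement_of_le ?_ (hasNormalPComplement_map e.toMonoidHom h.2)
    intro x hx
    refine ⟨e.symm x, fun z hz => e.injective ?_, e.apply_symm_apply x⟩
    rw [map_mul, map_mul, e.apply_symm_apply]
    exact hx _ ⟨z, hz, rfl⟩

theorem exists_thompsonHyp_of_le [Finite G] [hp : Fact p.Prime] (P : Sylow p G)
    (hP : ThompsonHyp p (P : Subgroup G)) {T : Subgroup G} (hT : IsPGroup p T) :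
    ∃ P' : Sylow p G, T ≤ P' ∧ ThompsonHyp p (P' : Subgroup G) := by
  obtain ⟨P', hP'⟩ := hT.exists_le_sylow
  obtain ⟨g, hg⟩ := MulAction.exists_smul_eq G P P'
  refine ⟨P', hP', ?_⟩
  have h := thompsonHyp_conj (MulAut.conj g) hP
  rwa [← hg, Sylow.coe_subgroup_smul]

theorem center_ne_bot [Finite G] [hp : Fact p.Prime] {S : Subgroup G} (hS : IsPGroup p S)
    (h : S ≠ ⊥) : S ⊓ centralizer (S : Set G) ≠ ⊥ := by
  haveI : Nontrivial S := (nontrivial_iff_ne_bot S).mpr h
  haveI := hS.center_nontrivial
  obtain ⟨z, hz⟩ := exists_ne (1 : center S)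
  intro hb
  apply hz
  have : ((z : S) : G) ∈ S ⊓ centralizer (S : Set G) :=
    ⟨(z : S).2, fun y hy => congrArg Subtype.val (mem_center_iff.mp z.2 ⟨y, hy⟩)⟩
  rw [hb, mem_bot] at this
  exact Subtype.ext (Subtype.ext this)

theorem normalizer_le_normalizer_center (S : Subgroup G) :
    normalizer (S : Set G) ≤ normalizer ((S ⊓ centralizer (S : Set G) : Subgroup G) : Set G) := by
  intro g hg
  rw [mem_normalizer_iff_map_conj_eq] at hg ⊢
  rw [← center_map_of_injOn _ (MulAut.conj g).injective.injOn]
  rw [hg]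

theorem normal_of_normalizer_eq_top' {K : Subgroup G} (h : normalizer (K : Set G) = ⊤) :
    K.Normal := normalizer_eq_top_iff.mp h

theorem centralizer_le_normalizer_self (S : Subgroup G) :
    centralizer (S : Set G) ≤ normalizer (S : Set G) := by
  intro g hg
  rw [mem_normalizer_iff]
  intro x
  constructor
  · intro hx
    rwa [← hg x hx, mul_inv_cancel_right]
  · intro hx
    have h := hg _ hx
    rw [inv_mul_cancel_right] at h
    rwa [← mul_left_cancel h] at hx

/-- The hypothesis is inherited by quotients by normal `p'`-subgroups. -/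
theorem normalizer_map_le [Finite G] [hp : Fact p.Prime] {f : G →* H}
    (hf : Function.Surjective f) (hker : ¬ p ∣ Nat.card f.ker) {T : Subgroup G}
    (hT : IsPGroup p T) :
    normalizer (T.map f : Set H) ≤ (normalizer (T : Set G)).map f := by
  intro y hy
  obtain ⟨x, rfl⟩ := hf y
  set K := f.ker ⊔ T with hK
  have hx : x ∈ normalizer (K : Set G) := by
    have h : x ∈ (normalizer (T.map f : Set H)).comap f := hy
    rwa [comap_normalizer_eq_of_surjective _ hf, comap_map_eq, sup_comm] at h
  obtain ⟨k, hk⟩ := hT.exists_card_eq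
  have hcop : (Nat.card f.ker).Coprime (Nat.card T) := by
    rw [hk]
    exact ((hp.out.coprime_iff_not_dvd.mpr hker).symm).pow_right k
  have hcard : Nat.card K = Nat.card f.ker * Nat.card T :=
    Basics.card_sup_of_coprime le_normalizer_of_normal hcop
  have hTK : T ≤ K := le_sup_right
  set T' := T.map (MulAut.conj x).toMonoidHom with hT'
  have hT'K : T' ≤ K := by
    rintro _ ⟨t, ht, rfl⟩
    exact (mem_normalizer_iff.mp hx t).mp (hTK ht)
  have hidx : ∀ U : Subgroup G, U ≤ K → IsPGroup p U → Nat.card U = Nat.card T →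
      ∃ S : Sylow p K, (S : Subgroup K) = U.subgroupOf K := by
    intro U hU hUp hUc
    refine ⟨((hUp.comap_subtype).toSylow (fun hd => hker ?_)), rfl⟩
    change p ∣ (U.subgroupOf K).index at hd
    have h1 := card_mul_index (U.subgroupOf K)
    rw [Basics.card_subgroupOf hU, hUc, hcard, mul_comm (Nat.card f.ker)] at h1
    rwa [Nat.eq_of_mul_eq_mul_left Nat.card_pos h1] at hd
  obtain ⟨S1, hS1⟩ := hidx T hTK hT rfl
  obtain ⟨S2, hS2⟩ := hidx T' hT'K (hT.map _)
    (card_map_of_injective (MulAut.conj x).injective)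
  obtain ⟨h, hh⟩ := MulAction.exists_smul_eq K S1 S2
  have hconj : T.map (MulAut.conj (h : G)).toMonoidHom = T' := by
    have h1 := congrArg (fun S : Sylow p K => (S : Subgroup K).map K.subtype) hh
    simp only [Sylow.coe_subgroup_smul, hS1, hS2] at h1
    rw [map_subgroupOf_eq_of_le hT'K] at h1
    rw [← h1]
    ext z
    constructor
    · rintro ⟨t, ht, rfl⟩
      exact ⟨h * ⟨t, hTK ht⟩ * h⁻¹, ⟨⟨t, hTK ht⟩, ht, rfl⟩, rfl⟩
    · rintro ⟨_, ⟨t, ht, rfl⟩, rfl⟩
      exact ⟨(t : G), ht, rfl⟩
  have hn : (h : G)⁻¹ * x ∈ normalizer (T : Set G) := by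
    rw [mem_normalizer_iff]
    intro t
    have e1 : (h : G)⁻¹ * x * t * ((h : G)⁻¹ * x)⁻¹ = (h : G)⁻¹ * (x * t * x⁻¹) * h := by group
    rw [e1]
    constructor
    · intro ht
      have h2 : x * t * x⁻¹ ∈ T' := ⟨t, ht, rfl⟩
      rw [← hconj] at h2
      obtain ⟨t', ht', he⟩ := h2
      have he' : (h : G) * t' * (h : G)⁻¹ = x * t * x⁻¹ := he
      rw [← he']
      simpa [mul_assoc] using ht'
    · intro ht
      have h2 : (h : G) * ((h : G)⁻¹ * (x * t * x⁻¹) * h) * (h : G)⁻¹ ∈ T' :=
        hconj ▸ ⟨_, ht, rfl⟩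
      obtain ⟨t', ht', he⟩ := h2
      have he' : x * t' * x⁻¹ = (h : G) * ((h : G)⁻¹ * (x * t * x⁻¹) * h) * (h : G)⁻¹ := he
      have : t' = t := by
        simpa [mul_assoc] using he'
      rwa [this] at ht'
  have hfh : f h ∈ T.map f := by
    have h1 : f (h : G) ∈ K.map f := mem_map_of_mem f h.2
    have h2 : K.map f = T.map f := by
      rw [hK, Subgroup.map_sup, (Subgroup.map_eq_bot_iff (f := f) _).mpr le_rfl, bot_sup_eq]
    rwa [h2] at h1
  obtain ⟨t, ht, hte⟩ := hfh
  refine ⟨t * ((h : G)⁻¹ * x), mul_mem (le_normalizer ht) hn, ?_⟩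
  rw [map_mul, hte, ← map_mul, mul_inv_cancel_left]

theorem thompsonHyp_quotient [Finite G] [hp : Fact p.Prime] {f : G →* H}
    (hf : Function.Surjective f) (hker : ¬ p ∣ Nat.card f.ker) {S : Subgroup G}
    (hS : IsPGroup p S) (h : ThompsonHyp p S) : ThompsonHyp p (S.map f) := by
  haveI : Finite H := Finite.of_surjective f hf
  have hinj : Set.InjOn f S := by
    intro a ha b hb hab
    have hk : a⁻¹ * b ∈ f.ker := by
      rw [MonoidHom.mem_ker, map_mul, map_inv, hab, inv_mul_cancel]
    have hs : a⁻¹ * b ∈ S := mul_mem (inv_mem ha) hb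
    obtain ⟨k, hk'⟩ := hS.exists_card_eq
    have hd : Disjoint f.ker S := by
      refine disjoint_of_coprime_natCard ?_
      rw [hk']
      exact ((hp.out.coprime_iff_not_dvd.mpr hker).symm).pow_right k
    exact inv_mul_eq_one.mp (mem_bot.mp (hd.le_bot ⟨hk, hs⟩))
  constructor
  · rw [← map_thompsonSubgroupOf S f hinj]
    refine hasNormalPComplement_of_le (normalizer_map_le hf hker
      (hS.to_le (thompsonSubgroupOf_le S))) ?_
    exact hasNormalPComplement_map f h.1
  · rw [center_map_of_injOn f hinj]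
    refine hasNormalPComplement_of_le ?_ (hasNormalPComplement_map f h.2)
    intro y hy
    obtain ⟨n, hn, rfl⟩ := normalizer_map_le hf hker (hS.to_le inf_le_left)
      (centralizer_le_normalizer_self _ hy)
    refine ⟨n, fun z hz => ?_, rfl⟩
    have hz' : n * z * n⁻¹ ∈ S ⊓ centralizer (S : Set G) := (mem_normalizer_iff.mp hn z).mp hz
    have h1 : n * z * n⁻¹ = z := by
      refine hinj hz'.1 hz.1 ?_
      have h2 : f z * f n = f n * f z := hy (f z) ⟨z, hz, rfl⟩
      rw [map_mul, map_mul, map_inv, ← h2, mul_inv_cancel_right]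
    exact (mul_inv_eq_iff_eq_mul.mp h1).symm

theorem hasNormalPComplement_of_quotient [Finite G] [hp : Fact p.Prime] (M : Subgroup G)
    [M.Normal] (hM : ¬ p ∣ Nat.card M) (h : HasNormalPComplement p (G ⧸ M)) :
    HasNormalPComplement p G := by
  rw [hasNormalPComplement_iff] at h ⊢
  intro hd
  have hle : pResidual p G ≤ (pResidual p (G ⧸ M)).comap (QuotientGroup.mk' M) :=
    map_le_iff_le_comap.mp (map_pResidual_le _)
  have h2 := hd.trans (card_dvd_of_le hle)
  rw [Basics.card_comap_mk'] at h2
  rcases hp.out.dvd_mul.mp h2 with h3 | h3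
  · exact hM h3
  · exact h h3

theorem exponent_le_factorization [Finite G] [hp : Fact p.Prime] {T A : Subgroup G}
    (hTA : T ≤ A) {k : ℕ} (hk : Nat.card T = p ^ k) :
    k ≤ (Nat.card A).factorization p :=
  (hp.out.pow_dvd_iff_le_factorization Nat.card_pos.ne').mp (hk ▸ card_dvd_of_le hTA)

/-- If proper subgroups inherit the conclusion, a counterexample has a nontrivial `p`-core. -/
theorem pCore_ne_bot_of_min [Finite G] [hp : Fact p.Prime] (P : Sylow p G)
    (hP : ThompsonHyp p (P : Subgroup G)) (hG : ¬ HasNormalPComplement p G)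
    (hsub : ∀ K : Subgroup G, K ≠ ⊤ → ∀ S : Sylow p K, ThompsonHyp p (S : Subgroup K) →
      HasNormalPComplement p K) : pCore p G ≠ ⊥ := by
  classical
  haveI : Fintype {U : Subgroup G // IsPGroup p U ∧ U ≠ ⊥ ∧
    ¬ HasNormalPComplement p (normalizer (U : Set G))} := Fintype.ofFinite _
  have hne : (Finset.univ : Finset {U : Subgroup G // IsPGroup p U ∧ U ≠ ⊥ ∧
      ¬ HasNormalPComplement p (normalizer (U : Set G))}).Nonempty := by
    by_contra hemp
    refine hG (hasNormalPComplement_of_frobenius fun D hD g hg hgo => ?_)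
    by_cases hD0 : D = ⊥
    · intro y hy
      rw [hD0, SetLike.mem_coe, mem_bot] at hy
      rw [hy, one_mul, mul_one]
    have hN : HasNormalPComplement p (normalizer (D : Set G)) := by
      by_contra hN
      exact hemp ⟨⟨D, hD, hD0, hN⟩, Finset.mem_univ _⟩
    have h1 := centralizes_of_hasNormalPComplement hN (D.subgroupOf _)
      (hD.comap_subtype) ⟨g, hg⟩
      (mem_normalizer_iff.mpr fun y => mem_normalizer_iff.mp hg (y : G))
      (by rwa [Subgroup.orderOf_mk])
    intro y hy
    exact congrArg Subtype.val (h1 ⟨y, le_normalizer hy⟩ hy)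
  obtain ⟨⟨U, hU, hU0, hUN⟩, -, hmax⟩ := Finset.exists_max_image _
    (fun U => (Nat.card (normalizer ((U.1 : Subgroup G) : Set G))).factorization p) hne
  by_contra hcore
  have hNtop : normalizer (U : Set G) ≠ ⊤ := by
    intro h
    haveI := normal_of_normalizer_eq_top' h
    exact hU0 (le_bot_iff.mp (hcore ▸ Basics.le_pCore hU))
  let S1 : Sylow p (normalizer (U : Set G)) := default
  set S := (S1 : Subgroup (normalizer (U : Set G))).map (Subgroup.subtype _) with hSdef
  have hSp : IsPGroup p S := S1.isPGroup'.map _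
  have hUS : U ≤ S := by
    haveI : (U.subgroupOf (normalizer (U : Set G))).Normal :=
      (normal_subgroupOf_iff_le_normalizer le_normalizer).mpr le_rfl
    have hUp : IsPGroup p (U.subgroupOf (normalizer (U : Set G))) := hU.comap_subtype
    have := (Basics.le_pCore hUp).trans (Basics.pCore_le_sylow p S1)
    rw [hSdef]
    exact (map_subgroupOf_eq_of_le (le_normalizer (H := U))).ge.trans (map_mono this)
  have hS0 : S ≠ ⊥ := fun h => hU0 (le_bot_iff.mp (h ▸ hUS))
  have hScard : Nat.card S = p ^ (Nat.card (normalizer (U : Set G))).factorization p := by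
    rw [hSdef, card_map_of_injective (subtype_injective _), Sylow.card_eq_multiplicity]
  obtain ⟨P', hSP', hP'⟩ := exists_thompsonHyp_of_le P hP hSp
  by_cases hSP : S = (P' : Subgroup G)
  · refine hUN (hsub _ hNtop S1 (thompsonHyp_subgroup _ _ ?_ ?_))
    · rw [← hSdef, hSP]; exact hP'.1
    · rw [← hSdef, hSP]; exact hP'.2
  have hgrow : ∀ W : Subgroup G, IsPGroup p W → W ≠ ⊥ →
      normalizer (S : Set G) ≤ normalizer (W : Set G) →
      HasNormalPComplement p (normalizer (W : Set G)) := by
    intro W hW hW0 hle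
    by_contra hbad
    have h1 := hmax ⟨W, hW, hW0, hbad⟩ (Finset.mem_univ _)
    haveI : Group.IsNilpotent (P' : Subgroup G) := P'.isPGroup'.isNilpotent
    have hlt : S.subgroupOf (P' : Subgroup G) <
        normalizer (S.subgroupOf (P' : Subgroup G) : Set (P' : Subgroup G)) := by
      refine normalizerCondition_of_isNilpotent _ (lt_top_iff_ne_top.mpr fun h => ?_)
      exact hSP (le_antisymm hSP' (subgroupOf_eq_top.mp h))
    rw [← subgroupOf_normalizer_eq hSP'] at hlt
    have hlt' : S < normalizer (S : Set G) ⊓ P' := by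
      have h2 := (map_lt_map_iff_of_injective (P' : Subgroup G).subtype_injective).mpr hlt
      rwa [map_subgroupOf_eq_of_le hSP', subgroupOf_map_subtype] at h2
    obtain ⟨k, hk⟩ := (P'.isPGroup'.to_le
      (inf_le_right : normalizer (S : Set G) ⊓ P' ≤ P')).exists_card_eq
    have h3 := exponent_le_factorization (inf_le_left.trans hle) hk
    have h4 := Basics.card_lt_of_lt hlt'
    rw [hk, hScard, Nat.pow_lt_pow_iff_right hp.out.one_lt] at h4
    exact absurd h1 (by simp only; omega)
  refine hUN (hsub _ hNtop S1 (thompsonHyp_subgroup _ _ ?_ ?_))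
  · exact hgrow _ (hSp.to_le (thompsonSubgroupOf_le S)) (thompsonSubgroupOf_ne_bot hSp hS0)
      (normalizer_le_normalizer_thompson S)
  · exact hasNormalPComplement_of_le (centralizer_le_normalizer_self _)
      (hgrow _ (hSp.to_le inf_le_left) (center_ne_bot hSp hS0)
        (normalizer_le_normalizer_center S))

/-- The numerical contradiction: an elementary abelian group is not an offender on `V`. -/
theorem card_map_mul_card_lt [Finite G] [hp : Fact p.Prime] (hodd : p ≠ 2) {V X : Subgroup G}
    [V.Normal] [X.Normal] [IsMulCommutative V] (hexp : ∀ v ∈ V, v ^ p = 1)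
    (hX : centralizer (V : Set G) = X) (K : Subgroup (G ⧸ X)) [K.Normal] [IsMulCommutative K]
    (hK : (Nat.card K).Coprime p) {A : Subgroup G} (hA : IsElementaryAbelian p A)
    (hfaith : ∀ b ∈ A.map (QuotientGroup.mk' X),
      b ∈ centralizer (K : Set (G ⧸ X)) → b = 1)
    (hAX : A.map (QuotientGroup.mk' X) ≠ ⊥) :
    Nat.card (A.map (QuotientGroup.mk' X)) *
      Nat.card (V ⊓ centralizer (A : Set G) : Subgroup G) < Nat.card V := by
  let φ : G →* MulAut V := MulAut.conjNormal
  have hker : ∀ g : G, φ g = 1 ↔ g ∈ X := by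
    intro g
    rw [← hX, mem_centralizer_iff]
    constructor
    · intro h v hv
      have h1 := congrArg (fun e : MulAut V => ((e ⟨v, hv⟩ : V) : G)) h
      simp only [φ, MulAut.conjNormal_apply, MulAut.one_apply] at h1
      exact (mul_inv_eq_iff_eq_mul.mp h1).symm
    · intro h
      ext v
      rw [MulAut.conjNormal_apply, MulAut.one_apply, ← h v v.2, mul_inv_cancel_right]
  let ψ : G ⧸ X →* MulAut V := QuotientGroup.lift X φ fun g hg => MonoidHom.mem_ker.mpr
    ((hker g).mpr hg)
  have hψ : ∀ g : G, ψ (QuotientGroup.mk' X g) = φ g := fun g => rfl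
  have hψinj : ∀ x, ψ x = 1 → x = 1 := by
    intro x hx
    obtain ⟨g, rfl⟩ := QuotientGroup.mk'_surjective X x
    rw [hψ] at hx
    exact (QuotientGroup.eq_one_iff g).mpr ((hker g).mp hx)
  haveI : Finite (V ⋊[ψ] (G ⧸ X)) := Finite.of_equiv _ SemidirectProduct.equivProd.symm
  let inl : V →* V ⋊[ψ] (G ⧸ X) := SemidirectProduct.inl
  let inr : G ⧸ X →* V ⋊[ψ] (G ⧸ X) := SemidirectProduct.inr
  let V' := (⊤ : Subgroup V).map inl
  let Q' := K.map inr
  let B' := (A.map (QuotientGroup.mk' X)).map inr
  haveI : IsMulCommutative V' := Subgroup.map_isMulCommutative _ _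
  haveI : IsMulCommutative Q' := Subgroup.map_isMulCommutative _ _
  have hconj : ∀ (x : G ⧸ X) (v : V), inr x * inl v * (inr x)⁻¹ = inl (ψ x v) := fun x v => by
    rw [← map_inv]; exact (SemidirectProduct.inl_aut x v).symm
  have hnorm : ∀ x, inr x ∈ normalizer (V' : Set (V ⋊[ψ] (G ⧸ X))) := by
    intro x
    rw [mem_normalizer_iff]
    intro y
    constructor
    · rintro ⟨v, -, rfl⟩; exact ⟨ψ x v, mem_top _, (hconj x v).symm⟩
    · rintro ⟨v, -, hv⟩
      refine ⟨ψ x⁻¹ v, mem_top _, ?_⟩
      rw [← hconj, hv, map_inv]; group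
  have hQfaith : ∀ q ∈ Q', q ∈ centralizer (V' : Set (V ⋊[ψ] (G ⧸ X))) → q = 1 := by
    rintro _ ⟨x, -, rfl⟩ hx
    rw [hψinj x ?_, map_one]
    ext v
    have h1 := hx (inl v) ⟨v, mem_top _, rfl⟩
    have h2 : inr x * inl v * (inr x)⁻¹ = inl v := by rw [← h1, mul_inv_cancel_right]
    rw [hconj] at h2
    exact congrArg Subtype.val (SemidirectProduct.inl_injective h2)
  have hQ'c : (Nat.card Q').Coprime p := by
    rwa [card_map_of_injective SemidirectProduct.inr_injective]
  have hlt := card_mul_card_centralizer_lt hodd (V := V') (Q := Q')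
    (fun y hy => by
      obtain ⟨v, -, rfl⟩ := hy
      rw [← map_pow, show v ^ p = 1 from Subtype.ext (by simpa using hexp v.1 v.2), map_one])
    hQ'c (by rintro _ ⟨x, -, rfl⟩; exact hnorm x) hQfaith B'
    (ea_map (ea_map hA _) _) (by rintro _ ⟨x, -, rfl⟩; exact hnorm x)
    (by
      rintro _ ⟨x, -, rfl⟩
      exact le_normalizer_map inr (mem_map_of_mem inr
        (show x ∈ normalizer (K : Set (G ⧸ X)) by rw [normalizer_eq_top]; trivial)))
    (by
      rintro _ ⟨x, hx, rfl⟩ hc
      have hx1 : x ∈ centralizer (K : Set (G ⧸ X)) := fun k hk =>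
        SemidirectProduct.inr_injective (φ := ψ) (by
          rw [map_mul, map_mul]; exact hc (inr k) ⟨k, hk, rfl⟩)
      rw [hfaith x hx hx1, map_one])
    (by
      rw [Ne, map_eq_bot_iff_of_injective _ SemidirectProduct.inr_injective]
      exact hAX)
  have e1 : Nat.card B' = Nat.card (A.map (QuotientGroup.mk' X)) :=
    card_map_of_injective SemidirectProduct.inr_injective
  have e2 : Nat.card V' = Nat.card V := by
    rw [card_map_of_injective SemidirectProduct.inl_injective, card_top]
  have e3 : (V' ⊓ centralizer (B' : Set (V ⋊[ψ] (G ⧸ X)))) =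
      (((V ⊓ centralizer (A : Set G) : Subgroup G)).subgroupOf V).map inl := by
    ext y
    constructor
    · rintro ⟨⟨v, -, rfl⟩, hc⟩
      refine ⟨v, ⟨v.2, fun a ha => ?_⟩, rfl⟩
      have h1 := hc (inr (QuotientGroup.mk' X a)) ⟨_, ⟨a, ha, rfl⟩, rfl⟩
      have h2 : inl (ψ (QuotientGroup.mk' X a) v) = inl v := by
        rw [← hconj, h1, mul_inv_cancel_right]
      rw [hψ] at h2
      have h3 := congrArg Subtype.val (SemidirectProduct.inl_injective h2)
      rw [MulAut.conjNormal_apply] at h3
      exact mul_inv_eq_iff_eq_mul.mp h3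
    · rintro ⟨v, ⟨-, hv⟩, rfl⟩
      refine ⟨⟨v, mem_top _, rfl⟩, ?_⟩
      rintro _ ⟨_, ⟨a, ha, rfl⟩, rfl⟩
      have h1 : φ a v = v := Subtype.ext (by
        rw [MulAut.conjNormal_apply, Subgroup.subtype_apply] at *
        rw [hv a ha, mul_inv_cancel_right])
      have h2 := hconj (QuotientGroup.mk' X a) v
      rw [hψ, h1] at h2
      exact mul_inv_eq_iff_eq_mul.mp h2
  rw [e3, card_map_of_injective SemidirectProduct.inl_injective,
    Basics.card_subgroupOf inf_le_left, e1, e2] at hlt
  exact hlt

/-- In a group with a maximal Sylow subgroup and a normal complement, the complement is abelian. -/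
theorem isMulCommutative_complement [Finite G] [hp : Fact p.Prime] (P : Sylow p G)
    (hmax : ∀ U : Subgroup G, (P : Subgroup G) ≤ U → U = P ∨ U = ⊤) {K : Subgroup G} [K.Normal]
    (hK : ¬ p ∣ Nat.card K) (hKP : K.IsComplement' (P : Subgroup G)) : IsMulCommutative K := by
  classical
  by_cases hK1 : K = ⊥
  · subst hK1; infer_instance
  have hdisj : K ⊓ (P : Subgroup G) = ⊥ := sylow_disjoint_of_coprime P K hK |> fun h => by
    simpa [inf_comm] using h
  have hcard : Nat.card K * Nat.card (P : Subgroup G) = Nat.card G := hKP.card_mul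
  have hfull : ∀ D : Subgroup G, D ≤ K → D ≠ ⊥ →
      (P : Subgroup G) ≤ normalizer (D : Set G) → D = K := by
    intro D hDK hD0 hPD
    rcases hmax (D ⊔ P) le_sup_right with h | h
    · exfalso
      apply hD0
      rw [← le_bot_iff, ← hdisj]
      exact le_inf hDK (h ▸ le_sup_left)
    · have h1 := Basics.card_mul_card_eq_card_sup_mul_card_inf hPD
      rw [h, card_top] at h1
      refine eq_of_le_of_card_ge hDK (Nat.le_of_mul_le_mul_right ?_
        (Nat.card_pos (α := (P : Subgroup G))))
      rw [h1, hcard]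
      exact Nat.le_mul_of_pos_right _ Nat.card_pos
  obtain ⟨q, hq, hqd⟩ := Nat.exists_prime_and_dvd
    (fun h => hK1 (card_eq_one.mp h) : Nat.card K ≠ 1)
  haveI := Fact.mk hq
  let Q : Sylow q K := default
  set Q' := (Q : Subgroup K).map K.subtype with hQ'
  have hsup : normalizer (Q' : Set G) ⊔ K = ⊤ := Sylow.normalizer_sup_eq_top Q
  have hidx : ¬ p ∣ (normalizer (Q' : Set G)).index := by
    intro hd
    apply hK
    have h1 := Basics.card_mul_card_eq_card_sup_mul_card_inf
      (N := K) (H := normalizer (Q' : Set G)) le_normalizer_of_normal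
    rw [sup_comm, hsup, card_top, ← card_mul_index (normalizer (Q' : Set G)),
      mul_assoc, mul_comm (Nat.card K)] at h1
    rw [Nat.eq_of_mul_eq_mul_left Nat.card_pos h1]
    exact dvd_mul_of_dvd_left hd _
  obtain ⟨S⟩ : Nonempty (Sylow p (normalizer (Q' : Set G))) := inferInstance
  obtain ⟨g, hg⟩ : ∃ g : G, (P : Subgroup G) ≤
      normalizer ((Q'.map (MulAut.conj g).toMonoidHom : Subgroup G) : Set G) := by
    have hSp : IsPGroup p ((S : Subgroup (normalizer (Q' : Set G))).map
      (normalizer (Q' : Set G)).subtype) := S.isPGroup'.map _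
    obtain ⟨P', hP'⟩ := hSp.exists_le_sylow
    have hSe : (S : Subgroup (normalizer (Q' : Set G))).map (normalizer (Q' : Set G)).subtype = (P' : Subgroup G) := by
      refine eq_of_le_of_card_ge hP' ?_
      rw [card_map_of_injective (subtype_injective _), Sylow.card_eq_multiplicity,
        Sylow.card_eq_multiplicity]
      refine Nat.pow_le_pow_right hp.out.pos ?_
      rw [← card_mul_index (normalizer (Q' : Set G)),
        Nat.factorization_mul Nat.card_pos.ne' index_ne_zero_of_finite]
      simp [Nat.factorization_eq_zero_of_not_dvd hidx]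
    obtain ⟨g, hg⟩ := MulAction.exists_smul_eq G P' P
    refine ⟨g, ?_⟩
    have h2 : (P' : Subgroup G) ≤ normalizer (Q' : Set G) := hSe ▸ map_subtype_le _
    have h3 := map_mono (f := (MulAut.conj g).toMonoidHom) h2
    rw [map_equiv_normalizer_eq] at h3
    rw [← hg, Sylow.coe_subgroup_smul]
    exact h3
  set D := Q'.map (MulAut.conj g).toMonoidHom with hD
  have hDK : D ≤ K := by
    rintro _ ⟨x, hx, rfl⟩
    exact ‹K.Normal›.conj_mem x (map_subtype_le _ hx) g
  have hQ0 : Q' ≠ ⊥ := by
    rw [hQ', Ne, map_eq_bot_iff_of_injective _ K.subtype_injective]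
    exact Q.ne_bot_of_dvd_card hqd
  have hD0 : D ≠ ⊥ := by
    rwa [hD, Ne, map_eq_bot_iff_of_injective _ (MulAut.conj g).injective]
  have hDK' := hfull D hDK hD0 hg
  have hKq : IsPGroup q K := hDK' ▸ (Q.isPGroup'.map _).map _
  set Z := K ⊓ centralizer (K : Set G) with hZ
  have hZK := hfull Z inf_le_left (center_ne_bot hKq hK1)
    (le_normalizer.trans (le_of_le_of_eq (le_top.trans_eq (normalizer_eq_top (H := K)).symm) rfl
      |>.trans (normalizer_le_normalizer_center K)))
  exact ⟨⟨fun a b => Subtype.ext ((hZK.ge b.2).2 a a.2)⟩⟩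

/-- The structure of a minimal counterexample to the normal `p`-complement theorems: the `p`-core
contains its centralizer, the Sylow subgroup is maximal, and modulo the core there is an abelian
complement on which the Sylow subgroup acts faithfully. -/
theorem core_structure [Finite G] [hp : Fact p.Prime] (P : Sylow p G) (hcore0 : pPrimeCore p G = ⊥)
    (hsub : ∀ U : Subgroup G, U ≠ ⊤ → (P : Subgroup G) ≤ U → HasNormalPComplement p U)
    (hquot : HasNormalPComplement p (G ⧸ pCore p G)) :
    centralizer (pCore p G : Set G) ≤ pCore p G ∧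
      (∀ U : Subgroup G, (P : Subgroup G) ≤ U → U = P ∨ U = ⊤) ∧
      IsMulCommutative ↥(pResidual p (G ⧸ pCore p G)) ∧
      (P.mapSurjective (QuotientGroup.mk'_surjective (pCore p G)) : Subgroup (G ⧸ pCore p G)) ⊓
        centralizer (pResidual p (G ⧸ pCore p G) : Set (G ⧸ pCore p G)) = ⊥ := by
  classical
  set X := pCore p G with hXdef
  have hXp : IsPGroup p X := Basics.pCore_isPGroup p
  have hXP : X ≤ (P : Subgroup G) := Basics.pCore_le_sylow p P
  let f := QuotientGroup.mk' X
  have hf : Function.Surjective f := QuotientGroup.mk'_surjective X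
  have hfker : f.ker = X := QuotientGroup.ker_mk' X
  let K := pResidual p (G ⧸ X)
  have hK : ¬ p ∣ Nat.card K := hasNormalPComplement_iff.mp hquot
  -- the core contains its centralizer
  have hCX : centralizer (X : Set G) ≤ X := by
    set C := centralizer (X : Set G)
    set N := C ⊓ K.comap f with hN
    haveI : N.Normal := inferInstance
    have hNc : ∀ x ∈ N ⊓ X, ∀ y ∈ N, Commute x y := fun x hx y hy =>
      hy.1 x hx.2
    let T : Sylow p N := default
    have hT : ∀ t ∈ (T : Subgroup N), (t : G) ∈ X := by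
      intro t ht
      obtain ⟨k, hk⟩ := T.isPGroup' ⟨t, ht⟩
      have h1 : f (t : G) ∈ K := t.2.2
      have h2 : (orderOf (f (t : G))).Coprime p :=
        (hp.out.coprime_iff_not_dvd.mpr hK).symm.coprime_dvd_left
          (by rw [← Subgroup.orderOf_mk (f (t : G)) h1]; exact _root_.orderOf_dvd_natCard _)
      have h3 : (t : G) ^ p ^ k = 1 := congrArg (fun z => ((z : N) : G)) (congrArg Subtype.val hk)
      have h4 : f (t : G) = 1 := eq_one_of_pow_of_coprime
        ⟨k, orderOf_dvd_of_pow_eq_one (by rw [← map_pow, h3, map_one])⟩ h2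
      exact hfker ▸ MonoidHom.mem_ker.mpr h4
    have hTc : (T : Subgroup N) ≤ centralizer (Set.univ : Set N) := fun t ht y _ =>
      Subtype.ext (hNc t ⟨t.2, hT t ht⟩ y y.2).symm
    have hNN : HasNormalPComplement p N := by
      refine hasNormalPComplement_of_normalizer_le T fun y _ t ht => ?_
      exact (hTc ht y (Set.mem_univ _)).symm
    have hM := hasNormalPComplement_iff.mp hNN
    haveI : (pResidual p N).Characteristic := pResidual_characteristic N p
    have hM0 : (pResidual p N).map N.subtype = ⊥ := by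
      rw [← le_bot_iff, ← hcore0]
      refine Basics.le_pPrimeCore ?_
      rw [card_map_of_injective N.subtype_injective]
      exact (hp.out.coprime_iff_not_dvd.mpr hM).symm
    have hNp : IsPGroup p N := by
      rw [map_eq_bot_iff_of_injective _ N.subtype_injective] at hM0
      have h := isPGroup_quotient_pResidual (G := N) (p := p)
      intro y
      obtain ⟨k, hk⟩ := h (QuotientGroup.mk y)
      refine ⟨k, ?_⟩
      rw [← QuotientGroup.mk_pow, QuotientGroup.eq_one_iff, hM0, mem_bot] at hk
      exact hk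
    have hCp : IsPGroup p C := by
      intro c
      have h := isPGroup_quotient_pResidual (G := G ⧸ X) (p := p)
      obtain ⟨k, hk⟩ := h (QuotientGroup.mk (f (c : G)))
      rw [← QuotientGroup.mk_pow, QuotientGroup.eq_one_iff, ← map_pow] at hk
      obtain ⟨j, hj⟩ := hNp ⟨(c : G) ^ p ^ k, pow_mem c.2 _, hk⟩
      refine ⟨k + j, Subtype.ext ?_⟩
      have hj' : ((c : G) ^ p ^ k) ^ p ^ j = 1 := congrArg Subtype.val hj
      rw [coe_pow, pow_add, pow_mul]
      exact hj'
    haveI : C.Normal := inferInstance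
    exact Basics.le_pCore hCp
  -- the Sylow subgroup is maximal
  have hmax : ∀ U : Subgroup G, (P : Subgroup G) ≤ U → U = P ∨ U = ⊤ := by
    intro U hU
    by_cases hUt : U = ⊤
    · exact Or.inr hUt
    refine Or.inl (P.is_maximal' ?_ hU)
    intro u
    obtain ⟨a, b, -, -, hab, ⟨k, hk⟩, hb⟩ := exists_pPart_mul (p := p) u
    have hbX : (b : G) ∈ X := by
      refine hCX fun y hy => ?_
      have h1 := centralizes_of_hasNormalPComplement (hsub U hUt hU) (X.subgroupOf U)
        hXp.comap_subtype b (by rw [normalizer_eq_top]; trivial) hb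
      exact congrArg Subtype.val (h1 ⟨y, hU (hXP hy)⟩ hy)
    have hb1 : b = 1 := by
      obtain ⟨j, hj⟩ := hXp ⟨(b : G), hbX⟩
      have hj' : (b : G) ^ p ^ j = 1 := congrArg Subtype.val hj
      exact eq_one_of_pow_of_coprime ⟨j, orderOf_dvd_of_pow_eq_one (Subtype.ext (by simpa))⟩ hb
    rw [← hab, hb1, mul_one]
    exact ⟨k, orderOf_dvd_iff_pow_eq_one.mp hk⟩
  -- the complement in the quotient
  let P' : Sylow p (G ⧸ X) := P.mapSurjective (QuotientGroup.mk'_surjective X)
  have hmax' : ∀ U : Subgroup (G ⧸ X), (P' : Subgroup (G ⧸ X)) ≤ U → U = P' ∨ U = ⊤ := by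
    intro U hU
    rw [Sylow.coe_mapSurjective, map_le_iff_le_comap] at hU
    rw [Sylow.coe_mapSurjective, ← map_comap_eq_self_of_surjective hf U]
    rcases hmax _ hU with h | h
    · exact Or.inl (congrArg _ h)
    · exact Or.inr (by rw [h, map_top_of_surjective f hf])
  have hcompl := isComplement'_pResidual hK P'
  haveI hKab : IsMulCommutative K := isMulCommutative_complement P' hmax' hK hcompl
  have hfix : (P' : Subgroup (G ⧸ X)) ⊓ centralizer (K : Set (G ⧸ X)) = ⊥ := by
    set C := (P' : Subgroup (G ⧸ X)) ⊓ centralizer (K : Set (G ⧸ X)) with hC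
    haveI : C.Normal := by
      refine normalizer_eq_top_iff.mp ?_
      rw [← top_le_iff, ← pResidual_sup_sylow P']
      refine sup_le (fun k hk => ?_) (fun y hy => ?_)
      · rw [mem_normalizer_iff]
        intro x
        constructor
        · intro hx
          rwa [hx.2 k hk, mul_inv_cancel_right]
        · intro hx
          have h := hx.2 k hk
          have h2 : k * x * k⁻¹ = x :=
            (mul_left_cancel (h.trans (inv_mul_cancel_right (k * x) k))).trans rfl
          rwa [h2] at hx
      · exact Subgroup.inf_normalizer_le_normalizer_inf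
          ⟨le_normalizer hy, by rw [normalizer_eq_top]; trivial⟩
    have hT : IsPGroup p (C.comap f) := (P'.isPGroup'.to_le inf_le_left).comap_of_ker_isPGroup _
      (by rw [hfker]; exact hXp)
    rw [← le_bot_iff, ← map_comap_eq_self_of_surjective hf C]
    refine (map_mono (Basics.le_pCore hT)).trans ?_
    rw [le_bot_iff, Subgroup.map_eq_bot_iff, hfker]
  exact ⟨hCX, hmax, hKab, hfix⟩

/-- The last step of Thompson's theorem. -/
theorem thompson_core_step [Finite G] [hp : Fact p.Prime] (hodd : p ≠ 2) (P : Sylow p G)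
    (hP : ThompsonHyp p (P : Subgroup G)) (hcore0 : pPrimeCore p G = ⊥)
    (hG : ¬ HasNormalPComplement p G)
    (hsub : ∀ U : Subgroup G, U ≠ ⊤ → (P : Subgroup G) ≤ U → HasNormalPComplement p U)
    (hquot : HasNormalPComplement p (G ⧸ pCore p G)) : False := by
  classical
  set X := pCore p G with hXdef
  have hXp : IsPGroup p X := Basics.pCore_isPGroup p
  have hXP : X ≤ (P : Subgroup G) := Basics.pCore_le_sylow p P
  let f := QuotientGroup.mk' X
  have hf : Function.Surjective f := QuotientGroup.mk'_surjective X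
  have hfker : f.ker = X := QuotientGroup.ker_mk' X
  let K := pResidual p (G ⧸ X)
  have hK : ¬ p ∣ Nat.card K := hasNormalPComplement_iff.mp hquot
  obtain ⟨hCX, hmax, hKab, hfix⟩ := core_structure P hcore0 hsub hquot
  haveI : IsMulCommutative K := hKab
  -- the elementary abelian normal subgroup
  let V0 : Subgroup G :=
    { carrier := {v | v ∈ X ⊓ centralizer (X : Set G) ∧ v ^ p = 1}
      one_mem' := ⟨one_mem _, one_pow _⟩
      mul_mem' := fun {a b} ha hb => ⟨mul_mem ha.1 hb.1, by
        rw [Commute.mul_pow (hb.1.2 a ha.1.1 : Commute a b), ha.2, hb.2, one_mul]⟩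
      inv_mem' := fun {a} ha => ⟨inv_mem ha.1, by rw [inv_pow, ha.2, inv_one]⟩ }
  haveI : (X ⊓ centralizer (X : Set G)).Normal := inferInstance
  haveI : V0.Normal := ⟨fun v hv g => ⟨‹(X ⊓ centralizer (X : Set G)).Normal›.conj_mem v hv.1 g,
    by rw [conj_pow, hv.2, mul_one, mul_inv_cancel]⟩⟩
  haveI : IsMulCommutative V0 := ⟨⟨fun a b => Subtype.ext (b.2.1.2 a a.2.1.1)⟩⟩
  haveI : IsMulCommutative (X ⊓ centralizer (X : Set G) : Subgroup G) :=
    ⟨⟨fun a b => Subtype.ext (b.2.2 a a.2.1)⟩⟩
  have hV0C : centralizer (V0 : Set G) = X := by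
    refine le_antisymm ?_ fun x hx v hv => (hv.1.2 x hx).symm
    set C := centralizer (V0 : Set G)
    haveI : C.Normal := inferInstance
    rcases hmax (C ⊔ P) le_sup_right with h | h
    · exact Basics.le_pCore (P.isPGroup'.to_le (h ▸ le_sup_left))
    exfalso
    apply hG
    refine hasNormalPComplement_of_eq_top ?_ hP.2
    rw [← top_le_iff, ← pResidual_sup_sylow P]
    refine sup_le ((closure_le _).mpr fun g (hg : (orderOf g).Coprime p) => ?_) ?_
    · have hgC : g ∈ C := by
        have h1 : QuotientGroup.mk' C g ∈ (P : Subgroup G).map (QuotientGroup.mk' C) := by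
          have h2 : (C ⊔ (P : Subgroup G)).map (QuotientGroup.mk' C) =
              (P : Subgroup G).map (QuotientGroup.mk' C) := by
            rw [Subgroup.map_sup, (Subgroup.map_eq_bot_iff _).mpr (QuotientGroup.ker_mk' C).ge,
              bot_sup_eq]
          exact h2 ▸ mem_map_of_mem _ (h ▸ mem_top g)
        obtain ⟨k, hk⟩ := (P.isPGroup'.map (QuotientGroup.mk' C)) ⟨_, h1⟩
        have h2 : g ^ p ^ k ∈ C := (QuotientGroup.eq_one_iff _).mp (congrArg Subtype.val hk)
        obtain ⟨m, hm⟩ := exists_pow_eq_self_of_coprime (x := g) (n := p ^ k)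
          (hg.pow_right k).symm
        exact hm ▸ pow_mem h2 m
      intro z hz
      have hzV : z ∈ X ⊓ centralizer (X : Set G) :=
        ⟨hCX fun x hx => hz.2 x (hXP hx), fun x hx => hz.2 x (hXP hx)⟩
      exact (commute_of_commute_omega (hXp.to_le inf_le_left) hg
        (by rw [normalizer_eq_top]; trivial)
        (fun v hv hvp => (hgC v ⟨hv, hvp⟩).symm) z hzV).symm.eq
    · exact fun y hy z hz => (hz.2 y hy).symm
  -- the Thompson subgroup lies in the core
  have hJ : thompsonSubgroupOf p (P : Subgroup G) ≤ X := by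
    rw [thompsonSubgroupOf_eq]
    refine sSup_le fun A hA => ?_
    by_contra hAX
    have hlt := card_map_mul_card_lt hodd (V := V0) (X := X) (fun v hv => hv.2) hV0C K
      (hp.out.coprime_iff_not_dvd.mpr hK).symm hA.2.1
      (fun b hb hbc => by
        rw [← mem_bot, ← hfix]
        exact ⟨by rw [Sylow.coe_mapSurjective]; exact map_mono hA.1 hb, hbc⟩)
      (by rw [Ne, Subgroup.map_eq_bot_iff, hfker]; exact hAX)
    have hsum : IsElementaryAbelian p (V0 ⊔ (A ⊓ X) : Subgroup G) := by
      haveI := hA.2.1.1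
      have hcomm : ∀ v ∈ V0, ∀ a ∈ A ⊓ X, Commute v a := fun v hv a ha =>
        ((hv.1.2 a ha.2).symm : Commute v a)
      have hmem := fun x => Basics.mem_sup_of_le_normalizer (N := V0) (H := A ⊓ X) (x := x)
        le_normalizer_of_normal
      refine ⟨⟨⟨fun x y => Subtype.ext ?_⟩⟩, fun x hx => ?_⟩
      · obtain ⟨v, hv, a, ha, hxe⟩ := (hmem _).mp x.2
        obtain ⟨w, hw, b, hb, hye⟩ := (hmem _).mp y.2
        have e1 : Commute v (w * b) :=
          (show Commute v w from hw.1.2 v hv.1.1).mul_right (hcomm v hv b hb)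
        have e2 : Commute a (w * b) :=
          (hcomm w hw a ha).symm.mul_right (ea_commute hA.2.1 ha.1 hb.1)
        rw [coe_mul, coe_mul, hxe, hye]
        exact (e1.mul_left e2).eq
      · obtain ⟨v, hv, a, ha, rfl⟩ := (hmem _).mp hx
        rw [(hcomm v hv a ha).mul_pow, hv.2, hA.2.1.2 a ha.1, one_mul]
    have h1 := hA.2.2 _ (sup_le ((fun v hv => hXP hv.1.1) : V0 ≤ (P : Subgroup G))
      (inf_le_right.trans hXP)) hsum
    have h2 := Basics.card_mul_card_eq_card_sup_mul_card_inf (N := V0) (H := A ⊓ X)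
      le_normalizer_of_normal
    have h3 : Nat.card (V0 ⊓ (A ⊓ X) : Subgroup G) ≤
        Nat.card (V0 ⊓ centralizer (A : Set G) : Subgroup G) :=
      card_le_of_le (le_inf inf_le_left fun x hx a ha => ea_commute hA.2.1 ha hx.2.1)
    have h4 : Nat.card (A.map f) * Nat.card (A ⊓ X : Subgroup G) = Nat.card A := by
      have := card_mul_index (f.comp A.subtype).ker
      rw [index_ker, MonoidHom.range_comp, range_subtype, ← MonoidHom.comap_ker, hfker,
        mul_comm] at this
      rwa [← Basics.card_subgroupOf (inf_le_left : A ⊓ X ≤ A), inf_subgroupOf_left]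
    have h5 := Nat.mul_lt_mul_of_pos_right hlt (Nat.card_pos (α := (A ⊓ X : Subgroup G)))
    rw [h2, mul_right_comm, h4] at h5
    exact absurd h5 (not_lt.mpr (Nat.mul_le_mul h1 h3))
  refine hG (hasNormalPComplement_of_eq_top ?_ hP.1)
  rw [← top_le_iff, ← thompsonSubgroupOf_eq_of_le hXP hJ]
  exact (normalizer_eq_top (H := X)).ge.trans (normalizer_le_normalizer_thompson X)

/-- Thompson's theorem by induction on the order. -/
theorem hasNormalPComplement_of_thompsonHyp_aux (hp' : p.Prime) (hodd : p ≠ 2) : ∀ n : ℕ,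
    ∀ {G : Type u} [Group G] [Finite G], Nat.card G = n → ∀ P : Sylow p G,
      ThompsonHyp p (P : Subgroup G) → HasNormalPComplement p G := by
  haveI := Fact.mk hp'
  intro n
  induction n using Nat.strong_induction_on with
  | _ n ih =>
    intro G _ _ hn P hP
    by_contra hG
    have hsub0 : ∀ U : Subgroup G, U ≠ ⊤ → ∀ S : Sylow p U, ThompsonHyp p (S : Subgroup U) →
        HasNormalPComplement p U := fun U hU S hS =>
      ih _ (hn ▸ Basics.card_lt_card_of_ne_top hU) rfl S hS
    have hsub : ∀ U : Subgroup G, U ≠ ⊤ → (P : Subgroup G) ≤ U → HasNormalPComplement p U := by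
      intro U hU hPU
      refine hsub0 U hU (P.subtype hPU) (thompsonHyp_subgroup _ _ ?_ ?_)
      · rw [Sylow.coe_subtype, map_subgroupOf_eq_of_le hPU]; exact hP.1
      · rw [Sylow.coe_subtype, map_subgroupOf_eq_of_le hPU]; exact hP.2
    have hX0 := pCore_ne_bot_of_min P hP hG hsub0
    have hM0 : pPrimeCore p G = ⊥ := by
      by_contra hM
      apply hG
      have hMd := Basics.not_dvd_card_pPrimeCore (G := G) p
      refine hasNormalPComplement_of_quotient _ hMd ?_
      refine ih _ (hn ▸ Basics.card_quotient_lt hM) rfl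
        (P.mapSurjective (QuotientGroup.mk'_surjective _)) ?_
      rw [Sylow.coe_mapSurjective]
      refine thompsonHyp_quotient (QuotientGroup.mk'_surjective _) ?_ P.isPGroup' hP
      rwa [QuotientGroup.ker_mk']
    refine thompson_core_step hodd P hP hM0 hG hsub ?_
    set X := pCore p G with hXdef
    have hXP : X ≤ (P : Subgroup G) := Basics.pCore_le_sylow p P
    have hXlt : X ≠ (P : Subgroup G) := by
      intro h
      haveI : (P : Subgroup G).Normal := h ▸ inferInstance
      refine hG (hasNormalPComplement_of_eq_top ?_ hP.1)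
      exact top_le_iff.mp ((normalizer_eq_top (H := (P : Subgroup G))).ge.trans
        (normalizer_le_normalizer_thompson _))
    let f := QuotientGroup.mk' X
    let P' : Sylow p (G ⧸ X) := P.mapSurjective (QuotientGroup.mk'_surjective X)
    have hPne : (P' : Subgroup (G ⧸ X)) ≠ ⊥ := by
      intro h
      refine hXlt (le_antisymm hXP ?_)
      rw [Sylow.coe_mapSurjective, Subgroup.map_eq_bot_iff, QuotientGroup.ker_mk'] at h
      exact h
    have key : ∀ W : Subgroup (G ⧸ X), W ≤ P' → W ≠ ⊥ →
        (P' : Subgroup (G ⧸ X)) ≤ normalizer (W : Set (G ⧸ X)) →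
        HasNormalPComplement p (normalizer (W : Set (G ⧸ X))) := by
      intro W hWP hW0 hPW
      have hT : IsPGroup p (W.comap f) := (P'.isPGroup'.to_le hWP).comap_of_ker_isPGroup _
        (by rw [QuotientGroup.ker_mk']; exact Basics.pCore_isPGroup p)
      have hne : normalizer ((W.comap f : Subgroup G) : Set G) ≠ ⊤ := by
        intro h
        haveI := normal_of_normalizer_eq_top' h
        apply hW0
        rw [← le_bot_iff, ← map_comap_eq_self_of_surjective (QuotientGroup.mk'_surjective X) W]
        refine (map_mono (Basics.le_pCore hT)).trans ?_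
        rw [le_bot_iff, Subgroup.map_eq_bot_iff, QuotientGroup.ker_mk']
      have hle : (P : Subgroup G) ≤ normalizer ((W.comap f : Subgroup G) : Set G) := by
        rw [← comap_normalizer_eq_of_surjective W (QuotientGroup.mk'_surjective X),
          ← map_le_iff_le_comap]
        rwa [Sylow.coe_mapSurjective] at hPW
      have h1 := hasNormalPComplement_map f (hsub _ hne hle)
      rwa [← comap_normalizer_eq_of_surjective W (QuotientGroup.mk'_surjective X),
        map_comap_eq_self_of_surjective (QuotientGroup.mk'_surjective X)] at h1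
    refine ih _ (hn ▸ Basics.card_quotient_lt hX0) rfl P' ⟨?_, ?_⟩
    · exact key _ (thompsonSubgroupOf_le _) (thompsonSubgroupOf_ne_bot P'.isPGroup' hPne)
        (le_normalizer.trans (normalizer_le_normalizer_thompson _))
    · exact hasNormalPComplement_of_le (centralizer_le_normalizer_self _)
        (key _ inf_le_left (center_ne_bot P'.isPGroup' hPne)
          (le_normalizer.trans (normalizer_le_normalizer_center _)))

end Cfsg.Agent.Transfer
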