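import Cfsg.Agent.Lib.Transfer.Abelian

/-!
# Normal complements of nilpotent and abelian Hall subgroups
-/

set_option autoImplicit false
set_option linter.style.haveILetI false

namespace Cfsg.Agent.Transfer

open Subgroup Cfsg
open scoped commutatorElement Pointwise

universe u

variable {G : Type u} [Group G]

/-- In a nilpotent group elements of coprime order commute. -/
theorem commute_of_coprime_of_nilpotent [hG : Group.IsNilpotent G] {x y : G}
    (hxy : (orderOf x).Coprime (orderOf y)) : Commute x y := by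
  obtain ⟨n, hn⟩ := Subgroup.nilpotent_iff_lowerCentralSeries.mp hG
  have key : ∀ m, ⁅x, y⁆ ∈ Subgroup.lowerCentralSeries (⊤ : Subgroup G) m := by
    intro m
    induction m with
    | zero => trivial
    | succ m ih =>
      let L := Subgroup.lowerCentralSeries (⊤ : Subgroup G) (m + 1)
      let π : G →* G ⧸ L := QuotientGroup.mk' L
      have hz : ∀ z : G ⧸ L, Commute (π ⁅x, y⁆) z := fun z => by
        obtain ⟨z, rfl⟩ := QuotientGroup.mk'_surjective L z
        have h4 : ⁅⁅x, y⁆, z⁆ ∈ L := by
          show _ ∈ Subgroup.lowerCentralSeries _ _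
          rw [Subgroup.lowerCentralSeries_succ]
          exact commutator_mem_commutator ih (mem_top z)
        have h5 := (QuotientGroup.eq_one_iff _).mpr h4
        rw [← QuotientGroup.mk'_apply, map_commutatorElement] at h5
        exact commutatorElement_eq_one_iff_commute.mp h5
      set c := π ⁅x, y⁆ with hc
      have e : π x * π y * (π x)⁻¹ = c * π y := by
        rw [hc, map_commutatorElement, commutatorElement_def]; group
      have hcy : orderOf c ∣ orderOf y := by
        apply orderOf_dvd_of_pow_eq_one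
        have : (π x * π y * (π x)⁻¹) ^ orderOf y = 1 := by
          rw [conj_pow, ← map_pow, pow_orderOf_eq_one, map_one, mul_one, mul_inv_cancel]
        rwa [e, (hz _).mul_pow, ← map_pow π y, pow_orderOf_eq_one, map_one, mul_one] at this
      have e2 : π y * π x * (π y)⁻¹ = c⁻¹ * π x := by
        rw [hc, map_commutatorElement, commutatorElement_def]; group
      have hcx : orderOf c ∣ orderOf x := by
        rw [← orderOf_inv c]
        apply orderOf_dvd_of_pow_eq_one
        have : (π y * π x * (π y)⁻¹) ^ orderOf x = 1 := by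
          rw [conj_pow, ← map_pow, pow_orderOf_eq_one, map_one, mul_one, mul_inv_cancel]
        rwa [e2, (hz _).inv_left.mul_pow, ← map_pow π x, pow_orderOf_eq_one, map_one, mul_one]
          at this
      have h1 : c = 1 := orderOf_eq_one_iff.mp (Nat.eq_one_of_dvd_coprimes hxy hcx hcy)
      exact (QuotientGroup.eq_one_iff _).mp h1
  have h3 := key n
  rw [hn, mem_bot] at h3
  exact commutatorElement_eq_one_iff_commute.mp h3

theorem sylow_le_hall [Finite G] {H : Subgroup G} (hH : (Nat.card H).Coprime H.index) {p : ℕ}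
    [hp : Fact p.Prime] (hd : p ∣ Nat.card H) (Q : Sylow p H) :
    ∃ P : Sylow p G, (P : Subgroup G) = (Q : Subgroup H).map H.subtype := by
  refine ⟨(Q.2.map H.subtype).toSylow ?_, rfl⟩
  rw [index_map_subtype]
  intro h
  rcases hp.out.dvd_mul.mp h with h1 | h1
  · exact Q.not_dvd_index h1
  · exact hp.out.one_lt.ne' (Nat.eq_one_of_dvd_coprimes hH hd h1)

/-- A Hall subgroup has a normal complement if each prime divisor of its order gives a normal
`p`-complement. -/
theorem exists_normal_complement_of_forall [Finite G] (H : Subgroup G)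
    (hH : (Nat.card H).Coprime H.index)
    (h : ∀ p : ℕ, p.Prime → p ∣ Nat.card H → HasNormalPComplement p G) :
    ∃ N : Subgroup G, N.Normal ∧ N.IsComplement' H := by
  let N : Subgroup G := ⨅ q : {q : ℕ // q.Prime ∧ q ∣ Nat.card H}, pResidual q.1 G
  haveI : N.Normal := normal_iInf_normal fun q => inferInstance
  refine ⟨N, inferInstance, ?_⟩
  have hdisj : Disjoint N H := by
    refine disjoint_iff.mpr (le_bot_iff.mp fun x hx => mem_bot.mpr ?_)
    by_contra hne
    obtain ⟨q, hq, hqd⟩ := Nat.exists_prime_and_dvd (fun e => hne (orderOf_eq_one_iff.mp e))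
    haveI := Fact.mk hq
    have hqH : q ∣ Nat.card H := by
      refine hqd.trans ?_
      rw [← Subgroup.orderOf_mk x hx.2]; exact orderOf_dvd_natCard _
    have hxr : x ∈ pResidual q G := (mem_iInf.mp hx.1) ⟨q, hq, hqH⟩
    apply hasNormalPComplement_iff.mp (h q hq hqH)
    refine hqd.trans ?_
    rw [← Subgroup.orderOf_mk x hxr]; exact orderOf_dvd_natCard _
  have hexp : ∀ g : G, g ^ Nat.card H ∈ N ⊔ H := by
    intro g
    refine mem_sup_left (mem_iInf.mpr fun q => ?_)
    haveI := Fact.mk q.2.1
    obtain ⟨Q⟩ : Nonempty (Sylow q.1 H) := inferInstance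
    obtain ⟨P, hP⟩ := sylow_le_hall hH q.2.2 Q
    have hd : Nat.card (G ⧸ pResidual q.1 G) ∣ Nat.card H := by
      rw [← Subgroup.index_eq_card,
        (isComplement'_pResidual (hasNormalPComplement_iff.mp (h _ q.2.1 q.2.2)) P).symm.index_eq_card,
        hP]
      exact card_dvd_of_le (map_subtype_le _) |>.trans dvd_rfl
    obtain ⟨c, hc⟩ := hd
    rw [← QuotientGroup.eq_one_iff, QuotientGroup.mk_pow]
    exact orderOf_dvd_iff_pow_eq_one.mp ((_root_.orderOf_dvd_natCard _).trans (Dvd.intro c hc.symm))
  have htop : N ⊔ H = ⊤ := by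
    rw [← index_eq_one]
    by_contra hne
    obtain ⟨r, hr, hrd⟩ := Nat.exists_prime_and_dvd hne
    haveI := Fact.mk hr
    have hrH : ¬ r ∣ Nat.card H := fun hd => hr.one_lt.ne'
      (Nat.eq_one_of_dvd_coprimes hH hd (hrd.trans (index_dvd_of_le le_sup_right)))
    let R : Sylow r G := default
    have hRle : (R : Subgroup G) ≤ N ⊔ H := by
      intro g hg
      have hcop : (Nat.card H).Coprime (orderOf g) := by
        obtain ⟨j, hj⟩ := isPGroup_iff_orderOf_dvd_pow.mp R.2 ⟨g, hg⟩
        rw [Subgroup.orderOf_mk] at hj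
        exact Nat.Coprime.coprime_dvd_right hj
          (Nat.Coprime.pow_right j (hr.coprime_iff_not_dvd.mpr hrH).symm)
      obtain ⟨m, hm⟩ := exists_pow_eq_self_of_coprime hcop
      rw [← hm]; exact pow_mem (hexp g) m
    exact R.not_dvd_index (hrd.trans (index_dvd_of_le hRle))
  refine isComplement'_of_disjoint_and_mul_eq_univ hdisj ?_
  rw [← normal_mul, htop, coe_top]

/-- Two abelian Hall subgroups of the same order are conjugate. -/
theorem abelian_hall_conj [Finite G] (H K : Subgroup G) [hH : IsMulCommutative H]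
    [hK : IsMulCommutative K] (hHall : (Nat.card H).Coprime H.index)
    (hcard : Nat.card K = Nat.card H) :
    ∃ g : G, H.map (MulAut.conj g).toMonoidHom = K := by
  induction hn : Nat.card H using Nat.strong_induction_on generalizing G with
  | _ n ih =>
    by_cases h1 : Nat.card H = 1
    · exact ⟨1, by rw [card_eq_one.mp h1, card_eq_one.mp (hcard.trans h1), Subgroup.map_bot]⟩
    obtain ⟨p, hp, hpd⟩ := Nat.exists_prime_and_dvd h1
    haveI := Fact.mk hp
    have hidxK : K.index = H.index := by
      apply Nat.eq_of_mul_eq_mul_left (Nat.card_pos (α := H))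
      rw [← hcard, card_mul_index, hcard, card_mul_index]
    obtain ⟨Q⟩ : Nonempty (Sylow p H) := inferInstance
    obtain ⟨Q'⟩ : Nonempty (Sylow p K) := inferInstance
    obtain ⟨P, hP⟩ := sylow_le_hall hHall hpd Q
    obtain ⟨P', hP'⟩ := sylow_le_hall (by rw [hidxK, hcard]; exact hHall)
      (by rw [hcard]; exact hpd) Q'
    obtain ⟨t, ht⟩ := MulAction.exists_smul_eq G P P'
    let e : G ≃* G := MulAut.conj t
    let H1 := H.map e.toMonoidHom
    have hH1 : Nat.card H1 = Nat.card H := card_map_of_injective e.injective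
    haveI : IsMulCommutative H1 := by
      constructor; constructor
      rintro ⟨_, a, ha, rfl⟩ ⟨_, b, hb, rfl⟩
      exact Subtype.ext (by
        rw [coe_mul, coe_mul, ← map_mul, ← map_mul,
          show a * b = b * a from congrArg Subtype.val (mul_comm' (⟨a, ha⟩ : H) ⟨b, hb⟩)])
    have hPH1 : (P' : Subgroup G) ≤ H1 := by
      rw [← ht]
      rintro _ ⟨x, hx, rfl⟩
      exact ⟨x, (hP.le.trans (map_subtype_le _)) hx, rfl⟩
    have hPK : (P' : Subgroup G) ≤ K := hP'.le.trans (map_subtype_le _)
    set C := centralizer ((P' : Subgroup G) : Set G) with hC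
    have hle : ∀ A : Subgroup G, IsMulCommutative A → (P' : Subgroup G) ≤ A → A ≤ C :=
      fun A hA hPA => (le_centralizer A).trans (centralizer_le hPA)
    have hA1 := hle H1 inferInstance hPH1
    have hA2 := hle K hK hPK
    have hPC : (P' : Subgroup G) ≤ C := hPK.trans hA2
    let PC : Sylow p C := P'.subtype hPC
    haveI : IsMulCommutative (PC : Subgroup C) :=
      ⟨⟨fun a b => Subtype.ext (Subtype.ext ((a : C).2 _ b.2).symm)⟩⟩
    have hcomp : HasNormalPComplement p C := hasNormalPComplement_of_normalizer_le PC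
      fun c _ y hy => Subtype.ext (c.2 _ hy)
    let M := pResidual p C
    have hM : ¬ p ∣ Nat.card M := hasNormalPComplement_iff.mp hcomp
    have hc := isComplement'_pResidual hM PC
    let h' : Subgroup M := (H1.subgroupOf C).subgroupOf M
    let k' : Subgroup M := (K.subgroupOf C).subgroupOf M
    have split : ∀ A : Subgroup G, A ≤ C → (P' : Subgroup G) ≤ A →
        Nat.card ((A.subgroupOf C).subgroupOf M) * Nat.card (P' : Subgroup G) = Nat.card A ∧
        ((A.subgroupOf C).subgroupOf M).index = A.relIndex C := by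
      intro A hAC hPA
      have hsup : M ⊔ A.subgroupOf C = ⊤ := top_le_iff.mp (hc.sup_eq_top.ge.trans
        (sup_le_sup_left (fun y hy => hPA hy) _))
      have e1 : M.relIndex (A.subgroupOf C) = M.index := by
        rw [← relIndex_sup_left (K := M), hsup, relIndex_top_right]
      have e2 : M.index = Nat.card (P' : Subgroup G) := by
        rw [hc.symm.index_eq_card]
        exact Nat.card_congr (subgroupOfEquivOfLe hPC).toEquiv
      have e3 := card_mul_index (M.subgroupOf (A.subgroupOf C))
      have e4 : Nat.card (M.subgroupOf (A.subgroupOf C)) =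
          Nat.card ((A.subgroupOf C).subgroupOf M) := by
        rw [← card_map_of_injective (A.subgroupOf C).subtype_injective,
          ← card_map_of_injective M.subtype_injective, subgroupOf_map_subtype,
          subgroupOf_map_subtype, inf_comm]
      rw [e4] at e3
      change _ * M.relIndex (A.subgroupOf C) = _ at e3
      rw [e1, e2, Nat.card_congr (subgroupOfEquivOfLe hAC).toEquiv] at e3
      refine ⟨e3, ?_⟩
      have e5 := card_mul_index ((A.subgroupOf C).subgroupOf M)
      have e6 := card_mul_index (A.subgroupOf C)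
      have e7 := card_mul_index M
      rw [← e7, ← e5, e2, Nat.card_congr (subgroupOfEquivOfLe hAC).toEquiv, ← e3] at e6
      change _ * A.relIndex C = _ at e6
      rw [mul_right_comm] at e6
      exact (Nat.eq_of_mul_eq_mul_left Nat.card_pos
        (Nat.eq_of_mul_eq_mul_right Nat.card_pos e6)).symm
    obtain ⟨c1, i1⟩ := split H1 hA1 hPH1
    obtain ⟨c2, -⟩ := split K hA2 hPK
    haveI : IsMulCommutative h' := ⟨⟨fun a b => Subtype.ext (Subtype.ext (Subtype.ext
      (congrArg Subtype.val (mul_comm' (⟨_, a.2⟩ : H1) ⟨_, b.2⟩) :))) ⟩⟩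
    haveI : IsMulCommutative k' := ⟨⟨fun a b => Subtype.ext (Subtype.ext (Subtype.ext
      (congrArg Subtype.val (mul_comm' (⟨_, a.2⟩ : K) ⟨_, b.2⟩) :))) ⟩⟩
    have hlt : Nat.card h' < n := by
      rw [← hn, ← hH1, ← c1]
      refine lt_mul_of_one_lt_right Nat.card_pos ?_
      have hne := P'.ne_bot_of_dvd_card (hpd.trans (card_subgroup_dvd_card H))
      exact (one_lt_card_iff_ne_bot (P' : Subgroup G)).mpr hne
    have hcop : (Nat.card h').Coprime h'.index := by
      rw [i1]
      refine Nat.Coprime.coprime_dvd_left (Dvd.intro _ c1) ?_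
      rw [hH1]
      refine Nat.Coprime.coprime_dvd_right (relIndex_dvd_index_of_le hA1) ?_
      have : H1.index = H.index := index_map_of_bijective (f := e.toMonoidHom) e.bijective H
      rwa [this]
    have hkh : Nat.card k' = Nat.card h' := Nat.eq_of_mul_eq_mul_right Nat.card_pos
      (c2.trans (hcard.trans (hH1.symm.trans c1.symm)))
    obtain ⟨m, hm⟩ := ih _ hlt h' k' hcop hkh rfl
    refine ⟨((m : C) : G) * t, eq_of_le_of_card_ge ?_ (by
      rw [card_map_of_injective (MulAut.conj (((m : C) : G) * t)).injective, hcard])⟩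
    rintro _ ⟨x, hx, rfl⟩
    have hy : t * x * t⁻¹ ∈ H1 := ⟨x, hx, rfl⟩
    have hyC : (⟨_, hA1 hy⟩ : C) ∈ (↑M * ↑(PC : Subgroup C) : Set C) := by
      rw [← normal_mul, hc.sup_eq_top]; trivial
    obtain ⟨a, ha, b, hb, hab⟩ := Set.mem_mul.mp hyC
    have hbP : (b : G) ∈ (P' : Subgroup G) := hb
    have habG : (a : G) * b = t * x * t⁻¹ := congrArg Subtype.val hab
    have haH : (a : G) ∈ H1 := by
      have := mul_mem hy (inv_mem (hPH1 hbP))
      rwa [← habG, mul_inv_cancel_right] at this
    have h2 : m * ⟨a, ha⟩ * m⁻¹ ∈ k' := by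
      rw [← hm]; exact ⟨⟨a, ha⟩, haH, rfl⟩
    have h3 : ((m : C) : G) * a * ((m : C) : G)⁻¹ ∈ K := h2
    have h5 : ((m : C) : G) * b = b * (m : C) := ((m : C).2 _ hbP).symm
    have e8 : MulAut.conj (((m : C) : G) * t) x =
        ((m : C) : G) * a * ((m : C) : G)⁻¹ * b := by
      rw [MulAut.conj_apply]
      calc _ = ((m : C) : G) * (t * x * t⁻¹) * ((m : C) : G)⁻¹ := by group
        _ = _ := by
          rw [← habG, ← mul_assoc, mul_assoc (((m : C) : G) * a) (b : G),
            mul_assoc (((m : C) : G) * a) ((m : C) : G)⁻¹]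
          congr 1
          rw [eq_inv_mul_iff_mul_eq, ← mul_assoc, h5, mul_inv_cancel_right]
    show MulAut.conj (((m : C) : G) * t) x ∈ K
    rw [e8]
    exact mul_mem h3 (hPK hbP)

/-- Burnside's theorem for a Hall subgroup centralized by its normalizer. -/
theorem exists_normal_complement_of_normalizer_le [Finite G] (H : Subgroup G)
    (hHall : (Nat.card H).Coprime H.index)
    (h : normalizer (H : Set G) ≤ centralizer (H : Set G)) :
    ∃ N : Subgroup G, N.Normal ∧ N.IsComplement' H := by
  haveI : IsMulCommutative H :=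
    ⟨⟨fun a b => Subtype.ext (h (le_normalizer b.2) a a.2)⟩⟩
  refine exists_normal_complement_of_forall H hHall fun p hp hpd => ?_
  haveI := Fact.mk hp
  obtain ⟨Q⟩ : Nonempty (Sylow p H) := inferInstance
  obtain ⟨P, hP⟩ := sylow_le_hall hHall hpd Q
  have hPH : (P : Subgroup G) ≤ H := hP.le.trans (map_subtype_le _)
  refine hasNormalPComplement_of_normalizer_le P fun n hn => ?_
  set C := centralizer ((P : Subgroup G) : Set G) with hC
  have hHC : H ≤ C := (le_centralizer H).trans (centralizer_le hPH)
  let H2 := H.map (MulAut.conj n).toMonoidHom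
  haveI hab2 : IsMulCommutative H2 := by
    constructor; constructor
    rintro ⟨_, a, ha, rfl⟩ ⟨_, b, hb, rfl⟩
    exact Subtype.ext (by
      rw [coe_mul, coe_mul, ← map_mul, ← map_mul,
        show a * b = b * a from congrArg Subtype.val (mul_comm' (⟨a, ha⟩ : H) ⟨b, hb⟩)])
  have hH2C : H2 ≤ C := by
    refine (le_centralizer H2).trans (centralizer_le fun x hx => ?_)
    exact ⟨n⁻¹ * x * n, hPH ((mem_normalizer_iff''.mp hn x).mp hx),
      by show n * (n⁻¹ * x * n) * n⁻¹ = x; group⟩
  haveI : IsMulCommutative (H.subgroupOf C) := ⟨⟨fun a b => Subtype.ext (Subtype.ext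
    (congrArg Subtype.val (mul_comm' (⟨_, a.2⟩ : H) ⟨_, b.2⟩) :))⟩⟩
  haveI : IsMulCommutative (H2.subgroupOf C) := ⟨⟨fun a b => Subtype.ext (Subtype.ext
    (congrArg Subtype.val (mul_comm' (⟨_, a.2⟩ : H2) ⟨_, b.2⟩) :))⟩⟩
  obtain ⟨c, hc⟩ := abelian_hall_conj (H2.subgroupOf C) (H.subgroupOf C) (by
      rw [Nat.card_congr (subgroupOfEquivOfLe hH2C).toEquiv]
      refine Nat.Coprime.coprime_dvd_right (relIndex_dvd_index_of_le hH2C) ?_
      rw [card_map_of_injective (MulAut.conj n).injective,
        show H2.index = H.index from index_map_of_bijective (f := (MulAut.conj n).toMonoidHom) (MulAut.conj n).bijective H]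
      exact hHall) (by
      rw [Nat.card_congr (subgroupOfEquivOfLe hH2C).toEquiv,
        Nat.card_congr (subgroupOfEquivOfLe hHC).toEquiv,
        card_map_of_injective (MulAut.conj n).injective])
  have hcn : (c : G) * n ∈ normalizer (H : Set G) := by
    refine mem_normalizer_iff_map_conj_eq.mpr (eq_of_le_of_card_ge ?_ (by
      rw [card_map_of_injective (MulAut.conj _).injective]))
    rintro _ ⟨x, hx, rfl⟩
    have hy : n * x * n⁻¹ ∈ H2 := ⟨x, hx, rfl⟩
    have h6 : c * ⟨_, hH2C hy⟩ * c⁻¹ ∈ H.subgroupOf C := by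
      rw [← hc]; exact ⟨⟨_, hH2C hy⟩, hy, rfl⟩
    show ((c : G) * n) * x * ((c : G) * n)⁻¹ ∈ H
    have h7 : (c : G) * (n * x * n⁻¹) * (c : G)⁻¹ ∈ H := h6
    simpa [mul_assoc] using h7
  have h8 : (c : G) * n ∈ C := centralizer_le hPH (h hcn)
  have := mul_mem (inv_mem c.2) h8
  rwa [inv_mul_cancel_left] at this

end Cfsg.Agent.Transfer
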