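import Mathlib.GroupTheory.Focal
import Mathlib.GroupTheory.Transfer
import Mathlib.GroupTheory.SchurZassenhaus
import Mathlib.GroupTheory.Nilpotent
import Cfsg.Prelude.Def_Transfer

/-!
# The p-residual and normal p-complements

Basic facts about `Cfsg.pResidual` and `Cfsg.HasNormalPComplement`.
-/

set_option autoImplicit false
set_option linter.style.haveILetI false

namespace Cfsg.Agent.Transfer

open Subgroup Cfsg

variable {G : Type*} [Group G] {H : Type*} [Group H] {p : ℕ}

/-- Every element is a product of commuting powers of itself, of `p`-power and of coprime order. -/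
theorem exists_pPart_mul [Finite G] [hp : Fact p.Prime] (g : G) :
    ∃ a b : G, a ∈ zpowers g ∧ b ∈ zpowers g ∧ a * b = g ∧ (∃ k, orderOf a ∣ p ^ k) ∧
      (orderOf b).Coprime p := by
  obtain ⟨k, m, hm, hgm⟩ :=
    Nat.exists_eq_pow_mul_and_not_dvd (orderOf_pos g).ne' p hp.out.ne_one
  have hcop : (p ^ k).Coprime m := Nat.Coprime.pow_left k (hp.out.coprime_iff_not_dvd.mpr hm)
  have hbez : ((Nat.gcd (p ^ k) m : ℕ) : ℤ) =
      ((p ^ k : ℕ) : ℤ) * (p ^ k).gcdA m + (m : ℤ) * (p ^ k).gcdB m := Nat.gcd_eq_gcd_ab _ _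
  rw [hcop.gcd_eq_one] at hbez
  refine ⟨g ^ ((m : ℤ) * (p ^ k).gcdB m), g ^ (((p ^ k : ℕ) : ℤ) * (p ^ k).gcdA m),
    zpow_mem (mem_zpowers g) _, zpow_mem (mem_zpowers g) _, ?_, ⟨k, ?_⟩, ?_⟩
  · rw [← zpow_add, add_comm, ← hbez]; simp
  · apply orderOf_dvd_of_pow_eq_one
    rw [← zpow_natCast, ← zpow_mul]
    apply orderOf_dvd_iff_zpow_eq_one.mp
    rw [hgm]; exact ⟨(p ^ k).gcdB m, by push_cast; ring⟩
  · refine Nat.Coprime.coprime_dvd_left (orderOf_dvd_of_pow_eq_one ?_)
      ((hp.out.coprime_iff_not_dvd.mpr hm).symm)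
    rw [← zpow_natCast, ← zpow_mul]
    apply orderOf_dvd_iff_zpow_eq_one.mp
    rw [hgm]; exact ⟨(p ^ k).gcdA m, by push_cast; ring⟩

/-- An element of `p`-power order and of order prime to `p` is trivial. -/
theorem eq_one_of_pow_of_coprime {g : G} (h1 : ∃ k, orderOf g ∣ p ^ k)
    (h2 : (orderOf g).Coprime p) : g = 1 := by
  obtain ⟨k, hk⟩ := h1
  exact orderOf_eq_one_iff.mp (Nat.eq_one_of_dvd_coprimes (h2.pow_right k) dvd_rfl hk)

theorem mem_pResidual_of_coprime {g : G} (hg : (orderOf g).Coprime p) : g ∈ pResidual p G :=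
  subset_closure hg

theorem map_pResidual_le (f : G →* H) : (pResidual p G).map f ≤ pResidual p H := by
  rw [pResidual, MonoidHom.map_closure]
  refine closure_mono ?_
  rintro - ⟨g, hg, rfl⟩
  exact Nat.Coprime.coprime_dvd_left (orderOf_map_dvd f g) hg

theorem pResidual_characteristic (G : Type*) [Group G] (p : ℕ) :
    (pResidual p G).Characteristic :=
  characteristic_iff_map_le.mpr fun φ => map_pResidual_le φ.toMonoidHom

instance pResidual_normal (G : Type*) [Group G] (p : ℕ) : (pResidual p G).Normal :=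
  haveI := pResidual_characteristic G p
  inferInstance

theorem map_pResidual_eq [Finite G] [Fact p.Prime] {f : G →* H} (hf : Function.Surjective f) :
    (pResidual p G).map f = pResidual p H := by
  refine le_antisymm (map_pResidual_le f) ((closure_le _).mpr ?_)
  intro h hh
  obtain ⟨g, rfl⟩ := hf h
  obtain ⟨a, b, ha, -, hab, ⟨k, hk⟩, hb⟩ := exists_pPart_mul (p := p) g
  obtain ⟨i, rfl⟩ := mem_zpowers_iff.mp ha
  have hfa : f (g ^ i) = 1 := by
    refine eq_one_of_pow_of_coprime (p := p) ⟨k, (orderOf_map_dvd f _).trans hk⟩ ?_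
    rw [map_zpow]
    refine Nat.Coprime.coprime_dvd_left (orderOf_dvd_of_mem_zpowers ?_) hh
    exact zpow_mem (mem_zpowers _) i
  refine ⟨b, mem_pResidual_of_coprime hb, ?_⟩
  have := congrArg f hab
  rwa [map_mul, hfa, one_mul] at this

theorem pResidual_le_ker (f : G →* H) (hH : IsPGroup p H) : pResidual p G ≤ f.ker := by
  refine (closure_le _).mpr fun g hg => ?_
  exact eq_one_of_pow_of_coprime (isPGroup_iff_orderOf_dvd_pow.mp hH (f g))
    (Nat.Coprime.coprime_dvd_left (orderOf_map_dvd f g) hg)

theorem pResidual_le_of_isPGroup_quotient (N : Subgroup G) [N.Normal]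
    (h : IsPGroup p (G ⧸ N)) : pResidual p G ≤ N := by
  simpa using pResidual_le_ker (QuotientGroup.mk' N) h

theorem isPGroup_quotient_of_pResidual_le [Finite G] [Fact p.Prime] (N : Subgroup G) [N.Normal]
    (h : pResidual p G ≤ N) : IsPGroup p (G ⧸ N) := by
  refine isPGroup_iff_orderOf_dvd_pow.mpr fun x => ?_
  obtain ⟨g, rfl⟩ := QuotientGroup.mk'_surjective N x
  obtain ⟨a, b, -, -, hab, ⟨k, hk⟩, hb⟩ := exists_pPart_mul (p := p) g
  refine ⟨k, ?_⟩
  have hb1 : QuotientGroup.mk' N b = 1 := by
    rw [QuotientGroup.mk'_apply, QuotientGroup.eq_one_iff]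
    exact h (mem_pResidual_of_coprime hb)
  rw [← hab, map_mul, hb1, mul_one]
  exact (orderOf_map_dvd _ _).trans hk

theorem pResidual_le_iff [Finite G] [Fact p.Prime] (N : Subgroup G) [N.Normal] :
    pResidual p G ≤ N ↔ IsPGroup p (G ⧸ N) :=
  ⟨isPGroup_quotient_of_pResidual_le N, pResidual_le_of_isPGroup_quotient N⟩

theorem isPGroup_quotient_pResidual [Finite G] [Fact p.Prime] :
    IsPGroup p (G ⧸ pResidual p G) :=
  isPGroup_quotient_of_pResidual_le _ le_rfl

theorem exists_index_pResidual_eq_pow [Finite G] [Fact p.Prime] :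
    ∃ k, (pResidual p G).index = p ^ k :=
  IsPGroup.iff_card.mp (isPGroup_quotient_pResidual (p := p) (G := G))

theorem pResidual_le_of_index_eq_pow [Fact p.Prime] (N : Subgroup G) [N.Normal] {k : ℕ}
    (h : N.index = p ^ k) : pResidual p G ≤ N :=
  pResidual_le_of_isPGroup_quotient N (IsPGroup.of_card h)

theorem pResidual_sup_sylow [Finite G] [hp : Fact p.Prime] (P : Sylow p G) :
    pResidual p G ⊔ (P : Subgroup G) = ⊤ := by
  obtain ⟨k, hk⟩ := exists_index_pResidual_eq_pow (p := p) (G := G)
  apply index_eq_one.mp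
  refine Nat.eq_one_of_dvd_coprimes ?_ (index_dvd_of_le le_sup_left) (index_dvd_of_le le_sup_right)
  rw [hk]
  exact Nat.Coprime.pow_left k (hp.out.coprime_iff_not_dvd.mpr P.not_dvd_index)

theorem map_subtype_pResidual_le (K : Subgroup G) :
    (pResidual p K).map K.subtype ≤ pResidual p G :=
  map_pResidual_le K.subtype

/-- `O^p(O^p(G)) = O^p(G)`. -/
theorem pResidual_pResidual : pResidual p ↥(pResidual p G) = ⊤ := by
  apply Subgroup.map_injective (pResidual p G).subtype_injective
  rw [← MonoidHom.range_eq_map, range_subtype]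
  refine le_antisymm (map_subtype_pResidual_le _) ((closure_le _).mpr fun g hg => ?_)
  refine ⟨⟨g, mem_pResidual_of_coprime hg⟩, mem_pResidual_of_coprime ?_, rfl⟩
  rwa [← Subgroup.orderOf_coe]

theorem hom_pResidual_eq_one (f : ↥(pResidual p G) →* H) (hH : IsPGroup p H)
    (x : ↥(pResidual p G)) : f x = 1 :=
  pResidual_le_ker f hH (by rw [pResidual_pResidual]; trivial)

/-! ### Sylow subgroups of normal subgroups -/

theorem not_dvd_relIndex_normal [Finite G] [Fact p.Prime] (P : Sylow p G) (N : Subgroup G)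
    [N.Normal] : ¬ p ∣ ((P : Subgroup G) ⊓ N).relIndex N := by
  rw [inf_relIndex_right]
  intro h
  apply P.not_dvd_index
  refine h.trans ?_
  have hsup : N.relIndex ((P : Subgroup G) ⊔ N) = N.relIndex (P : Subgroup G) :=
    relIndex_sup_right _ _
  have e1 := relIndex_mul_relIndex ((P : Subgroup G) ⊓ N) N ((P : Subgroup G) ⊔ N)
    inf_le_right le_sup_right
  have e2 := relIndex_mul_relIndex ((P : Subgroup G) ⊓ N) (P : Subgroup G)
    ((P : Subgroup G) ⊔ N) inf_le_left le_sup_left
  rw [inf_relIndex_right, hsup, ← e2, inf_relIndex_left, mul_comm] at e1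
  have h3 := Nat.eq_of_mul_eq_mul_left (Nat.pos_of_ne_zero
    (N.subgroupOf (P : Subgroup G)).index_ne_zero_of_finite) e1
  rw [h3]
  exact relIndex_dvd_index_of_le le_sup_left

theorem exists_sylow_eq_subgroupOf [Finite G] [Fact p.Prime] (P : Sylow p G) (N : Subgroup G)
    [N.Normal] : ∃ Q : Sylow p N, (Q : Subgroup N) = (P : Subgroup G).subgroupOf N := by
  refine ⟨IsPGroup.toSylow (P := (P : Subgroup G).subgroupOf N) P.2.comap_subtype ?_, ?_⟩
  · intro h
    apply not_dvd_relIndex_normal P N
    rwa [inf_relIndex_right]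
  · rfl

/-! ### Normal p-complements -/

theorem sylow_disjoint_of_coprime [Finite G] [hp : Fact p.Prime] (P : Sylow p G) (N : Subgroup G)
    (hN : ¬ p ∣ Nat.card N) : N ⊓ (P : Subgroup G) = ⊥ := by
  obtain ⟨k, hk⟩ := P.2.exists_card_eq
  refine disjoint_iff.mp (disjoint_of_coprime_natCard ?_)
  rw [hk]
  exact Nat.Coprime.pow_right k (hp.out.coprime_iff_not_dvd.mpr hN).symm

theorem isComplement'_pResidual [Finite G] [Fact p.Prime]
    (h : ¬ p ∣ Nat.card ↥(pResidual p G)) (P : Sylow p G) :
    (pResidual p G).IsComplement' (P : Subgroup G) := by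
  refine isComplement'_of_disjoint_and_mul_eq_univ
    (disjoint_iff.mpr (sylow_disjoint_of_coprime P _ h)) ?_
  rw [← normal_mul, pResidual_sup_sylow, coe_top]

theorem complement_not_dvd [Finite G] [Fact p.Prime] (P : Sylow p G) {N : Subgroup G}
    (hN : N.IsComplement' (P : Subgroup G)) : ¬ p ∣ Nat.card N := by
  rw [← hN.index_eq_card]
  exact P.not_dvd_index

theorem complement_eq_pResidual [Finite G] [hp : Fact p.Prime] (P : Sylow p G) {N : Subgroup G}
    [N.Normal] (hN : N.IsComplement' (P : Subgroup G)) : N = pResidual p G := by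
  obtain ⟨k, hk⟩ := P.2.exists_card_eq
  refine le_antisymm (fun x hx => mem_pResidual_of_coprime ?_)
    (pResidual_le_of_index_eq_pow N (k := k) ?_)
  · refine Nat.Coprime.coprime_dvd_left ?_
      (hp.out.coprime_iff_not_dvd.mpr (complement_not_dvd P hN)).symm
    rw [← Subgroup.orderOf_mk x hx]
    exact orderOf_dvd_natCard _
  · rw [← hk, hN.symm.index_eq_card]

theorem hasNormalPComplement_iff [Finite G] [Fact p.Prime] :
    HasNormalPComplement p G ↔ ¬ p ∣ Nat.card ↥(pResidual p G) := by
  constructor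
  · rintro ⟨P, N, hn, hN⟩
    rw [← complement_eq_pResidual P hN]
    exact complement_not_dvd P hN
  · intro h
    exact ⟨default, pResidual p G, inferInstance, isComplement'_pResidual h _⟩

theorem hasNormalPComplement_iff_inf_eq_bot [Finite G] [hp : Fact p.Prime] (P : Sylow p G) :
    HasNormalPComplement p G ↔ (P : Subgroup G) ⊓ pResidual p G = ⊥ := by
  rw [hasNormalPComplement_iff]
  refine ⟨fun h => by rw [inf_comm]; exact sylow_disjoint_of_coprime P _ h, fun h hd => ?_⟩
  apply not_dvd_relIndex_normal P (pResidual p G)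
  rwa [h, relIndex_bot_left]

theorem hasNormalPComplement_of_sylow [Finite G] [Fact p.Prime] (P : Sylow p G) :
    HasNormalPComplement p G ↔ ∃ N : Subgroup G, N.Normal ∧ N.IsComplement' (P : Subgroup G) :=
  ⟨fun h => ⟨pResidual p G, inferInstance,
      isComplement'_pResidual (hasNormalPComplement_iff.mp h) P⟩,
    fun ⟨N, h1, h2⟩ => ⟨P, N, h1, h2⟩⟩

theorem hasNormalPComplement_of_injective [Finite G] [Fact p.Prime] (f : H →* G)
    (hf : Function.Injective f) (h : HasNormalPComplement p G) : HasNormalPComplement p H := by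
  haveI : Finite H := Finite.of_injective f hf
  rw [hasNormalPComplement_iff] at h ⊢
  intro hd
  apply h
  refine hd.trans (dvd_trans ?_ (card_dvd_of_le (map_pResidual_le f)))
  rw [card_map_of_injective hf]

theorem hasNormalPComplement_subgroup [Finite G] [Fact p.Prime] (K : Subgroup G)
    (h : HasNormalPComplement p G) : HasNormalPComplement p K :=
  hasNormalPComplement_of_injective K.subtype K.subtype_injective h

theorem hasNormalPComplement_of_surjective [Finite G] [Fact p.Prime] (f : G →* H)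
    (hf : Function.Surjective f) (h : HasNormalPComplement p G) : HasNormalPComplement p H := by
  haveI : Finite H := Finite.of_surjective f hf
  rw [hasNormalPComplement_iff] at h ⊢
  rw [← map_pResidual_eq (p := p) hf]
  exact fun hd => h (hd.trans (card_map_dvd _ f))

theorem hasNormalPComplement_congr [Finite G] [Fact p.Prime] (e : G ≃* H) :
    HasNormalPComplement p G ↔ HasNormalPComplement p H :=
  haveI : Finite H := Finite.of_equiv G e.toEquiv
  ⟨hasNormalPComplement_of_surjective e.toMonoidHom e.surjective,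
    hasNormalPComplement_of_injective e.toMonoidHom e.injective⟩

/-- A group with a normal subgroup of order prime to `p` and `p`-group quotient has a normal
`p`-complement. -/
theorem hasNormalPComplement_of_normal [Finite G] [Fact p.Prime] (N : Subgroup G) [N.Normal]
    (h1 : ¬ p ∣ Nat.card N) (h2 : IsPGroup p (G ⧸ N)) : HasNormalPComplement p G :=
  hasNormalPComplement_iff.mpr fun hd =>
    h1 (hd.trans (card_dvd_of_le (pResidual_le_of_isPGroup_quotient N h2)))

end Cfsg.Agent.Transfer
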