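import Cfsg.Agent.Lib.Transfer.ClassTwo
import Cfsg.Agent.Lib.Transfer.Residual
import Cfsg.Agent.Lib.Basics.Tools
import Mathlib.GroupTheory.Exponent
import Mathlib.Algebra.Ring.Parity

/-!
# Glauberman's replacement theorem
-/

set_option autoImplicit false
set_option linter.style.haveILetI false

namespace Cfsg.Agent.Transfer

open Subgroup
open scoped commutatorElement

variable {G : Type*} [Group G]

theorem commutator_le_of_le_normalizer {A B : Subgroup G} (hAB : A ≤ normalizer (B : Set G)) :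
    ⁅B, A⁆ ≤ B := le_normalizer_iff_commutator_le_left.mp hAB

/-- If `A` normalizes `B` and centralizes `⁅B, B⁆` then `⁅B, A⁆` centralizes `⁅B, B⁆`. -/
theorem commutator_le_centralizer_derived {A B : Subgroup G}
    (hc : ⁅⁅B, B⁆, A⁆ = ⊥) : ⁅B, A⁆ ≤ centralizer ((⁅B, B⁆ : Subgroup G) : Set G) := by
  have h1 : ⁅⁅A, ⁅B, B⁆⁆, B⁆ = ⊥ := by
    rw [commutator_comm A, hc, commutator_bot_left]
  have h2 : ⁅⁅⁅B, B⁆, B⁆, A⁆ = ⊥ := by
    rw [← le_bot_iff, ← hc]
    exact commutator_mono (commutator_le_of_le_normalizer (normalizer_commutator_ge_left B B)) le_rfl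
  exact commutator_eq_bot_iff_le_centralizer.mp (commutator_commutator_eq_bot_of_rotate h1 h2)

/-- If `A` normalizes `B` and centralizes `⁅B, B⁆` then the derived group of `⁅B, A⁆` is central
in `B`. -/
theorem derived_commutator_le {A B : Subgroup G} (hAB : A ≤ normalizer (B : Set G))
    (hc : ⁅⁅B, B⁆, A⁆ = ⊥) :
    ⁅⁅B, A⁆, ⁅B, A⁆⁆ ≤ B ⊓ centralizer (B : Set G) := by
  have hCB := commutator_le_of_le_normalizer hAB
  have hbot : ⁅⁅B, B⁆, ⁅B, A⁆⁆ = ⊥ := by
    rw [commutator_comm]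
    exact commutator_eq_bot_iff_le_centralizer.mpr (commutator_le_centralizer_derived hc)
  have h1 : ⁅⁅⁅B, A⁆, B⁆, ⁅B, A⁆⁆ = ⊥ := by
    rw [← le_bot_iff, ← hbot]
    exact commutator_mono (commutator_mono hCB le_rfl) le_rfl
  have h2 : ⁅⁅B, ⁅B, A⁆⁆, ⁅B, A⁆⁆ = ⊥ := by
    rw [← le_bot_iff, ← hbot]
    exact commutator_mono (commutator_mono le_rfl hCB) le_rfl
  exact le_inf ((commutator_mono hCB hCB).trans
    (commutator_le_of_le_normalizer le_normalizer))
    (commutator_eq_bot_iff_le_centralizer.mp (commutator_commutator_eq_bot_of_rotate h1 h2))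

/-- The generating set of the commutator subgroup of an element `b` with `A`. -/
def elemComm (A : Subgroup G) (b : G) : Subgroup G :=
  closure {g : G | ∃ a ∈ A, g = b⁻¹ * a * b * a⁻¹}

theorem elemComm_le {A B : Subgroup G} {b : G} (hb : b ∈ B) : elemComm A b ≤ ⁅B, A⁆ := by
  rw [elemComm, closure_le]
  rintro _ ⟨a, ha, rfl⟩
  have h := commutator_mem_commutator (inv_mem hb) ha
  rw [commutatorElement_def, inv_inv] at h
  exact h

/-- Glauberman's commutator lemma. -/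
theorem sq_commutator_eq_one {A B : Subgroup G} (hAB : A ≤ normalizer (B : Set G))
    (hc : ⁅⁅B, B⁆, A⁆ = ⊥) (hA : IsMulCommutative A) {b : G} (hb : b ∈ B)
    (hM : ⁅⁅elemComm A b, A⁆, A⁆ = ⊥) :
    ∀ w ∈ ⁅elemComm A b, elemComm A b⁆, w ^ 2 = 1 := by
  set C := elemComm A b with hC
  have hAc : ∀ {a c : G}, a ∈ A → c ∈ A → a * c = c * a := fun ha hc' =>
    congrArg Subtype.val (mul_comm' (⟨_, ha⟩ : A) ⟨_, hc'⟩)
  have hBA : C ≤ ⁅B, A⁆ := elemComm_le hb
  have hCB : C ≤ B := hBA.trans (commutator_le_of_le_normalizer hAB)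
  have hcent : ∀ u ∈ C, ∀ v ∈ C, ∀ w ∈ B, Commute ⁅u, v⁆ w := fun u hu v hv w hw =>
    ((derived_commutator_le hAB hc (commutator_mem_commutator (hBA hu) (hBA hv))).2 w hw).symm
  have hfix : ∀ z ∈ ⁅B, B⁆, ∀ d ∈ A, d * z * d⁻¹ = z := by
    intro z hz d hd
    have h : ⁅z, d⁆ ∈ (⊥ : Subgroup G) := hc ▸ commutator_mem_commutator hz hd
    have h2 : Commute z d := commutatorElement_eq_one_iff_commute.mp (mem_bot.mp h)
    rw [← h2.eq, mul_inv_cancel_right]
  set y : G → G := fun a => b⁻¹ * a * b * a⁻¹ with hy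
  have hyC : ∀ a ∈ A, y a ∈ C := fun a ha => subset_closure ⟨a, ha, rfl⟩
  have hM' : ⁅C, A⁆ ≤ B := (commutator_mono hCB le_rfl).trans (commutator_le_of_le_normalizer hAB)
  have hconjb : ∀ d ∈ A, d * b * d⁻¹ = b * y d := fun d _ => by simp only [hy]; group
  have htfix : ∀ t ∈ ⁅C, A⁆, ∀ d ∈ A, d * t * d⁻¹ = t := by
    intro t ht d hd
    have h : ⁅t, d⁆ ∈ (⊥ : Subgroup G) := hM ▸ commutator_mem_commutator ht hd
    have h2 : Commute t d := commutatorElement_eq_one_iff_commute.mp (mem_bot.mp h)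
    rw [← h2.eq, mul_inv_cancel_right]
  have hty : ∀ t ∈ ⁅C, A⁆, ∀ d ∈ A, Commute (y d) t := by
    intro t ht d hd
    have h1 := hfix _ (commutator_mem_commutator hb (hM' ht)) d hd
    rw [← MulAut.conj_apply, ← MulEquiv.coe_toMonoidHom, map_commutatorElement] at h1
    simp only [MulEquiv.coe_toMonoidHom, MulAut.conj_apply, hconjb d hd, htfix t ht d hd] at h1
    have e : ⁅b * y d, t⁆ = b * ⁅y d, t⁆ * b⁻¹ * ⁅b, t⁆ := by
      simp only [commutatorElement_def]; group
    rw [e, mul_eq_right, mul_inv_eq_one, mul_eq_left] at h1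
    exact commutatorElement_eq_one_iff_commute.mp h1
  have key : ∀ a ∈ A, ∀ c ∈ A, ⁅y c, y a⁆ ^ 2 = 1 := by
    intro a ha c hc'
    set t := ⁅c, y a⁆ with ht
    set t' := ⁅a, y c⁆ with ht'
    have htm : t ∈ ⁅C, A⁆ := commutator_comm C A ▸ commutator_mem_commutator hc' (hyC a ha)
    have htm' : t' ∈ ⁅C, A⁆ := commutator_comm C A ▸ commutator_mem_commutator ha (hyC c hc')
    have hexp : ∀ a' c' : G, y (c' * a') = y c' * (⁅c', y a'⁆ * y a') := by
      intro a' c'
      simp only [hy, commutatorElement_def]; group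
    have r1 : t' = t * ⁅y c, y a⁆ := by
      have h1 : y c * (t * y a) = y a * (t' * y c) := by
        rw [ht, ht', ← hexp, ← hexp, hAc hc' ha]
      rw [← mul_assoc, (hty t htm c hc').eq, ← mul_assoc (y a), (hty t' htm' a ha).eq] at h1
      have gen : ∀ t t' u v : G, t * u * v = t' * v * u → t' = t * ⁅u, v⁆ := by
        intro t t' u v h
        calc t' = t' * v * u * u⁻¹ * v⁻¹ := by group
          _ = t * u * v * u⁻¹ * v⁻¹ := by rw [h]
          _ = _ := by rw [commutatorElement_def]; group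
      exact gen _ _ _ _ h1
    have rel : ∀ a ∈ A, ∀ c ∈ A, ⁅b, ⁅a, y c⁆⁆ = ⁅y c, y a⁆ := by
      intro a ha c hc'
      set u := ⁅a, y c⁆ with hu
      have hum : u ∈ ⁅C, A⁆ := commutator_comm C A ▸ commutator_mem_commutator ha (hyC c hc')
      have h1 := hfix _ (commutator_mem_commutator hb (hCB (hyC c hc'))) a ha
      have e0 : a * ⁅b, y c⁆ * a⁻¹ = ⁅a * b * a⁻¹, u * y c⁆ := by
        simp only [hu, commutatorElement_def]; group
      rw [e0, hconjb a ha] at h1
      have e1 : ⁅b * y a, u * y c⁆ =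
          b * (⁅y a, u⁆ * (u * ⁅y a, y c⁆ * u⁻¹)) * b⁻¹ * (⁅b, u⁆ * (u * ⁅b, y c⁆ * u⁻¹)) := by
        simp only [commutatorElement_def]; group
      rw [e1, commutatorElement_eq_one_iff_commute.mpr (hty u hum a ha), one_mul,
        ← (hcent _ (hyC a ha) _ (hyC c hc') u (hM' hum)).eq, mul_inv_cancel_right,
        ← (hcent _ (hyC a ha) _ (hyC c hc') b hb).eq, mul_inv_cancel_right] at h1
      have h2 : Commute u ⁅b, y c⁆ := (commutator_le_centralizer_derived hc
        ((commutator_mono hCB le_rfl) hum) _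
        (commutator_mem_commutator hb (hCB (hyC c hc')))).symm
      rw [h2.eq, mul_inv_cancel_right, ← mul_assoc, mul_eq_right] at h1
      rw [← inv_eq_of_mul_eq_one_right h1, commutatorElement_inv]
    have r2 : ⁅b, t⁆ = ⁅y a, y c⁆ := rel c hc' a ha
    have r3 : ⁅b, t'⁆ = ⁅b, t⁆ := by
      rw [r1]
      have h2 := hcent _ (hyC c hc') _ (hyC a ha)
      have e : ⁅b, t * ⁅y c, y a⁆⁆ = ⁅b, t⁆ * (t * ⁅b, ⁅y c, y a⁆⁆ * t⁻¹) := by
        simp only [commutatorElement_def]; group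
      rw [e, commutatorElement_eq_one_iff_commute.mpr (h2 b hb).symm]
      group
    rw [rel a ha c hc', r2, ← commutatorElement_inv (y c) (y a)] at r3
    rw [sq]
    nth_rewrite 2 [r3]
    exact mul_inv_cancel _
  have hgen : ∀ a ∈ A, ∀ u ∈ C, ⁅u, y a⁆ ^ 2 = 1 := by
    intro a ha u hu
    induction hu using Subgroup.closure_induction with
    | mem x hx => obtain ⟨c, hc', rfl⟩ := hx; exact key a ha c hc'
    | one => rw [commutatorElement_one_left, one_pow]
    | mul x x' hx hx' ih ih' =>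
      have e : ⁅x * x', y a⁆ = x * ⁅x', y a⁆ * x⁻¹ * ⁅x, y a⁆ := by
        simp only [commutatorElement_def]; group
      have h' := hcent x' hx' _ (hyC a ha)
      rw [e, ← (h' x (hCB hx)).eq, mul_inv_cancel_right,
        (h' _ ((commutator_le_of_le_normalizer (le_normalizer (H := B)))
          (commutator_mem_commutator (hCB hx) (hCB (hyC a ha))))).mul_pow, ih', ih, one_mul]
    | inv x hx ih =>
      have h' := hcent x hx _ (hyC a ha)
      have e : ⁅x⁻¹, y a⁆ = x⁻¹ * ⁅x, y a⁆⁻¹ * x := by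
        simp only [commutatorElement_def]; group
      rw [e, ← (h' x⁻¹ (inv_mem (hCB hx))).inv_left.eq, inv_mul_cancel_right, inv_pow, ih, inv_one]
  have hall : ∀ u ∈ C, ∀ v ∈ C, ⁅u, v⁆ ^ 2 = 1 := by
    intro u hu v hv
    induction hv using Subgroup.closure_induction with
    | mem x hx => obtain ⟨c, hc', rfl⟩ := hx; exact hgen c hc' u hu
    | one => rw [commutatorElement_one_right, one_pow]
    | mul x x' hx hx' ih ih' =>
      have e : ⁅u, x * x'⁆ = ⁅u, x⁆ * (x * ⁅u, x'⁆ * x⁻¹) := by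
        simp only [commutatorElement_def]; group
      have h' := hcent u hu x' hx'
      rw [e, ← (h' x (hCB hx)).eq, mul_inv_cancel_right,
        (hcent u hu x hx _ ((commutator_le_of_le_normalizer (le_normalizer (H := B)))
          (commutator_mem_commutator (hCB hu) (hCB hx')))).mul_pow, ih, ih', one_mul]
    | inv x hx ih =>
      have h' := hcent u hu x hx
      have e : ⁅u, x⁻¹⁆ = x⁻¹ * ⁅u, x⁆⁻¹ * x := by
        simp only [commutatorElement_def]; group
      rw [e, ← (h' x⁻¹ (inv_mem (hCB hx))).inv_left.eq, inv_mul_cancel_right, inv_pow, ih, inv_one]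
  intro w hw
  have hWB : ⁅C, C⁆ ≤ B ⊓ centralizer (B : Set G) :=
    (commutator_mono hBA hBA).trans (derived_commutator_le hAB hc)
  rw [Subgroup.commutator_def] at hw
  induction hw using Subgroup.closure_induction with
  | mem x hx => obtain ⟨u, hu, v, hv, rfl⟩ := hx; exact hall u hu v hv
  | one => exact one_pow _
  | mul x x' hx hx' ih ih' =>
    have h1 : Commute x x' := (hWB hx').2 x (hWB hx).1
    rw [h1.mul_pow, ih, ih', one_mul]
  | inv x _ ih => rw [inv_pow, ih, inv_one]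

/-- Glauberman's replacement subgroup. -/
def replaced (A : Subgroup G) (b : G) : Subgroup G :=
  (A ⊓ A.map (MulAut.conj b⁻¹).toMonoidHom) ⊔ closure {g : G | ∃ a ∈ A, g = a * b⁻¹ * a⁻¹ * b}

theorem closure_eq_elemComm (A : Subgroup G) (b : G) :
    closure {g : G | ∃ a ∈ A, g = a * b⁻¹ * a⁻¹ * b} = elemComm A b := by
  apply le_antisymm <;> rw [elemComm, closure_le]
  · rintro _ ⟨a, ha, rfl⟩
    have h : (b⁻¹ * a * b * a⁻¹) ∈ closure {g : G | ∃ a ∈ A, g = b⁻¹ * a * b * a⁻¹} :=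
      subset_closure ⟨a, ha, rfl⟩
    simpa [mul_assoc] using inv_mem h
  · rintro _ ⟨a, ha, rfl⟩
    have h : (a * b⁻¹ * a⁻¹ * b) ∈ closure {g : G | ∃ a ∈ A, g = a * b⁻¹ * a⁻¹ * b} :=
      subset_closure ⟨a, ha, rfl⟩
    simpa [mul_assoc] using inv_mem h

theorem dvd_choose_two_of_odd {e : ℕ} (h : Odd e) : e ∣ e.choose 2 := by
  obtain ⟨k, rfl⟩ := h
  refine ⟨k, ?_⟩
  rw [Nat.choose_two_right, show 2 * k + 1 - 1 = 2 * k by omega,
    show (2 * k + 1) * (2 * k) = 2 * ((2 * k + 1) * k) by ring,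
    Nat.mul_div_cancel_left _ (by norm_num)]

/-- The conclusions of Glauberman's replacement theorem. -/
theorem replaced_spec {S : Type*} [Group S] [Finite S] {p : ℕ} [hp : Fact p.Prime]
    (hS : IsPGroup p S) (B : Subgroup S) [B.Normal] (hB2 : p = 2 → IsMulCommutative B)
    (A : Subgroup S) (hA : IsMulCommutative A) (hBA : ⁅B, B⁆ ≤ A) (b : S) (hb : b ∈ B)
    (hbN : b ∈ normalizer ((normalizer (A : Set S)) : Set S))
    (hbA : b ∉ normalizer (A : Set S)) :
    Nat.card (replaced A b) = Nat.card A ∧ IsMulCommutative (replaced A b) ∧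
      ⁅B, B⁆ ≤ replaced A b ∧ A ⊓ B < replaced A b ⊓ B ∧ replaced A b ⊓ B < B ∧
      A ≤ normalizer (replaced A b : Set S) ∧ replaced A b ≤ normalizer (A : Set S) ∧
      b ∈ normalizer (replaced A b : Set S) ∧
      normalizer (A : Set S) < normalizer (replaced A b : Set S) ∧
      (∀ D : Subgroup S, D.Normal → A ≤ D → replaced A b ≤ D) ∧
      ∀ e : ℕ, (∀ a ∈ A, a ^ e = 1) → ((e = 0 ∨ Odd e) ∨ ∀ x ∈ B, x ^ e = 1) →
        ∀ y ∈ replaced A b, y ^ e = 1 := by
  set N := normalizer (A : Set S) with hN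
  set A' := A.map (MulAut.conj b⁻¹).toMonoidHom with hA'
  set Z := A ⊓ A' with hZ
  set R := replaced A b with hRdef
  have hAN : A ≤ N := le_normalizer
  have hAc : ∀ {a c : S}, a ∈ A → c ∈ A → Commute a c := fun ha hc' =>
    congrArg Subtype.val (mul_comm' (⟨_, ha⟩ : A) ⟨_, hc'⟩)
  have hA'mem : ∀ w : S, w ∈ A' ↔ b * w * b⁻¹ ∈ A := by
    intro w
    constructor
    · rintro ⟨a, ha, rfl⟩
      simpa [mul_assoc] using ha
    · intro h
      exact ⟨_, h, by simp [mul_assoc]⟩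
  have hA'c : ∀ {a c : S}, a ∈ A' → c ∈ A' → Commute a c := by
    intro a c ha hc'
    have h := (hAc ((hA'mem a).mp ha) ((hA'mem c).mp hc')).map (MulAut.conj b⁻¹).toMonoidHom
    simpa [mul_assoc] using h
  have hA'N : A' ≤ N := by
    intro w hw
    exact (mem_normalizer_iff.mp hbN w).mpr (hAN ((hA'mem w).mp hw))
  have hNA' : ∀ n ∈ N, ∀ w ∈ A', n * w * n⁻¹ ∈ A' := by
    intro n hn w hw
    rw [hA'mem]
    have h1 : b * n * b⁻¹ ∈ N := (mem_normalizer_iff.mp hbN n).mp hn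
    have h2 := (mem_normalizer_iff.mp h1 _).mp ((hA'mem w).mp hw)
    simpa [mul_assoc] using h2
  have hNA : ∀ n ∈ N, ∀ w ∈ A, n * w * n⁻¹ ∈ A := fun n hn w hw =>
    (mem_normalizer_iff.mp hn w).mp hw
  -- commutators between `A` and `A'` lie in `Z`, which centralizes both
  have hcomm : ∀ a ∈ A, ∀ c ∈ A', ⁅a, c⁆ ∈ Z := by
    intro a ha c hc'
    refine ⟨?_, ?_⟩
    · have h := mul_mem ha (hNA c (hA'N hc') a⁻¹ (inv_mem ha))
      simpa [commutatorElement_def, mul_assoc] using h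
    · have h := mul_mem (hNA' a (hAN ha) c hc') (inv_mem hc')
      simpa [commutatorElement_def, mul_assoc] using h
  have hZa : ∀ z ∈ Z, ∀ a ∈ A, Commute z a := fun z hz a ha => hAc hz.1 ha
  have hZa' : ∀ z ∈ Z, ∀ a ∈ A', Commute z a := fun z hz a ha => hA'c hz.2 ha
  set x : S → S := fun a => a * b⁻¹ * a⁻¹ * b with hx
  set f : S → S := fun a => b⁻¹ * a⁻¹ * b with hf
  have hxf : ∀ a, x a = a * f a := fun a => by simp [hx, hf, mul_assoc]
  have hfA' : ∀ a ∈ A, f a ∈ A' := fun a ha => (hA'mem _).mpr (by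
    simpa [hf, mul_assoc] using inv_mem ha)
  have hxB : ∀ a, x a ∈ B := fun a =>
    mul_mem (‹B.Normal›.conj_mem _ (inv_mem hb) a) hb
  have hxN : ∀ a ∈ A, x a ∈ N := fun a ha => hxf a ▸ mul_mem (hAN ha) (hA'N (hfA' a ha))
  have hxz : ∀ a ∈ A, ∀ z ∈ Z, Commute (x a) z := fun a ha z hz => by
    rw [hxf]
    exact ((hZa z hz a ha).mul_right (hZa' z hz _ (hfA' a ha))).symm
  have hxmul : ∀ a ∈ A, ∀ c ∈ A, ∃ z ∈ Z, x a * x c = x (a * c) * z := by
    intro a ha c hc'
    refine ⟨⁅f a, c⁆, ?_, ?_⟩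
    · rw [← commutatorElement_inv]
      exact inv_mem (hcomm c hc' _ (hfA' a ha))
    · have hk : ⁅f a, c⁆ ∈ Z := by
        rw [← commutatorElement_inv]
        exact inv_mem (hcomm c hc' _ (hfA' a ha))
      have hk1 : Commute ⁅f a, c⁆ (f a) := hZa' _ hk _ (hfA' a ha)
      have hk2 : Commute ⁅f a, c⁆ (f c) := hZa' _ hk _ (hfA' c hc')
      have e1 : f (a * c) = f c * f a := by simp [hf, mul_assoc]
      rw [hxf, hxf, hxf, e1, (hA'c (hfA' c hc') (hfA' a ha)).eq]
      calc a * f a * (c * f c) = a * (⁅f a, c⁆ * c * f a) * f c := by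
            simp only [commutatorElement_def]; group
        _ = a * c * (⁅f a, c⁆ * (f a * f c)) := by
            rw [(hZa _ hk c hc').eq]; group
        _ = a * c * (f a * f c) * ⁅f a, c⁆ := by
            rw [(hk1.mul_right hk2).eq]; group
  have hx1 : x 1 = 1 := by simp [hx]
  let K : Subgroup S :=
    { carrier := {w | ∃ a ∈ A, ∃ z ∈ Z, w = x a * z}
      one_mem' := ⟨1, one_mem _, 1, one_mem _, by rw [hx1, one_mul]⟩
      mul_mem' := by
        rintro _ _ ⟨a, ha, z, hz, rfl⟩ ⟨c, hc', w, hw, rfl⟩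
        obtain ⟨k, hk, he⟩ := hxmul a ha c hc'
        refine ⟨a * c, mul_mem ha hc', k * z * w, mul_mem (mul_mem hk hz) hw, ?_⟩
        calc x a * z * (x c * w) = x a * (z * x c) * w := by group
          _ = x a * x c * z * w := by rw [(hxz c hc' z hz).symm.eq]; group
          _ = _ := by rw [he]; group
      inv_mem' := by
        rintro _ ⟨a, ha, z, hz, rfl⟩
        obtain ⟨k, hk, he⟩ := hxmul a ha a⁻¹ (inv_mem ha)
        rw [mul_inv_cancel, hx1, one_mul] at he
        refine ⟨a⁻¹, inv_mem ha, k⁻¹ * z⁻¹, mul_mem (inv_mem hk) (inv_mem hz), ?_⟩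
        have h1 : (x a)⁻¹ = x a⁻¹ * k⁻¹ := by
          rw [eq_mul_inv_iff_mul_eq, ← he, inv_mul_cancel_left]
        rw [(hxz a ha z hz).eq, mul_inv_rev, h1, mul_assoc] }
  have hZR : Z ≤ R := le_sup_left
  have hxR : ∀ a ∈ A, x a ∈ R := fun a ha => mem_sup_right (subset_closure ⟨a, ha, rfl⟩)
  have hRK : R = K := by
    apply le_antisymm
    · refine sup_le (fun z hz => ⟨1, one_mem _, z, hz, by rw [hx1, one_mul]⟩) ?_
      rw [closure_le]
      rintro _ ⟨a, ha, rfl⟩
      exact ⟨a, ha, 1, one_mem _, (mul_one _).symm⟩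
    · rintro _ ⟨a, ha, z, hz, rfl⟩
      exact mul_mem (hxR a ha) (hZR hz)
  have hmem : ∀ w ∈ R, ∃ a ∈ A, ∃ z ∈ Z, w = x a * z := fun w hw => hRK.le hw
  -- derived group of `B`
  have hBB : ∀ z ∈ ⁅B, B⁆, z ∈ Z := by
    intro z hz
    refine ⟨hBA hz, (hA'mem z).mpr (hBA ?_)⟩
    exact (inferInstance : (⁅B, B⁆ : Subgroup S).Normal).conj_mem z hz b
  have hABZ : ∀ y ∈ A ⊓ B, y ∈ Z ∧ b⁻¹ * y * b ∈ Z := by
    intro y hy
    have h1 : ⁅b⁻¹, y⁆ ∈ Z := hBB _ (commutator_mem_commutator (inv_mem hb) hy.2)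
    have h2 : b⁻¹ * y * b = ⁅b⁻¹, y⁆ * y := by simp [commutatorElement_def, mul_assoc]
    have h3 : b⁻¹ * y * b ∈ A' := (hA'mem _).mpr (by simpa [mul_assoc] using hy.1)
    refine ⟨⟨hy.1, ?_⟩, ?_, h3⟩
    · have := A'.mul_mem (A'.inv_mem (mem_inf.mp h1).2) h3
      rwa [h2, inv_mul_cancel_left] at this
    · rw [h2]; exact mul_mem h1.1 hy.1
  -- commutativity
  have hRc : ∀ u ∈ R, ∀ v ∈ R, Commute u v := by
    intro u hu v hv
    obtain ⟨a, ha, z, hz, rfl⟩ := hmem u hu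
    obtain ⟨c, hc', w, hw, rfl⟩ := hmem v hv
    have hxx : Commute (x a) (x c) := by
      by_cases h2 : p = 2
      · haveI := hB2 h2
        exact congrArg Subtype.val (mul_comm' (⟨_, hxB a⟩ : B) ⟨_, hxB c⟩)
      · have hAB : A ≤ normalizer (B : Set S) := by rw [normalizer_eq_top]; exact le_top
        have hcBA : ⁅⁅B, B⁆, A⁆ = ⊥ := by
          rw [commutator_eq_bot_iff_le_centralizer]
          intro z hz a ha
          exact (hAc ha (hBA hz)).eq
        have hCK : elemComm A b ≤ K := closure_eq_elemComm A b ▸ (hRK ▸ le_sup_right)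
        have hM : ⁅⁅elemComm A b, A⁆, A⁆ = ⊥ := by
          rw [commutator_eq_bot_iff_le_centralizer, commutator_le]
          intro u hu a ha
          obtain ⟨c, hc', z, hz, rfl⟩ := hCK hu
          intro d hd
          have hk : ⁅x c * z, a⁆ ∈ A := by
            have h1 : x c * z ∈ N := mul_mem (hxN c hc') (hAN hz.1)
            have h2 := mul_mem (hNA _ h1 a ha) (inv_mem ha)
            simpa [commutatorElement_def, mul_assoc] using h2
          exact (hAc hd hk).eq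
        have hxa : ∀ a ∈ A, x a ∈ elemComm A b := fun a ha =>
          closure_eq_elemComm A b ▸ subset_closure ⟨a, ha, rfl⟩
        have h1 := sq_commutator_eq_one hAB hcBA hA hb hM _
          (commutator_mem_commutator (hxa a ha) (hxa c hc'))
        obtain ⟨k, hk⟩ := hS ⁅x a, x c⁆
        exact commutatorElement_eq_one_iff_commute.mp (eq_one_of_pow_of_coprime
          ⟨k, orderOf_dvd_of_pow_eq_one hk⟩
          (((Nat.coprime_primes Nat.prime_two hp.out).mpr (Ne.symm h2)).coprime_dvd_left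
            (orderOf_dvd_of_pow_eq_one h1)))
    have hzw : Commute z w := hZa z hz w hw.1
    exact ((hxx.mul_right (hxz a ha w hw)).mul_left
      ((hxz c hc' z hz).symm.mul_right hzw))
  -- order
  have hcard : Nat.card R = Nat.card A := by
    let g : A ⧸ Z.subgroupOf A → R ⧸ Z.subgroupOf R := fun q =>
      QuotientGroup.mk (⟨x q.out, hxR _ q.out.2⟩ : R)
    have hinj : Function.Injective g := by
      intro q r h
      have h0 : (QuotientGroup.mk (⟨x q.out, hxR _ q.out.2⟩ : R) : R ⧸ Z.subgroupOf R) =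
          QuotientGroup.mk ⟨x r.out, hxR _ r.out.2⟩ := h
      have h1' := QuotientGroup.eq.mp h0
      have h1 : (x (q.out : S))⁻¹ * x (r.out : S) ∈ Z := h1'
      obtain ⟨k, hk, he⟩ := hxmul (q.out : S) q.out.2 ((q.out : S)⁻¹ * r.out)
        (mul_mem (inv_mem q.out.2) r.out.2)
      rw [mul_inv_cancel_left] at he
      have h3 : (x (q.out : S))⁻¹ * (x (r.out : S) * k) ∈ Z := by
        rw [← mul_assoc]; exact mul_mem h1 hk
      rw [← he, inv_mul_cancel_left] at h3
      set d := (q.out : S)⁻¹ * r.out with hd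
      have hdA : d ∈ A := mul_mem (inv_mem q.out.2) r.out.2
      have hdA' : d ∈ A' := by
        have h4 := mul_mem ((mem_inf.mp h3).2) (inv_mem (hfA' d hdA))
        rwa [hxf, mul_inv_cancel_right] at h4
      rw [← Quotient.out_eq q, ← Quotient.out_eq r]
      exact QuotientGroup.eq.mpr (show d ∈ Z from ⟨hdA, hdA'⟩)
    have hsurj : Function.Surjective g := by
      intro w
      obtain ⟨⟨u, hu⟩, rfl⟩ := QuotientGroup.mk_surjective w
      obtain ⟨a, ha, z, hz, rfl⟩ := hmem u hu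
      refine ⟨QuotientGroup.mk (⟨a, ha⟩ : A), QuotientGroup.eq.mpr ?_⟩
      set a0 := (QuotientGroup.mk (s := Z.subgroupOf A) (⟨a, ha⟩ : A)).out with ha0
      have hq' :=
        QuotientGroup.eq.mp (QuotientGroup.out_eq' (QuotientGroup.mk (s := Z.subgroupOf A) (⟨a, ha⟩ : A)))
      have hq : (a0 : S)⁻¹ * a ∈ Z := hq'
      set d := (a0 : S)⁻¹ * a with hd
      obtain ⟨k, hk, he⟩ := hxmul (a0 : S) a0.2 d hq.1
      rw [mul_inv_cancel_left] at he
      show (x (a0 : S))⁻¹ * (x a * z) ∈ Z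
      have h5 : x d ∈ Z := by
        have hx_d : x d ∈ B ⊓ A' := ⟨hxB d, by rw [hxf]; exact mul_mem hq.2 (hfA' d hq.1)⟩
        have hy : b * x d * b⁻¹ ∈ A ⊓ B :=
          ⟨(hA'mem _).mp hx_d.2, ‹B.Normal›.conj_mem _ hx_d.1 b⟩
        have := (hABZ _ hy).2
        simpa [mul_assoc] using this
      have h6 : (x (a0 : S))⁻¹ * (x a * z) = x d * k⁻¹ * z := by
        have h7 : x a = x (a0 : S) * x d * k⁻¹ := eq_mul_inv_of_mul_eq he.symm
        rw [h7]; group
      rw [h6]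
      exact mul_mem (mul_mem h5 (inv_mem hk)) hz
    have h1 := Nat.card_congr (Equiv.ofBijective g ⟨hinj, hsurj⟩)
    rw [← index_eq_card, ← index_eq_card] at h1
    rw [← card_mul_index (Z.subgroupOf A), ← card_mul_index (Z.subgroupOf R),
      Basics.card_subgroupOf inf_le_left, Basics.card_subgroupOf hZR, h1]
  have hNR : ∀ n ∈ N, ∀ w ∈ R, n * w * n⁻¹ ∈ R := by
    intro n hn w hw
    obtain ⟨a, ha, z, hz, rfl⟩ := hmem w hw
    have hz' : n * z * n⁻¹ ∈ Z := ⟨hNA n hn z hz.1, hNA' n hn z hz.2⟩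
    set β := b * n * b⁻¹ * n⁻¹ with hβ
    have hβN : β ∈ N := mul_mem ((mem_normalizer_iff.mp hbN n).mp hn) (inv_mem hn)
    have hβB : β ∈ B := by
      have := mul_mem hb (‹B.Normal›.conj_mem _ (inv_mem hb) n)
      simpa [hβ, mul_assoc] using this
    set e := n * a * n⁻¹ with he
    have heA : e ∈ A := hNA n hn a ha
    have hk : ⁅e, β⁆ ∈ A ⊓ B := by
      refine mem_inf.mpr ⟨?_, ?_⟩
      · have := mul_mem heA (hNA β hβN e⁻¹ (inv_mem heA))
        simpa [commutatorElement_def, mul_assoc] using this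
      · rw [commutatorElement_def]
        exact mul_mem (‹B.Normal›.conj_mem β hβB e) (inv_mem hβB)
    have h1 : n * (x a * z) * n⁻¹ = x e * (b⁻¹ * ⁅e, β⁆ * b) * (n * z * n⁻¹) := by
      simp only [hx, hβ, he, commutatorElement_def]; group
    rw [h1]
    exact mul_mem (mul_mem (hxR e heA) (hZR (hABZ _ hk).2)) (hZR hz')
  have hnorm : ∀ {M : Subgroup S} {n : S}, (∀ w ∈ M, n * w * n⁻¹ ∈ M) →
      n ∈ normalizer (M : Set S) := by
    intro M n h
    refine mem_normalizer_iff_map_conj_eq.mpr (eq_of_le_of_card_ge ?_ ?_)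
    · rintro _ ⟨w, hw, rfl⟩; exact h w hw
    · rw [card_map_of_injective (MulAut.conj n).injective]
  have hRN : R ≤ N := by
    intro w hw
    obtain ⟨a, ha, z, hz, rfl⟩ := hmem w hw
    exact mul_mem (hxN a ha) (hAN hz.1)
  have hbR : b ∈ normalizer (R : Set S) := by
    have hbinv : b⁻¹ ∈ normalizer (R : Set S) := by
      refine hnorm fun w hw => ?_
      obtain ⟨a, ha, z, hz, rfl⟩ := hmem w hw
      have h1 : b⁻¹ * z * b⁻¹⁻¹ ∈ R := by
        have h2 := mul_mem (inv_mem (hxR z hz.1)) (hZR hz)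
        simpa [hx, mul_assoc] using h2
      have h3 : b⁻¹ * x a * b⁻¹⁻¹ ∈ R := by
        have h4 : ⁅b⁻¹, x a⁆ ∈ R := hZR (hBB _ (commutator_mem_commutator (inv_mem hb) (hxB a)))
        have h5 := mul_mem h4 (hxR a ha)
        simpa [commutatorElement_def, mul_assoc] using h5
      simpa [mul_assoc] using mul_mem h3 h1
    simpa using inv_mem hbinv
  refine ⟨hcard, ⟨⟨fun u v => Subtype.ext (hRc u u.2 v v.2)⟩⟩, fun z hz => hZR (hBB z hz),
    ?_, ?_, fun a ha => hnorm (hNR a (hAN ha)), hRN, hbR, ?_, ?_, ?_⟩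
  · refine lt_of_le_of_ne (le_inf (fun y hy => hZR (hABZ y hy).1) inf_le_right) fun heq => hbA ?_
    have hA'A : A' ≤ A := by
      intro w hw
      have ha : b * w⁻¹ * b⁻¹ ∈ A := (hA'mem _).mp (inv_mem hw)
      have h1 : x (b * w⁻¹ * b⁻¹) ∈ A ⊓ B := heq ▸ ⟨hxR _ ha, hxB _⟩
      have h2 := mul_mem (inv_mem ha) h1.1
      simpa [hx, mul_assoc] using h2
    have := eq_of_le_of_card_ge hA'A
      (by rw [hA', card_map_of_injective (MulAut.conj b⁻¹).injective])
    have h := inv_mem (mem_normalizer_iff_map_conj_eq.mpr this : b⁻¹ ∈ N)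
    simpa using h
  · exact lt_of_le_of_ne inf_le_right fun heq => hbA (hRN (heq.ge hb).1)
  · exact lt_of_le_of_ne (fun n hn => hnorm (hNR n hn)) fun heq => hbA (heq ▸ hbR)
  · intro D hD hAD w hw
    obtain ⟨a, ha, z, hz, rfl⟩ := hmem w hw
    refine mul_mem ?_ (hAD hz.1)
    rw [hxf]
    refine mul_mem (hAD ha) ?_
    have := hD.conj_mem a⁻¹ (hAD (inv_mem ha)) b⁻¹
    simpa [hf] using this
  · intro e he hcase w hw
    obtain ⟨a, ha, z, hz, rfl⟩ := hmem w hw
    rw [(hxz a ha z hz).mul_pow, he z hz.1, mul_one]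
    rcases hcase with hodd | hBe
    · rw [hxf]
      have hk : ⁅f a, a⁆ ∈ Z := by
        rw [← commutatorElement_inv]
        exact inv_mem (hcomm a ha _ (hfA' a ha))
      have hfe : f a ^ e = 1 := by
        have h1 : f a = b⁻¹ * a⁻¹ * (b⁻¹)⁻¹ := by simp [hf]
        rw [h1, conj_pow, inv_pow, he a ha]
        simp
      rw [mul_pow_of_commute (hZa _ hk a ha) (hZa' _ hk _ (hfA' a ha)), he a ha, hfe, one_mul,
        one_mul]
      rcases hodd with rfl | hodd
      · simp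
      · obtain ⟨m, hm⟩ := dvd_choose_two_of_odd hodd
        rw [hm, pow_mul, he _ hk.1, one_pow]
    · exact hBe _ (hxB a)

theorem exists_normalizing_element {S : Type*} [Group S] [Finite S] {p : ℕ} [Fact p.Prime]
    (hS : IsPGroup p S) (B : Subgroup S) [B.Normal] (A : Subgroup S)
    (hnot : ¬ B ≤ normalizer (A : Set S)) :
    ∃ b ∈ B, b ∈ normalizer ((normalizer (A : Set S)) : Set S) ∧
      b ∉ normalizer (A : Set S) := by
  set N := normalizer (A : Set S)
  set M := B ⊔ N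
  haveI : Group.IsNilpotent M := (hS.to_subgroup M).isNilpotent
  have hlt : N.subgroupOf M < normalizer (N.subgroupOf M : Set M) :=
    Group.normalizerCondition_of_isNilpotent _ (lt_top_iff_ne_top.mpr fun h =>
      hnot (le_sup_left.trans (subgroupOf_eq_top.mp h)))
  obtain ⟨⟨g, hgM⟩, hg, hgN⟩ := SetLike.exists_of_lt hlt
  have hgn : g ∈ normalizer (N : Set S) := by
    rw [mem_normalizer_iff]
    intro n
    constructor
    · intro hn
      exact (mem_normalizer_iff.mp hg ⟨n, mem_sup_right hn⟩).mp hn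
    · intro hn
      have hnM : n ∈ M := by
        have := mul_mem (mul_mem (inv_mem hgM) (mem_sup_right hn : g * n * g⁻¹ ∈ M)) hgM
        simpa [mul_assoc] using this
      exact (mem_normalizer_iff.mp hg ⟨n, hnM⟩).mpr hn
  obtain ⟨b, hb, n, hn, rfl⟩ := (Basics.mem_sup_of_le_normalizer le_normalizer_of_normal).mp hgM
  refine ⟨b, hb, ?_, fun h => hgN (show b * n ∈ N from mul_mem h hn)⟩
  have := mul_mem hgn (inv_mem (le_normalizer hn : n ∈ normalizer (N : Set S)))
  rwa [mul_inv_cancel_right] at this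

/-- `A` is an abelian subgroup of exponent dividing `e` of largest order in `T`. -/
def IsMaxAbIn (e : ℕ) (T A : Subgroup G) : Prop :=
  A ≤ T ∧ (IsMulCommutative A ∧ ∀ a ∈ A, a ^ e = 1) ∧
    ∀ B : Subgroup G, B ≤ T → (IsMulCommutative B ∧ ∀ a ∈ B, a ^ e = 1) → Nat.card B ≤ Nat.card A

/-- The replacement property. -/
theorem exists_normalized_maxAb {S : Type*} [Group S] [Finite S] {p : ℕ} [hp : Fact p.Prime]
    (hS : IsPGroup p S) {e : ℕ} (D : Subgroup S) [D.Normal] (B : Subgroup S) [B.Normal]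
    (hB2 : p = 2 → IsMulCommutative B) (he : (e = 0 ∨ Odd e) ∨ ∀ x ∈ B, x ^ e = 1)
    (hex : ∃ U, IsMaxAbIn e D U ∧ ⁅B, B⁆ ≤ U ∧ ¬ B ≤ U) :
    ∃ A, IsMaxAbIn e D A ∧ ⁅B, B⁆ ≤ A ∧ ¬ B ≤ A ∧ B ≤ normalizer (A : Set S) := by
  classical
  haveI : Fintype {A : Subgroup S // IsMaxAbIn e D A ∧ ⁅B, B⁆ ≤ A ∧ ¬ B ≤ A} := Fintype.ofFinite _
  obtain ⟨U, hU⟩ := hex
  obtain ⟨⟨A, hA, hBA, hnA⟩, -, hmax⟩ := Finset.exists_max_image
    (Finset.univ : Finset {A : Subgroup S // IsMaxAbIn e D A ∧ ⁅B, B⁆ ≤ A ∧ ¬ B ≤ A})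
    (fun A => Nat.card (A.1 ⊓ B : Subgroup S)) ⟨⟨U, hU⟩, Finset.mem_univ _⟩
  refine ⟨A, hA, hBA, hnA, ?_⟩
  by_contra hnot
  obtain ⟨b, hb, hbN, hbA⟩ := exists_normalizing_element hS B A hnot
  obtain ⟨h1, h2, h3, h4, h5, -, -, -, -, h10, h11⟩ :=
    replaced_spec hS B hB2 A hA.2.1.1 hBA b hb hbN hbA
  have hR : IsMaxAbIn e D (replaced A b) :=
    ⟨h10 D inferInstance hA.1, ⟨h2, h11 e hA.2.1.2 he⟩,
      fun C hC hCe => h1 ▸ hA.2.2 C hC hCe⟩
  have hle := hmax ⟨replaced A b, hR, h3, fun h => h5.ne (inf_eq_right.mpr h)⟩ (Finset.mem_univ _)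
  exact absurd (Basics.card_lt_of_lt h4) (not_lt.mpr hle)

end Cfsg.Agent.Transfer
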