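import Cfsg.Prelude.Def_PLocal
import Cfsg.Agent.Lib.Transfer.Replacement
import Cfsg.Agent.Lib.Transfer.JSubgroup

/-!
# Abelian subgroups of bounded exponent of largest order: the subgroups J and ZJ

`e = 0` gives the abelian version, `e = p` the elementary abelian one.
-/

set_option autoImplicit false
set_option linter.style.haveILetI false

namespace Cfsg.Agent.Transfer

open Subgroup

variable {G : Type*} [Group G] {H : Type*} [Group H] {e p : ℕ}

/-- The join of the subgroups `IsMaxAbIn e T`. -/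
def JAb (e : ℕ) (T : Subgroup G) : Subgroup G := sSup {A | IsMaxAbIn e T A}

/-- The centre of `JAb e T`. -/
def ZJAb (e : ℕ) (T : Subgroup G) : Subgroup G := JAb e T ⊓ centralizer (JAb e T : Set G)

/-- `A` is commutative of exponent dividing `e`. -/
def AbExp (e : ℕ) (A : Subgroup G) : Prop := IsMulCommutative A ∧ ∀ a ∈ A, a ^ e = 1

theorem AbExp.commute {A : Subgroup G} (h : AbExp e A) {a b : G} (ha : a ∈ A) (hb : b ∈ A) :
    Commute a b :=
  haveI := h.1
  congrArg Subtype.val (mul_comm' (⟨a, ha⟩ : A) ⟨b, hb⟩)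

theorem AbExp.map {A : Subgroup G} (h : AbExp e A) (f : G →* H) : AbExp e (A.map f) := by
  haveI := h.1
  refine ⟨Subgroup.map_isMulCommutative _ _, ?_⟩
  rintro _ ⟨a, ha, rfl⟩
  rw [← map_pow, h.2 a ha, map_one]

theorem AbExp.of_map {A : Subgroup G} (f : G →* H) (hf : Set.InjOn f A)
    (h : AbExp e (A.map f)) : AbExp e A := by
  refine ⟨⟨⟨fun a b => Subtype.ext (hf (mul_mem a.2 b.2) (mul_mem b.2 a.2) ?_)⟩⟩, fun a ha => ?_⟩
  · show f ((a : G) * b) = f ((b : G) * a)
    rw [map_mul, map_mul]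
    exact h.commute ⟨a, a.2, rfl⟩ ⟨b, b.2, rfl⟩
  · exact hf (pow_mem ha _) (one_mem _) (by rw [map_pow, h.2 _ ⟨a, ha, rfl⟩, map_one])

theorem abExp_bot : AbExp e (⊥ : Subgroup G) :=
  ⟨inferInstance, fun a ha => by rw [mem_bot.mp ha, one_pow]⟩

theorem exists_isMaxAbIn [Finite G] (T : Subgroup G) : ∃ A, IsMaxAbIn e T A := by
  classical
  haveI : Fintype {A : Subgroup G // A ≤ T ∧ AbExp e A} := Fintype.ofFinite _
  obtain ⟨⟨A, hA1, hA2⟩, -, hmax⟩ := Finset.exists_max_image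
    (Finset.univ : Finset {A : Subgroup G // A ≤ T ∧ AbExp e A})
    (fun A => Nat.card (A.1 : Subgroup G)) ⟨⟨⊥, bot_le, abExp_bot⟩, Finset.mem_univ _⟩
  exact ⟨A, hA1, hA2, fun B hB1 hB2 => hmax ⟨B, hB1, hB2⟩ (Finset.mem_univ _)⟩

theorem isMaxAbIn_map {T A : Subgroup G} (h : IsMaxAbIn e T A) (f : G →* H)
    (hf : Set.InjOn f T) : IsMaxAbIn e (T.map f) (A.map f) := by
  refine ⟨map_mono h.1, AbExp.map h.2.1 f, fun B hB hBe => ?_⟩
  have hback : ((B.comap f) ⊓ T).map f = B := by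
    refine le_antisymm ((map_mono inf_le_left).trans (map_comap_le _ _)) fun b hb => ?_
    obtain ⟨a, ha, rfl⟩ := hB hb
    exact ⟨a, ⟨hb, ha⟩, rfl⟩
  have h1 := h.2.2 _ inf_le_right (AbExp.of_map f (hf.mono inf_le_right) (hback.symm ▸ hBe))
  have hA : Nat.card (A.map f) = Nat.card A := Nat.card_image_of_injOn (hf.mono h.1)
  have hB' : Nat.card (((B.comap f) ⊓ T).map f) = Nat.card ((B.comap f) ⊓ T : Subgroup G) :=
    Nat.card_image_of_injOn (hf.mono inf_le_right)
  rw [hback] at hB'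
  rw [hA, hB']
  exact h1

theorem isMaxAbIn_of_map {T A : Subgroup G} (hAT : A ≤ T) (f : G →* H) (hf : Set.InjOn f T)
    (h : IsMaxAbIn e (T.map f) (A.map f)) : IsMaxAbIn e T A := by
  refine ⟨hAT, AbExp.of_map f (hf.mono hAT) h.2.1, fun B hB hBe => ?_⟩
  have h1 := h.2.2 _ (map_mono hB) (AbExp.map hBe f)
  have hA : Nat.card (A.map f) = Nat.card A := Nat.card_image_of_injOn (hf.mono hAT)
  have hB' : Nat.card (B.map f) = Nat.card B := Nat.card_image_of_injOn (hf.mono hB)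
  rwa [hA, hB'] at h1

theorem JAb_le (T : Subgroup G) : JAb e T ≤ T := sSup_le fun _ h => h.1

theorem le_JAb {T A : Subgroup G} (h : IsMaxAbIn e T A) : A ≤ JAb e T := le_sSup h

theorem map_JAb (T : Subgroup G) (f : G →* H) (hf : Set.InjOn f T) :
    (JAb e T).map f = JAb e (T.map f) := by
  apply le_antisymm
  · rw [JAb, map_le_iff_le_comap, sSup_le_iff]
    intro A hA
    rw [← map_le_iff_le_comap]
    exact le_JAb (isMaxAbIn_map hA f hf)
  · refine sSup_le fun B hB => ?_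
    have hback : ((B.comap f) ⊓ T).map f = B := by
      refine le_antisymm ((map_mono inf_le_left).trans (map_comap_le _ _)) fun b hb => ?_
      obtain ⟨a, ha, rfl⟩ := hB.1 hb
      exact ⟨a, ⟨hb, ha⟩, rfl⟩
    rw [← hback]
    exact map_mono (le_JAb (isMaxAbIn_of_map inf_le_right f hf (hback.symm ▸ hB)))

theorem normalizer_le_normalizer_JAb (T : Subgroup G) :
    normalizer (T : Set G) ≤ normalizer (JAb e T : Set G) := by
  intro g hg
  rw [mem_normalizer_iff_map_conj_eq] at hg ⊢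
  rw [map_JAb T _ (MulAut.conj g).injective.injOn]
  exact congrArg _ hg

theorem normalizer_le_normalizer_centralizer' (T : Subgroup G) :
    normalizer (T : Set G) ≤ normalizer ((centralizer (T : Set G) : Subgroup G) : Set G) := by
  have key : ∀ g ∈ normalizer (T : Set G), ∀ x ∈ centralizer (T : Set G),
      g * x * g⁻¹ ∈ centralizer (T : Set G) := by
    intro g hg x hx t ht
    have h1 : Commute (g⁻¹ * t * g) x := hx _ ((mem_normalizer_iff''.mp hg t).mp ht)
    have h2 := h1.map (MulAut.conj g).toMonoidHom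
    have e' : g * (g⁻¹ * t * g) * g⁻¹ = t := by group
    simp only [MulEquiv.coe_toMonoidHom, MulAut.conj_apply, e'] at h2
    exact h2.eq
  intro g hg
  rw [mem_normalizer_iff]
  refine fun x => ⟨key g hg x, fun hx => ?_⟩
  have := key g⁻¹ (inv_mem hg) _ hx
  simpa [mul_assoc] using this

theorem normalizer_le_normalizer_ZJAb (T : Subgroup G) :
    normalizer (T : Set G) ≤ normalizer (ZJAb e T : Set G) := by
  refine (le_inf (normalizer_le_normalizer_JAb (e := e) T)
    ((normalizer_le_normalizer_JAb (e := e) T).trans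
      (normalizer_le_normalizer_centralizer' (JAb e T)))).trans ?_
  exact inf_normalizer_le_normalizer_inf

theorem ZJAb_le (T : Subgroup G) : ZJAb e T ≤ T := inf_le_left.trans (JAb_le T)

theorem ZJAb_commute {T : Subgroup G} {x y : G} (hx : x ∈ ZJAb e T) (hy : y ∈ ZJAb e T) :
    Commute x y := hy.2 x hx.1

theorem map_ZJAb (T : Subgroup G) (f : G →* H) (hf : Set.InjOn f T) :
    (ZJAb e T).map f = ZJAb e (T.map f) := by
  have hJ : Set.InjOn f (JAb e T) := hf.mono (JAb_le T)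
  rw [ZJAb, ZJAb, ← map_JAb T f hf]
  apply le_antisymm
  · rintro _ ⟨a, ⟨ha, hc⟩, rfl⟩
    refine ⟨⟨a, ha, rfl⟩, ?_⟩
    rintro _ ⟨b, hb, rfl⟩
    rw [← map_mul, ← map_mul, hc b hb]
  · rintro _ ⟨⟨a, ha, rfl⟩, hc⟩
    refine ⟨a, ⟨ha, fun b hb => hJ (mul_mem hb ha) (mul_mem ha hb) ?_⟩, rfl⟩
    rw [map_mul, map_mul]
    exact hc (f b) ⟨b, hb, rfl⟩

/-- An element of exponent `e` of `T` centralizing a maximal member lies in it. -/
theorem mem_of_commute_maxAb [Finite G] {T A : Subgroup G} (hA : IsMaxAbIn e T A) {x : G}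
    (hxT : x ∈ T) (hxe : x ^ e = 1) (hc : ∀ a ∈ A, Commute a x) : x ∈ A := by
  have hn : zpowers x ≤ normalizer (A : Set G) := by
    rw [zpowers_le, mem_normalizer_iff_map_conj_eq]
    refine eq_of_le_of_card_ge ?_ (card_map_of_injective (MulAut.conj x).injective).ge
    rintro _ ⟨a, ha, rfl⟩
    show x * a * x⁻¹ ∈ A
    rw [← (hc a ha).eq, mul_inv_cancel_right]
    exact ha
  have hmem := fun y => Basics.mem_sup_of_le_normalizer (x := y) hn
  have hAe : AbExp e (A ⊔ zpowers x : Subgroup G) := by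
    refine ⟨⟨⟨fun u v => Subtype.ext ?_⟩⟩, fun u hu => ?_⟩
    · obtain ⟨a, ha, s, hs, hue⟩ := (hmem _).mp u.2
      obtain ⟨b, hb, t, ht, hve⟩ := (hmem _).mp v.2
      obtain ⟨i, rfl⟩ := mem_zpowers_iff.mp hs
      obtain ⟨j, rfl⟩ := mem_zpowers_iff.mp ht
      have hab : Commute a b := AbExp.commute hA.2.1 ha hb
      have e1 : Commute a (b * x ^ j) := hab.mul_right ((hc a ha).zpow_right j)
      have e2 : Commute (x ^ i) (b * x ^ j) :=
        ((hc b hb).symm.zpow_left i).mul_right ((Commute.refl x).zpow_zpow i j)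
      rw [coe_mul, coe_mul, hue, hve]
      exact (e1.mul_left e2).eq
    · obtain ⟨a, ha, s, hs, rfl⟩ := (hmem _).mp hu
      obtain ⟨i, rfl⟩ := mem_zpowers_iff.mp hs
      rw [((hc a ha).zpow_right i).mul_pow, hA.2.1.2 a ha, one_mul, ← zpow_natCast, ← zpow_mul,
        mul_comm, zpow_mul, zpow_natCast, hxe, one_zpow]
  have h := hA.2.2 _ (sup_le hA.1 (zpowers_le.mpr hxT)) hAe
  exact (eq_of_le_of_card_ge le_sup_left h).ge (mem_sup_right (mem_zpowers x))

theorem isMaxAbIn_of_le {S T A A0 : Subgroup G} (hTS : T ≤ S) (hA0 : IsMaxAbIn e S A0)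
    (hA0T : A0 ≤ T) (hA : IsMaxAbIn e T A) : IsMaxAbIn e S A :=
  ⟨hA.1.trans hTS, hA.2.1, fun B hB hBe => (hA0.2.2 B hB hBe).trans (hA.2.2 A0 hA0T hA0.2.1)⟩

theorem isMaxAbIn_restrict {S T A : Subgroup G} (hTS : T ≤ S) (hA : IsMaxAbIn e S A)
    (hAT : A ≤ T) : IsMaxAbIn e T A :=
  ⟨hAT, hA.2.1, fun B hB hBe => hA.2.2 B (hB.trans hTS) hBe⟩

theorem JAb_mono {S T A0 : Subgroup G} (hTS : T ≤ S) (hA0 : IsMaxAbIn e S A0) (hA0T : A0 ≤ T) :
    JAb e T ≤ JAb e S :=
  sSup_le fun _ hA => le_JAb (isMaxAbIn_of_le hTS hA0 hA0T hA)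

theorem JAb_eq_of_le [Finite G] {S T : Subgroup G} (hTS : T ≤ S) (hJ : JAb e S ≤ T) :
    JAb e T = JAb e S := by
  obtain ⟨A0, hA0⟩ := exists_isMaxAbIn (e := e) S
  exact le_antisymm (JAb_mono hTS hA0 ((le_JAb hA0).trans hJ))
    (sSup_le fun A hA => le_JAb (isMaxAbIn_restrict hTS hA ((le_JAb hA).trans hJ)))

theorem JAb_prime (T : Subgroup G) : JAb p T = Cfsg.thompsonSubgroupOf p T :=
  (thompsonSubgroupOf_eq T).symm

theorem ZJAb_prime (T : Subgroup G) : ZJAb p T = Cfsg.centerThompsonOf p T := by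
  rw [ZJAb, JAb_prime]; rfl

theorem JAb_zero (T : Subgroup G) : JAb 0 T = Cfsg.thompsonSubgroupAOf T := by
  have key : ∀ A : Subgroup T, A ∈ Cfsg.maxAbelianSubgroups ↥T ↔
      IsMaxAbIn 0 T (A.map T.subtype) := by
    intro A
    constructor
    · rintro ⟨hA, hmax⟩
      haveI := hA
      refine ⟨map_subtype_le A, ⟨inferInstance, fun a _ => pow_zero a⟩, fun C hC hCe => ?_⟩
      have h1 : AbExp 0 (C.subgroupOf T) := AbExp.of_map T.subtype T.subtype_injective.injOn
        (by rw [map_subgroupOf_eq_of_le hC]; exact hCe)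
      have h := hmax _ h1.1
      rwa [← card_map_of_injective T.subtype_injective, map_subgroupOf_eq_of_le hC,
        ← card_map_of_injective (K := A) T.subtype_injective] at h
    · rintro ⟨-, h1, h2⟩
      refine ⟨(AbExp.of_map T.subtype T.subtype_injective.injOn h1).1, fun C hC => ?_⟩
      haveI := hC
      have h := h2 (C.map T.subtype) (map_subtype_le C) ⟨inferInstance, fun a _ => pow_zero a⟩
      rwa [card_map_of_injective T.subtype_injective, card_map_of_injective T.subtype_injective]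
        at h
  rw [Cfsg.thompsonSubgroupAOf, Cfsg.thompsonSubgroupA]
  apply le_antisymm
  · refine sSup_le fun A hA => ?_
    rw [← map_subgroupOf_eq_of_le hA.1]
    refine map_mono (le_sSup ((key _).mpr ?_))
    rw [map_subgroupOf_eq_of_le hA.1]
    exact hA
  · rw [map_le_iff_le_comap, sSup_le_iff]
    intro A hA
    rw [← map_le_iff_le_comap]
    exact le_JAb ((key A).mp hA)

theorem ZJAb_zero (T : Subgroup G) : ZJAb 0 T = Cfsg.centerThompsonAOf T := by
  rw [ZJAb, JAb_zero]; rfl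

theorem JAb_ne_bot [Finite G] [hp : Fact p.Prime] (he : e = 0 ∨ e = p) {T : Subgroup G}
    (hT : IsPGroup p T) (h : T ≠ ⊥) : JAb e T ≠ ⊥ := by
  obtain ⟨x, hxT, hxo, hxe⟩ := exists_orderOf_eq_zpowers_ea hT h
  obtain ⟨A, hA⟩ := exists_isMaxAbIn (e := e) T
  intro hb
  have h1 := le_JAb hA
  rw [hb, le_bot_iff] at h1
  have hxe' : AbExp e (zpowers x) := by
    rcases he with rfl | rfl
    · exact ⟨inferInstance, fun a _ => pow_zero a⟩
    · exact hxe
  have h2 := hA.2.2 _ (zpowers_le.mpr hxT) hxe'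
  rw [Nat.card_zpowers, hxo, h1, card_bot] at h2
  exact absurd h2 (not_le.mpr hp.out.one_lt)

theorem ZJAb_ne_bot [Finite G] [hp : Fact p.Prime] (he : e = 0 ∨ e = p) {T : Subgroup G}
    (hT : IsPGroup p T) (h : T ≠ ⊥) : ZJAb e T ≠ ⊥ := by
  have hJ := hT.to_le (JAb_le (e := e) T)
  haveI : Nontrivial (JAb e T) := (nontrivial_iff_ne_bot _).mpr (JAb_ne_bot he hT h)
  haveI := hJ.center_nontrivial
  obtain ⟨z, hz⟩ := exists_ne (1 : center (JAb e T))
  intro hb
  apply hz
  have : ((z : JAb e T) : G) ∈ ZJAb e T :=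
    ⟨(z : JAb e T).2, fun y hy => congrArg Subtype.val (mem_center_iff.mp z.2 ⟨y, hy⟩)⟩
  rw [hb, mem_bot] at this
  exact Subtype.ext (Subtype.ext this)

end Cfsg.Agent.Transfer
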