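import Cfsg.Agent.Lib.Transfer.StableCore

/-!
# Normal p-complement theorems with a single characteristic subgroup
-/

set_option autoImplicit false
set_option linter.style.haveILetI false

namespace Cfsg.Agent.Transfer

open Subgroup Cfsg
open scoped commutatorElement IsMulCommutative Pointwise

universe u

/-- A characteristic subgroup of `p`-groups for which the normalizer controls normal
`p`-complements. -/
structure PCompFunctor (p : ℕ) where
  W : ∀ (G : Type u) [Group G], Subgroup G → Subgroup G
  le : ∀ (G : Type u) [Group G] (S : Subgroup G), W G S ≤ S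
  map : ∀ (G H : Type u) [Group G] [Group H] [Finite G] [Finite H] (S : Subgroup G) (f : G →* H),
    IsPGroup p S → Set.InjOn f S → (W G S).map f = W H (S.map f)
  ne_bot : ∀ (G : Type u) [Group G] [Finite G] (S : Subgroup G), IsPGroup p S → S ≠ ⊥ → W G S ≠ ⊥
  normal : ∀ (G : Type u) [Group G] [Finite G] (P : Sylow p G),
    centralizer (pCore p G : Set G) ≤ pCore p G → PStableElts p G →
      IsPStableOnSection p (pCore p G) ((frattini ↥(pCore p G)).map (pCore p G).subtype) →
      (∀ U : Subgroup G, (P : Subgroup G) ≤ U → U = P ∨ U = ⊤) → (W G (P : Subgroup G)).Normal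

namespace PCompFunctor

variable {p : ℕ} (F : PCompFunctor.{u} p)

/-- The hypothesis at a subgroup. -/
def Hyp {G : Type u} [Group G] (S : Subgroup G) : Prop :=
  HasNormalPComplement p (normalizer (F.W G S : Set G))

variable {G : Type u} [Group G] [Finite G] [hp : Fact p.Prime]

theorem normalizer_le {S : Subgroup G} (hS : IsPGroup p S) :
    normalizer (S : Set G) ≤ normalizer (F.W G S : Set G) := by
  intro g hg
  rw [mem_normalizer_iff_map_conj_eq] at hg ⊢
  rw [F.map G G S _ hS (MulAut.conj g).injective.injOn]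
  exact congrArg _ hg

theorem hyp_subgroup (K : Subgroup G) {S : Subgroup K} (hS : IsPGroup p S)
    (h : F.Hyp (S.map K.subtype)) : F.Hyp S := by
  refine hasNormalPComplement_of_injective
    ((K.subtype.comp (Subgroup.subtype _)).codRestrict _ fun x => ?_) ?_ h
  · have h1 := le_normalizer_map K.subtype (mem_map_of_mem K.subtype x.2)
    rwa [F.map K G S _ hS K.subtype_injective.injOn] at h1
  · intro a b h'
    have h2 := congrArg Subtype.val h'
    exact Subtype.ext (Subtype.ext h2)

theorem exists_hyp_of_le (P : Sylow p G) (hP : F.Hyp (P : Subgroup G)) {T : Subgroup G}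
    (hT : IsPGroup p T) : ∃ P' : Sylow p G, T ≤ P' ∧ F.Hyp (P' : Subgroup G) := by
  obtain ⟨P', hP'⟩ := hT.exists_le_sylow
  obtain ⟨g, hg⟩ := MulAction.exists_smul_eq G P P'
  refine ⟨P', hP', ?_⟩
  have h : F.Hyp ((P : Subgroup G).map (MulAut.conj g).toMonoidHom) := by
    unfold PCompFunctor.Hyp
    rw [← F.map G G _ _ P.isPGroup' (MulAut.conj g).injective.injOn, ← map_equiv_normalizer_eq]
    exact hasNormalPComplement_map _ hP
  rwa [← hg, Sylow.coe_subgroup_smul]

theorem pCore_ne_bot (P : Sylow p G) (hP : F.Hyp (P : Subgroup G))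
    (hG : ¬ HasNormalPComplement p G)
    (hsub : ∀ K : Subgroup G, K ≠ ⊤ → ∀ S : Sylow p K, F.Hyp (S : Subgroup K) →
      HasNormalPComplement p K) : pCore p G ≠ ⊥ := by
  classical
  haveI : Fintype {U : Subgroup G // IsPGroup p U ∧ U ≠ ⊥ ∧
    ¬ HasNormalPComplement p (normalizer (U : Set G))} := Fintype.ofFinite _
  have hne : (Finset.univ : Finset {U : Subgroup G // IsPGroup p U ∧ U ≠ ⊥ ∧
      ¬ HasNormalPComplement p (normalizer (U : Set G))}).Nonempty := by
    by_contra hemp
    refine hG (hasNormalPComplement_of_frobenius fun D hD g hg hgo => ?_)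
    by_cases hD0 : D = ⊥
    · intro y hy
      rw [hD0, SetLike.mem_coe, mem_bot] at hy
      rw [hy, one_mul, mul_one]
    have hN : HasNormalPComplement p (normalizer (D : Set G)) := by
      by_contra hN
      exact hemp ⟨⟨D, hD, hD0, hN⟩, Finset.mem_univ _⟩
    have h1 := centralizes_of_hasNormalPComplement hN (D.subgroupOf _) (hD.comap_subtype) ⟨g, hg⟩
      (mem_normalizer_iff.mpr fun y => mem_normalizer_iff.mp hg (y : G))
      (by rwa [Subgroup.orderOf_mk])
    intro y hy
    exact congrArg Subtype.val (h1 ⟨y, le_normalizer hy⟩ hy)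
  obtain ⟨⟨U, hU, hU0, hUN⟩, -, hmax⟩ := Finset.exists_max_image _
    (fun U => (Nat.card (normalizer ((U.1 : Subgroup G) : Set G))).factorization p) hne
  by_contra hcore
  have hNtop : normalizer (U : Set G) ≠ ⊤ := by
    intro h
    haveI := normal_of_normalizer_eq_top' h
    exact hU0 (le_bot_iff.mp (hcore ▸ Basics.le_pCore hU))
  let S1 : Sylow p (normalizer (U : Set G)) := default
  set S := (S1 : Subgroup (normalizer (U : Set G))).map (Subgroup.subtype _) with hSdef
  have hSp : IsPGroup p S := S1.isPGroup'.map _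
  have hUS : U ≤ S := by
    haveI : (U.subgroupOf (normalizer (U : Set G))).Normal :=
      (normal_subgroupOf_iff_le_normalizer le_normalizer).mpr le_rfl
    have hUp : IsPGroup p (U.subgroupOf (normalizer (U : Set G))) := hU.comap_subtype
    have := (Basics.le_pCore hUp).trans (Basics.pCore_le_sylow p S1)
    rw [hSdef]
    exact (map_subgroupOf_eq_of_le (le_normalizer (H := U))).ge.trans (map_mono this)
  have hS0 : S ≠ ⊥ := fun h => hU0 (le_bot_iff.mp (h ▸ hUS))
  have hScard : Nat.card S = p ^ (Nat.card (normalizer (U : Set G))).factorization p := by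
    rw [hSdef, card_map_of_injective (subtype_injective _), Sylow.card_eq_multiplicity]
  obtain ⟨P', hSP', hP'⟩ := F.exists_hyp_of_le P hP hSp
  refine hUN (hsub _ hNtop S1 (F.hyp_subgroup _ S1.isPGroup' ?_))
  rw [← hSdef]
  by_cases hSP : S = (P' : Subgroup G)
  · rw [hSP]; exact hP'
  unfold PCompFunctor.Hyp
  by_contra hbad
  have h1 := hmax ⟨F.W G S, hSp.to_le (F.le G S), F.ne_bot G S hSp hS0, hbad⟩ (Finset.mem_univ _)
  haveI : Group.IsNilpotent (P' : Subgroup G) := P'.isPGroup'.isNilpotent
  have hlt : S.subgroupOf (P' : Subgroup G) <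
      normalizer (S.subgroupOf (P' : Subgroup G) : Set (P' : Subgroup G)) := by
    refine Group.normalizerCondition_of_isNilpotent _ (lt_top_iff_ne_top.mpr fun h => ?_)
    exact hSP (le_antisymm hSP' (subgroupOf_eq_top.mp h))
  rw [← subgroupOf_normalizer_eq hSP'] at hlt
  have hlt' : S < normalizer (S : Set G) ⊓ P' := by
    have h2 := (map_lt_map_iff_of_injective (P' : Subgroup G).subtype_injective).mpr hlt
    rwa [map_subgroupOf_eq_of_le hSP', subgroupOf_map_subtype] at h2
  obtain ⟨k, hk⟩ := (P'.isPGroup'.to_le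
    (inf_le_right : normalizer (S : Set G) ⊓ P' ≤ P')).exists_card_eq
  have h3 := exponent_le_factorization (inf_le_left.trans (F.normalizer_le hSp)) hk
  have h4 := Basics.card_lt_of_lt hlt'
  rw [hk, hScard, Nat.pow_lt_pow_iff_right hp.out.one_lt] at h4
  exact absurd h1 (by simp only; omega)

theorem hasNormalPComplement_aux (hp' : p.Prime) (hodd : p ≠ 2) : ∀ n : ℕ,
    ∀ {G : Type u} [Group G] [Finite G], Nat.card G = n → ∀ P : Sylow p G,
      F.Hyp (P : Subgroup G) → HasNormalPComplement p G := by
  haveI := Fact.mk hp'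
  intro n
  induction n using Nat.strong_induction_on with
  | _ n ih =>
    intro G _ _ hn P hP
    by_contra hG
    have hsub0 : ∀ U : Subgroup G, U ≠ ⊤ → ∀ S : Sylow p U, F.Hyp (S : Subgroup U) →
        HasNormalPComplement p U := fun U hU S hS =>
      ih _ (hn ▸ Basics.card_lt_card_of_ne_top hU) rfl S hS
    have hsub : ∀ U : Subgroup G, U ≠ ⊤ → (P : Subgroup G) ≤ U → HasNormalPComplement p U := by
      intro U hU hPU
      refine hsub0 U hU (P.subtype hPU) (F.hyp_subgroup _ (P.subtype hPU).isPGroup' ?_)
      rw [Sylow.coe_subtype, map_subgroupOf_eq_of_le hPU]; exact hP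
    have hX0 := F.pCore_ne_bot P hP hG hsub0
    have hM0 : pPrimeCore p G = ⊥ := by
      by_contra hM
      apply hG
      have hMd := Basics.not_dvd_card_pPrimeCore (G := G) p
      refine hasNormalPComplement_of_quotient _ hMd ?_
      refine ih _ (hn ▸ Basics.card_quotient_lt hM) rfl
        (P.mapSurjective (QuotientGroup.mk'_surjective _)) ?_
      rw [Sylow.coe_mapSurjective]
      set f := QuotientGroup.mk' (pPrimeCore p G)
      have hinj : Set.InjOn f (P : Subgroup G) := by
        intro a ha b hb hab
        have hk : a⁻¹ * b ∈ pPrimeCore p G := QuotientGroup.eq.mp hab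
        have hd := sylow_disjoint_of_coprime P _ hMd
        have h2 : a⁻¹ * b ∈ pPrimeCore p G ⊓ (P : Subgroup G) :=
          mem_inf.mpr ⟨hk, mul_mem (inv_mem ha) hb⟩
        rw [hd, mem_bot] at h2
        exact inv_mul_eq_one.mp h2
      unfold PCompFunctor.Hyp
      rw [← F.map G _ _ f P.isPGroup' hinj]
      refine hasNormalPComplement_of_le (normalizer_map_le (QuotientGroup.mk'_surjective _) ?_
        (P.isPGroup'.to_le (F.le G _))) (hasNormalPComplement_map f hP)
      rwa [QuotientGroup.ker_mk']
    set X := pCore p G with hXdef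
    have hXP : X ≤ (P : Subgroup G) := Basics.pCore_le_sylow p P
    have hXlt : X ≠ (P : Subgroup G) := by
      intro h
      haveI : (P : Subgroup G).Normal := h ▸ inferInstance
      refine hG (hasNormalPComplement_of_eq_top ?_ hP)
      exact top_le_iff.mp ((normalizer_eq_top (H := (P : Subgroup G))).ge.trans
        (F.normalizer_le P.isPGroup'))
    have hquot : HasNormalPComplement p (G ⧸ X) := by
      let f := QuotientGroup.mk' X
      let P' : Sylow p (G ⧸ X) := P.mapSurjective (QuotientGroup.mk'_surjective X)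
      have hPne : (P' : Subgroup (G ⧸ X)) ≠ ⊥ := by
        intro h
        refine hXlt (le_antisymm hXP ?_)
        rw [Sylow.coe_mapSurjective, Subgroup.map_eq_bot_iff, QuotientGroup.ker_mk'] at h
        exact h
      refine ih _ (hn ▸ Basics.card_quotient_lt hX0) rfl P' ?_
      set W := F.W (G ⧸ X) (P' : Subgroup (G ⧸ X)) with hW
      have hT : IsPGroup p (W.comap f) := (P'.isPGroup'.to_le (F.le _ _)).comap_of_ker_isPGroup _
        (by rw [QuotientGroup.ker_mk']; exact Basics.pCore_isPGroup p)
      have hne : normalizer ((W.comap f : Subgroup G) : Set G) ≠ ⊤ := by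
        intro h
        haveI := normal_of_normalizer_eq_top' h
        apply F.ne_bot (G ⧸ X) _ P'.isPGroup' hPne
        rw [← hW, ← le_bot_iff,
          ← map_comap_eq_self_of_surjective (QuotientGroup.mk'_surjective X) W]
        refine (map_mono (Basics.le_pCore hT)).trans ?_
        rw [le_bot_iff, Subgroup.map_eq_bot_iff, QuotientGroup.ker_mk']
      have hle : (P : Subgroup G) ≤ normalizer ((W.comap f : Subgroup G) : Set G) := by
        rw [← comap_normalizer_eq_of_surjective W (QuotientGroup.mk'_surjective X),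
          ← map_le_iff_le_comap]
        have h := le_normalizer.trans (F.normalizer_le P'.isPGroup')
        rwa [Sylow.coe_mapSurjective] at h
      have h1 := hasNormalPComplement_map f (hsub _ hne hle)
      rwa [← comap_normalizer_eq_of_surjective W (QuotientGroup.mk'_surjective X),
        map_comap_eq_self_of_surjective (QuotientGroup.mk'_surjective X)] at h1
    obtain ⟨hCX, hmax, hKab, hfix⟩ := core_structure P hM0 hsub hquot
    have hn' := F.normal G P hCX (pStableElts_of_core P hodd hquot hmax hKab hfix)
      (isPStableOnSection_of_core P hodd hCX hquot hKab hfix) hmax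
    exact hG (hasNormalPComplement_of_eq_top (normalizer_eq_top_iff.mpr hn') hP)

theorem hasNormalPComplement_iff' (hodd : p ≠ 2) (P : Sylow p G) :
    HasNormalPComplement p G ↔ F.Hyp (P : Subgroup G) :=
  ⟨fun h => hasNormalPComplement_subgroup _ h,
    fun h => F.hasNormalPComplement_aux hp.out hodd (Nat.card G) rfl P h⟩

end PCompFunctor

/-- The functor `Z(J)`, `e = 0` abelian and `e = p` elementary abelian. -/
def zjFunctor (p : ℕ) [hp : Fact p.Prime] (hodd : p ≠ 2) (e : ℕ) (he : e = 0 ∨ e = p) :
    PCompFunctor.{u} p where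
  W _ _ S := ZJAb e S
  le _ _ S := ZJAb_le S
  map _ _ _ _ _ _ S f _ hf := map_ZJAb S f hf
  ne_bot _ _ _ _ hS h := ZJAb_ne_bot he hS h
  normal _ _ _ P hc hst _ _ := ZJAb_normal hodd he hc hst P

end Cfsg.Agent.Transfer
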