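import Mathlib.GroupTheory.Commutator.Basic
import Mathlib.GroupTheory.Subgroup.Centralizer
import Mathlib.Data.Nat.Choose.Dvd
import Mathlib.Tactic.Group

/-!
# Commutator identities when a commutator commutes with one or both of its arguments
-/

set_option autoImplicit false

namespace Cfsg.Agent.Transfer

open Subgroup
open scoped commutatorElement

variable {G : Type*} [Group G]

/-- If `x` commutes with `⁅x, y⁆` then `⁅x ^ n, y⁆ = ⁅x, y⁆ ^ n`. -/
theorem commutator_pow_left {x y : G} (h : Commute x ⁅x, y⁆) (n : ℕ) :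
    ⁅x ^ n, y⁆ = ⁅x, y⁆ ^ n := by
  induction n with
  | zero => simp [commutatorElement_def]
  | succ n ih =>
    have e : ⁅x ^ (n + 1), y⁆ = x * ⁅x ^ n, y⁆ * x⁻¹ * ⁅x, y⁆ := by
      rw [pow_succ']
      simp only [commutatorElement_def]
      group
    rw [e, ih, (h.pow_right n).eq, mul_inv_cancel_right, ← pow_succ]

/-- If `⁅b, a⁆` commutes with `a` and `b` then `(a b)^n = a^n b^n ⁅b, a⁆^(n choose 2)`. -/
theorem mul_pow_of_commute {a b : G} (ha : Commute ⁅b, a⁆ a) (hb : Commute ⁅b, a⁆ b) (n : ℕ) :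
    (a * b) ^ n = a ^ n * b ^ n * ⁅b, a⁆ ^ n.choose 2 := by
  have hswap : ∀ k : ℕ, b ^ k * a = a * b ^ k * ⁅b, a⁆ ^ k := by
    intro k
    have h1 := commutator_pow_left hb.symm k
    rw [← h1]
    have h2 : Commute a (⁅b, a⁆ ^ k) := ha.symm.pow_right k
    have h3 : Commute (b ^ k) (⁅b, a⁆ ^ k) := (hb.symm.pow_pow k k)
    have e : b ^ k * a = ⁅b ^ k, a⁆ * (a * b ^ k) := by
      simp only [commutatorElement_def]; group
    rw [e, h1, ((h2.mul_left h3).symm).eq]
  induction n with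
  | zero => simp
  | succ n ih =>
    have h2 : Commute (⁅b, a⁆ ^ n.choose 2) (a * b) := (ha.mul_right hb).pow_left _
    calc (a * b) ^ (n + 1) = a ^ n * b ^ n * ⁅b, a⁆ ^ n.choose 2 * (a * b) := by rw [pow_succ, ih]
      _ = a ^ n * (b ^ n * a) * b * ⁅b, a⁆ ^ n.choose 2 := by
          rw [mul_assoc, h2.eq]; group
      _ = a ^ n * (a * b ^ n * ⁅b, a⁆ ^ n) * b * ⁅b, a⁆ ^ n.choose 2 := by rw [hswap n]
      _ = a ^ (n + 1) * b ^ n * (⁅b, a⁆ ^ n * b) * ⁅b, a⁆ ^ n.choose 2 := by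
          rw [pow_succ]; group
      _ = a ^ (n + 1) * b ^ (n + 1) * ⁅b, a⁆ ^ (n + 1).choose 2 := by
          rw [(hb.pow_left n).eq, Nat.choose_succ_succ' n 1, Nat.choose_one_right, pow_add,
            pow_succ b]
          group

end Cfsg.Agent.Transfer
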