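import Cfsg.Agent.Lib.Transfer.Control

/-!
# Tate's theorem via a central extension
-/

set_option autoImplicit false
set_option linter.style.haveILetI false

namespace Cfsg.Agent.Transfer

open Subgroup Cfsg
open scoped commutatorElement Pointwise

variable {p : ℕ}

/-- A hom from a subgroup `S ≥ Z` of index prime to `p` onto a central `p`-subgroup `Z`, restricting
to the identity on `Z`, gives such a hom on the whole group. -/
theorem exists_retraction_of_central {X : Type*} [Group X] [Finite X] [hp : Fact p.Prime]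
    (Z S : Subgroup X) (hZ : Z ≤ center X) (hZp : IsPGroup p Z) (hZS : Z ≤ S)
    (hidx : ¬ p ∣ S.index) {A : Type*} [CommGroup A] (hA : IsPGroup p A) (π : S →* A) :
    ∃ τ : X →* A, ∀ z : Z, τ z = π (inclusion hZS z) := by
  have hcop : (p).Coprime S.index := hp.out.coprime_iff_not_dvd.mpr hidx
  let e : A →* A :=
    { toFun := (hA.powEquiv hcop).symm
      map_one' := by
        apply (hA.powEquiv hcop).injective
        rw [Equiv.apply_symm_apply]; simp
      map_mul' := fun a b => by
        apply (hA.powEquiv hcop).injective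
        rw [Equiv.apply_symm_apply, hA.powEquiv_apply, mul_pow, ← hA.powEquiv_apply hcop,
          ← hA.powEquiv_apply hcop, Equiv.apply_symm_apply, Equiv.apply_symm_apply] }
  refine ⟨e.comp (MonoidHom.transfer π), fun z => ?_⟩
  have key : ∀ (k : ℕ) (g : X), g⁻¹ * (z : X) ^ k * g ∈ S →
      g⁻¹ * (z : X) ^ k * g = (z : X) ^ k := fun k g _ => by
    have := mem_center_iff.mp (hZ (pow_mem z.2 k)) g
    rw [mul_assoc, ← this, inv_mul_cancel_left]
  rw [MonoidHom.comp_apply, MonoidHom.transfer_eq_pow π (z : X) key]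
  show (hA.powEquiv hcop).symm _ = _
  rw [Equiv.symm_apply_eq, hA.powEquiv_apply, ← map_pow]
  rfl

variable {G : Type*} [Group G]

/-- **Tate's theorem** in the form: a normal subgroup without proper `p`-quotient whose
intersection with a Sylow subgroup lies in the Frattini subgroup of the latter has order prime
to `p`. -/
theorem not_dvd_card_of_le_frattini [Finite G] [hp : Fact p.Prime] (P : Sylow p G)
    (M : Subgroup G) [M.Normal] (hM : pResidual p M = ⊤)
    (h : M ⊓ (P : Subgroup G) ≤ (frattini P).map (P : Subgroup G).subtype) :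
    ¬ p ∣ Nat.card M := by
  intro hd
  let Q : Subgroup P := M.subgroupOf (P : Subgroup G)
  haveI : Q.Normal := normal_subgroupOf
  have hQΦ : Q ≤ frattini P := fun x hx => by
    obtain ⟨y, hy, hyx⟩ := h ⟨hx, x.2⟩
    rwa [← show y = x from Subtype.ext hyx]
  let U : Subgroup P := ⁅Q, (⊤ : Subgroup P)⁆
  haveI : U.Normal := inferInstance
  have hQU : ¬ Q ≤ U := by
    intro hle
    haveI : Group.IsNilpotent ↥(⊤ : Subgroup P) :=
      (Group.isNilpotent_top).mpr P.2.isNilpotent
    have h0 : Q ≤ ⊥ := le_of_le_sup_commutator (S := (⊤ : Subgroup P)) le_top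
      (by rw [normalizer_eq_top]) (by rw [bot_sup_eq]; exact hle)
    apply not_dvd_relIndex_normal P M
    have h1 : (P : Subgroup G) ⊓ M = ⊥ := by
      refine le_bot_iff.mp fun x hx => ?_
      have := h0 (show (⟨x, hx.1⟩ : P) ∈ Q from hx.2)
      simpa using this
    rwa [h1, relIndex_bot_left]
  let Pb := P ⧸ U
  let mk : P →* Pb := QuotientGroup.mk' U
  let Z0 : Subgroup Pb := Q.map mk
  have hZ0 : Z0 ≤ center Pb := by
    rintro _ ⟨q, hq, rfl⟩
    refine mem_center_iff.mpr fun b => ?_
    obtain ⟨b, rfl⟩ := QuotientGroup.mk'_surjective U b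
    rw [← map_mul, ← map_mul]
    apply QuotientGroup.eq.mpr
    have := commutator_mem_commutator (H₁ := Q) (H₂ := (⊤ : Subgroup P)) (inv_mem hq)
      (mem_top b⁻¹)
    simpa [commutatorElement_def, mul_assoc] using this
  haveI : IsMulCommutative Z0 :=
    ⟨⟨fun a b => Subtype.ext (mem_center_iff.mp (hZ0 b.2) a)⟩⟩
  open scoped IsMulCommutative in
  have main : ∀ (A : Type _) (_ : CommGroup A) (hA : IsPGroup p A) (φ : P →* Pb) (ψ : Z0 →* A),
      φ = mk → ∃ χ : P →* A, ∀ q : P, ∀ hq : q ∈ Q, χ q = ψ ⟨mk q, q, hq, rfl⟩ := by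
    intro A _ hA φ ψ _
    let δ : P →* G × Pb := (P : Subgroup G).subtype.prod mk
    let ι : M →* G × Pb := M.subtype.prod 1
    let X : Subgroup (G × Pb) := ι.range ⊔ δ.range
    have hnorm : δ.range ≤ normalizer ((ι.range : Subgroup (G × Pb)) : Set (G × Pb)) := by
      rintro _ ⟨y, rfl⟩
      refine mem_normalizer_iff.mpr fun z => ⟨?_, ?_⟩
      · rintro ⟨m, rfl⟩
        exact ⟨⟨_, Subgroup.Normal.conj_mem inferInstance _ m.2 (y : G)⟩,
          by simp [ι, δ, Prod.ext_iff]⟩
      · rintro ⟨m, hm⟩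
        refine ⟨⟨_, Subgroup.Normal.conj_mem inferInstance _ m.2 (y : G)⁻¹⟩, ?_⟩
        have : z = (δ y)⁻¹ * ι m * δ y := by
          rw [hm, mul_assoc, inv_mul_cancel_right]
          exact (inv_mul_cancel_left (δ y) z).symm
        rw [this]
        simp [ι, δ, Prod.ext_iff, mul_assoc]
    let S : Subgroup X := ((P : Subgroup G).comap (MonoidHom.fst G Pb)).subgroupOf X
    have hSmem : ∀ s : S, ∃ hs : (s : X).1.1 ∈ (P : Subgroup G),
        (s : X).1.2 * (mk ⟨_, hs⟩)⁻¹ ∈ Z0 := by
      intro s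
      have hs : (s : X).1.1 ∈ (P : Subgroup G) := s.2
      refine ⟨hs, ?_⟩
      have hsX : (s : X).1 ∈ ((ι.range : Set (G × Pb)) * (δ.range : Set (G × Pb))) := by
        rw [← coe_mul_of_right_le_normalizer_left _ _ hnorm]
        exact (s : X).2
      obtain ⟨_, ⟨m, rfl⟩, _, ⟨y, rfl⟩, he⟩ := Set.mem_mul.mp hsX
      have e1 : (m : G) * (y : G) = (s : X).1.1 := congrArg Prod.fst he
      have e2 : mk y = (s : X).1.2 := by simpa [ι, δ] using congrArg Prod.snd he
      have hm : (m : G) ∈ (P : Subgroup G) := by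
        have := mul_mem hs (inv_mem y.2)
        rwa [← e1, mul_inv_cancel_right] at this
      refine ⟨y * (⟨_, hs⟩ : P)⁻¹, ?_, by rw [map_mul, map_inv, e2]⟩
      show (y : G) * ((s : X).1.1)⁻¹ ∈ M
      rw [← e1, mul_inv_rev, mul_inv_cancel_left]
      exact inv_mem m.2
    let π : S →* Z0 :=
      { toFun := fun s => ⟨(s : X).1.2 * (mk ⟨_, (hSmem s).1⟩)⁻¹, (hSmem s).2⟩
        map_one' := Subtype.ext (by
          show (1 : Pb) * (mk ⟨_, _⟩)⁻¹ = 1
          rw [one_mul, inv_eq_one]
          exact map_one mk)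
        map_mul' := fun a b => Subtype.ext (by
          show (a : X).1.2 * (b : X).1.2 * (mk ⟨_, _⟩)⁻¹ =
            (a : X).1.2 * (mk ⟨_, (hSmem a).1⟩)⁻¹ * ((b : X).1.2 * (mk ⟨_, (hSmem b).1⟩)⁻¹)
          have hc := mem_center_iff.mp (hZ0 (hSmem b).2) (mk ⟨_, (hSmem a).1⟩)⁻¹
          rw [mul_assoc (a : X).1.2 _ (_ * _), hc, ← mul_assoc, ← mul_assoc,
            mul_assoc ((a : X).1.2 * (b : X).1.2)]
          congr 1
          rw [← mul_inv_rev, ← map_mul]; rfl) }
    let Z : Subgroup X := ((⊥ : Subgroup G).prod Z0).subgroupOf X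
    have hZS : Z ≤ S := fun z hz => by
      show (z.1).1 ∈ (P : Subgroup G)
      rw [(mem_bot.mp hz.1 : z.1.1 = 1)]; exact one_mem _
    have hZc : Z ≤ center X := fun z hz => mem_center_iff.mpr fun b => Subtype.ext (Prod.ext
      (by simp [(mem_bot.mp hz.1 : z.1.1 = 1)]) (mem_center_iff.mp (hZ0 hz.2) b.1.2))
    have hZp : IsPGroup p Z := by
      refine IsPGroup.of_injective ((P.2.to_quotient U).to_subgroup Z0)
        { toFun := fun z : Z => (⟨(z : X).1.2, z.2.2⟩ : Z0)
          map_one' := rfl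
          map_mul' := fun _ _ => rfl } ?_
      intro a b hab
      exact Subtype.ext (Subtype.ext (Prod.ext
        ((mem_bot.mp a.2.1).trans (mem_bot.mp b.2.1).symm) (congrArg Subtype.val hab)))
    have hidx : ¬ p ∣ S.index := by
      intro hdvd
      apply P.not_dvd_index
      refine hdvd.trans ?_
      show ((P : Subgroup G).comap (MonoidHom.fst G Pb)).relIndex X ∣ _
      rw [relIndex_comap]
      refine relIndex_dvd_index_of_le fun y hy => ?_
      exact ⟨δ ⟨y, hy⟩, mem_sup_right ⟨_, rfl⟩, rfl⟩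
    obtain ⟨τ, hτ⟩ := exists_retraction_of_central Z S hZc hZp hZS hidx hA (ψ.comp π)
    let ιX : M →* X := ι.codRestrict X (fun m => mem_sup_left ⟨m, rfl⟩)
    let δX : P →* X := δ.codRestrict X (fun y => mem_sup_right ⟨y, rfl⟩)
    refine ⟨τ.comp δX, fun q hq => ?_⟩
    have hqX : ((1 : G), mk q) ∈ X := by
      have : ((1 : G), mk q) = (ι ⟨(q : G), hq⟩)⁻¹ * δ q := by
        simp [ι, δ, Prod.ext_iff]
      rw [this]
      exact mul_mem (inv_mem (mem_sup_left ⟨_, rfl⟩)) (mem_sup_right ⟨_, rfl⟩)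
    let z : Z := ⟨⟨_, hqX⟩, mem_bot.mpr rfl, ⟨q, hq, rfl⟩⟩
    have h1 : δX q = ιX ⟨(q : G), hq⟩ * (z : X) := by
      apply Subtype.ext
      simp [δX, ιX, ι, δ, z, Prod.ext_iff]
    have h2 : τ (ιX ⟨(q : G), hq⟩) = 1 :=
      pResidual_le_ker (τ.comp ιX) hA (by rw [hM]; trivial)
    rw [MonoidHom.comp_apply, h1, map_mul, h2, one_mul, hτ]
    refine congrArg ψ (Subtype.ext ?_)
    show mk q * (mk ⟨1, _⟩)⁻¹ = mk q
    rw [mul_eq_left, inv_eq_one]
    exact map_one mk
  obtain ⟨χ, hχ⟩ := main Z0 inferInstance ((P.2.to_quotient U).to_subgroup Z0) mk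
    (MonoidHom.id Z0) rfl
  have hsurj : Function.Surjective χ := by
    rintro ⟨_, q, hq, rfl⟩
    exact ⟨q, hχ q hq⟩
  rcases subsingleton_or_nontrivial Z0 with hs | hs
  · refine hQU fun q hq => (QuotientGroup.eq_one_iff q).mp ?_
    exact congrArg Subtype.val (Subsingleton.elim (⟨mk q, q, hq, rfl⟩ : Z0) 1)
  · obtain ⟨K, hK⟩ : ∃ K : Subgroup Z0, IsCoatom K :=
      (IsCoatomic.eq_top_or_exists_le_coatom (⊥ : Subgroup Z0)).resolve_left
        bot_ne_top |>.imp fun _ h => h.1
    apply hK.1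
    refine top_le_iff.mp ?_
    rintro ⟨_, q, hq, rfl⟩ -
    rw [show (⟨mk q, q, hq, rfl⟩ : Z0) = χ q from (hχ q hq).symm]
    exact frattini_le_coatom hK (frattini_le_comap_frattini_of_surjective hsurj (hQΦ hq))

/-- A normal subgroup meeting a Sylow `p`-subgroup inside its Frattini subgroup has a normal
`p`-complement. -/
theorem hasNormalPComplement_of_le_frattini [Finite G] [Fact p.Prime] (P : Sylow p G)
    (N : Subgroup G) [N.Normal]
    (h : N ⊓ (P : Subgroup G) ≤ (frattini P).map (P : Subgroup G).subtype) :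
    HasNormalPComplement p N := by
  rw [hasNormalPComplement_iff]
  haveI : ((pResidual p N).map N.subtype).Normal :=
    haveI := pResidual_characteristic N p
    inferInstance
  let e : ↥(pResidual p N) ≃* ↥((pResidual p N).map N.subtype) :=
    (pResidual p N).equivMapOfInjective N.subtype N.subtype_injective
  have hres : pResidual p ↥((pResidual p N).map N.subtype) = ⊤ := by
    have := map_pResidual_eq (p := p) (f := e.toMonoidHom) e.surjective
    rw [pResidual_pResidual, ← MonoidHom.range_eq_map] at this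
    rw [← this]
    exact MonoidHom.range_eq_top.mpr e.surjective
  have := not_dvd_card_of_le_frattini P _ hres
    (le_trans (inf_le_inf_right _ (map_subtype_le _)) h)
  rwa [card_map_of_injective N.subtype_injective] at this

end Cfsg.Agent.Transfer
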