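import Mathlib
import Cfsg.Prelude.Def_LocalEven
import Cfsg.Prelude.Def_PLocal
import Cfsg.Agent.Lib.Invol.BaerSuzuki
import Cfsg.Agent.Lib.Basics.Tools
import Cfsg.Agent.Lib.LocalEvenA.Core

/-!
# A four-group with two transvections involves the symmetric group of degree four
-/

set_option autoImplicit false
set_option linter.style.haveILetI false

namespace Cfsg.Agent.Transfer

open Subgroup

variable {G : Type*} [Group G] [Finite G]

/-- If a four-group `{1, u, u', uu'}` admits a conjugation fixing `u` and moving `u'`, and one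
fixing `u'` and moving `u`, then `S₄` is involved. -/
theorem involves_perm_four_of_plane {u u' b b' : G} (hu2 : u * u = 1) (hu'2 : u' * u' = 1)
    (hc : Commute u u') (hu : u ≠ 1) (hu' : u' ≠ 1) (hne : u ≠ u')
    (hb : b * u * b⁻¹ = u) (hbu' : b * u' * b⁻¹ = u * u')
    (hb' : b' * u' * b'⁻¹ = u') (hb'u : b' * u * b'⁻¹ = u * u') :
    Cfsg.Involves (Equiv.Perm (Fin 4)) G := by
  classical
  set P : Subgroup G := closure {u, u'} with hP
  have huP : u ∈ P := subset_closure (by simp)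
  have hu'P : u' ∈ P := subset_closure (by simp)
  have e1 : u * (u * u') = u' := by rw [← mul_assoc, hu2, one_mul]
  have e2 : u * u' * u = u' := by rw [mul_assoc, ← hc.eq, e1]
  have e3 : u * u' * u' = u := by rw [mul_assoc, hu'2, mul_one]
  have e4 : u' * (u * u') = u := by rw [← mul_assoc, ← hc.eq, e3]
  have e5 : u * u' * (u * u') = 1 := by rw [mul_assoc, e4, hu2]
  have i1 : u⁻¹ = u := inv_eq_of_mul_eq_one_right hu2
  have i2 : u'⁻¹ = u' := inv_eq_of_mul_eq_one_right hu'2
  have hPmem : ∀ x ∈ P, x = 1 ∨ x = u ∨ x = u' ∨ x = u * u' := by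
    intro x hx
    induction hx using closure_induction with
    | mem y hy => rcases hy with rfl | rfl <;> simp
    | one => simp
    | mul a c _ _ ha hc' =>
      rcases ha with rfl | rfl | rfl | rfl <;> rcases hc' with rfl | rfl | rfl | rfl <;>
        simp [hu2, hu'2, e1, e2, e3, e4, e5, ← hc.eq]
    | inv a _ ha =>
      rcases ha with rfl | rfl | rfl | rfl <;> simp [i1, i2, hc.eq]
  have hne1 : u * u' ≠ u := fun h => hu' (by simpa using h)
  have hne2 : u * u' ≠ u' := fun h => hu (by simpa using h)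
  have hne3 : u * u' ≠ 1 := fun h => hne ((mul_eq_one_iff_eq_inv.mp h).trans i2)
  have hcard : Nat.card P = 4 := by
    have : (P : Set G) = ↑({1, u, u', u * u'} : Finset G) := by
      ext x
      simp only [SetLike.mem_coe, Finset.coe_insert, Finset.coe_singleton, Set.mem_insert_iff,
        Set.mem_singleton_iff]
      refine ⟨hPmem x, ?_⟩
      rintro (rfl | rfl | rfl | rfl)
      exacts [one_mem _, huP, hu'P, mul_mem huP hu'P]
    rw [← SetLike.coe_sort_coe, Nat.card_coe_set_eq, this, Set.ncard_coe_finset,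
      Finset.card_insert_of_notMem (by simp [hu.symm, hu'.symm, hne3.symm]),
      Finset.card_insert_of_notMem (by simp [hne, hne1.symm]),
      Finset.card_insert_of_notMem (by simp [hne2.symm]), Finset.card_singleton]
  have hN : ∀ {g : G}, g * u * g⁻¹ ∈ P → g * u' * g⁻¹ ∈ P → g ∈ normalizer (P : Set G) := by
    intro g h1 h2
    rw [mem_normalizer_iff_map_conj_eq]
    refine eq_of_le_of_card_ge ?_ (card_map_of_injective (MulAut.conj g).injective).ge
    rw [hP, MonoidHom.map_closure, closure_le]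
    rintro _ ⟨y, rfl | rfl, rfl⟩
    · exact h1
    · exact h2
  set N := normalizer (P : Set G) with hNdef
  let bN : N := ⟨b, hN (by rw [hb]; exact huP) (by rw [hbu']; exact mul_mem huP hu'P)⟩
  let bN' : N := ⟨b', hN (by rw [hb'u]; exact mul_mem huP hu'P) (by rw [hb']; exact hu'P)⟩
  let π : N →* MulAut P := P.normalizerMonoidHom
  have hπ : ∀ (g : N) (x : P), ((π g x : P) : G) = g * x * (g : G)⁻¹ := fun g x => rfl
  have hext : ∀ φ ψ : MulAut P, φ ⟨u, huP⟩ = ψ ⟨u, huP⟩ → φ ⟨u', hu'P⟩ = ψ ⟨u', hu'P⟩ → φ = ψ := by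
    intro φ ψ h1 h2
    refine MulEquiv.ext fun x => ?_
    have hm : φ (⟨u, huP⟩ * ⟨u', hu'P⟩) = ψ (⟨u, huP⟩ * ⟨u', hu'P⟩) := by
      rw [map_mul, map_mul, h1, h2]
    rcases hPmem _ x.2 with h | h | h | h
    · rw [show x = 1 from Subtype.ext h, map_one, map_one]
    · rwa [show x = ⟨u, huP⟩ from Subtype.ext h]
    · rwa [show x = ⟨u', hu'P⟩ from Subtype.ext h]
    · rwa [show x = ⟨u, huP⟩ * ⟨u', hu'P⟩ from Subtype.ext h]
  set U : P := ⟨u, huP⟩ with hUdef
  set U' : P := ⟨u', hu'P⟩ with hU'def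
  have hUU : U * U = 1 := Subtype.ext hu2
  have hβu : π bN U = U := Subtype.ext hb
  have hβu' : π bN U' = U * U' := Subtype.ext hbu'
  have hβ'u : π bN' U = U * U' := Subtype.ext hb'u
  have hβ'u' : π bN' U' = U' := Subtype.ext hb'
  set β := π bN with hβ
  set ρ := π bN * π bN' with hρ
  have hρu : ρ U = U' := by
    rw [hρ, MulAut.mul_apply, hβ'u, map_mul, hβu, hβu', ← mul_assoc, hUU, one_mul]
  have hρu' : ρ U' = U * U' := by rw [hρ, MulAut.mul_apply, hβ'u', hβu']
  have hρ3 : ρ ^ 3 = 1 := by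
    have h1 : ρ (U * U') = U := by
      rw [map_mul, hρu, hρu']
      exact Subtype.ext e4
    refine hext _ _ ?_ ?_
    · show ρ (ρ (ρ U)) = U
      rw [hρu, hρu', h1]
    · show ρ (ρ (ρ U')) = U'
      rw [hρu', h1, hρu]
  have hρ1 : ρ ≠ 1 := fun h => hne (by
    have := congrArg Subtype.val (hρu.symm.trans (by rw [h]; rfl : ρ U = U))
    exact this.symm)
  haveI : Fact (Nat.Prime 3) := ⟨by norm_num⟩
  haveI : Fact (Nat.Prime 2) := ⟨by norm_num⟩
  have hρo : orderOf ρ = 3 := orderOf_eq_prime hρ3 hρ1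
  have hβ2 : β * β = 1 := by
    refine hext _ _ ?_ ?_
    · show β (β U) = U
      rw [hβu, hβu]
    · show β (β U') = U'
      rw [hβu', map_mul, hβu, hβu', ← mul_assoc, hUU, one_mul]
  have hβρ : β * ρ * β⁻¹ = ρ⁻¹ := by
    rw [inv_eq_of_mul_eq_one_right hβ2, eq_inv_iff_mul_eq_one]
    refine hext _ _ ?_ ?_
    · show β (ρ (β (ρ U))) = U
      rw [hρu, hβu', map_mul, hρu, hρu', show U' * (U * U') = U from Subtype.ext e4, hβu]
    · show β (ρ (β (ρ U'))) = U'
      rw [hρu', map_mul β, hβu, hβu', show U * (U * U') = U' from Subtype.ext e1, hρu', map_mul,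
        hβu, hβu', show U * (U * U') = U' from Subtype.ext e1]
  have hβρ' : β ∉ zpowers ρ := by
    intro h
    have h1 : orderOf β ∣ 3 := by
      rw [← hρo]
      exact orderOf_dvd_of_mem_zpowers h
    have h2 : orderOf β ∣ 2 := orderOf_dvd_of_pow_eq_one (by rw [sq, hβ2])
    have h3 : β = 1 := orderOf_eq_one_iff.mp
      (Nat.dvd_one.mp ((by norm_num : Nat.gcd 2 3 = 1) ▸ Nat.dvd_gcd h2 h1))
    rw [h3] at hβu'
    exact hne2 (congrArg Subtype.val hβu').symm
  -- a Sylow 3-subgroup of the preimage of `⟨ρ⟩`, normalised modulo it by `b`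
  set M : Subgroup N := (zpowers ρ).comap π with hM
  obtain ⟨T⟩ : Nonempty (Sylow 3 M) := inferInstance
  set T₀ : Subgroup N := (T : Subgroup M).map M.subtype with hT₀
  have hT₀M : T₀ ≤ M := map_subtype_le _
  have hT₀p : IsPGroup 3 T₀ := T.2.map M.subtype
  obtain ⟨t, ht, htπ⟩ : ∃ t ∈ T₀, π t ≠ 1 := by
    by_contra hcon
    push Not at hcon
    apply T.not_dvd_index
    have hTK : (T : Subgroup M) ≤ (π.comp M.subtype).ker := fun k hk => hcon k ⟨k, hk, rfl⟩
    refine dvd_trans ?_ (index_dvd_of_le hTK)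
    rw [index_ker]
    have : (π.comp M.subtype).range = zpowers ρ := by
      refine le_antisymm (by rintro _ ⟨k, rfl⟩; exact k.2) (zpowers_le.mpr ?_)
      exact ⟨⟨bN * bN', by
        show π (bN * bN') ∈ zpowers ρ
        rw [map_mul]
        exact mem_zpowers ρ⟩, by
        show π (bN * bN') = ρ
        rw [map_mul]⟩
    rw [this, Nat.card_zpowers, hρo]
  have hto : orderOf (π t) = 3 := by
    refine orderOf_eq_prime ?_ htπ
    obtain ⟨i, hi⟩ := mem_zpowers_iff.mp (hT₀M ht)
    rw [← hi, ← zpow_natCast, ← zpow_mul, mul_comm, zpow_mul, zpow_natCast, hρ3, one_zpow]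
  set D : Subgroup N := normalizer (T₀ : Set N) with hD
  obtain ⟨d, hd, hdπ⟩ : ∃ d ∈ D, orderOf (π d) = 2 := by
    have hbM : ∀ g ∈ M, bN * g * bN⁻¹ ∈ M := by
      intro g hg
      obtain ⟨i, hi⟩ := mem_zpowers_iff.mp (show π g ∈ zpowers ρ from hg)
      show π (bN * g * bN⁻¹) ∈ zpowers ρ
      rw [map_mul, map_mul, map_inv, ← hi, ← hβ, ← conj_zpow, hβρ]
      exact zpow_mem (inv_mem (mem_zpowers ρ)) i
    have hTb : T₀.map (MulAut.conj bN).toMonoidHom ≤ M := by
      rintro _ ⟨g, hg, rfl⟩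
      exact hbM g (hT₀M hg)
    let T' : Subgroup M := (T₀.map (MulAut.conj bN).toMonoidHom).subgroupOf M
    have hcard : Nat.card T' = Nat.card T := by
      rw [Nat.card_congr (subgroupOfEquivOfLe hTb).toEquiv,
        card_map_of_injective (MulAut.conj bN).injective,
        card_map_of_injective M.subtype_injective]
    let S' : Sylow 3 M := Sylow.ofCard T' (hcard.trans T.card_eq_multiplicity)
    obtain ⟨m, hm⟩ := MulAction.exists_smul_eq M S' T
    refine ⟨(m : N) * bN, ?_, ?_⟩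
    · rw [hD, mem_normalizer_iff_map_conj_eq]
      refine eq_of_le_of_card_ge ?_ (card_map_of_injective (MulAut.conj _).injective).ge
      rintro _ ⟨g, hg, rfl⟩
      have h1 : (⟨bN * g * bN⁻¹, hbM g (hT₀M hg)⟩ : M) ∈ (S' : Subgroup M) := ⟨g, hg, rfl⟩
      have h2 : MulAut.conj m (⟨bN * g * bN⁻¹, hbM g (hT₀M hg)⟩ : M) ∈ (T : Subgroup M) := by
        rw [← hm]
        exact ⟨_, h1, rfl⟩
      refine ⟨_, h2, ?_⟩
      show (m : N) * (bN * g * bN⁻¹) * (m : N)⁻¹ = (m : N) * bN * g * ((m : N) * bN)⁻¹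
      group
    · obtain ⟨i, hi⟩ := mem_zpowers_iff.mp (show π (m : N) ∈ zpowers ρ from m.2)
      rw [map_mul, ← hi, ← hβ]
      refine orderOf_eq_prime ?_ fun h => hβρ' ?_
      · rw [sq, show ρ ^ i * β * (ρ ^ i * β) = ρ ^ i * (β * ρ ^ i * β⁻¹) * (β * β) by group,
          ← conj_zpow, hβρ, hβ2, mul_one, inv_zpow, mul_inv_cancel]
      · rw [show β = (ρ ^ i)⁻¹ * (ρ ^ i * β) by group, h, mul_one]
        exact inv_mem (zpow_mem (mem_zpowers ρ) i)
  -- the complement `D` to `P` in `P ⊔ D`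
  set P' : Subgroup N := P.subgroupOf N with hP'
  haveI : P'.Normal := normal_subgroupOf_of_le_normalizer le_rfl
  have hP'card : Nat.card P' = 4 :=
    (Nat.card_congr (subgroupOfEquivOfLe le_normalizer).toEquiv).trans hcard
  have hDP : ∀ x ∈ P', x ∈ D → x = 1 := by
    intro x hxP hxD
    have hcomm : x * t * x⁻¹ * t⁻¹ = 1 := by
      have h1 : x * t * x⁻¹ * t⁻¹ ∈ T₀ :=
        mul_mem ((mem_normalizer_iff.mp hxD t).mp ht) (inv_mem ht)
      have h2 : x * t * x⁻¹ * t⁻¹ ∈ P' := by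
        rw [show x * t * x⁻¹ * t⁻¹ = x * (t * x⁻¹ * t⁻¹) by group]
        exact mul_mem hxP ((inferInstance : P'.Normal).conj_mem _ (inv_mem hxP) t)
      obtain ⟨k, hk⟩ := hT₀p ⟨_, h1⟩
      have hk' : (x * t * x⁻¹ * t⁻¹) ^ 3 ^ k = 1 := by simpa using congrArg Subtype.val hk
      have h22 : (x * t * x⁻¹ * t⁻¹) ^ 4 = 1 := by
        have := pow_card_eq_one' (G := P') (x := ⟨_, h2⟩)
        rw [hP'card] at this
        simpa using congrArg Subtype.val this
      exact orderOf_eq_one_iff.mp (Nat.dvd_one.mp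
        (((by norm_num : Nat.Coprime 4 3).pow_right k).gcd_eq_one ▸
          Nat.dvd_gcd (orderOf_dvd_of_pow_eq_one h22) (orderOf_dvd_of_pow_eq_one hk')))
    have hfix : π t ⟨(x : G), hxP⟩ = ⟨(x : G), hxP⟩ := by
      refine Subtype.ext ?_
      rw [hπ]
      have h3 := congrArg Subtype.val (mul_inv_eq_one.mp hcomm)
      show (t : G) * x * (t : G)⁻¹ = x
      rw [mul_inv_eq_iff_eq_mul]
      simp only [Subgroup.coe_mul, Subgroup.coe_inv] at h3
      exact (mul_inv_eq_iff_eq_mul.mp h3).symm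
    have hρt : ρ ∈ zpowers (π t) := by
      have : zpowers (π t) = zpowers ρ := eq_of_le_of_card_ge (zpowers_le.mpr (hT₀M ht))
        (by rw [Nat.card_zpowers, Nat.card_zpowers, hto, hρo])
      rw [this]; exact mem_zpowers ρ
    obtain ⟨i, hi⟩ := mem_zpowers_iff.mp hρt
    have hfix' : ρ ⟨(x : G), hxP⟩ = ⟨(x : G), hxP⟩ := by
      rw [← hi]
      exact MulAction.mem_stabilizer_iff.mp (zpow_mem
        (MulAction.mem_stabilizer_iff.mpr hfix :
          π t ∈ MulAction.stabilizer (MulAut P) (⟨(x : G), hxP⟩ : P)) i)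
    refine Subtype.ext ?_
    rcases hPmem _ hxP with h | h | h | h
    · exact h
    · rw [show (⟨(x : G), hxP⟩ : P) = U from Subtype.ext h, hρu] at hfix'
      exact absurd (congrArg Subtype.val hfix').symm hne
    · rw [show (⟨(x : G), hxP⟩ : P) = U' from Subtype.ext h, hρu'] at hfix'
      exact absurd (congrArg Subtype.val hfix') hne2
    · rw [show (⟨(x : G), hxP⟩ : P) = U * U' from Subtype.ext h, map_mul, hρu, hρu',
        show U' * (U * U') = U from Subtype.ext e4] at hfix'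
      exact absurd (congrArg Subtype.val hfix').symm hne1
  set K : Subgroup N := P' ⊔ D with hK
  have hmem := fun y => (Basics.mem_sup_of_le_normalizer (x := y)
    (le_normalizer_of_normal : D ≤ normalizer (P' : Set N)) :)
  let D' : Subgroup K := D.subgroupOf K
  have hidx : D'.index = 4 := by
    have hbij : Function.Bijective (fun x : P' =>
        ((⟨(x : N), mem_sup_left x.2⟩ : K) : K ⧸ D')) := by
      refine ⟨fun x y h => ?_, fun q => ?_⟩
      · have h' : (x : N)⁻¹ * (y : N) ∈ D := (QuotientGroup.eq.mp h :)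
        exact Subtype.ext (inv_mul_eq_one.mp (hDP _ (mul_mem (inv_mem x.2) y.2) h'))
      · induction q using QuotientGroup.induction_on with
        | H k =>
          obtain ⟨x, hx, y, hy, hk⟩ := (hmem _).mp k.2
          refine ⟨⟨x, hx⟩, QuotientGroup.eq.mpr ?_⟩
          show x⁻¹ * (k : N) ∈ D
          rw [hk, inv_mul_cancel_left]
          exact hy
    rw [index, ← Nat.card_eq_of_bijective _ hbij, hP'card]
  let ψ : K →* Equiv.Perm (K ⧸ D') := MulAction.toPermHom K (K ⧸ D')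
  -- the kernel centralises `P`
  have hker : ∀ k ∈ ψ.ker, (k : N) ∈ D ∧ π (k : N) = 1 := by
    intro k hk
    have hkD : ∀ l : K, l⁻¹ * k * l ∈ D' := by
      intro l
      have h1 : ((k * l : K) : K ⧸ D') = (l : K ⧸ D') :=
        congrArg (fun σ : Equiv.Perm (K ⧸ D') => σ (l : K ⧸ D')) (MonoidHom.mem_ker.mp hk)
      have := D'.inv_mem (QuotientGroup.eq.mp h1)
      simpa [mul_assoc] using this
    have hk0 : (k : N) ∈ D := by simpa [D', mem_subgroupOf] using hkD 1
    refine ⟨hk0, MulEquiv.ext fun y => Subtype.ext ?_⟩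
    let yN : N := ⟨(y : G), le_normalizer y.2⟩
    have hy : yN ∈ P' := y.2
    have h2 : yN⁻¹ * (k : N) * yN ∈ D := hkD ⟨yN, mem_sup_left hy⟩
    have h3 : yN⁻¹ * ((k : N) * yN * (k : N)⁻¹) = 1 := by
      refine hDP _ (mul_mem (inv_mem hy) ((inferInstance : P'.Normal).conj_mem _ hy _)) ?_
      rw [show yN⁻¹ * ((k : N) * yN * (k : N)⁻¹) = yN⁻¹ * (k : N) * yN * (k : N)⁻¹ by group]
      exact mul_mem h2 (inv_mem hk0)
    rw [hπ]
    exact (congrArg Subtype.val (inv_mul_eq_one.mp h3)).symm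
  have hrange : ψ.range = ⊤ := by
    haveI : Fintype (K ⧸ D') := Fintype.ofFinite _
    have hS : Nat.card (Equiv.Perm (K ⧸ D')) = 24 := by
      rw [Nat.card_perm, ← index, hidx]; rfl
    refine eq_top_of_le_card _ ?_
    rw [hS, ← index_ker]
    have hle : ψ.ker ≤ ((D ⊓ π.ker).subgroupOf K) := fun k hk =>
      mem_subgroupOf.mpr ⟨(hker k hk).1, (hker k hk).2⟩
    refine le_trans ?_ (Nat.le_of_dvd (Nat.pos_of_ne_zero index_ne_zero_of_finite)
      (index_dvd_of_le hle))
    have e : (D ⊓ π.ker).subgroupOf K = ((D ⊓ π.ker).subgroupOf K) ⊓ D' :=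
      (inf_eq_left.mpr fun k hk => hk.1).symm
    have h1 : ((D ⊓ π.ker).subgroupOf K).relIndex D' * D'.index =
        ((D ⊓ π.ker).subgroupOf K).index := relIndex_mul_index fun k hk => hk.1
    have h2 : 6 ∣ ((D ⊓ π.ker).subgroupOf K).relIndex D' := by
      rw [relIndex_subgroupOf (le_sup_right : D ≤ K), inf_relIndex_left,
        show π.ker.relIndex D = (π.comp D.subtype).ker.index by rw [← MonoidHom.comap_ker]; rfl,
        index_ker]
      have hd2 : 2 ∣ Nat.card (π.comp D.subtype).range :=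
        hdπ ▸ (orderOf_coe (⟨π d, ⟨⟨d, hd⟩, rfl⟩⟩ : (π.comp D.subtype).range)).symm ▸
          orderOf_dvd_natCard _
      have hd3 : 3 ∣ Nat.card (π.comp D.subtype).range :=
        hto ▸ (orderOf_coe (⟨π t, ⟨⟨t, le_normalizer ht⟩, rfl⟩⟩ :
          (π.comp D.subtype).range)).symm ▸ orderOf_dvd_natCard _
      exact (by norm_num : Nat.Coprime 2 3).mul_dvd_of_dvd_of_dvd hd2 hd3
    rw [← h1, hidx]
    have := Nat.le_of_dvd (Nat.pos_of_ne_zero (fun h0 => index_ne_zero_of_finite
      (H := (D ⊓ π.ker).subgroupOf K) (by rw [← h1, h0, zero_mul]))) h2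
    omega
  -- transport to a section of `G`
  set K₀ : Subgroup G := K.map N.subtype
  let e₀ : K ≃* K₀ := K.equivMapOfInjective N.subtype N.subtype_injective
  haveI : Fintype (K ⧸ D') := Fintype.ofFinite _
  let σ : Equiv.Perm (K ⧸ D') ≃* Equiv.Perm (Fin 4) :=
    (Fintype.equivFinOfCardEq (by rw [← Nat.card_eq_fintype_card, ← index, hidx])).permCongrHom
  let φ : K₀ →* Equiv.Perm (Fin 4) := (σ.toMonoidHom.comp ψ).comp e₀.symm.toMonoidHom
  have hφ : Function.Surjective φ :=
    (σ.surjective.comp (MonoidHom.range_eq_top.mp hrange)).comp e₀.symm.surjective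
  have hR : (φ.ker.map K₀.subtype).subgroupOf K₀ = φ.ker :=
    comap_map_eq_self_of_injective K₀.subtype_injective _
  haveI : ((φ.ker.map K₀.subtype).subgroupOf K₀).Normal := by rw [hR]; infer_instance
  exact ⟨K₀, φ.ker.map K₀.subtype, inferInstance,
    ⟨(QuotientGroup.quotientMulEquivOfEq hR).trans
      (QuotientGroup.quotientKerEquivOfSurjective φ hφ)⟩⟩

open scoped commutatorElement in
/-- Without `S₄` sections, a transvection on an elementary abelian normal 2-subgroup lies in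
`O₂` modulo the centralizer. -/
theorem mk_mem_pCore_of_transvection (hfree : ¬ Cfsg.Involves (Equiv.Perm (Fin 4)) G)
    (V : Subgroup G) [V.Normal] (hVab : ∀ x ∈ V, ∀ y ∈ V, Commute x y)
    (hV2 : ∀ x ∈ V, x * x = 1) (b u : G) (huV : u ∈ V)
    (hbu : b * u * b⁻¹ = u) (hb : ∀ v ∈ V, b * v * b⁻¹ = v ∨ b * v * b⁻¹ = u * v) :
    (QuotientGroup.mk b : G ⧸ centralizer (V : Set G)) ∈
      Cfsg.pCore 2 (G ⧸ centralizer (V : Set G)) := by
  classical
  haveI : Fact (Nat.Prime 2) := ⟨by norm_num⟩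
  set C := centralizer (V : Set G)
  rcases eq_or_ne u 1 with rfl | hu1
  · have : b ∈ C := mem_centralizer_iff.mpr fun v hv => by
      have h : b * v * b⁻¹ = v := by simpa using hb v hv
      exact (mul_inv_eq_iff_eq_mul.mp h).symm
    rw [(QuotientGroup.eq_one_iff b).mpr this]
    exact one_mem _
  suffices h : ∀ g : G ⧸ C, IsPGroup 2 ↥(closure ({(b : G ⧸ C), g * (b : G ⧸ C) * g⁻¹} :
      Set (G ⧸ C))) by
    obtain ⟨M, hMn, hMp, hbM⟩ := Invol.baerSuzuki_element h
    exact Cfsg.Agent.LocalEvenA.le_pCore_of_normal hMn hMp hbM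
  intro g
  induction g using QuotientGroup.induction_on with
  | H g =>
  set b' := g * b * g⁻¹ with hb'def
  set u' := g * u * g⁻¹ with hu'def
  have hu'V : u' ∈ V := (inferInstance : V.Normal).conj_mem u huV g
  have hu'1 : u' ≠ 1 := fun h => hu1 (by simpa [hu'def] using h)
  have hb'u' : b' * u' * b'⁻¹ = u' := by
    rw [hb'def, hu'def]
    conv_rhs => rw [← hbu]
    group
  have hb' : ∀ v ∈ V, b' * v * b'⁻¹ = v ∨ b' * v * b'⁻¹ = u' * v := by
    intro v hv
    have hv' : g⁻¹ * v * g ∈ V := by simpa using (inferInstance : V.Normal).conj_mem v hv g⁻¹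
    rcases hb _ hv' with h | h
    · left
      calc b' * v * b'⁻¹ = g * (b * (g⁻¹ * v * g) * b⁻¹) * g⁻¹ := by rw [hb'def]; group
        _ = v := by rw [h]; group
    · right
      calc b' * v * b'⁻¹ = g * (b * (g⁻¹ * v * g) * b⁻¹) * g⁻¹ := by rw [hb'def]; group
        _ = u' * v := by rw [h, hu'def]; group
  -- one of the two fixes the centre of the other
  have hor : (b * u' * b⁻¹ = u') ∨ (b' * u * b'⁻¹ = u) := by
    by_contra hcon
    rw [not_or] at hcon
    have h1 := (hb u' hu'V).resolve_left hcon.1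
    have h2 := (hb' u huV).resolve_left hcon.2
    refine hfree (involves_perm_four_of_plane (hV2 u huV) (hV2 u' hu'V) (hVab u huV u' hu'V) hu1
      hu'1 (fun h => hcon.1 (h ▸ hbu)) hbu h1 hb'u' (h2.trans (hVab u' hu'V u huV).eq))
  have main : ∀ (c c' z z' : G), z ∈ V → z' ∈ V → c * z * c⁻¹ = z → c' * z' * c'⁻¹ = z' →
      (∀ v ∈ V, c * v * c⁻¹ = v ∨ c * v * c⁻¹ = z * v) →
      (∀ v ∈ V, c' * v * c'⁻¹ = v ∨ c' * v * c'⁻¹ = z' * v) → c * z' * c⁻¹ = z' →
      IsPGroup 2 ↥(closure ({(c : G ⧸ C), (c' : G ⧸ C)} : Set (G ⧸ C))) := by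
    intro c c' z z' hz hz' hcz hc'z' hc hc' hcz'
    -- the stabilizer of the chain
    have hzP : ∀ x y : G, (x = 1 ∨ x = z) → (y = 1 ∨ y = z') → x * y ∈ closure ({z, z'} : Set G) :=
      fun x y hx hy => mul_mem
        (hx.elim (fun h => h ▸ one_mem _) fun h => h ▸ subset_closure (by simp))
        (hy.elim (fun h => h ▸ one_mem _) fun h => h ▸ subset_closure (by simp))
    set P := closure ({z, z'} : Set G)
    have hPV : P ≤ V := (closure_le _).mpr (by rintro _ (rfl | rfl) <;> assumption)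
    let St : G → Prop := fun x => (∀ v ∈ V, x * v * x⁻¹ * v⁻¹ ∈ P) ∧ x * z' * x⁻¹ = z' ∧
      (x * z * x⁻¹ = z ∨ x * z * x⁻¹ = z' * z)
    have hStP : ∀ x, St x → ∀ y ∈ P, x * y * x⁻¹ * y⁻¹ ∈ closure ({z'} : Set G) := by
      intro x hx y hy
      induction hy using closure_induction with
      | mem w hw =>
        rcases hw with rfl | rfl
        · rcases hx.2.2 with h | h <;> rw [h]
          · simp
          · simpa using subset_closure (Set.mem_singleton z')
        · rw [hx.2.1]; simp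
      | one => simp
      | mul a e ha he iha ihe =>
        rw [show x * (a * e) * x⁻¹ * (a * e)⁻¹ =
          x * a * x⁻¹ * (x * e * x⁻¹ * e⁻¹) * a⁻¹ by group]
        have hcz : ∀ w ∈ closure ({z'} : Set G), Commute a w := fun w hw =>
          hVab a (hPV ha) w (hPV ((Subgroup.closure_mono (by simp)) hw))
        set W := x * e * x⁻¹ * e⁻¹ with hW
        rw [mul_assoc (x * a * x⁻¹), ← (hcz W ihe).inv_left.eq, ← mul_assoc]
        exact mul_mem iha ihe
      | inv a ha iha =>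
        have hmemV : x * a * x⁻¹ ∈ V := (inferInstance : V.Normal).conj_mem a (hPV ha) x
        rw [show x * a⁻¹ * x⁻¹ * a⁻¹⁻¹ = (x * a * x⁻¹)⁻¹ * a by group,
          ← (hVab _ (hPV ha) _ (inv_mem hmemV)).eq,
          show a * (x * a * x⁻¹)⁻¹ = (x * a * x⁻¹ * a⁻¹)⁻¹ by group]
        exact inv_mem iha
    have hStmul : ∀ x y, St x → St y → St (x * y) := by
      intro x y hx hy
      refine ⟨fun v hv => ?_, ?_, ?_⟩
      · set w := y * v * y⁻¹ * v⁻¹ with hw
        have hwP : w ∈ P := hy.1 v hv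
        rw [show x * y * v * (x * y)⁻¹ * v⁻¹ = x * w * x⁻¹ * (x * v * x⁻¹ * v⁻¹) by
          rw [hw]; group]
        refine mul_mem ?_ (hx.1 v hv)
        have := mul_mem ((Subgroup.closure_mono (by simp) : closure ({z'} : Set G) ≤ P) (hStP x hx w hwP))
          hwP
        simpa using this
      · rw [show x * y * z' * (x * y)⁻¹ = x * (y * z' * y⁻¹) * x⁻¹ by group, hy.2.1, hx.2.1]
      · rw [show x * y * z * (x * y)⁻¹ = x * (y * z * y⁻¹) * x⁻¹ by group]
        rcases hy.2.2 with h | h <;> rw [h]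
        · exact hx.2.2
        · rw [show x * (z' * z) * x⁻¹ = x * z' * x⁻¹ * (x * z * x⁻¹) by group, hx.2.1]
          rcases hx.2.2 with h' | h' <;> rw [h']
          · exact Or.inr rfl
          · rw [← mul_assoc, hV2 z' hz', one_mul]; exact Or.inl rfl
    have hc4 : ∀ x, St x → x ^ 4 ∈ C := by
      intro x hx
      refine mem_centralizer_iff.mpr fun v hv => ?_
      set e := x * v * x⁻¹ * v⁻¹ with he
      have heP : e ∈ P := hx.1 v hv
      have h2 : x ^ 2 * v * (x ^ 2)⁻¹ * v⁻¹ = x * e * x⁻¹ * e⁻¹ := by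
        rw [show x ^ 2 * v * (x ^ 2)⁻¹ * v⁻¹ = x * e * x⁻¹ * e by rw [he, sq]; group,
          inv_eq_of_mul_eq_one_right (hV2 e (hPV heP))]
      obtain ⟨i, hi⟩ := mem_closure_singleton.mp (hStP x hx e heP)
      rw [← hi] at h2
      have hfix : x ^ 2 * z' ^ i * (x ^ 2)⁻¹ = z' ^ i := by
        rw [← conj_zpow, sq, show x * x * z' * (x * x)⁻¹ = x * (x * z' * x⁻¹) * x⁻¹ by group,
          hx.2.1, hx.2.1]
      have h3 : x ^ 4 * v * (x ^ 4)⁻¹ = v := by
        rw [show x ^ 4 * v * (x ^ 4)⁻¹ =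
          x ^ 2 * (x ^ 2 * v * (x ^ 2)⁻¹ * v⁻¹) * (x ^ 2)⁻¹ *
            (x ^ 2 * v * (x ^ 2)⁻¹ * v⁻¹) * v by rw [show (4 : ℕ) = 2 + 2 by rfl, pow_add]; group,
          h2, hfix, hV2 _ (zpow_mem hz' i), one_mul]
      exact (mul_inv_eq_iff_eq_mul.mp h3).symm
    have hSt : ∀ q ∈ closure ({(c : G ⧸ C), (c' : G ⧸ C)} : Set (G ⧸ C)),
        ∃ x, St x ∧ (x : G ⧸ C) = q := by
      intro q hq
      rw [← mem_toSubmonoid, closure_toSubmonoid_of_finite] at hq
      induction hq using Submonoid.closure_induction with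
      | mem y hy =>
        rcases hy with rfl | rfl
        · refine ⟨c, ⟨fun v hv => ?_, hcz', Or.inl hcz⟩, rfl⟩
          rcases hc v hv with h | h <;> rw [h]
          · simp
          · simpa using subset_closure (show z ∈ ({z, z'} : Set G) by simp)
        · refine ⟨c', ⟨fun v hv => ?_, hc'z', hc' z hz⟩, rfl⟩
          rcases hc' v hv with h | h <;> rw [h]
          · simp
          · simpa using subset_closure (show z' ∈ ({z, z'} : Set G) by simp)
      | one => exact ⟨1, ⟨fun v _ => by simp, by simp, Or.inl (by simp)⟩, rfl⟩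
      | mul a e _ _ iha ihe =>
        obtain ⟨x, hx, rfl⟩ := iha
        obtain ⟨y, hy, rfl⟩ := ihe
        exact ⟨x * y, hStmul x y hx hy, rfl⟩
    intro q
    obtain ⟨x, hx, hxq⟩ := hSt q q.2
    refine ⟨2, Subtype.ext ?_⟩
    rw [coe_pow, ← hxq, ← QuotientGroup.mk_pow]
    exact (QuotientGroup.eq_one_iff _).mpr (hc4 x hx)
  show IsPGroup 2 ↥(closure ({(b : G ⧸ C), (b' : G ⧸ C)} : Set (G ⧸ C)))
  rcases hor with h | h
  · exact main b b' u u' huV hu'V hbu hb'u' hb hb' h
  · rw [Set.pair_comm]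
    exact main b' b u' u hu'V huV hb'u' hbu hb' hb h

end Cfsg.Agent.Transfer
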