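import Mathlib
import Cfsg.Agent.Lib.Transfer.FourPlane
import Cfsg.Agent.Lib.Transfer.MaxAbelian
import Cfsg.Agent.Lib.Transfer.Replacement
import Cfsg.Agent.Lib.ConjFunctor.WeakClosure
import Cfsg.Agent.Lib.SL2Dickson.Stability
import Cfsg.Agent.Lib.Transfer.Fusion

/-!
# Weakly closed central elements of `N(J(S))`

Glauberman's theorem for the Thompson subgroup generated by abelian subgroups of largest order.
For the prime 2 in the absence of `S₄`, a minimal offender has all hyperplanes with the same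
centralizer, so that only fixed cosets contribute to the orbit sum.
-/

set_option autoImplicit false
set_option linter.style.haveILetI false

namespace Cfsg.Agent.Transfer

open Subgroup ConjFunctor
open scoped commutatorElement Pointwise

variable {G : Type*} [Group G] [Finite G] {p : ℕ} [hp : Fact p.Prime]

theorem center_le_JAb_zero (P : Subgroup G) :
    P ⊓ centralizer (P : Set G) ≤ JAb 0 P := by
  intro x hx
  obtain ⟨A, hA⟩ := exists_isMaxAbIn (e := 0) P
  exact le_JAb hA (mem_of_commute_maxAb hA hx.1 (pow_zero x)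
    fun a ha => mem_centralizer_iff.mp hx.2 a (hA.1 ha))

theorem isConjugacyFunctor_JAb_zero :
    Cfsg.IsConjugacyFunctor p (fun P : Subgroup G => JAb 0 P) := fun P hP =>
  ⟨JAb_le P, fun h => JAb_ne_bot (p := p) (Or.inl rfl) hP h, fun g =>
    (map_JAb P (MulAut.conj g).toMonoidHom (MulAut.conj g).injective.injOn).symm⟩

/-- If `J(S)` is not normal there is a member outside `O_p` normalized by `Z(O_p)`. -/
theorem exists_maxAb_normalized_by {X : Type*} [Group X] [Finite X] (S : Sylow p X)
    (hJ : normalizer (JAb 0 (S : Subgroup X) : Set X) ≠ ⊤) :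
    ∃ A, IsMaxAbIn 0 (S : Subgroup X) A ∧ ¬ A ≤ Cfsg.pCore p X ∧
      Cfsg.pCore p X ⊓ centralizer ((Cfsg.pCore p X : Subgroup X) : Set X) ≤
        normalizer (A : Set X) := by
  classical
  haveI := LocalEvenA.pCore_normal' p X
  set Q := Cfsg.pCore p X
  set Z := Q ⊓ centralizer ((Q : Subgroup X) : Set X) with hZ
  haveI : Z.Normal := inferInstance
  have hQS : Q ≤ (S : Subgroup X) := pCore_le_sylow S
  haveI : Fintype {A : Subgroup X // IsMaxAbIn 0 (S : Subgroup X) A ∧ ¬ A ≤ Q} := Fintype.ofFinite _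
  have hex : ∃ A, IsMaxAbIn 0 (S : Subgroup X) A ∧ ¬ A ≤ Q := by
    by_contra hcon
    push Not at hcon
    refine hJ (top_le_iff.mp ?_)
    have h1 : JAb 0 Q = JAb 0 (S : Subgroup X) := JAb_eq_of_le hQS (sSup_le hcon)
    rw [← h1, ← normalizer_eq_top (H := Q)]
    exact normalizer_le_normalizer_JAb Q
  obtain ⟨A₀, hA₀⟩ := hex
  obtain ⟨⟨A, hA, hAQ⟩, -, hmax⟩ := Finset.exists_max_image
    (Finset.univ : Finset {A : Subgroup X // IsMaxAbIn 0 (S : Subgroup X) A ∧ ¬ A ≤ Q})
    (fun A => Nat.card (A.1 ⊓ Z : Subgroup X)) ⟨⟨A₀, hA₀⟩, Finset.mem_univ _⟩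
  refine ⟨A, hA, hAQ, ?_⟩
  by_contra hnot
  set A₁ := A.subgroupOf (S : Subgroup X)
  set Z₁ := Z.subgroupOf (S : Subgroup X)
  have hAm : A₁.map (S : Subgroup X).subtype = A := by
    rw [subgroupOf_map_subtype, inf_eq_left.mpr hA.1]
  have hAc : IsMulCommutative A₁ := ⟨⟨fun a b => Subtype.ext (Subtype.ext
    (AbExp.commute hA.2.1 a.2 b.2).eq)⟩⟩
  have hZc : IsMulCommutative Z₁ := ⟨⟨fun a b => Subtype.ext (Subtype.ext
    (mem_centralizer_iff.mp (show ((b : (S : Subgroup X)) : X) ∈ Z from b.2).2 _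
      (show ((a : (S : Subgroup X)) : X) ∈ Z from a.2).1))⟩⟩
  have hnot₁ : ¬ Z₁ ≤ normalizer (A₁ : Set ↥(S : Subgroup X)) := by
    intro hle
    refine hnot fun z hz => mem_normalizer_iff_map_conj_eq.mpr ?_
    refine eq_of_le_of_card_ge ?_ (card_map_of_injective (MulAut.conj z).injective).ge
    rintro _ ⟨a, ha, rfl⟩
    exact (mem_normalizer_iff.mp (hle (show (⟨z, hQS hz.1⟩ : ↥(S : Subgroup X)) ∈ Z₁ from hz))
      ⟨a, hA.1 ha⟩).mp ha
  obtain ⟨b, hb, hbN, hbA⟩ := exists_normalizing_element S.2 Z₁ A₁ hnot₁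
  obtain ⟨h1, h2, -, h4, -, -, h7, -, -, -, -⟩ := replaced_spec S.2 Z₁ (fun _ => hZc) A₁ hAc
    (by rw [show ⁅Z₁, Z₁⁆ = ⊥ from commutator_eq_bot_iff_le_centralizer.mpr
      (le_centralizer_iff_isMulCommutative.mpr hZc)]; exact bot_le) b hb hbN hbA
  set R := (replaced A₁ b).map (S : Subgroup X).subtype with hR
  have hRc : IsMulCommutative R := by
    refine ⟨⟨?_⟩⟩
    rintro ⟨_, a, ha, rfl⟩ ⟨_, c, hc, rfl⟩
    exact Subtype.ext (congrArg (fun w : replaced A₁ b => ((w : ↥(S : Subgroup X)) : X))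
      (h2.is_comm.comm ⟨a, ha⟩ ⟨c, hc⟩) :)
  have hcard : Nat.card R = Nat.card A := by
    rw [hR, card_map_of_injective (S : Subgroup X).subtype_injective, h1,
      ← card_map_of_injective (K := A₁) (S : Subgroup X).subtype_injective, hAm]
  have hRmax : IsMaxAbIn 0 (S : Subgroup X) R :=
    ⟨map_subtype_le _, ⟨hRc, fun a _ => pow_zero a⟩,
      fun C hC hCe => hcard ▸ hA.2.2 C hC hCe⟩
  by_cases hRQ : R ≤ Q
  · apply hbA
    have hbR : b ∈ replaced A₁ b := by
      have : (b : X) ∈ R := mem_of_commute_maxAb hRmax b.2 (pow_zero _) fun a ha =>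
        mem_centralizer_iff.mp (show (b : X) ∈ Z from hb).2 a (hRQ ha)
      exact (mem_map_iff_mem (S : Subgroup X).subtype_injective).mp this
    exact h7 hbR
  · have hle := hmax ⟨R, hRmax, hRQ⟩ (Finset.mem_univ _)
    have hlt := Basics.card_lt_of_lt h4
    rw [← card_map_of_injective (K := A₁ ⊓ Z₁) (S : Subgroup X).subtype_injective,
      ← card_map_of_injective (K := replaced A₁ b ⊓ Z₁) (S : Subgroup X).subtype_injective,
      map_inf _ _ _ (S : Subgroup X).subtype_injective,
      map_inf _ _ _ (S : Subgroup X).subtype_injective, hAm, ← hR,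
      show Z₁.map (S : Subgroup X).subtype = Z by
        rw [subgroupOf_map_subtype, inf_eq_left.mpr (fun z hz => hQS hz.1)]] at hlt
    exact absurd hlt (not_lt.mpr hle)

/-- In characteristic two, if every subgroup of index two has the same fixed points as the whole
group, only fixed points contribute to an equivariant sum. -/
theorem sum_eq_sum_fixed_two {R O A : Type*} [Group R] [Finite R] [Fintype O] [MulAction R O]
    [DecidablePred (· ∈ MulAction.fixedPoints R O)] [AddCommGroup A] (hR : IsPGroup 2 R)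
    (hA2 : ∀ a : A, a + a = 0) (τ : R → A →+ A) (f : O → A)
    (hf : ∀ r o, f (r • o) = τ r (f o))
    (hfix : ∀ R₁ : Subgroup R, R₁.index = 2 → ∀ a, (∀ r ∈ R₁, τ r a = a) → ∀ r, τ r a = a) :
    ∑ o, f o = ∑ o with o ∈ MulAction.fixedPoints R O, f o := by
  classical
  open Finset in
  haveI : Fact (Nat.Prime 2) := ⟨by norm_num⟩
  haveI : Fintype R := Fintype.ofFinite R
  rw [← Finset.sum_filter_add_sum_filter_not Finset.univ
    (fun o => o ∈ MulAction.fixedPoints R O)]
  simp only [add_eq_left]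
  suffices H : ∀ n, ∀ s : Finset O, s.card ≤ n → (∀ o ∈ s, o ∉ MulAction.fixedPoints R O) →
      (∀ o ∈ s, ∀ r : R, r • o ∈ s) → ∑ o ∈ s, f o = 0 by
    refine H _ _ le_rfl (fun o ho => (Finset.mem_filter.mp ho).2) fun o ho r => ?_
    simp only [Finset.mem_filter, Finset.mem_univ, true_and] at ho ⊢
    intro hfix'
    refine ho fun r' => ?_
    have h1 := hfix' (r * r' * r⁻¹)
    rw [← mul_smul, show r * r' * r⁻¹ * r = r * r' by group, mul_smul, smul_left_cancel_iff] at h1
    exact h1
  intro n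
  induction n with
  | zero =>
    intro s hs _ _
    rw [Finset.card_eq_zero.mp (Nat.le_zero.mp hs), Finset.sum_empty]
  | succ n ih =>
    intro s hs hnf hinv
    rcases s.eq_empty_or_nonempty with rfl | ⟨o, ho⟩
    · exact Finset.sum_empty
    set K := MulAction.stabilizer R o
    have hK : K ≠ ⊤ := fun hK => hnf o ho fun r => by
      have : r ∈ K := hK ▸ mem_top r
      exact this
    obtain ⟨R₁, hKR₁, hidx⟩ : ∃ R₁ : Subgroup R, K ≤ R₁ ∧ R₁.index = 2 := by
      obtain ⟨k, hk⟩ := hR.exists_card_eq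
      obtain ⟨j, hj⟩ := (hR.to_subgroup K).exists_card_eq
      have hjk : j < k := by
        have : Nat.card K < Nat.card R :=
          lt_of_le_of_ne (card_le_card_group K) fun e => hK (eq_top_of_card_eq K e)
        rw [hk, hj] at this
        exact (Nat.pow_lt_pow_iff_right Nat.one_lt_two).mp this
      obtain ⟨R₁, hR₁, hKR₁⟩ := Sylow.exists_subgroup_card_pow_prime_le 2 (n := j) (m := k - 1)
        (by rw [hk]; exact pow_dvd_pow 2 (Nat.sub_le k 1)) K hj (by omega)
      refine ⟨R₁, hKR₁, ?_⟩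
      have := R₁.card_mul_index
      rw [hR₁, hk, ← Nat.sub_add_cancel (show 1 ≤ k by omega), pow_succ, Nat.add_sub_cancel] at this
      exact Nat.eq_of_mul_eq_mul_left (pow_pos two_pos _) this
    obtain ⟨g, hg⟩ : ∃ g, g ∉ R₁ := by
      by_contra hcon
      push Not at hcon
      rw [show R₁ = ⊤ from eq_top_iff.mpr fun x _ => hcon x, index_top] at hidx
      omega
    set F := (Finset.univ.filter (· ∈ R₁)).image (· • o) with hF
    set F' := F.image (g • ·) with hF'
    have hmemR : ∀ r : R, r ∈ R₁ ∨ g⁻¹ * r ∈ R₁ := by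
      intro r
      by_cases hr : r ∈ R₁
      · exact Or.inl hr
      · refine Or.inr ((mul_mem_iff_of_index_two hidx).mpr ?_)
        exact iff_of_false (fun h => hg (by simpa using inv_mem h)) hr
    have hmemF : ∀ x, x ∈ F ↔ ∃ r ∈ R₁, r • o = x := by
      intro x; simp [hF]
    set w := ∑ x ∈ F, f x with hw
    have hwfix : ∀ r ∈ R₁, τ r w = w := by
      intro r hr
      rw [hw, map_sum]
      simp only [← hf]
      refine Finset.sum_bij (fun x _ => r • x) (fun x hx => ?_) (fun x _ y _ e => ?_)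
        (fun x hx => ?_) (fun x _ => rfl)
      · obtain ⟨r', hr', rfl⟩ := (hmemF x).mp hx
        exact (hmemF _).mpr ⟨r * r', mul_mem hr hr', mul_smul _ _ _⟩
      · exact smul_left_cancel r e
      · obtain ⟨r', hr', rfl⟩ := (hmemF x).mp hx
        exact ⟨(r⁻¹ * r') • o, (hmemF _).mpr ⟨_, mul_mem (inv_mem hr) hr', rfl⟩,
          by simp [smul_smul]⟩
    have hsub : F ∪ F' ⊆ s := by
      intro x hx
      rcases Finset.mem_union.mp hx with hx | hx
      · obtain ⟨r, -, rfl⟩ := (hmemF x).mp hx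
        exact hinv o ho r
      · obtain ⟨y, hy, rfl⟩ := Finset.mem_image.mp hx
        obtain ⟨r, -, rfl⟩ := (hmemF y).mp hy
        exact hinv _ (hinv o ho r) g
    have hdisj : Disjoint F F' := by
      rw [Finset.disjoint_left]
      intro x hx hx'
      obtain ⟨r, hr, rfl⟩ := (hmemF x).mp hx
      obtain ⟨y, hy, e⟩ := Finset.mem_image.mp hx'
      obtain ⟨r', hr', rfl⟩ := (hmemF y).mp hy
      refine hg ?_
      have h1 : r⁻¹ * (g * r') ∈ K := by
        rw [MulAction.mem_stabilizer_iff, mul_smul, mul_smul, inv_smul_eq_iff]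
        exact e
      have h2 := mul_mem (mul_mem hr (hKR₁ h1)) (inv_mem hr')
      simpa [mul_assoc] using h2
    have hFsum : ∑ x ∈ F ∪ F', f x = 0 := by
      rw [Finset.sum_union hdisj, hF',
        Finset.sum_image (fun x _ y _ e => smul_left_cancel g e)]
      simp only [hf]
      rw [← map_sum, ← hw, hfix R₁ hidx w hwfix g]
      exact hA2 w
    have hclosed : ∀ x ∈ F ∪ F', ∀ r : R, r • x ∈ F ∪ F' := by
      intro x hx r
      obtain ⟨r', rfl⟩ : ∃ r' : R, r' • o = x := by
        rcases Finset.mem_union.mp hx with hx | hx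
        · obtain ⟨r', -, e⟩ := (hmemF x).mp hx; exact ⟨r', e⟩
        · obtain ⟨y, hy, rfl⟩ := Finset.mem_image.mp hx
          obtain ⟨r', -, rfl⟩ := (hmemF y).mp hy
          exact ⟨g * r', mul_smul _ _ _⟩
      rw [smul_smul]
      rcases hmemR (r * r') with h | h
      · exact Finset.mem_union_left _ ((hmemF _).mpr ⟨_, h, rfl⟩)
      · refine Finset.mem_union_right _ (Finset.mem_image.mpr ⟨(g⁻¹ * (r * r')) • o,
          (hmemF _).mpr ⟨_, h, rfl⟩, ?_⟩)
        simp [smul_smul]
    rw [← Finset.sum_sdiff hsub, hFsum, add_zero]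
    refine ih _ ?_ (fun x hx => hnf x (Finset.mem_sdiff.mp hx).1) fun x hx r => ?_
    · have hlt : (s \ (F ∪ F')).card < s.card :=
        Finset.card_lt_card ⟨Finset.sdiff_subset, fun h' => (Finset.mem_sdiff.mp (h' ho)).2
          (Finset.mem_union_left _ ((hmemF o).mpr ⟨1, one_mem _, one_smul _ _⟩))⟩
      omega
    · obtain ⟨hxs, hxO⟩ := Finset.mem_sdiff.mp hx
      refine Finset.mem_sdiff.mpr ⟨hinv x hxs r, fun hO => hxO ?_⟩
      simpa using hclosed _ hO r⁻¹

/-- **Glauberman**: for the prime two without `S₄` sections, a central element of `S` fixed by all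
proper overgroups of `S` is central when `J(S)` is not normal. -/
theorem central_of_four_free {X : Type*} [Group X] [Finite X]
    (hfree : ¬ Cfsg.Involves (Equiv.Perm (Fin 4)) X) (S : Sylow 2 X) (x : X)
    (hxS : x ∈ (S : Subgroup X)) (hxc : x ∈ centralizer ((S : Subgroup X) : Set X))
    (hxQ : x ∈ Cfsg.pCore 2 X) (hJ : normalizer (JAb 0 (S : Subgroup X) : Set X) ≠ ⊤)
    (hK : ∀ K : Subgroup X, K ≠ ⊤ → (S : Subgroup X) ≤ K → ∀ k ∈ K, k * x = x * k)
    (t : X) : t * x = x * t := by
  classical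
  haveI : Fact (Nat.Prime 2) := ⟨by norm_num⟩
  haveI := LocalEvenA.pCore_normal' 2 X
  obtain ⟨A, hA, hAQ, hZA⟩ := exists_maxAb_normalized_by S hJ
  set Q := Cfsg.pCore 2 X with hQ
  set Z := Q ⊓ centralizer ((Q : Subgroup X) : Set X) with hZ
  haveI : Z.Normal := inferInstance
  have hQS : Q ≤ (S : Subgroup X) := pCore_le_sylow S
  have hZc : ∀ a ∈ Z, ∀ b ∈ Z, Commute a b := fun a ha b hb =>
    mem_centralizer_iff.mp hb.2 a ha.1
  let V : Subgroup X :=
    { carrier := {v | v ∈ Z ∧ v * v = 1}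
      one_mem' := ⟨one_mem _, one_mul 1⟩
      mul_mem' := fun {a b} ha hb => ⟨mul_mem ha.1 hb.1, by
        rw [(hZc b hb.1 a ha.1).mul_mul_mul_comm, ha.2, hb.2, one_mul]⟩
      inv_mem' := fun {a} ha => ⟨inv_mem ha.1, by rw [← mul_inv_rev, ha.2, inv_one]⟩ }
  haveI : V.Normal := ⟨fun v hv g => ⟨(inferInstance : Z.Normal).conj_mem v hv.1 g, by
    rw [show g * v * g⁻¹ * (g * v * g⁻¹) = g * (v * v) * g⁻¹ by group, hv.2]; group⟩⟩
  have hVZ : V ≤ Z := fun v hv => hv.1
  set C := centralizer (V : Set X) with hC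
  have hQC : Q ≤ C := fun q hq => mem_centralizer_iff.mpr fun v hv =>
    (mem_centralizer_iff.mp (hVZ hv).2 q hq).symm
  have hVS : V ≤ (S : Subgroup X) := fun v hv => hQS (hVZ hv).1
  have hAc : ∀ a ∈ A, ∀ b ∈ A, Commute a b := fun a ha b hb => AbExp.commute hA.2.1 ha hb
  -- the statement for one step
  suffices step : ∀ y ∈ Z ⊓ centralizer ((S : Subgroup X) : Set X),
      (∀ K : Subgroup X, K ≠ ⊤ → (S : Subgroup X) ≤ K → ∀ k ∈ K, k * y = y * k) →
      (∀ g : X, g * y * g⁻¹ * y⁻¹ ∈ V) → ∀ g : X, g * y = y * g by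
    have hxZ : x ∈ Z := ⟨hxQ, centralizer_le hQS hxc⟩
    obtain ⟨n, hn⟩ := S.2 ⟨x, hxS⟩
    have hn' : x ^ 2 ^ n = 1 := by simpa using congrArg Subtype.val hn
    suffices H : ∀ j, j ≤ n → ∀ g : X, g * x ^ 2 ^ (n - j) = x ^ 2 ^ (n - j) * g by
      simpa using H n le_rfl t
    intro j
    induction j with
    | zero => intro _ g; simp [hn']
    | succ j ih =>
      intro hj
      refine step _ ⟨pow_mem hxZ _, pow_mem hxc _⟩
        (fun K hK' hS k hk => (Commute.pow_right (hK K hK' hS k hk) _).eq) fun g => ?_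
      set y := x ^ 2 ^ (n - (j + 1)) with hy
      have hy2 : g * (y * y) = y * y * g := by
        have e : y * y = x ^ 2 ^ (n - j) := by
          rw [hy, ← pow_add, show n - j = n - (j + 1) + 1 by omega, pow_succ, Nat.mul_two]
        rw [e]
        exact ih (by omega) g
      have h1 : g * y * g⁻¹ ∈ Z := (inferInstance : Z.Normal).conj_mem y (pow_mem hxZ _) g
      have h2 : y⁻¹ ∈ Z := inv_mem (pow_mem hxZ _)
      refine ⟨mul_mem h1 h2, ?_⟩
      rw [(hZc _ h2 _ h1).mul_mul_mul_comm, show g * y * g⁻¹ * (g * y * g⁻¹) = g * (y * y) * g⁻¹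
        by group, hy2, mul_inv_cancel_right]
      group
  intro y hy hKy hyV
  by_contra hcon
  have hne : ¬ (⊤ : Subgroup X) ≤ centralizer {y} := fun h => hcon fun g =>
    (mem_centralizer_iff.mp (h (mem_top g)) y rfl).symm
  have hKy' : ∀ K : Subgroup X, K ≠ ⊤ → (S : Subgroup X) ≤ K → K ≤ centralizer {y} :=
    fun K hK' hS k hk => mem_centralizer_iff.mpr fun z hz => by
      rw [Set.mem_singleton_iff.mp hz]; exact (hKy K hK' hS k hk).symm
  have hodd : ∀ (N : Subgroup X) [N.Normal], (S : Subgroup X) ⊓ N ≤ centralizer {y} →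
      ¬ 2 ∣ (centralizer {y}).relIndex N := by
    intro N _ hle hd
    obtain ⟨T, hT⟩ := LocalEvenA.exists_sylow_subgroupOf_normal S N
    refine T.not_dvd_index (hd.trans ?_)
    rw [hT]
    exact index_dvd_of_le fun k hk => mem_subgroupOf.mpr (hle ⟨hk, k.2⟩)
  have hScy : (S : Subgroup X) ≤ centralizer {y} := fun s hs => mem_centralizer_iff.mpr fun z hz =>
    by rw [Set.mem_singleton_iff.mp hz]; exact (mem_centralizer_iff.mp hy.2 s hs).symm
  -- `C(V)` fixes `y`
  have hCy : C ≤ centralizer {y} := by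
    let ψ : C →* X := MonoidHom.mk' (fun c => (c : X) * y * (c : X)⁻¹ * y⁻¹) fun a b => by
      have h1 := mem_centralizer_iff.mp a.2 _ (hyV (b : X))
      rw [Subgroup.coe_mul]
      calc (a : X) * b * y * ((a : X) * b)⁻¹ * y⁻¹
          = (a : X) * ((b : X) * y * (b : X)⁻¹ * y⁻¹) * (a : X)⁻¹ *
            ((a : X) * y * (a : X)⁻¹ * y⁻¹) := by group
        _ = _ := by
          rw [← h1, mul_inv_cancel_right]
          exact (hZc _ (hVZ (hyV _)) _ (hVZ (hyV _))).eq
    have hker : ψ.ker = (centralizer {y}).subgroupOf C := by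
      ext c
      rw [MonoidHom.mem_ker, mem_subgroupOf, mem_centralizer_iff]
      simp only [ψ, MonoidHom.mk'_apply, Set.mem_singleton_iff, forall_eq, mul_inv_eq_one,
        mul_inv_eq_iff_eq_mul, one_mul]
      exact eq_comm
    have hVp : IsPGroup 2 ψ.range := (S.2.to_le hVS).to_le (by rintro _ ⟨c, rfl⟩; exact hyV c)
    obtain ⟨k, hk⟩ := hVp.exists_card_eq
    have hidx : (centralizer {y}).relIndex C = 2 ^ k := by rw [relIndex, ← hker, index_ker, hk]
    rcases k with _ | k
    · exact relIndex_eq_one.mp (by simpa using hidx)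
    · exact absurd (hidx ▸ dvd_pow_self 2 k.succ_ne_zero) (hodd C (inf_le_left.trans hScy))
  -- normal subgroups that are 2-groups modulo `C(V)` meet `S` in `O₂`
  have hred : ∀ (N : Subgroup X) [N.Normal], C ≤ N → IsPGroup 2 (N.map (QuotientGroup.mk' C)) →
      (S : Subgroup X) ⊓ N ≤ Q := by
    intro N _ hCN hNp
    by_contra hnQ
    refine hne ?_
    have hN₀ : normalizer (((S : Subgroup X) ⊓ N : Subgroup X) : Set X) ≠ ⊤ := fun h =>
      hnQ (le_pCore_of_normalizer S.2.to_inf_left h)
    obtain ⟨T, hT⟩ := LocalEvenA.exists_sylow_subgroupOf_normal S N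
    have hfr := Sylow.normalizer_sup_eq_top T
    rw [hT, subgroupOf_map_subtype] at hfr
    rw [← hfr, sup_le_iff]
    refine ⟨hKy' _ hN₀ fun s hs => mem_normalizer_iff.mpr fun a => ?_, ?_⟩
    · rw [mem_inf, mem_inf]
      refine and_congr (mem_normalizer_iff.mp (le_normalizer hs) a) ?_
      exact mem_normalizer_iff.mp (by rw [normalizer_eq_top]; trivial) a
    · obtain ⟨k, hk⟩ := hNp.exists_card_eq
      have hd : (centralizer {y}).relIndex N ∣ 2 ^ k := by
        refine (relIndex_dvd_of_le_left N hCy).trans ?_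
        rw [← hk, relIndex, index_eq_card]
        refine dvd_of_eq (Nat.card_congr ?_)
        exact (((QuotientGroup.quotientMulEquivOfEq (show C.subgroupOf N =
          ((QuotientGroup.mk' C).comp N.subtype).ker by ext; simp [mem_subgroupOf])).trans
          (QuotientGroup.quotientKerEquivRange _)).trans
          (MulEquiv.subgroupCongr (by rw [MonoidHom.range_comp, range_subtype]))).toEquiv
      obtain ⟨i, -, hi⟩ := (Nat.dvd_prime_pow (by norm_num)).mp hd
      rcases i with _ | i
      · exact relIndex_eq_one.mp (by simpa using hi)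
      · exact absurd (hi ▸ dvd_pow_self 2 i.succ_ne_zero) (hodd N (inf_le_left.trans hScy))
  have hSC : (S : Subgroup X) ⊓ C ≤ Q := hred C le_rfl (by
    rw [QuotientGroup.map_mk'_self]; exact IsPGroup.of_bot)
  -- the minimal offender
  set A₀ := A ⊓ C with hA₀
  let P : Subgroup X → Prop := fun B => B ≤ A ∧ A₀ ≤ B ∧ ¬ B ≤ C ∧
    Nat.card A₀ * Nat.card V ≤ Nat.card B * Nat.card (V ⊓ centralizer (B : Set X) : Subgroup X)
  have hPA : P A := by
    refine ⟨le_rfl, inf_le_left, fun h => hAQ fun a ha => hSC ⟨hA.1 ha, h ha⟩, ?_⟩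
    have hVn : A₀ ≤ normalizer (V : Set X) := le_normalizer_of_normal
    have hab : AbExp 0 (V ⊔ A₀ : Subgroup X) := by
      refine ⟨⟨⟨fun u v => Subtype.ext ?_⟩⟩, fun a _ => pow_zero a⟩
      obtain ⟨a, ha, b, hb, hu⟩ := (Basics.mem_sup_of_le_normalizer hVn).mp u.2
      obtain ⟨c, hc, d, hd, hv⟩ := (Basics.mem_sup_of_le_normalizer hVn).mp v.2
      rw [Subgroup.coe_mul, Subgroup.coe_mul, hu, hv]
      have h1 : Commute a d := mem_centralizer_iff.mp hd.2 a ha
      have h2 : Commute b c := (mem_centralizer_iff.mp hb.2 c hc).symm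
      exact (((hZc a (hVZ ha) c (hVZ hc)).mul_right h1).mul_left
        (h2.mul_right (hAc b hb.1 d hd.1))).eq
    have hle := hA.2.2 _ (sup_le hVS (inf_le_left.trans hA.1)) hab
    have hprod := Basics.card_mul_card_eq_card_sup_mul_card_inf (N := V) hVn
    have hinf : Nat.card (V ⊓ A₀ : Subgroup X) ≤
        Nat.card (V ⊓ centralizer (A : Set X) : Subgroup X) :=
      card_le_of_le fun v hv => ⟨hv.1, mem_centralizer_iff.mpr fun a ha => hAc a ha v hv.2.1⟩
    rw [mul_comm, hprod]
    exact Nat.mul_le_mul hle hinf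
  obtain ⟨B, ⟨hBA, hB₀, hBC, hBcard⟩, hmin⟩ :=
    wellFounded_lt.has_min {B : Subgroup X | P B} ⟨A, hPA⟩
  have hBS : B ≤ (S : Subgroup X) := hBA.trans hA.1
  -- hyperplanes have the centralizer of `B`
  have hhyp : ∀ M : Subgroup X, M ≤ B → M.relIndex B = 2 →
      ∀ v ∈ V, v ∈ centralizer (M : Set X) → v ∈ centralizer (B : Set X) := by
    intro M hMB hM2 v hv hvM
    have hcardB : Nat.card B = 2 * Nat.card M := by
      rw [← hM2, mul_comm, ← relIndex_bot_left, ← relIndex_bot_left,
        relIndex_mul_relIndex _ _ _ bot_le hMB]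
    by_cases hA₀M : A₀ ≤ M
    · by_cases hMC : M ≤ C
      · exfalso
        have hMeq : M = A₀ := le_antisymm (le_inf (hMB.trans hBA) hMC) hA₀M
        obtain ⟨b, hbB, hbC⟩ := SetLike.not_le_iff_exists.mp hBC
        set CV := V ⊓ centralizer (B : Set X)
        have hhalf : Nat.card V ≤ 2 * Nat.card CV := by
          refine Nat.le_of_mul_le_mul_left (hBcard.trans_eq ?_) (Nat.card_pos (α := A₀))
          rw [hcardB, hMeq]; ring
        obtain ⟨v₀, hv₀V, hv₀⟩ : ∃ v₀ ∈ V, b * v₀ * b⁻¹ ≠ v₀ := by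
          by_contra hcon'
          push Not at hcon'
          exact hbC (mem_centralizer_iff.mpr fun w hw =>
            (mul_inv_eq_iff_eq_mul.mp (hcon' w hw)).symm)
        have hCV : CV.relIndex V = 2 := by
          have hmul : CV.relIndex V * Nat.card CV = Nat.card V := by
            rw [← relIndex_bot_left, ← relIndex_bot_left, mul_comm,
              relIndex_mul_relIndex _ _ _ bot_le inf_le_left]
          have hne1 : CV.relIndex V ≠ 1 := fun h => hv₀ (by
            have := (relIndex_eq_one.mp h hv₀V).2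
            rw [mem_centralizer_iff.mp this b hbB, mul_inv_cancel_right])
          have h0 : CV.relIndex V ≠ 0 := (index_ne_zero_of_finite : (CV.subgroupOf V).index ≠ 0)
          have : CV.relIndex V ≤ 2 := Nat.le_of_mul_le_mul_right (hmul ▸ hhalf) Nat.card_pos
          omega
        set u := b * v₀ * b⁻¹ * v₀⁻¹ with hu
        have huV : u ∈ V :=
          mul_mem ((inferInstance : V.Normal).conj_mem v₀ hv₀V b) (inv_mem hv₀V)
        have hb : ∀ w ∈ V, b * w * b⁻¹ = w ∨ b * w * b⁻¹ = u * w := by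
          intro w hw
          by_cases hwC : w ∈ CV
          · left
            rw [mem_centralizer_iff.mp hwC.2 b hbB, mul_inv_cancel_right]
          · right
            have hvC : v₀⁻¹ * w ∈ CV := by
              have h1 : (⟨v₀, hv₀V⟩ : V)⁻¹ * ⟨w, hw⟩ ∈ CV.subgroupOf V := by
                rw [mul_mem_iff_of_index_two hCV, inv_mem_iff, mem_subgroupOf, mem_subgroupOf]
                refine iff_of_false (fun h => hv₀ ?_) hwC
                rw [mem_centralizer_iff.mp h.2 b hbB, mul_inv_cancel_right]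
              exact h1
            have h2 : b * (v₀⁻¹ * w) * b⁻¹ = v₀⁻¹ * w := by
              rw [mem_centralizer_iff.mp hvC.2 b hbB, mul_inv_cancel_right]
            calc b * w * b⁻¹ = b * v₀ * b⁻¹ * (b * (v₀⁻¹ * w) * b⁻¹) := by group
              _ = u * w := by rw [h2, hu]; group
        have hbu : b * u * b⁻¹ = u := by
          rcases hb u huV with h | h
          · exact h
          · rw [huV.2] at h
            have : u = 1 := by
              have := congrArg (fun z => b⁻¹ * z * b) h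
              simpa [mul_assoc] using this
            exact absurd (mul_inv_eq_one.mp this) hv₀
        have hmk := mk_mem_pCore_of_transvection hfree V (fun a ha c hc => hZc a ha.1 c hc.1)
          (fun a ha => ha.2) b u huV hbu hb
        haveI := LocalEvenA.pCore_normal' 2 (X ⧸ C)
        have := hred ((Cfsg.pCore 2 (X ⧸ C)).comap (QuotientGroup.mk' C))
          (fun c hc => by
            rw [mem_comap, QuotientGroup.mk'_apply, (QuotientGroup.eq_one_iff c).mpr hc]
            exact one_mem _)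
          (by
            rw [map_comap_eq_self_of_surjective (QuotientGroup.mk'_surjective _)]
            exact LocalEvenA.pCore_isPGroup' 2 _) ⟨hBS hbB, hmk⟩
        exact hbC (hQC this)
      · have hnP : ¬ P M := fun h => hmin M h (lt_of_le_of_ne hMB fun e => by
          rw [e, relIndex_self] at hM2; omega)
        have hlt : Nat.card M * Nat.card (V ⊓ centralizer (M : Set X) : Subgroup X) <
            Nat.card A₀ * Nat.card V := by
          by_contra hh
          exact hnP ⟨hMB.trans hBA, hA₀M, hMC, not_lt.mp hh⟩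
        have h2 : Nat.card (V ⊓ centralizer (M : Set X) : Subgroup X) <
            2 * Nat.card (V ⊓ centralizer (B : Set X) : Subgroup X) := by
          have := hlt.trans_le hBcard
          rw [hcardB, mul_comm 2, mul_assoc] at this
          exact Nat.lt_of_mul_lt_mul_left this
        have hle : V ⊓ centralizer (B : Set X) ≤ V ⊓ centralizer (M : Set X) :=
          inf_le_inf_left _ (centralizer_le hMB)
        obtain ⟨i, hi⟩ := card_dvd_of_le hle
        have hi1 : i = 1 := by
          rw [hi, mul_comm 2] at h2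
          have := Nat.lt_of_mul_lt_mul_left h2
          have h0 : i ≠ 0 := fun h => by
            rw [h, mul_zero] at hi; exact Nat.card_pos.ne' hi
          omega
        rw [hi1, mul_one] at hi
        have := eq_of_le_of_card_ge hle hi.le
        exact (this.ge ⟨hv, hvM⟩).2
    · -- `B = M A₀`
      obtain ⟨a, ha, haM⟩ := SetLike.not_le_iff_exists.mp hA₀M
      refine mem_centralizer_iff.mpr fun b hb => ?_
      have hbm : b ∈ M ∨ a⁻¹ * b ∈ M := by
        by_cases hbM : b ∈ M
        · exact Or.inl hbM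
        · right
          have h1 : (⟨a, hB₀ ha⟩ : B)⁻¹ * ⟨b, hb⟩ ∈ M.subgroupOf B := by
            rw [mul_mem_iff_of_index_two hM2, inv_mem_iff, mem_subgroupOf, mem_subgroupOf]
            exact iff_of_false haM hbM
          exact h1
      rcases hbm with h | h
      · exact mem_centralizer_iff.mp hvM b h
      · have h1 : Commute a v := (mem_centralizer_iff.mp ha.2 v hv).symm
        have h2 : Commute (a⁻¹ * b) v := mem_centralizer_iff.mp hvM _ h
        have := h1.mul_left h2
        rwa [mul_inv_cancel_left] at this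
  -- orbit sums
  set gens : Set X := {w | ∃ s : X, cj s B ≤ (S : Subgroup X) ∧ w ∈ cj s B}
  set R := closure gens with hRdef
  have hRS : R ≤ (S : Subgroup X) := (closure_le _).mpr fun w ⟨s, hs, hw⟩ => hs hw
  have hBR : B ≤ R := fun b hb => subset_closure
    ⟨1, by rwa [cj_eq_of_mem (one_mem B)], by rwa [cj_eq_of_mem (one_mem B)]⟩
  set M₀ := normalizer (R : Set X) with hM₀
  have hM₀t : ∀ g : X, (∀ w ∈ gens, g⁻¹ * w * g ∈ (S : Subgroup X)) → g⁻¹ ∈ M₀ := by
    intro g hg
    refine cj_eq_iff.mp (eq_of_le_of_card_ge ?_ (cj_card g⁻¹ R).ge)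
    rw [hRdef, cj, MonoidHom.map_closure, closure_le]
    rintro _ ⟨w, ⟨s, hs, hw⟩, rfl⟩
    refine subset_closure ⟨g⁻¹ * s, ?_, ?_⟩
    · intro z hz
      rw [cj_mul] at hz
      obtain ⟨z', hz', rfl⟩ := hz
      simpa using hg z' ⟨s, hs, hz'⟩
    · rw [cj_mul]
      exact mem_map_of_mem _ hw
  have hM₀top : M₀ ≠ ⊤ := fun h => hBC fun b hb =>
    hQC (le_pCore_of_normalizer (S.2.to_le hRS) h (hBR hb))
  have hSM₀ : (S : Subgroup X) ≤ M₀ := fun s hs => by
    have := hM₀t s fun w ⟨r, hr, hw⟩ => mul_mem (mul_mem (inv_mem hs) (hr hw)) hs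
    simpa using inv_mem this
  letI : CommGroup V :=
    { (inferInstance : Group V) with
      mul_comm := fun a b => Subtype.ext (hZc a (hVZ a.2) b (hVZ b.2)) }
  haveI : Fintype (X ⧸ (S : Subgroup X)) := Fintype.ofFinite _
  let F : X → Additive V := fun g => Additive.ofMul ⟨g * y * g⁻¹ * y⁻¹, hyV g⟩
  let τ : X → Additive V →+ Additive V := fun g =>
    MonoidHom.toAdditive (MulAut.conjNormal g : MulAut V).toMonoidHom
  have hFmul : ∀ g k : X, F (g * k) = τ g (F k) + F g := by
    intro g k
    refine congrArg Additive.ofMul (Subtype.ext ?_)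
    show g * k * y * (g * k)⁻¹ * y⁻¹ =
      ((MulAut.conjNormal g (⟨k * y * k⁻¹ * y⁻¹, hyV k⟩ : V) : V) : X) * (g * y * g⁻¹ * y⁻¹)
    rw [MulAut.conjNormal_apply]
    group
  have hFS : ∀ s ∈ (S : Subgroup X), F s = 0 := by
    intro s hs
    refine congrArg Additive.ofMul (Subtype.ext ?_)
    show s * y * s⁻¹ * y⁻¹ = 1
    rw [mem_centralizer_iff.mp hy.2 s hs]
    group
  let f : X ⧸ (S : Subgroup X) → Additive V := fun q => F q.out
  have hrep : ∀ g : X, f (g : X ⧸ (S : Subgroup X)) = F g := by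
    intro g
    obtain ⟨s, hs⟩ := QuotientGroup.mk_out_eq_mul (S : Subgroup X) g
    show F _ = F g
    rw [hs, hFmul, hFS s s.2, map_zero, zero_add]
  have hf : ∀ (g : X) o, f (g • o) = τ g (f o) + F g := by
    intro g o
    induction o using QuotientGroup.induction_on with
    | H k =>
      rw [hrep k, ← hFmul]
      exact hrep (g * k)
  have h2 : ∀ a : Additive V, a + a = 0 := fun a =>
    congrArg Additive.ofMul (Subtype.ext (Additive.toMul a).2.2 :
      Additive.toMul a * Additive.toMul a = 1)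
  have hτmul : ∀ (g k : X) a, τ (g * k) a = τ g (τ k a) := fun g k a => by
    show Additive.ofMul (MulAut.conjNormal (g * k) (Additive.toMul a)) =
      Additive.ofMul (MulAut.conjNormal g (MulAut.conjNormal k (Additive.toMul a)))
    rw [map_mul]
    rfl
  have hsum := sum_eq_sum_fixed_two (R := R) (O := X ⧸ (S : Subgroup X)) (S.2.to_le hRS) h2
    (fun r => τ (r : X)) f
    (fun r o => by rw [show r • o = (r : X) • o from rfl, hf, hFS _ (hRS r.2), add_zero])
    (by
      intro R₁ hR₁ a ha
      obtain ⟨w, ⟨s, hs, hws⟩, hwR⟩ : ∃ w : R, (w : X) ∈ gens ∧ w ∉ R₁ := by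
        by_contra hcon'
        push Not at hcon'
        have h1 : (⊤ : Subgroup R) ≤ R₁ := by
          rw [← closure_closure_coe_preimage (k := gens), closure_le]
          exact fun w hw => hcon' w hw
        rw [top_le_iff.mp h1, index_top] at hR₁
        omega
      have hsB : cj s B ≤ R := fun z hz => subset_closure ⟨s, hs, hz⟩
      set M := cj s⁻¹ (cj s B ⊓ R₁.map R.subtype) with hM
      have hMB : M ≤ B := by
        rw [hM]
        exact (cj_le_cj.mpr inf_le_left).trans (cj_inv_cj s B).le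
      have hM2 : M.relIndex B = 2 := by
        have e : M.relIndex B =
            (cj s⁻¹ (cj s B ⊓ R₁.map R.subtype)).relIndex (cj s⁻¹ (cj s B)) := by
          rw [cj_inv_cj]
        rw [e, cj_relIndex, inf_relIndex_left]
        have hsub : (R₁.map R.subtype).relIndex (cj s B) = R₁.relIndex ((cj s B).subgroupOf R) := by
          conv_lhs => rw [← inf_eq_left.mpr hsB, ← subgroupOf_map_subtype]
          exact relIndex_map_map_of_injective _ _ R.subtype_injective
        rw [hsub]
        have hd : R₁.relIndex ((cj s B).subgroupOf R) ∣ 2 := by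
          haveI : R₁.Normal := normal_of_index_eq_two hR₁
          exact hR₁ ▸ relIndex_dvd_index_of_normal R₁ _
        rcases (Nat.dvd_prime (by norm_num)).mp hd with h | h
        · exact absurd (relIndex_eq_one.mp h (mem_subgroupOf.mpr hws)) hwR
        · exact h
      have hav : ((Additive.toMul a : V) : X) ∈ V := (Additive.toMul a).2
      have hconj : ∀ g : X, ((Additive.toMul (τ g a) : V) : X) =
          g * ((Additive.toMul a : V) : X) * g⁻¹ := fun g => by
        show ((MulAut.conjNormal g (Additive.toMul a) : V) : X) = _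
        rw [MulAut.conjNormal_apply]
      have hcomm : ∀ g : X, τ g a = a → Commute g ((Additive.toMul a : V) : X) := fun g hg => by
        have h := hconj g
        rw [hg] at h
        exact mul_inv_eq_iff_eq_mul.mp h.symm
      have hv := hhyp M hMB hM2 (s⁻¹ * ((Additive.toMul a : V) : X) * s)
        (by simpa using (inferInstance : V.Normal).conj_mem _ hav s⁻¹)
        (mem_centralizer_iff.mpr fun m hm => by
          obtain ⟨z, ⟨-, z', hz', rfl⟩, rfl⟩ := hm
          have hz := hcomm _ (ha z' hz')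
          simp only [MulEquiv.coe_toMonoidHom, MulAut.conj_apply, inv_inv]
          have := hz.map (MulAut.conj s⁻¹).toMonoidHom
          simpa [mul_assoc] using this.eq)
      have hw' : τ (w : X) a = a := by
        apply Additive.toMul.injective
        apply Subtype.ext
        rw [hconj]
        have h3 := mem_centralizer_iff.mp hv (s⁻¹ * (w : X) * s) (mem_cj.mp hws)
        have h4 := (show Commute (s⁻¹ * (w : X) * s) (s⁻¹ * ((Additive.toMul a : V) : X) * s) from h3).map
          (MulAut.conj s).toMonoidHom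
        have h5 : Commute (w : X) ((Additive.toMul a : V) : X) := by simpa [mul_assoc] using h4
        rw [h5.eq, mul_inv_cancel_right]
      intro r
      by_cases hr : r ∈ R₁
      · exact ha r hr
      · have h6 : w⁻¹ * r ∈ R₁ := (mul_mem_iff_of_index_two hR₁).mpr
          (iff_of_false (fun h => hwR (by simpa using inv_mem h)) hr)
        show τ (r : X) a = a
        rw [show (r : X) = (w : X) * ((w⁻¹ * r : R) : X) by simp, hτmul]
        exact (congrArg (τ (w : X)) (ha _ h6)).trans hw')
  have hfx : ∀ o ∈ (Finset.univ.filter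
      (· ∈ MulAction.fixedPoints R (X ⧸ (S : Subgroup X)))), f o = 0 := by
    intro o ho
    induction o using QuotientGroup.induction_on with
    | H g =>
      have hgM : g ∈ M₀ := by
        have := hM₀t g fun w hw => by
          have h1 : ((w * g : X) : X ⧸ (S : Subgroup X)) = g :=
            (Finset.mem_filter.mp ho).2 ⟨w, subset_closure hw⟩
          simpa [mul_assoc] using (S : Subgroup X).inv_mem (QuotientGroup.eq.mp h1)
        simpa using inv_mem this
      rw [hrep]
      refine congrArg Additive.ofMul (Subtype.ext ?_)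
      show g * y * g⁻¹ * y⁻¹ = 1
      rw [hKy M₀ hM₀top hSM₀ g hgM]
      group
  rw [Finset.sum_eq_zero hfx] at hsum
  apply hcon
  intro g
  have h4 : ∑ o, f (g • o) = 0 := (Equiv.sum_comp (MulAction.toPerm g) f).trans hsum
  rw [Finset.sum_congr rfl fun o _ => hf g o, Finset.sum_add_distrib, ← map_sum, hsum, map_zero,
    zero_add, Finset.sum_const, Finset.card_univ] at h4
  obtain ⟨k, hk⟩ : Odd (Fintype.card (X ⧸ (S : Subgroup X))) := by
    rw [← Nat.not_even_iff_odd, even_iff_two_dvd, ← Nat.card_eq_fintype_card]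
    exact S.not_dvd_index
  rw [hk, succ_nsmul, mul_nsmul, two_nsmul, h2, nsmul_zero, zero_add] at h4
  have h5 : g * y * g⁻¹ * y⁻¹ = 1 := congrArg Subtype.val (congrArg Additive.toMul h4)
  exact mul_inv_eq_iff_eq_mul.mp (mul_inv_eq_one.mp h5)

/-- **Weakly closed central elements**: an element of `S` in the centre of `N(J(S))` is weakly
closed in `S` when `p` is odd, or it is a `p`-th power in `Z(S)`, or `S₄` is not involved. -/
theorem conj_eq_of_center_normalizer_J (S : Sylow p G) (x : G) (hxS : x ∈ (S : Subgroup G))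
    (hxN : x ∈ centralizer
      ((normalizer (JAb 0 (S : Subgroup G) : Set G) : Subgroup G) : Set G))
    (h : p ≠ 2 ∨ (∃ z ∈ (S : Subgroup G) ⊓ centralizer ((S : Subgroup G) : Set G), z ^ p = x) ∨
      ¬ Cfsg.Involves (Equiv.Perm (Fin 4)) G)
    (g : G) (hg : g * x * g⁻¹ ∈ (S : Subgroup G)) : g * x * g⁻¹ = x := by
  rcases eq_or_ne x 1 with rfl | hx1
  · simp
  replace h : p ≠ 2 ∨ (∃ z ∈ (S : Subgroup G) ⊓ centralizer ((S : Subgroup G) : Set G), z ^ p = x) ∨
      (p = 2 ∧ ¬ Cfsg.Involves (Equiv.Perm (Fin 4)) G) := by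
    by_cases hp2 : p = 2
    · rcases h with h | h | h
      exacts [Or.inl h, Or.inr (Or.inl h), Or.inr (Or.inr ⟨hp2, h⟩)]
    · exact Or.inl hp2
  have hW : Cfsg.IsConjugacyFunctor p (fun P : Subgroup G => JAb 0 P) := isConjugacyFunctor_JAb_zero
  have hxc : x ∈ centralizer ((S : Subgroup G) : Set G) :=
    centralizer_le (fun s hs => self_le_normalizer_functor hW S.2 hs) hxN
  have key : g ∈ centralizer ({x} : Set G) := by
    refine weakClosure_induction (fun P : Subgroup G => JAb 0 P) hW
      (fun P _ => center_le_JAb_zero P) {x} (centralizer {x}) ?_ ⟨x, rfl, hx1⟩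
      (fun T => (∃ z ∈ (S : Subgroup G) ⊓ centralizer ((S : Subgroup G) : Set G), z ^ p = x) →
        ∃ z ∈ T ⊓ centralizer (T : Set G), z ^ p = x) ?_ ?_ ⊤ (S : Subgroup G)
      (isSylIn_top S) ?_ (fun h => h) ?_ g trivial ?_
    · intro n hn
      rw [cS, Set.image_singleton, ← mem_centralizer_iff.mp hn x rfl, mul_inv_cancel_right]
    · intro T U hT hUT _ hz
      obtain ⟨z, hz, hzx⟩ := hT hz
      refine ⟨z, ⟨⟨hz.1, centralizer_le_normalizer _ (centralizer_le hUT hz.2)⟩, ?_⟩, hzx⟩
      exact centralizer_le (fun y hy => hy.1) hz.2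
    · intro H T hT hB hA hQ hN hK
      by_cases hW' : H ≤ normalizer (JAb 0 T : Set G)
      · exact le_trans (le_inf le_rfl hW') hN
      obtain ⟨P, hP⟩ := exists_sylow_of_isSylIn hT
      have hJP : (JAb 0 (P : Subgroup ↥H)).map H.subtype = JAb 0 T := by
        rw [map_JAb _ H.subtype H.subtype_injective.injOn, hP, subgroupOf_map_subtype,
          inf_eq_left.mpr hT.1]
      have hJne : normalizer (JAb 0 (P : Subgroup ↥H) : Set ↥H) ≠ ⊤ := fun htop => hW' (by
        intro y hy
        rw [← hJP]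
        exact le_normalizer_map H.subtype
          (mem_map_of_mem H.subtype (htop ▸ mem_top (⟨y, hy⟩ : ↥H))))
      have hxT := hB rfl
      set x' : ↥H := ⟨x, hT.1 hxT.1⟩ with hx'
      have hxP : x' ∈ (P : Subgroup ↥H) := by rw [hP]; exact hxT.1
      have hxPc : x' ∈ centralizer ((P : Subgroup ↥H) : Set ↥H) := mem_centralizer_iff.mpr
        fun s hs => Subtype.ext (mem_centralizer_iff.mp hxT.2 (s : G) (by rw [hP] at hs; exact hs))
      have hxQ : x' ∈ Cfsg.pCore p ↥H := (mem_pCoreOf_iff x').mp (hQ rfl)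
      have hK' : ∀ K : Subgroup ↥H, K ≠ ⊤ → (P : Subgroup ↥H) ≤ K → ∀ k ∈ K, k * x' = x' * k :=
        fun K hKt hSK k hk => by
          obtain ⟨h1, h2, h3⟩ := map_proper hT.1 hP hKt hSK
          exact Subtype.ext (mem_centralizer_iff.mp (hK _ h1 h2 h3 ⟨k, hk, rfl⟩) x rfl).symm
      intro w hw
      have hquad : ∀ A : Subgroup ↥H, IsMaxAbIn 0 (P : Subgroup ↥H) A →
          Cfsg.pCore p ↥H ⊓ centralizer ((Cfsg.pCore p ↥H : Subgroup ↥H) : Set ↥H) ≤
            normalizer (A : Set ↥H) → ∀ a ∈ A,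
          ⁅⁅Cfsg.pCore p ↥H ⊓ centralizer ((Cfsg.pCore p ↥H : Subgroup ↥H) : Set ↥H), zpowers a⁆,
            zpowers a⁆ = ⊥ := by
        intro A hA hZA a ha
        refine le_bot_iff.mp (le_trans (commutator_mono (commutator_le.mpr fun z hz c hc => ?_)
          (zpowers_le.mpr ha)) (le_of_eq (commutator_eq_bot_iff_le_centralizer.mpr
          (le_centralizer_iff_isMulCommutative.mpr hA.2.1.1))))
        have hcA := zpowers_le.mpr ha hc
        rw [commutatorElement_def]
        exact mul_mem ((mem_normalizer_iff.mp (hZA hz) c).mp hcA) (inv_mem hcA)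
      rcases h with hodd | hz | ⟨rfl, hfree⟩
      · obtain ⟨A, hA, hAQ, hZA⟩ := exists_maxAb_normalized_by P hJne
        obtain ⟨a, haA, haQ⟩ := SetLike.not_le_iff_exists.mp hAQ
        refine mem_centralizer_iff.mpr fun z hz => ?_
        rw [Set.mem_singleton_iff.mp hz]
        have := central_of_orbit P x' hxP hxPc hxQ hK' a (hA.1 haA) haQ (fun U V hUV hU u hu => by
          have h2 : (del a)^[2] u ∈ (⊥ : Subgroup ↥H) := by
            rw [← hquad A hA hZA a haA]
            exact iterate_del_mem_iterCommutator (hU hu) (mem_zpowers a) 2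
          obtain ⟨j, hj⟩ : ∃ j, p - 1 = j + 2 := ⟨p - 3, by
            have := hp.out.two_le; omega⟩
          have hfix : ∀ m, (del a)^[m] (1 : ↥H) = 1 := by
            intro m
            induction m with
            | zero => rfl
            | succ m ih => rw [Function.iterate_succ_apply', ih]; simp [del]
          rw [hj, Function.iterate_add_apply, mem_bot.mp h2, hfix]
          exact one_mem V) ⟨w, hw⟩
        exact (congrArg Subtype.val this).symm
      · obtain ⟨z, hz, hzx⟩ := hA hz
        obtain ⟨A, hA', hAQ, hZA⟩ := exists_maxAb_normalized_by P hJne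
        obtain ⟨a, haA, haQ⟩ := SetLike.not_le_iff_exists.mp hAQ
        refine mem_subgroupOf.mp (stabilized_of_quadratic P {x'} ((centralizer {x}).subgroupOf H)
          ?_ ?_ (Set.singleton_subset_iff.mpr hxQ) ?_ a (hA'.1 haA) haQ (hquad A hA' hZA a haA)
          (mem_top ⟨w, hw⟩))
        · intro c hc
          refine mem_subgroupOf.mpr (mem_centralizer_iff.mpr fun b hb => ?_)
          rw [Set.mem_singleton_iff.mp hb]
          exact congrArg Subtype.val (mem_centralizer_iff.mp hc x' rfl)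
        · rintro _ rfl
          refine ⟨⟨z, hT.1 hz.1⟩, ⟨by rw [hP]; exact hz.1, mem_centralizer_iff.mpr fun s hs => ?_⟩,
            Subtype.ext (by simpa [hx'] using hzx)⟩
          exact Subtype.ext (mem_centralizer_iff.mp hz.2 (s : G) (by rw [hP] at hs; exact hs))
        · intro K hKt hSK k hk
          refine mem_subgroupOf.mpr (mem_centralizer_iff.mpr fun b hb => ?_)
          rw [Set.mem_singleton_iff.mp hb]
          exact (congrArg Subtype.val (hK' K hKt hSK k hk)).symm
      · refine mem_centralizer_iff.mpr fun z hz => ?_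
        rw [Set.mem_singleton_iff.mp hz]
        have := central_of_four_free (fun hI => hfree (SL2Dickson.involves_of_subgroup H hI)) P
          x' hxP hxPc hxQ hJne hK' ⟨w, hw⟩
        exact (congrArg Subtype.val this).symm
    · exact Set.singleton_subset_iff.mpr ⟨hxS, hxc⟩
    · intro k hk
      refine mem_centralizer_iff.mpr fun z hz => ?_
      rw [Set.mem_singleton_iff.mp hz]
      exact (mem_centralizer_iff.mp hxN k hk.2).symm
    · rintro _ ⟨_, rfl, rfl⟩
      exact hg
  rw [← mem_centralizer_iff.mp key x rfl, mul_inv_cancel_right]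

/-- If each element of `Z(S)` is weakly closed then `C(Z(S))` controls strong fusion in `S`. -/
theorem exists_centralizer_center_conj (S : Sylow p G)
    (h : ∀ z ∈ (S : Subgroup G) ⊓ centralizer ((S : Subgroup G) : Set G), ∀ g : G,
      g * z * g⁻¹ ∈ (S : Subgroup G) → g * z * g⁻¹ = z)
    (A : Set G) (g : G) (hA : A ⊆ (S : Subgroup G))
    (hgA : (fun a => g * a * g⁻¹) '' A ⊆ (S : Subgroup G)) :
    ∃ n ∈ centralizer (((S : Subgroup G) ⊓ centralizer ((S : Subgroup G) : Set G) : Subgroup G) :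
      Set G), ∀ a ∈ A, n * a * n⁻¹ = g * a * g⁻¹ := by
  set Z := (S : Subgroup G) ⊓ centralizer ((S : Subgroup G) : Set G)
  set K := centralizer A with hK
  have hZK : Z ≤ K := fun z hz => mem_centralizer_iff.mpr fun a ha =>
    mem_centralizer_iff.mp hz.2 a (hA ha)
  have hZ' : cj g⁻¹ Z ≤ K := by
    rintro _ ⟨z, hz, rfl⟩
    refine mem_centralizer_iff.mpr fun a ha => ?_
    have h1 : Commute (g * a * g⁻¹) z := mem_centralizer_iff.mp hz.2 _ (hgA ⟨a, ha, rfl⟩)
    have h2 := h1.map (MulAut.conj g⁻¹).toMonoidHom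
    simpa [mul_assoc] using h2.eq
  have hZp : IsPGroup p Z := S.2.to_inf_left
  obtain ⟨T, hT, hZT⟩ := exists_isSylIn_ge hZK hZp
  obtain ⟨c, hc, hcT⟩ := exists_conj_le_of_isSylIn hT hZ' (cj_isPGroup _ hZp)
  obtain ⟨P, hP⟩ := hT.2.1.exists_le_sylow
  obtain ⟨k, hk⟩ := MulAction.exists_smul_eq G S P
  have hmemP : ∀ w ∈ (P : Subgroup G), k⁻¹ * w * k ∈ (S : Subgroup G) := by
    intro w hw
    rw [← hk, Sylow.coe_subgroup_smul] at hw
    have := Subgroup.mem_pointwise_smul_iff_inv_smul_mem.mp hw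
    simpa [MulAut.smul_def] using this
  refine ⟨g * c⁻¹, mem_centralizer_iff.mpr fun z hz => ?_, fun a ha => ?_⟩
  · have h1 := h z hz k⁻¹ (by simpa using hmemP z (hP (hZT hz)))
    have h2 := h z hz (k⁻¹ * (c * g⁻¹)) (by
      have hw : c * g⁻¹ * z * (c * g⁻¹)⁻¹ ∈ (P : Subgroup G) := hP (hcT (by
        refine ⟨g⁻¹ * z * g, ⟨z, hz, by simp⟩, ?_⟩
        simp [mul_assoc]))
      simpa [mul_assoc] using hmemP _ hw)
    have h3 : c * g⁻¹ * z * (c * g⁻¹)⁻¹ = z := by
      calc c * g⁻¹ * z * (c * g⁻¹)⁻¹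
          = k * (k⁻¹ * (c * g⁻¹) * z * (k⁻¹ * (c * g⁻¹))⁻¹) * k⁻¹ := by group
        _ = k * z * k⁻¹ := by rw [h2]
        _ = k * (k⁻¹ * z * k⁻¹⁻¹) * k⁻¹ := by rw [h1]
        _ = z := by group
    calc z * (g * c⁻¹) = g * c⁻¹ * (c * g⁻¹ * z * (c * g⁻¹)⁻¹) := by group
      _ = g * c⁻¹ * z := by rw [h3]
  · have h5 : c * a = a * c := (mem_centralizer_iff.mp hc a ha).symm
    calc g * c⁻¹ * a * (g * c⁻¹)⁻¹ = g * c⁻¹ * (a * c) * g⁻¹ := by group
      _ = g * a * g⁻¹ := by rw [← h5]; group

end Cfsg.Agent.Transfer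

namespace Cfsg.Agent.Transfer

open Subgroup ConjFunctor

variable {G : Type*} [Group G] [Finite G] {p : ℕ} [hp : Fact p.Prime]

/-- If `N(J(S))` has a normal `p`-complement, `Z(S)` lies in its centre. -/
theorem center_le_centralizer_normalizer_J (S : Sylow p G)
    (hN : Cfsg.HasNormalPComplement p ↥(normalizer (JAb 0 (S : Subgroup G) : Set G))) :
    (S : Subgroup G) ⊓ centralizer ((S : Subgroup G) : Set G) ≤
      centralizer ((normalizer (JAb 0 (S : Subgroup G) : Set G) : Subgroup G) : Set G) := by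
  intro z hz
  set J := JAb 0 (S : Subgroup G) with hJdef
  set N := normalizer (J : Set G) with hNdef
  have hSN : (S : Subgroup G) ≤ N :=
    fun s hs => self_le_normalizer_functor (isConjugacyFunctor_JAb_zero (G := G)) S.2 hs
  have hzJ : z ∈ J := center_le_JAb_zero _ hz
  let P : Sylow p ↥N := S.subtype hSN
  have key : (⊤ : Subgroup ↥N) ≤ (centralizer ({z} : Set G)).subgroupOf N := by
    rw [← pResidual_sup_sylow P, sup_le_iff]
    refine ⟨(closure_le _).mpr fun g hg => ?_, fun s hs => ?_⟩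
    · have h1 := centralizes_of_hasNormalPComplement hN (J.subgroupOf N)
        ((S.2.to_le (JAb_le _)).comap_subtype) g
        (by
          haveI : (J.subgroupOf N).Normal := normal_subgroupOf_of_le_normalizer le_rfl
          rw [normalizer_eq_top]
          exact mem_top g) hg
      refine mem_subgroupOf.mpr (mem_centralizer_iff.mpr fun w hw => ?_)
      rw [Set.mem_singleton_iff.mp hw]
      exact congrArg Subtype.val (mem_centralizer_iff.mp h1
        ⟨z, le_normalizer hzJ⟩ (mem_subgroupOf.mpr hzJ))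
    · refine mem_subgroupOf.mpr (mem_centralizer_iff.mpr fun w hw => ?_)
      rw [Set.mem_singleton_iff.mp hw]
      exact (mem_centralizer_iff.mp hz.2 (s : G) hs).symm
  refine mem_centralizer_iff.mpr fun n hn => ?_
  exact (mem_centralizer_iff.mp (key (mem_top (⟨n, hn⟩ : ↥N))) z rfl).symm

/-- **Thompson's criterion**: a normal `p`-complement in `C(Z(S))` and in `N(J(S))` gives one in
`G` when `p` is odd or `S₄` is not involved. -/
theorem hasNormalPComplement_of_center_of_J (S : Sylow p G)
    (h : p ≠ 2 ∨ ¬ Cfsg.Involves (Equiv.Perm (Fin 4)) G)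
    (hC : Cfsg.HasNormalPComplement p ↥(centralizer (((S : Subgroup G) ⊓
      centralizer ((S : Subgroup G) : Set G) : Subgroup G) : Set G)))
    (hN : Cfsg.HasNormalPComplement p ↥(normalizer (JAb 0 (S : Subgroup G) : Set G))) :
    Cfsg.HasNormalPComplement p G := by
  refine hasNormalPComplement_of_fusion S fun x hx g hg => ?_
  set Z := (S : Subgroup G) ⊓ centralizer ((S : Subgroup G) : Set G)
  obtain ⟨n, hn, hnx⟩ := exists_centralizer_center_conj S (fun z hz g' hg' =>
      conj_eq_of_center_normalizer_J S z hz.1 (center_le_centralizer_normalizer_J S hN hz)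
        (h.imp id Or.inr) g' hg') {x} g⁻¹
    (Set.singleton_subset_iff.mpr hx) (by rintro _ ⟨_, rfl, rfl⟩; rw [SetLike.mem_coe]; simpa using hg)
  have hnx' : n * x * n⁻¹ = g⁻¹ * x * g := by simpa using hnx x rfl
  have hSC : (S : Subgroup G) ≤ centralizer (Z : Set G) := fun s hs =>
    mem_centralizer_iff.mpr fun z hz => (mem_centralizer_iff.mp hz.2 s hs).symm
  obtain ⟨s, hs, hsx⟩ := fusion_of_hasNormalPComplement (S.subtype hSC) hC ⟨x, hSC hx⟩ hx
    ⟨n, hn⟩⁻¹ (show (n⁻¹)⁻¹ * x * n⁻¹ ∈ (S : Subgroup G) by rw [inv_inv, hnx']; exact hg)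
  refine ⟨(s : G), hs, ?_⟩
  have h2 : (s : G)⁻¹ * x * (s : G) = (n⁻¹)⁻¹ * x * n⁻¹ := congrArg Subtype.val hsx
  rw [h2, inv_inv, hnx']

end Cfsg.Agent.Transfer
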