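import Mathlib
import Cfsg.Agent.Lib.Transfer.WeakClosureJ

/-!
# Central elements in constrained groups

The cores of the weak closure theorems for groups in which `C(O_p) ≤ O_p`, one of them relative
to a strongly closed subgroup `D` of a Sylow subgroup.
-/

set_option autoImplicit false
set_option linter.style.haveILetI false
set_option linter.unusedSectionVars false

namespace Cfsg.Agent.Transfer

open Subgroup ConjFunctor
open scoped commutatorElement Pointwise

variable {X : Type*} [Group X] [Finite X] {p : ℕ} [hp : Fact p.Prime]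

/-- The orbit argument with the chief factors taken inside a normal subgroup containing `x`. -/
theorem central_of_orbit_within (S : Sylow p X) (x : X) (hxS : x ∈ (S : Subgroup X)) (N : Subgroup X)
    [N.Normal] (hxN : x ∈ N)
    (hxc : x ∈ centralizer ((S : Subgroup X) : Set X)) (hxQ : x ∈ Cfsg.pCore p X)
    (hK : ∀ K : Subgroup X, K ≠ ⊤ → (S : Subgroup X) ≤ K → ∀ k ∈ K, k * x = x * k)
    (g : X) (hgS : g ∈ (S : Subgroup X)) (hgQ : g ∉ Cfsg.pCore p X)
    (hg : ∀ U V : Subgroup X, Cfsg.IsChiefFactor U V → U ≤ Cfsg.pCore p X ⊓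
      centralizer ((Cfsg.pCore p X : Subgroup X) : Set X) ⊓ N → ∀ u ∈ U, (del g)^[p - 1] u ∈ V)
    (y : X) : y * x = x * y := by
  classical
  haveI := LocalEvenA.pCore_normal' p X
  set Q := Cfsg.pCore p X with hQ
  set Z := Q ⊓ centralizer ((Q : Subgroup X) : Set X) ⊓ N with hZdef
  set Y₀ := normalClosure (Set.range fun t : X => t * x * t⁻¹ * x⁻¹)
  have hxZ : x ∈ Z := ⟨⟨hxQ, mem_centralizer_iff.mpr fun w hw =>
    mem_centralizer_iff.mp hxc w (pCore_le_sylow S hw)⟩, hxN⟩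
  have hY₀Z : Y₀ ≤ Z := normalClosure_le_normal (by
    rintro _ ⟨t, rfl⟩
    exact Z.mul_mem ((inferInstance : Z.Normal).conj_mem x hxZ t) (Z.inv_mem hxZ))
  have hmemY : ∀ t : X, t * x * t⁻¹ * x⁻¹ ∈ Y₀ := fun t => subset_normalClosure ⟨t, rfl⟩
  by_cases hne : Y₀ = ⊥
  · have := hmemY y
    rw [hne, mem_bot, mul_inv_eq_one, mul_inv_eq_iff_eq_mul] at this
    exact this
  exfalso
  obtain ⟨V, hUV⟩ := exists_chief_below normalClosure_normal hne
  haveI := hUV.2.1
  haveI := hUV.2.2.1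
  have hYp : IsPGroup p Y₀ := (LocalEvenA.pCore_isPGroup' p X).to_le fun w hw => (hY₀Z hw).1.1
  haveI : IsMulCommutative (↥Y₀ ⧸ V.subgroupOf Y₀) := by
    refine Normal.quotient_commutative_iff_commutator_le.mpr ?_
    rw [← map_le_map_iff_of_injective Y₀.subtype_injective, map_subtype_commutator,
      subgroupOf_map_subtype]
    exact le_inf (chief_commutator_self hUV hYp) (commutator_le_self _)
  open scoped IsMulCommutative in
  letI : CommGroup (↥Y₀ ⧸ V.subgroupOf Y₀) := inferInstance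
  haveI : Fintype (X ⧸ (S : Subgroup X)) := Fintype.ofFinite _
  let F : X → Additive (↥Y₀ ⧸ V.subgroupOf Y₀) := fun t =>
    Additive.ofMul (QuotientGroup.mk ⟨t * x * t⁻¹ * x⁻¹, hmemY t⟩)
  have hF : ∀ t : X, ∀ s ∈ (S : Subgroup X), F (t * s) = F t := by
    intro t s hs
    refine congrArg Additive.ofMul (congrArg QuotientGroup.mk (Subtype.ext ?_))
    show t * s * x * (t * s)⁻¹ * x⁻¹ = t * x * t⁻¹ * x⁻¹
    rw [mul_assoc t, mem_centralizer_iff.mp hxc s hs]
    group
  let f : X ⧸ (S : Subgroup X) → Additive (↥Y₀ ⧸ V.subgroupOf Y₀) := fun q => F q.out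
  have hrep : ∀ t : X, f (t : X ⧸ (S : Subgroup X)) = F t := by
    intro t
    obtain ⟨s, hs⟩ := QuotientGroup.mk_out_eq_mul (S : Subgroup X) t
    show F _ = F t
    rw [hs, hF t s s.2]
  obtain ⟨M, hM, hSM, hMt⟩ := exists_proper_of_conjugates S hgS hgQ
  set gens : Set X := {w | w ∈ (S : Subgroup X) ∧ ∃ s, s * g * s⁻¹ = w}
  set R := closure gens
  have hRS : R ≤ (S : Subgroup X) := (closure_le _).mpr fun w hw => hw.1
  have h0 : ∀ w ∈ R.subtype ⁻¹' gens, ∀ o : X ⧸ (S : Subgroup X),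
      ∑ i ∈ Finset.range p, f (w ^ i • o) = 0 := by
    intro w hw o
    induction o using QuotientGroup.induction_on with
    | H t =>
      obtain ⟨s, hs⟩ := hw.2
      have hdel : ∀ u ∈ Y₀, (del (w : X))^[p - 1] u ∈ V := by
        intro u hu
        have h1 := hg Y₀ V hUV hY₀Z (s⁻¹ * u * s)
          (by simpa using hUV.2.1.conj_mem u hu s⁻¹)
        have h2 := hUV.2.2.1.conj_mem _ h1 s
        rw [← iterate_del_conj] at h2
        rw [show (w : X) = s * g * s⁻¹ from hs.symm]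
        simpa [mul_assoc] using h2
      have h3 := congrArg Additive.ofMul (prod_conj_eq_one hUV hYp (w : X) hdel
        (QuotientGroup.mk' (V.subgroupOf Y₀))
        (fun u hu => (QuotientGroup.eq_one_iff u).mpr (mem_subgroupOf.mpr hu))
        ⟨t * x * t⁻¹ * x⁻¹, hmemY t⟩)
      rw [ofMul_prod] at h3
      refine (Finset.sum_congr rfl fun i _ => ?_).trans h3
      have e : f (w ^ i • (t : X ⧸ (S : Subgroup X))) = F ((w : X) ^ i * t) := hrep _
      rw [e]
      refine congrArg Additive.ofMul (congrArg QuotientGroup.mk (Subtype.ext ?_))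
      show (w : X) ^ i * t * x * ((w : X) ^ i * t)⁻¹ * x⁻¹ =
        (w : X) ^ i * (t * x * t⁻¹ * x⁻¹) * ((w : X) ^ i)⁻¹
      have hc : ((w : X) ^ i)⁻¹ * x⁻¹ = x⁻¹ * ((w : X) ^ i)⁻¹ := by
        rw [← mul_inv_rev, ← mul_inv_rev]
        exact congrArg (·⁻¹)
          (mem_centralizer_iff.mp hxc _ ((S : Subgroup X).pow_mem hw.1 i)).symm
      simp only [mul_assoc, mul_inv_rev, hc]
  have hsum := sum_eq_sum_fixed (S.2.to_le hRS) (R.subtype ⁻¹' gens)
    closure_closure_coe_preimage f h0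
  have hfx : ∀ o ∈ (Finset.univ.filter
      (· ∈ MulAction.fixedPoints (↥R) (X ⧸ (S : Subgroup X)))), f o = 0 := by
    intro o ho
    induction o using QuotientGroup.induction_on with
    | H t =>
      have htM : t ∈ M := hMt t fun w hw1 hw2 => by
        have h1 : ((w * t : X) : X ⧸ (S : Subgroup X)) = t :=
          (Finset.mem_filter.mp ho).2 ⟨w, subset_closure ⟨hw1, hw2⟩⟩
        simpa [mul_assoc] using (S : Subgroup X).inv_mem (QuotientGroup.eq.mp h1)
      rw [hrep]
      refine congrArg Additive.ofMul ((QuotientGroup.eq_one_iff _).mpr (mem_subgroupOf.mpr ?_))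
      show t * x * t⁻¹ * x⁻¹ ∈ V
      rw [hK M hM hSM t htM, mul_inv_cancel_right, mul_inv_cancel]
      exact one_mem _
  rw [Finset.sum_eq_zero hfx] at hsum
  -- translating the sum
  apply hUV.1.not_ge
  refine normalClosure_le_normal ?_
  rintro _ ⟨z, rfl⟩
  let τ : (↥Y₀ ⧸ V.subgroupOf Y₀) →* (↥Y₀ ⧸ V.subgroupOf Y₀) :=
    QuotientGroup.map _ _ (MulAut.conjNormal z).toMonoidHom fun v hv => by
      rw [mem_comap, mem_subgroupOf]
      show ((MulAut.conjNormal z v : ↥Y₀) : X) ∈ V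
      rw [MulAut.conjNormal_apply]
      exact ‹V.Normal›.conj_mem _ (mem_subgroupOf.mp hv) z
  have hz : ∀ o : X ⧸ (S : Subgroup X), f (z • o) = MonoidHom.toAdditive τ (f o) + F z := by
    intro o
    induction o using QuotientGroup.induction_on with
    | H t =>
      rw [hrep]
      refine (hrep (z * t)).trans ?_
      show Additive.ofMul _ = Additive.ofMul _
      refine congrArg Additive.ofMul ((congrArg QuotientGroup.mk (Subtype.ext ?_)).trans
        (QuotientGroup.mk_mul _ _ _))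
      show z * t * x * (z * t)⁻¹ * x⁻¹ =
        ((MulAut.conjNormal z ⟨t * x * t⁻¹ * x⁻¹, hmemY t⟩ : ↥Y₀) : X) * (z * x * z⁻¹ * x⁻¹)
      rw [MulAut.conjNormal_apply]
      group
  have h4 : ∑ o, f (z • o) = 0 :=
    (Equiv.sum_comp (MulAction.toPerm z) f).trans hsum
  rw [Finset.sum_congr rfl fun o _ => hz o, Finset.sum_add_distrib, ← map_sum, hsum, map_zero,
    zero_add, Finset.sum_const, Finset.card_univ] at h4
  obtain ⟨k, hk⟩ := (hYp.to_quotient (V.subgroupOf Y₀)) (Additive.toMul (F z))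
  have h5 : Additive.toMul (F z) = 1 := Components.eq_one_of_pow_prime_pow_of_coprime
    ((hp.out.coprime_iff_not_dvd.mpr S.not_dvd_index).symm) hk (by
      have := congrArg Additive.toMul h4
      rw [index, Nat.card_eq_fintype_card]
      exact this)
  exact mem_subgroupOf.mp ((QuotientGroup.eq_one_iff _).mp h5)

theorem iterate_del_one (a : X) : ∀ m, (del a)^[m] (1 : X) = 1
  | 0 => rfl
  | m + 1 => by rw [Function.iterate_succ_apply', iterate_del_one a m]; simp [del]

/-- For odd `p` an element acting quadratically on `Z(O_p) ∩ N` suffices. -/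
theorem central_of_quadratic (hodd : p ≠ 2) (S : Sylow p X) (x : X) (hxS : x ∈ (S : Subgroup X))
    (N : Subgroup X) [N.Normal] (hxN : x ∈ N) (hxc : x ∈ centralizer ((S : Subgroup X) : Set X))
    (hxQ : x ∈ Cfsg.pCore p X)
    (hK : ∀ K : Subgroup X, K ≠ ⊤ → (S : Subgroup X) ≤ K → ∀ k ∈ K, k * x = x * k)
    (g : X) (hgS : g ∈ (S : Subgroup X)) (hgQ : g ∉ Cfsg.pCore p X)
    (hg : ⁅⁅Cfsg.pCore p X ⊓ centralizer ((Cfsg.pCore p X : Subgroup X) : Set X) ⊓ N, zpowers g⁆,
      zpowers g⁆ = ⊥) (t : X) : t * x = x * t := by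
  refine central_of_orbit_within S x hxS N hxN hxc hxQ hK g hgS hgQ (fun U V _ hU u hu => ?_) t
  have h2 : (del g)^[2] u ∈ (⊥ : Subgroup X) := by
    rw [← hg]
    exact iterate_del_mem_iterCommutator (hU hu) (mem_zpowers g) 2
  obtain ⟨j, hj⟩ : ∃ j, p - 1 = j + 2 := ⟨p - 3, by have := hp.out.two_le; omega⟩
  rw [hj, Function.iterate_add_apply, mem_bot.mp h2, iterate_del_one]
  exact one_mem V

/-- A subgroup acting with `[Z, A] ≤ A` acts quadratically when abelian. -/
theorem quadratic_of_normalized {Z A : Subgroup X} (hA : IsMulCommutative A)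
    (hZA : Z ≤ normalizer (A : Set X)) {a : X} (ha : a ∈ A) :
    ⁅⁅Z, zpowers a⁆, zpowers a⁆ = ⊥ := by
  refine le_bot_iff.mp (le_trans (commutator_mono (commutator_le.mpr fun z hz c hc => ?_)
    (zpowers_le.mpr ha)) (le_of_eq (commutator_eq_bot_iff_le_centralizer.mpr
    (le_centralizer_iff_isMulCommutative.mpr hA))))
  have hcA := zpowers_le.mpr ha hc
  rw [commutatorElement_def]
  exact mul_mem ((mem_normalizer_iff.mp (hZA hz) c).mp hcA) (inv_mem hcA)

/-- A central element that is a `p`-th power in `Z(S)`. -/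
theorem central_of_pow (S : Sylow p X) (x : X) (hxQ : x ∈ Cfsg.pCore p X)
    (hz : ∃ z ∈ (S : Subgroup X) ⊓ centralizer ((S : Subgroup X) : Set X), z ^ p = x)
    (hK : ∀ K : Subgroup X, K ≠ ⊤ → (S : Subgroup X) ≤ K → ∀ k ∈ K, k * x = x * k)
    (g : X) (hgS : g ∈ (S : Subgroup X)) (hgQ : g ∉ Cfsg.pCore p X)
    (hg : ⁅⁅Cfsg.pCore p X ⊓ centralizer ((Cfsg.pCore p X : Subgroup X) : Set X), zpowers g⁆,
      zpowers g⁆ = ⊥) (t : X) : t * x = x * t := by
  have h := stabilized_of_quadratic S {x} (centralizer {x}) le_rfl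
    (by rintro _ rfl; exact hz) (Set.singleton_subset_iff.mpr hxQ)
    (fun K hKt hSK k hk => mem_centralizer_iff.mpr fun b hb => by
      rw [Set.mem_singleton_iff.mp hb]; exact (hK K hKt hSK k hk).symm)
    g hgS hgQ hg (mem_top t)
  exact (mem_centralizer_iff.mp h x rfl).symm

/-- A strongly closed `D` meets `O_p` in a normal subgroup. -/
theorem normal_pCore_inf (S : Sylow p X) (D : Subgroup X)
    (hD : ∀ d ∈ D, ∀ g : X, g * d * g⁻¹ ∈ (S : Subgroup X) → g * d * g⁻¹ ∈ D) :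
    (Cfsg.pCore p X ⊓ D).Normal := by
  haveI := LocalEvenA.pCore_normal' p X
  refine ⟨fun d hd g => ?_⟩
  have h := (inferInstance : (Cfsg.pCore p X).Normal).conj_mem d hd.1 g
  exact ⟨h, hD d hd.2 g (pCore_le_sylow S h)⟩

/-- If `J(D)` is not normal, a member outside `O_p` is normalized by `Z(O_p) ∩ D`. -/
theorem exists_maxAb_normalized_by_rel (S : Sylow p X) (D : Subgroup X)
    (hDS : D ≤ (S : Subgroup X))
    (hD : ∀ d ∈ D, ∀ g : X, g * d * g⁻¹ ∈ (S : Subgroup X) → g * d * g⁻¹ ∈ D)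
    (hJ : normalizer (JAb 0 D : Set X) ≠ ⊤) :
    ∃ A, IsMaxAbIn 0 D A ∧ ¬ A ≤ Cfsg.pCore p X ∧
      Cfsg.pCore p X ⊓ centralizer ((Cfsg.pCore p X : Subgroup X) : Set X) ⊓
        (Cfsg.pCore p X ⊓ D) ≤ normalizer (A : Set X) := by
  classical
  haveI := LocalEvenA.pCore_normal' p X
  haveI := normal_pCore_inf S D hD
  set Q := Cfsg.pCore p X
  set Z := Q ⊓ centralizer ((Q : Subgroup X) : Set X) ⊓ (Q ⊓ D) with hZ
  haveI : Z.Normal := inferInstance
  have hQS : Q ≤ (S : Subgroup X) := pCore_le_sylow S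
  haveI : Fintype {A : Subgroup X // IsMaxAbIn 0 D A ∧ ¬ A ≤ Q} := Fintype.ofFinite _
  have hex : ∃ A, IsMaxAbIn 0 D A ∧ ¬ A ≤ Q := by
    by_contra hcon
    push Not at hcon
    refine hJ (top_le_iff.mp ?_)
    have h1 : JAb 0 (Q ⊓ D) = JAb 0 D :=
      JAb_eq_of_le inf_le_right (le_inf (sSup_le hcon) (JAb_le D))
    rw [← h1, ← normalizer_eq_top (H := Q ⊓ D)]
    exact normalizer_le_normalizer_JAb _
  obtain ⟨A₀, hA₀⟩ := hex
  obtain ⟨⟨A, hA, hAQ⟩, -, hmax⟩ := Finset.exists_max_image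
    (Finset.univ : Finset {A : Subgroup X // IsMaxAbIn 0 D A ∧ ¬ A ≤ Q})
    (fun A => Nat.card (A.1 ⊓ Z : Subgroup X)) ⟨⟨A₀, hA₀⟩, Finset.mem_univ _⟩
  refine ⟨A, hA, hAQ, ?_⟩
  by_contra hnot
  have hAS : A ≤ (S : Subgroup X) := hA.1.trans hDS
  have hZS : Z ≤ (S : Subgroup X) := fun z hz => hQS hz.1.1
  set A₁ := A.subgroupOf (S : Subgroup X)
  set Z₁ := Z.subgroupOf (S : Subgroup X)
  set D₁ := D.subgroupOf (S : Subgroup X)
  haveI : D₁.Normal := ⟨fun d hd s => hD d hd (s : X) (s * d * s⁻¹).2⟩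
  have hAm : A₁.map (S : Subgroup X).subtype = A := by
    rw [subgroupOf_map_subtype, inf_eq_left.mpr hAS]
  have hAc : IsMulCommutative A₁ := ⟨⟨fun a b => Subtype.ext (Subtype.ext
    (AbExp.commute hA.2.1 a.2 b.2).eq)⟩⟩
  have hZc : IsMulCommutative Z₁ := ⟨⟨fun a b => Subtype.ext (Subtype.ext
    (mem_centralizer_iff.mp (show ((b : (S : Subgroup X)) : X) ∈ Z from b.2).1.2 _
      (show ((a : (S : Subgroup X)) : X) ∈ Z from a.2).1.1))⟩⟩
  have hnot₁ : ¬ Z₁ ≤ normalizer (A₁ : Set ↥(S : Subgroup X)) := by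
    intro hle
    refine hnot fun z hz => mem_normalizer_iff_map_conj_eq.mpr ?_
    refine eq_of_le_of_card_ge ?_ (card_map_of_injective (MulAut.conj z).injective).ge
    rintro _ ⟨a, ha, rfl⟩
    exact (mem_normalizer_iff.mp (hle (show (⟨z, hZS hz⟩ : ↥(S : Subgroup X)) ∈ Z₁ from hz))
      ⟨a, hAS ha⟩).mp ha
  obtain ⟨b, hb, hbN, hbA⟩ := exists_normalizing_element S.2 Z₁ A₁ hnot₁
  obtain ⟨h1, h2, -, h4, -, -, h7, -, -, h10, -⟩ := replaced_spec S.2 Z₁ (fun _ => hZc) A₁ hAc
    (by rw [show ⁅Z₁, Z₁⁆ = ⊥ from commutator_eq_bot_iff_le_centralizer.mpr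
      (le_centralizer_iff_isMulCommutative.mpr hZc)]; exact bot_le) b hb hbN hbA
  set R := (replaced A₁ b).map (S : Subgroup X).subtype with hR
  have hRc : IsMulCommutative R := by
    refine ⟨⟨?_⟩⟩
    rintro ⟨_, a, ha, rfl⟩ ⟨_, c, hc, rfl⟩
    exact Subtype.ext (congrArg (fun w : replaced A₁ b => ((w : ↥(S : Subgroup X)) : X))
      (h2.is_comm.comm ⟨a, ha⟩ ⟨c, hc⟩) :)
  have hcard : Nat.card R = Nat.card A := by
    rw [hR, card_map_of_injective (S : Subgroup X).subtype_injective, h1,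
      ← card_map_of_injective (K := A₁) (S : Subgroup X).subtype_injective, hAm]
  have hRD : R ≤ D := by
    rintro _ ⟨r, hr, rfl⟩
    exact h10 D₁ inferInstance (fun a ha => hA.1 ha) hr
  have hRmax : IsMaxAbIn 0 D R :=
    ⟨hRD, ⟨hRc, fun a _ => pow_zero a⟩, fun C hC hCe => hcard ▸ hA.2.2 C hC hCe⟩
  by_cases hRQ : R ≤ Q
  · apply hbA
    have hbZ : (b : X) ∈ Z := hb
    have hbR : b ∈ replaced A₁ b := by
      have : (b : X) ∈ R := mem_of_commute_maxAb hRmax hbZ.2.2 (pow_zero _) fun a ha =>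
        mem_centralizer_iff.mp hbZ.1.2 a (hRQ ha)
      exact (mem_map_iff_mem (S : Subgroup X).subtype_injective).mp this
    exact h7 hbR
  · have hle := hmax ⟨R, hRmax, hRQ⟩ (Finset.mem_univ _)
    have hlt := Basics.card_lt_of_lt h4
    rw [← card_map_of_injective (K := A₁ ⊓ Z₁) (S : Subgroup X).subtype_injective,
      ← card_map_of_injective (K := replaced A₁ b ⊓ Z₁) (S : Subgroup X).subtype_injective,
      map_inf _ _ _ (S : Subgroup X).subtype_injective,
      map_inf _ _ _ (S : Subgroup X).subtype_injective, hAm, ← hR,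
      show Z₁.map (S : Subgroup X).subtype = Z by
        rw [subgroupOf_map_subtype, inf_eq_left.mpr hZS]] at hlt
    exact absurd hlt (not_lt.mpr hle)

/-- In a constrained group, centrality of `x` follows from the minimal case. -/
theorem le_centralizer_of_constrained {G : Type*} [Group G] [Finite G] (S : Sylow p G) (x : G)
    (hxS : x ∈ (S : Subgroup G)) (hxc : x ∈ centralizer ((S : Subgroup G) : Set G))
    (hC : centralizer ((Cfsg.pCore p G : Subgroup G) : Set G) ≤ Cfsg.pCore p G)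
    (W : Subgroup G) (hN : normalizer (W : Set G) ≤ centralizer ({x} : Set G))
    (step : ∀ (H : Subgroup G) (P : Sylow p ↥H), (S : Subgroup G) ≤ H →
      (P : Subgroup ↥H).map H.subtype = (S : Subgroup G) →
      centralizer ((Cfsg.pCore p ↥H : Subgroup ↥H) : Set ↥H) ≤ Cfsg.pCore p ↥H →
      ¬ H ≤ normalizer (W : Set G) → ∀ x' : ↥H, (x' : G) = x → x' ∈ (P : Subgroup ↥H) →
      x' ∈ centralizer ((P : Subgroup ↥H) : Set ↥H) → x' ∈ Cfsg.pCore p ↥H →
      (∀ K : Subgroup ↥H, K ≠ ⊤ → (P : Subgroup ↥H) ≤ K → ∀ k ∈ K, k * x' = x' * k) →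
      ∀ t : ↥H, t * x' = x' * t) :
    ∀ g : G, g * x = x * g := by
  haveI := LocalEvenA.pCore_normal' p G
  suffices h : ∀ n, ∀ H : Subgroup G, Nat.card H ≤ n → (S : Subgroup G) ≤ H →
      ∀ g ∈ H, g * x = x * g from fun g => h _ ⊤ le_rfl le_top g (mem_top g)
  intro n
  induction n with
  | zero =>
    intro H hn
    have : 0 < Nat.card H := Nat.card_pos
    omega
  | succ n ih =>
    intro H hn hSH g hg
    by_cases hW : H ≤ normalizer (W : Set G)
    · exact (mem_centralizer_iff.mp (hN (hW hg)) x rfl).symm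
    set Q := Cfsg.pCore p G
    have hQH : Q ≤ H := (pCore_le_sylow S).trans hSH
    have hQp : Q.subgroupOf H ≤ Cfsg.pCore p ↥H :=
      LocalEvenA.le_pCore_of_normal inferInstance
        ((LocalEvenA.pCore_isPGroup' p G).comap_subtype)
    have hcon : centralizer ((Cfsg.pCore p ↥H : Subgroup ↥H) : Set ↥H) ≤ Cfsg.pCore p ↥H := by
      intro c hc
      refine hQp (mem_subgroupOf.mpr (hC (mem_centralizer_iff.mpr fun q hq => ?_)))
      exact congrArg Subtype.val
        (mem_centralizer_iff.mp hc ⟨q, hQH hq⟩ (hQp (mem_subgroupOf.mpr hq)))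
    let P : Sylow p ↥H := S.subtype hSH
    have hPS : (P : Subgroup ↥H).map H.subtype = (S : Subgroup G) := by
      show ((S : Subgroup G).subgroupOf H).map H.subtype = _
      rw [subgroupOf_map_subtype, inf_eq_left.mpr hSH]
    let x' : ↥H := ⟨x, hSH hxS⟩
    have hx'c : x' ∈ centralizer ((P : Subgroup ↥H) : Set ↥H) := mem_centralizer_iff.mpr
      fun s hs => Subtype.ext (mem_centralizer_iff.mp hxc (s : G) hs)
    have hxQ : x ∈ Q := hC (centralizer_le (pCore_le_sylow S) hxc)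
    have := step H P hSH hPS hcon hW x' rfl hxS hx'c (hQp (mem_subgroupOf.mpr hxQ)) (fun K hKt hSK k hk => by
      have h3 : Nat.card (K.map H.subtype) < Nat.card H := by
        rw [card_map_of_injective H.subtype_injective]
        exact lt_of_le_of_ne (card_le_card_group K) fun e => hKt (eq_top_of_card_eq K e)
      exact Subtype.ext (ih (K.map H.subtype) (by omega)
        (hPS ▸ map_mono hSK) (k : G) ⟨k, hk, rfl⟩)) ⟨g, hg⟩
    exact congrArg Subtype.val this

/-- `W` of the whole group is not normal in `↥H` when `H` does not normalize it. -/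
theorem normalizer_ne_top_of_map {G : Type*} [Group G] {H : Subgroup G} {W : Subgroup G}
    {W' : Subgroup ↥H} (hW' : W'.map H.subtype = W) (h : ¬ H ≤ normalizer (W : Set G)) :
    normalizer (W' : Set ↥H) ≠ ⊤ := fun htop => h fun y hy => by
  rw [← hW']
  exact le_normalizer_map H.subtype
    (mem_map_of_mem H.subtype (htop ▸ mem_top (⟨y, hy⟩ : ↥H)))

/-- The centre step for `J(S)`. -/
theorem commute_of_normalizer_J {G : Type*} [Group G] [Finite G] (S : Sylow p G) (x : G)
    (hxS : x ∈ (S : Subgroup G)) (hxc : x ∈ centralizer ((S : Subgroup G) : Set G))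
    (hC : centralizer ((Cfsg.pCore p G : Subgroup G) : Set G) ≤ Cfsg.pCore p G)
    (hN : normalizer (JAb 0 (S : Subgroup G) : Set G) ≤ centralizer ({x} : Set G))
    (h : p ≠ 2 ∨ (∃ z ∈ (S : Subgroup G) ⊓ centralizer ((S : Subgroup G) : Set G), z ^ p = x) ∨
      ¬ Cfsg.Involves (Equiv.Perm (Fin 4)) G) (g : G) : g * x = x * g := by
  have h1 := conj_eq_of_center_normalizer_J S x hxS
    (mem_centralizer_iff.mpr fun n hn => (mem_centralizer_iff.mp (hN hn) x rfl).symm) h g
    (pCore_le_sylow S ((LocalEvenA.pCore_normal' p G).conj_mem x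
      (hC (centralizer_le (pCore_le_sylow S) hxc)) g))
  exact mul_inv_eq_iff_eq_mul.mp h1

/-- The centre step relative to a strongly closed subgroup, for odd `p`. -/
theorem commute_of_normalizer_ZJ_rel {G : Type*} [Group G] [Finite G] (hodd : p ≠ 2)
    (S : Sylow p G) (D : Subgroup G) (hDS : D ≤ (S : Subgroup G))
    (hD : ∀ d ∈ D, ∀ g : G, g * d * g⁻¹ ∈ (S : Subgroup G) → g * d * g⁻¹ ∈ D) (x : G)
    (hxD : x ∈ D) (hxc : x ∈ centralizer ((S : Subgroup G) : Set G))
    (hC : centralizer ((Cfsg.pCore p G : Subgroup G) : Set G) ≤ Cfsg.pCore p G)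
    (hN : normalizer (ZJAb 0 D : Set G) ≤ centralizer ({x} : Set G)) (g : G) : g * x = x * g := by
  refine le_centralizer_of_constrained S x (hDS hxD) hxc hC _ hN
    (fun H P hSH hPS _ hW x' hx' hx'P hx'c hx'Q hK t => ?_) g
  set D' := D.subgroupOf H
  have hD'm : D'.map H.subtype = D := by
    rw [subgroupOf_map_subtype, inf_eq_left.mpr (hDS.trans hSH)]
  have hmemP : ∀ d : ↥H, (d : G) ∈ (S : Subgroup G) → d ∈ (P : Subgroup ↥H) := fun d hd => by
    rw [← hPS] at hd
    exact (mem_map_iff_mem H.subtype_injective).mp hd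
  have hD'S : D' ≤ (P : Subgroup ↥H) := fun d hd => hmemP d (hDS hd)
  have hD' : ∀ d ∈ D', ∀ k : ↥H, k * d * k⁻¹ ∈ (P : Subgroup ↥H) → k * d * k⁻¹ ∈ D' :=
    fun d hd k hk => hD (d : G) hd (k : G) (hPS.le (mem_map_of_mem H.subtype hk))
  have hJ : normalizer (JAb 0 D' : Set ↥H) ≠ ⊤ := fun htop => normalizer_ne_top_of_map
    (W' := ZJAb 0 D') (by rw [map_ZJAb _ _ H.subtype_injective.injOn, hD'm]) hW
    (top_le_iff.mp fun y _ => by
      have hJy : y ∈ normalizer (JAb 0 D' : Set ↥H) := htop ▸ mem_top y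
      exact inf_normalizer_le_normalizer_inf ⟨hJy, normalizer_le_normalizer_centralizer' _ hJy⟩)
  obtain ⟨A, hA, hAQ, hZA⟩ := exists_maxAb_normalized_by_rel P D' hD'S hD' hJ
  obtain ⟨a, haA, haQ⟩ := SetLike.not_le_iff_exists.mp hAQ
  haveI := normal_pCore_inf P D' hD'
  exact central_of_quadratic hodd P x' hx'P _
    (⟨hx'Q, by show (x' : G) ∈ D; rw [hx']; exact hxD⟩ : x' ∈ Cfsg.pCore p ↥H ⊓ D') hx'c hx'Q hK a
    (hD'S (hA.1 haA)) haQ (quadratic_of_normalized hA.2.1.1 hZA haA) t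

end Cfsg.Agent.Transfer
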