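import Cfsg.Agent.Lib.LocalEvenB.FF

/-! An element of order at least four inverting part of a group of odd order moves a lot. -/

set_option autoImplicit false

namespace Cfsg.Agent.Transfer.Quartic

open Subgroup Cfsg.Agent.LocalEvenB.FF

variable {U : Type*} [CommGroup U]

theorem eq_inv_of_sq (h2 : ∀ u : U, u * u = 1) (u : U) : u⁻¹ = u :=
  inv_eq_of_mul_eq_one_right (h2 u)

theorem apply_eq (g : MulAut U) (u : U) : g u = cm g u * u := by
  rw [cm_apply, div_mul_cancel]

theorem cm_mul_self (h2 : ∀ u : U, u * u = 1) (g : MulAut U) (u : U) :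
    cm (g * g) u = cm g (cm g u) := by
  rw [cm_apply, cm_apply, cm_apply, MulAut.mul_apply, map_div]
  simp only [div_eq_mul_inv, mul_inv_rev, eq_inv_of_sq h2]
  calc g (g u) * u = g (g u) * (g u * g u) * u := by rw [h2, mul_one]
    _ = _ := by ac_rfl

theorem cm_pow_two_pow (h2 : ∀ u : U, u * u = 1) (g : MulAut U) :
    ∀ (k : ℕ) (u : U), cm (g ^ 2 ^ k) u = (⇑(cm g))^[2 ^ k] u := by
  intro k
  induction k with
  | zero => intro u; simp
  | succ k ih =>
    intro u
    rw [pow_succ, mul_two, pow_add, cm_mul_self h2, ih, ih, ← Function.iterate_add_apply]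

/-- The image of a nilpotent endomorphism with nonzero `m`-th power. -/
theorem two_pow_le_card_range [Finite U] (δ : U →* U) {m N : ℕ} (hN : ∀ u, (⇑δ)^[N] u = 1)
    (hm : ∃ u, (⇑δ)^[m] u ≠ 1) (hm1 : 1 ≤ m) : 2 ^ m ≤ Nat.card δ.range := by
  induction m, hm1 using Nat.le_induction generalizing U with
  | base =>
    obtain ⟨u, hu⟩ := hm
    rw [Function.iterate_one] at hu
    rw [pow_one, Nat.succ_le_iff, Subgroup.one_lt_card_iff_ne_bot]
    exact fun h => hu (mem_bot.mp (h ▸ (⟨u, rfl⟩ : δ u ∈ δ.range)))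
  | succ m hm1 ih =>
    obtain ⟨u, hu⟩ := hm
    set R := δ.range with hR
    let δ' : R →* R := (δ.comp R.subtype).codRestrict R fun v => ⟨(v : U), rfl⟩
    have hit : ∀ (k : ℕ) (v : R), (((⇑δ')^[k] v : R) : U) = (⇑δ)^[k] (v : U) := by
      intro k
      induction k with
      | zero => intro v; rfl
      | succ k ihk =>
        intro v
        rw [Function.iterate_succ_apply', Function.iterate_succ_apply', ← ihk]
        rfl
    have hR' : 2 ^ m ≤ Nat.card δ'.range := by
      refine ih δ' (fun v => Subtype.ext (by rw [hit]; exact hN _)) ⟨⟨δ u, u, rfl⟩, fun h => ?_⟩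
      apply hu
      rw [Function.iterate_succ_apply]
      have := congrArg Subtype.val h
      rw [hit] at this
      exact this
    obtain ⟨k, hk⟩ := Subgroup.card_subgroup_dvd_card δ'.range
    have hne : δ'.range ≠ ⊤ := by
      intro htop
      have hs : Function.Surjective δ' := MonoidHom.range_eq_top.mp htop
      have hz : ∀ v : R, v = 1 := fun v => by
        obtain ⟨w, rfl⟩ := (hs.iterate N) v
        exact Subtype.ext (by rw [hit]; exact hN _)
      apply hu
      rw [Function.iterate_succ_apply]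
      have h1 := congrArg Subtype.val (hz ⟨δ u, u, rfl⟩)
      dsimp only [OneMemClass.coe_one] at h1
      exact h1 ▸ iterate_map_one δ m
    rcases k with _ | _ | k
    · exact absurd (by rw [hk, mul_zero]) (Nat.card_pos (α := R)).ne'
    · exact absurd (Subgroup.eq_top_of_card_eq _ (by rw [hk]; simp)) hne
    · rw [hk, pow_succ]
      exact Nat.mul_le_mul hR' (by omega)

/-- An involution whose commutator image has two elements. -/
structure Tv (s : MulAut U) : Prop where
  sq : s * s = 1
  two : Nat.card (cm s).range = 2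

theorem Tv.cases {s : MulAut U} (hs : Tv s) :
    ∃ e : U, e ≠ 1 ∧ (∀ u, cm s u = 1 ∨ cm s u = e) ∧ (∃ u, cm s u = e) := by
  obtain ⟨x, y, hxy, hu⟩ := Nat.card_eq_two_iff.mp hs.two
  obtain ⟨e, he, hall⟩ : ∃ e : (cm s).range, e ≠ 1 ∧ ∀ z : (cm s).range, z = 1 ∨ z = e := by
    have hall : ∀ z : (cm s).range, z = x ∨ z = y := fun z => by
      have := hu ▸ Set.mem_univ z
      simpa using this
    rcases hall 1 with h | h
    · exact ⟨y, fun h' => hxy (h.symm.trans h'.symm), fun z => (hall z).imp (·.trans h.symm) id⟩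
    · exact ⟨x, fun h' => hxy (h'.trans h), fun z => (hall z).symm.imp (·.trans h.symm) id⟩
  obtain ⟨u, hu'⟩ := e.2
  refine ⟨e, fun h => he (Subtype.ext h), fun v => ?_, u, hu'⟩
  exact (hall ⟨cm s v, v, rfl⟩).imp (congrArg Subtype.val) (congrArg Subtype.val)

theorem Tv.fix_center {s : MulAut U} (h2 : ∀ u : U, u * u = 1) (hs : Tv s) (u : U) :
    s (cm s u) = cm s u := by
  rw [← cm_eq_one, ← cm_mul_self h2, hs.sq]
  simp [cm_apply]

theorem Tv.conj [Finite U] {s : MulAut U} (hs : Tv s) (g : MulAut U) : Tv (g * s * g⁻¹) := by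
  refine ⟨by rw [show g * s * g⁻¹ * (g * s * g⁻¹) = g * (s * s) * g⁻¹ by group, hs.sq]; simp, ?_⟩
  rw [cm_range_conj, card_map_of_injective g.injective, hs.two]

/-- Two involutions of this kind with product of odd order. -/
theorem Tv.pair (h2 : ∀ u : U, u * u = 1) {t s : MulAut U} (ht : Tv t) (hs : Tv s)
    (hodd : Odd (orderOf (t * s))) (hne : t * s ≠ 1) {e e' : U}
    (he : ∀ u, cm t u = 1 ∨ cm t u = e) (he1 : ∃ u, cm t u = e)
    (he' : ∀ u, cm s u = 1 ∨ cm s u = e') (he1' : ∃ u, cm s u = e') :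
    t e' = e * e' ∧ (t * s) ^ 3 = 1 := by
  have hte : t e = e := by obtain ⟨u, rfl⟩ := he1; exact ht.fix_center h2 u
  have hse : s e' = e' := by obtain ⟨u, rfl⟩ := he1'; exact hs.fix_center h2 u
  have sqs : ∀ a b c : U, a * b * (a * c) = b * c := fun a b c => by
    calc a * b * (a * c) = (a * a) * (b * c) := by ac_rfl
      _ = b * c := by rw [h2, one_mul]
  have h4 : (t * s) ^ 4 = 1 → False := fun h => by
    refine hne (orderOf_eq_one_iff.mp ?_)
    have hd := orderOf_dvd_of_pow_eq_one h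
    exact Nat.eq_one_of_dvd_coprimes (hodd.coprime_two_right.pow_right 2) dvd_rfl hd
  -- the commutator of the product
  set q := t * s with hq
  have hqu : ∀ u, cm q u = cm t u * cm t (cm s u) * cm s u := fun u => by
    show (t * s) u / u = _
    rw [MulAut.mul_apply, div_eq_mul_inv, apply_eq s u, map_mul, apply_eq t (cm s u), apply_eq t u]
    calc cm t (cm s u) * cm s u * (cm t u * u) * u⁻¹
        = cm t u * cm t (cm s u) * cm s u * (u * u⁻¹) := by ac_rfl
      _ = _ := by rw [mul_inv_cancel, mul_one]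
  have hct : ∀ v, t v = v → cm t v = 1 := fun v hv => cm_eq_one.mpr hv
  have hqe' : cm q e' = cm t e' := by
    rw [hqu, cm_eq_one.mpr hse, map_one, mul_one, mul_one]
  by_cases hA : t e' = e'
  · exfalso
    refine h4 ?_
    -- the fourth power fixes everything
    have hqe'1 : cm q e' = 1 := by rw [hqe', hct _ hA]
    have hts : ∀ u, cm q u = cm t u * cm s u := fun u => by
      rw [hqu]
      rcases he' u with h | h <;> rw [h]
      · rw [map_one, mul_one]
      · rw [hct _ hA, mul_one]
    have hqe : cm q e = 1 ∨ cm q e = e' := by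
      rw [hts, cm_eq_one.mpr hte, one_mul]; exact he' e
    refine MulEquiv.ext fun u => ?_
    rw [MulAut.one_apply, ← cm_eq_one, show (4 : ℕ) = 2 ^ 2 by norm_num, cm_pow_two_pow h2]
    show cm q (cm q (cm q (cm q u))) = 1
    rw [hts u]
    have k1 : ∀ v, v = 1 ∨ v = e → cm q (cm q (cm q v)) = 1 := by
      rintro v (rfl | rfl)
      · simp
      · rcases hqe with h | h <;> rw [h]
        · simp
        · rw [hqe'1, map_one]
    have k2 : ∀ v, v = 1 ∨ v = e' → cm q (cm q (cm q v)) = 1 := by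
      rintro v (rfl | rfl)
      · simp
      · rw [hqe'1, map_one, map_one]
    rw [map_mul, map_mul, map_mul, k1 _ (he u), k2 _ (he' u), mul_one]
  have hct' : cm t e' = e := (he e').resolve_left fun h => hA (cm_eq_one.mp h)
  refine ⟨by rw [apply_eq t e', hct'], ?_⟩
  have hqe'2 : cm q e' = e := by rw [hqe', hct']
  by_cases hB : s e = e
  · exfalso
    refine h4 ?_
    have hqe : cm q e = 1 := by
      rw [hqu, cm_eq_one.mpr hte, cm_eq_one.mpr hB, map_one, one_mul, mul_one]
    refine MulEquiv.ext fun u => ?_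
    rw [MulAut.one_apply, ← cm_eq_one, show (4 : ℕ) = 2 ^ 2 by norm_num, cm_pow_two_pow h2]
    show cm q (cm q (cm q (cm q u))) = 1
    have k1 : ∀ v, v = 1 ∨ v = e → cm q (cm q (cm q v)) = 1 := by
      rintro v (rfl | rfl)
      · simp
      · rw [hqe, map_one, map_one]
    have k2 : ∀ v, v = 1 ∨ v = e' → cm q (cm q (cm q v)) = 1 := by
      rintro v (rfl | rfl)
      · simp
      · rw [hqe'2, hqe, map_one]
    rw [hqu u, map_mul, map_mul, map_mul, map_mul, map_mul, map_mul, k1 _ (he u), k2 _ (he' u),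
      mul_one]
    rcases he' u with h | h <;> rw [h]
    · simp
    · rw [k1 _ (Or.inr hct'), mul_one]
  have hcs : cm s e = e' := (he' e).resolve_left fun h => hB (cm_eq_one.mp h)
  have hqe : cm q e = e * e' := by rw [hqu, cm_eq_one.mpr hte, hcs, hct', one_mul]
  have qe : q e = e' := by
    rw [apply_eq q e, hqe, mul_comm e e', mul_assoc, h2, mul_one]
  have qe' : q e' = e * e' := by rw [apply_eq q e', hqe'2]
  let ν : U →* U := MonoidHom.id U * q.toMonoidHom * (q * q).toMonoidHom
  have hν : ∀ w, ν w = w * q w * q (q w) := fun w => rfl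
  have hνe : ν e = 1 := by rw [hν, qe, qe', h2 (e * e')]
  have hνe' : ν e' = 1 := by
    rw [hν, qe', map_mul, qe, qe']
    exact h2 _
  refine MulEquiv.ext fun u => ?_
  have hu : (q ^ 3) u = u * ν (cm q u) := by
    rw [show q ^ 3 = q * q * q by simp [pow_succ], MulAut.mul_apply, MulAut.mul_apply, hν, cm_apply, map_div,
      map_div]
    simp only [div_eq_mul_inv, eq_inv_of_sq h2]
    calc q (q (q u)) = (u * u) * (q u * q u) * (q (q u) * q (q u)) * q (q (q u)) := by
          simp only [h2, one_mul]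
      _ = _ := by ac_rfl
  have hk : ν (cm q u) = 1 := by
    rw [hqu, map_mul, map_mul]
    have k : ∀ v, v = 1 ∨ v = e ∨ v = e' → ν v = 1 := by
      rintro v (rfl | rfl | rfl)
      exacts [map_one ν, hνe, hνe']
    rw [k _ ((he u).imp_right Or.inl), k _ ((he' u).imp_right Or.inr)]
    rcases he' u with h | h <;> rw [h]
    · simp
    · rw [hct', hνe, one_mul, one_mul]
  rw [hu, hk, mul_one, MulAut.one_apply]

/-- The case of order four. -/
theorem lt_card_range_four [Finite U] (h2 : ∀ u : U, u * u = 1) {Q : Subgroup (MulAut U)}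
    (hQ : ∀ g ∈ Q, Odd (orderOf g)) {a : MulAut U} (ha : a ∈ normalizer (Q : Set (MulAut U)))
    (ha4 : a ^ 4 = 1) {x : MulAut U} (hx : x ∈ Q) (hmove : (a * a) * x ≠ x * (a * a)) :
    4 < Nat.card (cm a).range := by
  by_contra hle
  push Not at hle
  have hN : ∀ u, (⇑(cm a))^[4] u = 1 := fun u => by
    have := cm_pow_two_pow h2 a 2 u
    rw [show (2 : ℕ) ^ 2 = 4 by norm_num, ha4] at this
    rw [← this]; simp [cm_apply]
  set t := a * a with htdef
  have ht1 : t ≠ 1 := fun h => hmove (by rw [h]; simp)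
  have hcm : ∀ u, cm t u = cm a (cm a u) := fun u => cm_mul_self h2 a u
  have htne : (cm t).range ≠ ⊥ := fun h => ht1 <| MulEquiv.ext fun u => by
    rw [MulAut.one_apply, ← cm_eq_one]
    exact mem_bot.mp (h ▸ (⟨u, rfl⟩ : cm t u ∈ (cm t).range))
  have htle : (cm t).range ≤ (cm a).range := by
    rintro _ ⟨u, rfl⟩
    exact ⟨cm a u, (hcm u).symm⟩
  have htlt : (cm t).range ≠ (cm a).range := by
    intro h
    have hstep : ∀ v ∈ (cm a).range, ∃ w ∈ (cm a).range, cm a w = v := by
      intro v hv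
      obtain ⟨u, hu⟩ := (h ▸ hv : v ∈ (cm t).range)
      exact ⟨cm a u, ⟨u, rfl⟩, by rw [← hcm, hu]⟩
    have hit : ∀ k : ℕ, ∀ v ∈ (cm a).range, ∃ w ∈ (cm a).range, (⇑(cm a))^[k] w = v := by
      intro k
      induction k with
      | zero => exact fun v hv => ⟨v, hv, rfl⟩
      | succ k ih =>
        intro v hv
        obtain ⟨w, hw, hwv⟩ := ih v hv
        obtain ⟨z, hz, hzw⟩ := hstep w hw
        exact ⟨z, hz, by rw [Function.iterate_succ_apply, hzw, hwv]⟩
    refine htne (eq_bot_iff.mpr fun v hv => ?_)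
    obtain ⟨w, -, hw⟩ := hit 4 v (htle hv)
    rw [hN] at hw
    exact mem_bot.mpr hw.symm
  have ht : Tv t := by
    refine ⟨by rw [htdef, show a * a * (a * a) = a ^ 4 by simp [pow_succ, mul_assoc], ha4], ?_⟩
    obtain ⟨k, hk⟩ := card_dvd_of_le htle
    have h1 : 1 < Nat.card (cm t).range := (one_lt_card_iff_ne_bot _).mpr htne
    rcases k with _ | _ | k
    · exact absurd hk (by rw [mul_zero]; exact Nat.card_pos.ne')
    · exact absurd (eq_of_le_of_card_ge htle (by rw [hk]; simp)) htlt
    · nlinarith [Nat.zero_le k]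
  have hta : t ∈ normalizer (Q : Set (MulAut U)) := mul_mem ha ha
  have htt : t⁻¹ = t := inv_eq_of_mul_eq_one_right ht.sq
  set s := x * t * x⁻¹ with hs
  have hsT : Tv s := ht.conj x
  have hss : s⁻¹ = s := inv_eq_of_mul_eq_one_right hsT.sq
  have hqQ : t * s ∈ Q := by
    have : t * x * t⁻¹ ∈ Q := (mem_normalizer_iff.mp hta x).mp hx
    rw [htt] at this
    rw [hs, show t * (x * t * x⁻¹) = (t * x * t) * x⁻¹ by group]
    exact Q.mul_mem this (Q.inv_mem hx)
  have hq1 : t * s ≠ 1 := fun h => hmove (by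
    have h' : s = t := by rw [← inv_eq_of_mul_eq_one_right h, htt]
    rw [← h', hs]
    calc x * t * x⁻¹ * x = x * t := by group
      _ = _ := by rw [← hs, h'])
  set s' := a * s * a⁻¹ with hs'
  have hs'T : Tv s' := hsT.conj a
  have hs's : s'⁻¹ = s' := inv_eq_of_mul_eq_one_right hs'T.sq
  have hata : a * t * a⁻¹ = t := by rw [htdef]; group
  have hq' : t * s' = a * (t * s) * a⁻¹ := by
    rw [hs']; conv_lhs => rw [← hata]
    group
  have hq'Q : t * s' ∈ Q := hq' ▸ (mem_normalizer_iff.mp ha _).mp hqQ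
  have hq'1 : t * s' ≠ 1 := by rw [hq']; simpa using hq1
  have hrQ : s * s' ∈ Q := by
    have := Q.mul_mem (Q.inv_mem hqQ) hq'Q
    rwa [mul_inv_rev, hss, htt, show s * t * (t * s') = s * (t * t) * s' by group, ht.sq,
      mul_one] at this
  have hr1 : s * s' ≠ 1 := fun h => by
    have hc : a * s * a⁻¹ = s := by rw [← hs', ← inv_eq_of_mul_eq_one_right h, hss]
    have hc2 : t * s = s * t := by
      rw [htdef]
      calc a * a * s = a * (a * s * a⁻¹) * a := by group
        _ = a * s * a := by rw [hc]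
        _ = (a * s * a⁻¹) * (a * a) := by group
        _ = s * (a * a) := by rw [hc]
    have hsq : (t * s) * (t * s) = 1 := by
      calc t * s * (t * s) = t * (s * t) * s := by group
        _ = t * (t * s) * s := by rw [hc2]
        _ = (t * t) * (s * s) := by group
        _ = 1 := by rw [ht.sq, hsT.sq, one_mul]
    refine hq1 (orderOf_eq_one_iff.mp ?_)
    exact Nat.eq_one_of_dvd_coprimes (hQ _ hqQ).coprime_two_right dvd_rfl
      (orderOf_dvd_of_pow_eq_one (by rw [pow_two]; exact hsq))
  obtain ⟨e, -, he, he1⟩ := ht.cases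
  obtain ⟨e', -, he', he1'⟩ := hsT.cases
  obtain ⟨e'', -, he'', he1''⟩ := hs'T.cases
  obtain ⟨h1, h13⟩ := ht.pair h2 hsT (hQ _ hqQ) hq1 he he1 he' he1'
  obtain ⟨h3, -⟩ := ht.pair h2 hs'T (hQ _ hq'Q) hq'1 he he1 he'' he1''
  obtain ⟨h5, -⟩ := hsT.pair h2 hs'T (hQ _ hrQ) hr1 he' he1' he'' he1''
  set c := s * s' * s⁻¹ with hc
  have hcT : Tv c := hs'T.conj s
  have hce : ∀ u, cm c u = 1 ∨ cm c u = s e'' := fun u => by
    obtain ⟨v, rfl⟩ := s.surjective u
    rw [hc, cm_conj]
    rcases he'' v with h | h <;> rw [h]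
    · left; rw [map_one]
    · right; rfl
  have hce1 : ∃ u, cm c u = s e'' := by
    obtain ⟨v, hv⟩ := he1''
    exact ⟨s v, by rw [hc, cm_conj, hv]⟩
  have htc : t * c ∈ Q := by
    have := Q.mul_mem hqQ (Q.inv_mem hrQ)
    rwa [mul_inv_rev, hs's, hss, show t * s * (s' * s) = t * (s * s' * s) by group,
      show s * s' * s = c by rw [hc, hss]] at this
  have htc1 : t * c = 1 := by
    by_contra h
    obtain ⟨h7, -⟩ := ht.pair h2 hcT (hQ _ htc) h he he1 hce hce1
    have hfix : t (s e'') = s e'' := by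
      rw [h5, map_mul, h1, h3]
      calc e * e' * (e * e'') = (e * e) * (e' * e'') := by ac_rfl
        _ = _ := by rw [h2, one_mul]
    rw [hfix, eq_comm, mul_eq_right] at h7
    have : cm t (s e'') = 1 := cm_eq_one.mpr hfix
    obtain ⟨u, hu⟩ := he1
    exact ht1 (MulEquiv.ext fun v => by
      rw [MulAut.one_apply, ← cm_eq_one]
      exact (he v).elim id (fun h => h.trans h7))
  have hct : s * s' * s = t := by
    have := inv_eq_of_mul_eq_one_right htc1
    rw [htt, hc, hss] at this
    exact this.symm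
  have h33 : s * t * s = t * s * t := by
    have h : (t * s * t) * (s * t * s) = 1 := by
      rw [pow_succ, pow_succ, pow_one] at h13
      simpa [mul_assoc] using h13
    have h' := inv_eq_of_mul_eq_one_right h
    rw [mul_inv_rev (t * s) t, mul_inv_rev t s, htt, hss, ← mul_assoc] at h'
    exact h'.symm
  have hs'2 : s' = t * s * t := by
    rw [← h33, ← hct]
    calc s' = (s * s) * s' * (s * s) := by rw [hsT.sq, one_mul, mul_one]
      _ = _ := by group
  have key : t * s * t = s := by
    calc t * s * t = t * s * t⁻¹ := by rw [htt]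
      _ = a * (a * s * a⁻¹) * a⁻¹ := by rw [htdef]; group
      _ = a * (t * s * t) * a⁻¹ := by rw [← hs', hs'2]
      _ = (a * t * a⁻¹) * s' * (a * t * a⁻¹) := by rw [hs']; group
      _ = t * (t * s * t) * t := by rw [hata, hs'2]
      _ = (t * t) * s * (t * t) := by group
      _ = s := by rw [ht.sq, one_mul, mul_one]
  refine hr1 ?_
  rw [hs'2, key, hsT.sq]

/-- An element of order `2^n ≥ 4` has commutator image larger than its order. -/
theorem two_pow_lt_card_range [Finite U] (h2 : ∀ u : U, u * u = 1) {Q : Subgroup (MulAut U)}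
    (hQ : ∀ g ∈ Q, Odd (orderOf g)) {a : MulAut U} (ha : a ∈ normalizer (Q : Set (MulAut U)))
    {n : ℕ} (hn : 2 ≤ n) (han : a ^ 2 ^ n = 1) {x : MulAut U} (hx : x ∈ Q)
    (hmove : a ^ 2 ^ (n - 1) * x ≠ x * a ^ 2 ^ (n - 1)) : 2 ^ n < Nat.card (cm a).range := by
  rcases hn.eq_or_lt with rfl | hn3
  · refine lt_card_range_four h2 hQ ha han hx ?_
    simpa [pow_two] using hmove
  · refine lt_of_lt_of_le ?_ (two_pow_le_card_range (cm a) (N := 2 ^ n) (m := 2 ^ (n - 1))
      (fun u => by rw [← cm_pow_two_pow h2, han]; simp [cm_apply]) ?_ (Nat.one_le_two_pow))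
    · refine Nat.pow_lt_pow_right (by norm_num) ?_
      obtain ⟨k, rfl⟩ : ∃ k, n = k + 3 := ⟨n - 3, by omega⟩
      have := Nat.lt_two_pow_self (n := k)
      simp only [show k + 3 - 1 = k + 2 by omega, pow_add]
      omega
    · by_contra h
      push Not at h
      refine hmove ?_
      rw [show a ^ 2 ^ (n - 1) = 1 from MulEquiv.ext fun u => by
        rw [MulAut.one_apply, ← cm_eq_one, cm_pow_two_pow h2]; exact h u]
      simp

end Cfsg.Agent.Transfer.Quartic
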