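import Cfsg.Agent.Lib.Transfer.Thompson
import Cfsg.Agent.Lib.Transfer.ZJ
import Cfsg.Agent.Lib.Basics.CoprimeAction
import Cfsg.Agent.Lib.LocalEvenA.Core

/-!
# p-stability of the minimal configuration of the normal p-complement theorems
-/

set_option autoImplicit false
set_option linter.style.haveILetI false

namespace Cfsg.Agent.Transfer

open Subgroup Cfsg
open scoped commutatorElement IsMulCommutative Pointwise

universe u

variable {G : Type u} [Group G] [Finite G] {p : ℕ} [hp : Fact p.Prime]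

/-- A commutator of a quadratic element with an abelian `p'`-section centralizes an elementary
abelian section. -/
theorem commutator_mem_of_quadratic (hodd : p ≠ 2) {V N X : Subgroup G} [V.Normal] [N.Normal]
    [X.Normal] (hab : ∀ u ∈ V, ∀ v ∈ V, ⁅u, v⁆ ∈ N) (hpw : ∀ v ∈ V, v ^ p ∈ N)
    (hX : ∀ x ∈ X, ∀ v ∈ V, ⁅x, v⁆ ∈ N) (K : Subgroup (G ⧸ X)) [K.Normal] [IsMulCommutative K]
    (hK : (Nat.card K).Coprime p) {a c : G}
    (hq : ⁅⁅V, zpowers a⁆, zpowers a⁆ ≤ N) {q : G ⧸ X} (hqK : q ∈ K)
    (hc : QuotientGroup.mk' X c =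
      (QuotientGroup.mk' X a)⁻¹ * (q * QuotientGroup.mk' X a * q⁻¹)) :
    ∀ v ∈ V, ⁅c, v⁆ ∈ N := by
  set π := QuotientGroup.mk' N
  set W := V.map π with hW
  haveI : W.Normal := Subgroup.Normal.map inferInstance _ (QuotientGroup.mk'_surjective N)
  haveI : IsMulCommutative W := by
    refine ⟨⟨?_⟩⟩
    rintro ⟨_, u, hu, rfl⟩ ⟨_, v, hv, rfl⟩
    apply Subtype.ext
    show π u * π v = π v * π u
    refine (commutatorElement_eq_one_iff_commute.mp ?_).eq
    rw [← map_commutatorElement]
    exact (QuotientGroup.eq_one_iff _).mpr (hab u hu v hv)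
  have hexp : ∀ w ∈ W, w ^ p = 1 := by
    rintro _ ⟨v, hv, rfl⟩
    rw [← map_pow]
    exact (QuotientGroup.eq_one_iff _).mpr (hpw v hv)
  let φ : G →* MulAut W := MulAut.conjNormal.comp π
  have hφ : ∀ (g : G) (w : W), ((φ g w : W) : G ⧸ N) = π g * w * (π g)⁻¹ := fun g w =>
    MulAut.conjNormal_apply _ _
  have hker : X ≤ φ.ker := by
    intro x hx
    rw [MonoidHom.mem_ker]
    refine MulEquiv.ext fun w => Subtype.ext ?_
    obtain ⟨v, hv, hve⟩ := w.2
    rw [hφ, MulAut.one_apply, ← hve, mul_inv_eq_iff_eq_mul]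
    refine (commutatorElement_eq_one_iff_commute.mp ?_).eq
    rw [← map_commutatorElement]
    exact (QuotientGroup.eq_one_iff _).mpr (hX x hx v hv)
  let ψ : G ⧸ X →* MulAut W := QuotientGroup.lift X φ hker
  have hψ : ∀ g : G, ψ (QuotientGroup.mk' X g) = φ g := fun g => rfl
  haveI : Finite (W ⋊[ψ] (G ⧸ X)) := Finite.of_equiv _ SemidirectProduct.equivProd.symm
  let inl : W →* W ⋊[ψ] (G ⧸ X) := SemidirectProduct.inl
  let inr : G ⧸ X →* W ⋊[ψ] (G ⧸ X) := SemidirectProduct.inr
  let W' := (⊤ : Subgroup W).map inl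
  let Q' := K.map inr
  haveI : IsMulCommutative W' := Subgroup.map_isMulCommutative _ _
  haveI : IsMulCommutative Q' := Subgroup.map_isMulCommutative _ _
  have hconj : ∀ (x : G ⧸ X) (w : W), inr x * inl w * (inr x)⁻¹ = inl (ψ x w) := fun x w => by
    rw [← map_inv]; exact (SemidirectProduct.inl_aut x w).symm
  have hnorm : ∀ x, inr x ∈ normalizer (W' : Set (W ⋊[ψ] (G ⧸ X))) := by
    intro x
    rw [mem_normalizer_iff]
    intro y
    constructor
    · rintro ⟨v, -, rfl⟩; exact ⟨ψ x v, mem_top _, (hconj x v).symm⟩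
    · rintro ⟨v, -, hv⟩
      refine ⟨ψ x⁻¹ v, mem_top _, ?_⟩
      rw [← hconj, hv, map_inv]; group
  have hquad : ∀ y ∈ W', Commute (inr (QuotientGroup.mk' X a))
      (inr (QuotientGroup.mk' X a) * y * (inr (QuotientGroup.mk' X a))⁻¹ * y⁻¹) := by
    rintro _ ⟨w, -, rfl⟩
    set w' : W := φ a w * w⁻¹ with hw'
    have hfix : φ a w' = w' := by
      apply Subtype.ext
      obtain ⟨v, hv, hve⟩ := w.2
      rw [hφ]
      have h1 : ⁅⁅v, a⁆, a⁆ ∈ N := hq (commutator_mem_commutator
        (commutator_mem_commutator hv (mem_zpowers a)) (mem_zpowers a))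
      have h2 : Commute (π ⁅v, a⁆) (π a) := by
        rw [← commutatorElement_eq_one_iff_commute, ← map_commutatorElement]
        exact (QuotientGroup.eq_one_iff _).mpr h1
      have h3 : (w' : G ⧸ N) = (π ⁅v, a⁆)⁻¹ := by
        rw [← map_inv, commutatorElement_inv, map_commutatorElement, commutatorElement_def,
          hw', coe_mul, hφ, coe_inv, ← hve]
      rw [h3, h2.inv_left.symm.eq, mul_inv_cancel_right]
    have hwy : inr (QuotientGroup.mk' X a) * inl w * (inr (QuotientGroup.mk' X a))⁻¹ * (inl w)⁻¹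
        = inl w' := by
      rw [hconj, hψ, ← map_inv, ← map_mul]
    rw [hwy]
    have h4 := hconj (QuotientGroup.mk' X a) w'
    rw [hψ, hfix] at h4
    exact mul_inv_eq_iff_eq_mul.mp h4
  have hlt := commutator_centralizes_of_quadratic hodd W'
    (fun y hy => by
      obtain ⟨w, -, rfl⟩ := hy
      rw [← map_pow, show w ^ p = 1 from Subtype.ext (by simpa using hexp w.1 w.2), map_one])
    Q' (by rwa [card_map_of_injective SemidirectProduct.inr_injective])
    (by rintro _ ⟨x, -, rfl⟩; exact hnorm x) (hnorm _)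
    (le_normalizer_map inr (mem_map_of_mem inr
      (show QuotientGroup.mk' X a ∈ normalizer (K : Set (G ⧸ X)) by
        rw [normalizer_eq_top]; trivial))) hquad ⟨q, hqK, rfl⟩
  have e : (inr (QuotientGroup.mk' X a))⁻¹ * (inr q * inr (QuotientGroup.mk' X a) * (inr q)⁻¹) =
      inr (QuotientGroup.mk' X c) := by rw [hc]; simp only [map_mul, map_inv]
  rw [e] at hlt
  intro v hv
  have h1 := hlt (inl ⟨π v, mem_map_of_mem π hv⟩) ⟨_, mem_top _, rfl⟩
  have h2 : inl (ψ (QuotientGroup.mk' X c) ⟨π v, mem_map_of_mem π hv⟩) =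
      inl ⟨π v, mem_map_of_mem π hv⟩ := by
    rw [← hconj, ← h1, mul_inv_cancel_right]
  have h3 := congrArg Subtype.val (SemidirectProduct.inl_injective h2)
  rw [hψ, hφ] at h3
  refine (QuotientGroup.eq_one_iff _).mp ?_
  show π ⁅c, v⁆ = 1
  rw [map_commutatorElement, commutatorElement_eq_one_iff_commute]
  exact mul_inv_eq_iff_eq_mul.mp h3

variable (P : Sylow p G)

/-- In the minimal configuration a `p`-element outside the core does not commute with the abelian
complement, and the commutator lifts to an element of order prime to `p`. -/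
theorem exists_pPrime_commutator
    (hquot : HasNormalPComplement p (G ⧸ pCore p G))
    (hfix : (P.mapSurjective (QuotientGroup.mk'_surjective (pCore p G)) :
        Subgroup (G ⧸ pCore p G)) ⊓
      centralizer (pResidual p (G ⧸ pCore p G) : Set (G ⧸ pCore p G)) = ⊥)
    {a : G} (ha : ∃ k, a ^ p ^ k ∈ pCore p G) (haX : a ∉ pCore p G) :
    ∃ c : G, (orderOf c).Coprime p ∧ c ∉ pCore p G ∧
      ∃ q ∈ pResidual p (G ⧸ pCore p G), QuotientGroup.mk' (pCore p G) c =
        (QuotientGroup.mk' (pCore p G) a)⁻¹ * (q * QuotientGroup.mk' (pCore p G) a * q⁻¹) := by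
  set X := pCore p G
  set f := QuotientGroup.mk' X
  set K := pResidual p (G ⧸ X)
  have hK : ¬ p ∣ Nat.card K := hasNormalPComplement_iff.mp hquot
  obtain ⟨k, hk⟩ := ha
  have hfa : f a ^ p ^ k = 1 := by
    rw [← map_pow]; exact (QuotientGroup.eq_one_iff _).mpr hk
  have hne : ∃ q ∈ K, ¬ Commute (f a) q := by
    by_contra hcon
    simp only [not_exists, not_and, not_not] at hcon
    have hap : IsPGroup p (zpowers (f a)) := by
      obtain ⟨i, -, hi⟩ := (Nat.dvd_prime_pow hp.out).mp (orderOf_dvd_of_pow_eq_one hfa)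
      exact IsPGroup.of_card (by rw [Nat.card_zpowers, hi])
    obtain ⟨R, hR⟩ := hap.exists_le_sylow
    obtain ⟨h, hh⟩ := MulAction.exists_smul_eq (G ⧸ X)
      (P.mapSurjective (QuotientGroup.mk'_surjective X)) R
    have h1 : f a ∈ ((h • P.mapSurjective (QuotientGroup.mk'_surjective X) :
        Sylow p (G ⧸ X)) : Subgroup (G ⧸ X)) := hh ▸ hR (mem_zpowers _)
    rw [Sylow.coe_subgroup_smul, mem_pointwise_smul_iff_inv_smul_mem] at h1
    have h2 : h⁻¹ * f a * h ∈ (P.mapSurjective (QuotientGroup.mk'_surjective X) :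
        Subgroup (G ⧸ X)) ⊓ centralizer (K : Set (G ⧸ X)) := by
      refine mem_inf.mpr ⟨by simpa [mul_assoc] using h1, ?_⟩
      have hn : (centralizer (K : Set (G ⧸ X))).Normal := inferInstance
      have h3 := hn.conj_mem (f a) (fun q hq => (hcon q hq).eq.symm) h⁻¹
      rw [inv_inv] at h3
      exact h3
    rw [hfix, mem_bot, mul_assoc, inv_mul_eq_one, eq_comm, mul_eq_right] at h2
    exact haX ((QuotientGroup.eq_one_iff _).mp h2)
  obtain ⟨q, hq, hnc⟩ := hne
  set k' := (f a)⁻¹ * (q * f a * q⁻¹) with hk'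
  have hk'1 : k' ≠ 1 := by
    intro h
    apply hnc
    rw [hk', inv_mul_eq_one, eq_mul_inv_iff_mul_eq] at h
    exact h
  have hk'K : k' ∈ K := by
    have h0 := (inferInstance : K.Normal).conj_mem q hq (f a)⁻¹
    have h1 : (f a)⁻¹ * q * f a ∈ K := by rw [inv_inv] at h0; exact h0
    have := mul_mem h1 (inv_mem hq)
    simpa [hk', mul_assoc] using this
  obtain ⟨g, hg⟩ := QuotientGroup.mk'_surjective X k'
  obtain ⟨u, c, hug, hcg, huc, ⟨i, hi⟩, hc⟩ := exists_pPart_mul (p := p) g
  have hfu : f u = 1 := by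
    have hucomm : Commute u c := by
      obtain ⟨l, rfl⟩ := mem_zpowers_iff.mp hug
      obtain ⟨j, rfl⟩ := mem_zpowers_iff.mp hcg
      exact (Commute.refl g).zpow_zpow l j
    refine eq_one_of_pow_of_coprime ⟨i, (orderOf_map_dvd f u).trans hi⟩ ?_
    have hfg : (orderOf (f u * f c)).Coprime p := by
      rw [← map_mul, huc, hg]
      exact ((hp.out.coprime_iff_not_dvd.mpr hK).symm).coprime_dvd_left
        (by rw [← Subgroup.orderOf_mk k' hk'K]; exact _root_.orderOf_dvd_natCard _)
    have hcp : (orderOf (f c)⁻¹).Coprime p := by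
      rw [orderOf_inv]; exact hc.coprime_dvd_left (orderOf_map_dvd f c)
    have hcomm : Commute (f u * f c) (f c)⁻¹ :=
      ((hucomm.map f).mul_left (Commute.refl _)).inv_right
    have h4 := (hfg.mul_left hcp).coprime_dvd_left hcomm.orderOf_mul_dvd_mul_orderOf
    rwa [mul_inv_cancel_right] at h4
  refine ⟨c, hc, fun hcX => hk'1 ?_, q, hq, ?_⟩
  · rw [← hg, ← huc, map_mul, hfu, one_mul]
    exact (QuotientGroup.eq_one_iff _).mpr hcX
  · rw [← hk', ← hg, ← huc, map_mul, hfu, one_mul]

/-- The minimal configuration is p-stable on its normal `p`-subgroups. -/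
theorem pStableElts_of_core (hodd : p ≠ 2) (hquot : HasNormalPComplement p (G ⧸ pCore p G))
    (hmax : ∀ U : Subgroup G, (P : Subgroup G) ≤ U → U = P ∨ U = ⊤)
    (hKab : IsMulCommutative ↥(pResidual p (G ⧸ pCore p G)))
    (hfix : (P.mapSurjective (QuotientGroup.mk'_surjective (pCore p G)) :
        Subgroup (G ⧸ pCore p G)) ⊓
      centralizer (pResidual p (G ⧸ pCore p G) : Set (G ⧸ pCore p G)) = ⊥) :
    PStableElts p G := by
  intro V _ hV a ha hq
  haveI := hKab
  set X := pCore p G
  set C := centralizer (V : Set G)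
  haveI : C.Normal := inferInstance
  set π := QuotientGroup.mk' C
  by_cases haX : a ∈ X
  · have hXC : IsPGroup p (X.map π) := (Basics.pCore_isPGroup p).map π
    haveI : (X.map π).Normal :=
      Subgroup.Normal.map inferInstance _ (QuotientGroup.mk'_surjective C)
    exact Basics.le_pCore hXC (mem_map_of_mem π haX)
  obtain ⟨k, hk⟩ := ha
  obtain ⟨c, hcp, hcX, q, hqK, hceq⟩ := exists_pPrime_commutator P hquot hfix
    ⟨k, hk ▸ one_mem X⟩ haX
  have hK : (Nat.card ↥(pResidual p (G ⧸ X))).Coprime p :=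
    (hp.out.coprime_iff_not_dvd.mpr (hasNormalPComplement_iff.mp hquot)).symm
  have key : ∀ n, ∀ V' : Subgroup G, V'.Normal → V' ≤ V → Nat.card V' = n →
      ∀ v ∈ V', Commute c v := by
    intro n
    induction n using Nat.strong_induction_on with
    | _ n ih =>
      intro V' hn' hle hn v hv
      haveI := hn'
      by_cases hV'0 : V' = ⊥
      · rw [hV'0, mem_bot] at hv; rw [hv]; exact Commute.one_right c
      set N := (frattini V').map V'.subtype ⊔ ⁅X, V'⁆ with hN
      haveI : N.Normal := inferInstance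
      have hNV : N ≤ V' := sup_le (map_subtype_le _) (commutator_le_right X V')
      have hV'p : IsPGroup p V' := hV.to_le hle
      have hlt : N < V' := by
        refine lt_of_le_of_ne hNV fun heq => hV'0 ?_
        have h1 : (⁅X, V'⁆ : Subgroup G).subgroupOf V' = ⊤ := by
          refine frattini_nongenerating (eq_top_iff.mpr fun w _ => ?_)
          have hw : (w : G) ∈ N := heq.ge w.2
          obtain ⟨y, hy, z, hz, hyz⟩ := (Basics.mem_sup_of_le_normalizer
            le_normalizer_of_normal).mp hw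
          obtain ⟨y', hy', rfl⟩ := hy
          have : w = y' * ⟨z, commutator_le_right X V' hz⟩ := Subtype.ext hyz
          rw [this]
          exact mul_mem (mem_sup_right hy') (mem_sup_left hz)
        have h2 : V' ≤ ⁅X, V'⁆ := subgroupOf_eq_top.mp h1
        haveI : Group.IsNilpotent (X ⊔ V' : Subgroup G) :=
          ((Basics.pCore_isPGroup p).to_sup_of_normal_right hV'p).isNilpotent
        have h3 : V' ≤ (⊥ : Subgroup G) := le_of_le_sup_commutator (S := X ⊔ V') le_sup_right
          (by rw [normalizer_eq_top]; exact le_top)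
          (by rw [bot_sup_eq, commutator_comm]; exact h2.trans (commutator_mono le_sup_left le_rfl))
        exact le_bot_iff.mp h3
      have hstep := commutator_mem_of_quadratic hodd (V := V') (N := N) (X := X)
        (fun u hu w hw => mem_sup_left ⟨⁅(⟨u, hu⟩ : V'), ⟨w, hw⟩⁆, by
          haveI : Group.IsNilpotent V' := hV'p.isNilpotent
          exact Basics.commutator_le_frattini (commutator_mem_commutator (mem_top _) (mem_top _)),
          rfl⟩)
        (fun u hu => mem_sup_left ⟨⟨u, hu⟩ ^ p, Basics.pow_mem_frattini hV'p _, by simp⟩)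
        (fun x hx u hu => mem_sup_right (commutator_mem_commutator hx hu))
        (pResidual p (G ⧸ X)) hK (a := a) (c := c)
        ((commutator_mono (commutator_mono hle le_rfl) le_rfl).trans (hq ▸ bot_le)) hqK hceq v hv
      have hd : v⁻¹ * (c * v * c⁻¹) ∈ N := by
        have h := (inferInstance : N.Normal).conj_mem _ hstep v⁻¹
        simpa [commutatorElement_def, mul_assoc] using h
      refine LocalEvenA.comm_of_coprime_chain hcp ?_
        (ih _ (hn ▸ Basics.card_lt_of_lt hlt) N inferInstance (hNV.trans hle) rfl _ hd)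
      obtain ⟨j, hj⟩ := hV ⟨_, hle (hNV hd)⟩
      exact ⟨j, congrArg Subtype.val hj⟩
  have hcC : c ∈ C := fun v hv => (key _ V inferInstance le_rfl rfl v hv).symm.eq
  rcases hmax (C ⊔ P) le_sup_right with h | h
  · exfalso
    apply hcX
    obtain ⟨j, hj⟩ := P.isPGroup' ⟨c, h.le (mem_sup_left hcC)⟩
    have hj' : c ^ p ^ j = 1 := congrArg Subtype.val hj
    rw [eq_one_of_pow_of_coprime ⟨j, orderOf_dvd_of_pow_eq_one hj'⟩ hcp]
    exact one_mem X
  · have h1 : (P : Subgroup G).map π = ⊤ := by
      rw [← map_top_of_surjective π (QuotientGroup.mk'_surjective C), ← h, Subgroup.map_sup,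
        (Subgroup.map_eq_bot_iff _).mpr (QuotientGroup.ker_mk' C).ge, bot_sup_eq]
    have h2 : IsPGroup p (⊤ : Subgroup (G ⧸ C)) := h1 ▸ P.isPGroup'.map π
    exact Basics.le_pCore h2 (mem_top _)

/-- If the `p`-core contains its centralizer, it is the kernel of the action on its Frattini
quotient. -/
theorem sectionKernel_frattini_eq (hcX : centralizer (pCore p G : Set G) ≤ pCore p G) :
    sectionKernel (pCore p G) ((frattini ↥(pCore p G)).map (pCore p G).subtype) = pCore p G := by
  set X := pCore p G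
  set N := (frattini X).map X.subtype with hN
  have hXp : IsPGroup p X := Basics.pCore_isPGroup p
  haveI : N.Normal := inferInstance
  have hNX : N ≤ X := map_subtype_le _
  have hab : ∀ u ∈ X, ∀ w ∈ X, ⁅u, w⁆ ∈ N := fun u hu w hw =>
    ⟨⁅(⟨u, hu⟩ : X), ⟨w, hw⟩⁆, by
      haveI : Group.IsNilpotent X := hXp.isNilpotent
      exact Basics.commutator_le_frattini (commutator_mem_commutator (mem_top _) (mem_top _)), rfl⟩
  have hpw : ∀ u ∈ X, u ^ p ∈ N := fun u hu =>
    ⟨⟨u, hu⟩ ^ p, Basics.pow_mem_frattini hXp _, by simp⟩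
  have hmem : ∀ g, g ∈ sectionKernel X N ↔ ∀ v ∈ X, ⁅g, v⁆ ∈ N := by
    intro g
    constructor
    · intro hg v hv
      refine (QuotientGroup.eq_one_iff _).mp ?_
      show QuotientGroup.mk' N ⁅g, v⁆ = 1
      rw [map_commutatorElement, commutatorElement_eq_one_iff_commute]
      exact (hg _ (mem_map_of_mem _ hv)).symm
    · intro h
      rintro _ ⟨v, hv, rfl⟩
      refine (Commute.symm (commutatorElement_eq_one_iff_commute.mp ?_)).eq
      rw [← map_commutatorElement]
      exact (QuotientGroup.eq_one_iff _).mpr (h v hv)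
  have hp' : ∀ g ∈ sectionKernel X N, (orderOf g).Coprime p → g ∈ X := by
    intro g hg hgo
    have hcop : (Nat.card (zpowers g)).Coprime (Nat.card X) := by
      obtain ⟨j, hj⟩ := hXp.exists_card_eq
      rw [Nat.card_zpowers, hj]
      exact hgo.pow_right j
    have hsum := Basics.commutator_sup_inf_centralizer (zpowers g) X
      (by rw [normalizer_eq_top]; exact le_top) hcop (Or.inr (by haveI := hXp.isNilpotent; infer_instance))
    have hle : ⁅X, zpowers g⁆ ≤ N := by
      rw [commutator_le]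
      intro v hv s hs
      have hs' : s ∈ sectionKernel X N := (zpowers_le.mpr hg) hs
      rw [← commutatorElement_inv]
      exact inv_mem ((hmem s).mp hs' v hv)
    have h1 : (X ⊓ centralizer (zpowers g : Set G)).subgroupOf X = ⊤ := by
      refine frattini_nongenerating (eq_top_iff.mpr fun w _ => ?_)
      have hw : (w : G) ∈ N ⊔ (X ⊓ centralizer (zpowers g : Set G)) :=
        (sup_le_sup_right hle _) (hsum.ge w.2)
      obtain ⟨y, ⟨y', hy', rfl⟩, z, hz, hyz⟩ :=
        (Basics.mem_sup_of_le_normalizer le_normalizer_of_normal).mp hw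
      have : w = y' * ⟨z, hz.1⟩ := Subtype.ext hyz
      rw [this]
      exact mul_mem (mem_sup_right hy') (mem_sup_left hz)
    have h2 : X ≤ centralizer (zpowers g : Set G) := fun v hv =>
      ((subgroupOf_eq_top.mp h1) hv).2
    exact hcX fun v hv => (h2 hv g (mem_zpowers g)).symm
  have hXk : X ≤ sectionKernel X N := fun x hx => (hmem x).mpr (hab x hx)
  have hkX : sectionKernel X N ≤ X := by
    haveI : (sectionKernel X N).Normal := by
      haveI : (X.map (QuotientGroup.mk' N)).Normal :=
        Subgroup.Normal.map inferInstance _ (QuotientGroup.mk'_surjective N)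
      unfold sectionKernel
      infer_instance
    refine Basics.le_pCore fun g => ?_
    obtain ⟨u, c, -, hcg, huc, ⟨i, hi⟩, hc⟩ := exists_pPart_mul (p := p) (g : G)
    have hc1 : c = 1 := by
      have hcX' : c ∈ X := hp' c ((zpowers_le.mpr g.2) hcg) hc
      obtain ⟨j, hj⟩ := hXp ⟨c, hcX'⟩
      exact eq_one_of_pow_of_coprime ⟨j, orderOf_dvd_of_pow_eq_one (congrArg Subtype.val hj)⟩ hc
    refine ⟨i, Subtype.ext ?_⟩
    rw [coe_pow, ← huc, hc1, mul_one, coe_one]
    exact orderOf_dvd_iff_pow_eq_one.mp hi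
  exact le_antisymm hkX hXk

/-- The minimal configuration is p-stable on the Frattini quotient of the core. -/
theorem isPStableOnSection_of_core (hodd : p ≠ 2) (hcX : centralizer (pCore p G : Set G) ≤ pCore p G)
    (hquot : HasNormalPComplement p (G ⧸ pCore p G))
    (hKab : IsMulCommutative ↥(pResidual p (G ⧸ pCore p G)))
    (hfix : (P.mapSurjective (QuotientGroup.mk'_surjective (pCore p G)) :
        Subgroup (G ⧸ pCore p G)) ⊓
      centralizer (pResidual p (G ⧸ pCore p G) : Set (G ⧸ pCore p G)) = ⊥) :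
    IsPStableOnSection p (pCore p G) ((frattini ↥(pCore p G)).map (pCore p G).subtype) := by
  haveI := hKab
  set X := pCore p G
  set N := (frattini X).map X.subtype with hN
  have hXp : IsPGroup p X := Basics.pCore_isPGroup p
  haveI : N.Normal := inferInstance
  have hNX : N ≤ X := map_subtype_le _
  have hab : ∀ u ∈ X, ∀ w ∈ X, ⁅u, w⁆ ∈ N := fun u hu w hw =>
    ⟨⁅(⟨u, hu⟩ : X), ⟨w, hw⟩⁆, by
      haveI : Group.IsNilpotent X := hXp.isNilpotent
      exact Basics.commutator_le_frattini (commutator_mem_commutator (mem_top _) (mem_top _)), rfl⟩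
  have hpw : ∀ u ∈ X, u ^ p ∈ N := fun u hu =>
    ⟨⟨u, hu⟩ ^ p, Basics.pow_mem_frattini hXp _, by simp⟩
  have hmem : ∀ g, g ∈ sectionKernel X N ↔ ∀ v ∈ X, ⁅g, v⁆ ∈ N := by
    intro g
    constructor
    · intro hg v hv
      refine (QuotientGroup.eq_one_iff _).mp ?_
      show QuotientGroup.mk' N ⁅g, v⁆ = 1
      rw [map_commutatorElement, commutatorElement_eq_one_iff_commute]
      exact (hg _ (mem_map_of_mem _ hv)).symm
    · intro h
      rintro _ ⟨v, hv, rfl⟩
      refine (Commute.symm (commutatorElement_eq_one_iff_commute.mp ?_)).eq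
      rw [← map_commutatorElement]
      exact (QuotientGroup.eq_one_iff _).mpr (h v hv)
  have hkX : sectionKernel X N ≤ X := (sectionKernel_frattini_eq hcX).le
  have hXk : X ≤ sectionKernel X N := (sectionKernel_frattini_eq hcX).ge
  intro a hq
  refine ⟨X, inferInstance, hkX, ⟨0, by rw [pow_zero, relIndex_eq_one]; exact hXk⟩, ?_⟩
  have hap : ∀ v ∈ X, ⁅a ^ p, v⁆ ∈ N := by
    intro v hv
    set π := QuotientGroup.mk' N
    have h1 : ⁅⁅v, a⁆, a⁆ ∈ N := hq (commutator_mem_commutator
      (commutator_mem_commutator hv (mem_zpowers a)) (mem_zpowers a))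
    have h2 : Commute (π a) ⁅π a, π v⁆ := by
      have h3 : Commute ⁅π v, π a⁆ (π a) := by
        rw [← commutatorElement_eq_one_iff_commute, ← map_commutatorElement,
          ← map_commutatorElement]
        exact (QuotientGroup.eq_one_iff _).mpr h1
      rw [← commutatorElement_inv]
      exact h3.symm.inv_right
    refine (QuotientGroup.eq_one_iff _).mp ?_
    show π ⁅a ^ p, v⁆ = 1
    rw [map_commutatorElement, map_pow, commutator_pow_left h2 p, ← map_commutatorElement,
      ← map_pow]
    refine (QuotientGroup.eq_one_iff _).mpr (hpw _ ?_)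
    rw [commutatorElement_def]
    exact mul_mem ((inferInstance : X.Normal).conj_mem v hv a) (inv_mem hv)
  by_contra haX
  obtain ⟨c, hcp, hcX', q, hqK, hceq⟩ := exists_pPrime_commutator P hquot hfix
    ⟨1, by rw [pow_one]; exact hkX ((hmem _).mpr hap)⟩ haX
  exact hcX' (hkX ((hmem c).mpr (commutator_mem_of_quadratic hodd (V := X) (N := N) (X := X)
    hab hpw hab (pResidual p (G ⧸ X))
    (hp.out.coprime_iff_not_dvd.mpr (hasNormalPComplement_iff.mp hquot)).symm hq hqK hceq)))

end Cfsg.Agent.Transfer
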