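import Cfsg.Agent.Lib.Transfer.ZJ

/-!
# Glauberman's argument for a family of abelian subgroups with the replacement property

In a constrained stable group the intersection of such a family is normal.
-/

set_option autoImplicit false
set_option linter.style.haveILetI false

namespace Cfsg.Agent.Transfer

open Subgroup Cfsg
open scoped commutatorElement Pointwise

universe u

variable {G : Type u} [Group G] {p : ℕ} [Finite G] [hp : Fact p.Prime]

theorem mem_biInf {𝒜 : Set (Subgroup G)} {x : G} :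
    x ∈ (⨅ A ∈ 𝒜, A) ↔ ∀ A ∈ 𝒜, x ∈ A := by
  simp only [Subgroup.mem_iInf]

/-- The intersection of a family of abelian subgroups with replacement is normal. -/
theorem biInf_normal (hc : centralizer (pCore p G : Set G) ≤ pCore p G) (hst : PStableElts p G)
    (S : Sylow p G) (𝒜 : Set (Subgroup G)) (hne : 𝒜.Nonempty)
    (h𝒜 : ∀ A ∈ 𝒜, A ≤ (S : Subgroup G) ∧ ∀ a ∈ A, ∀ b ∈ A, Commute a b)
    (hinv : ∀ T : Subgroup G, T ≤ (S : Subgroup G) → (∃ A ∈ 𝒜, A ≤ T) →
      ∀ g ∈ normalizer (T : Set G), ∀ x : G, (∀ A ∈ 𝒜, A ≤ T → x ∈ A) →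
        ∀ A ∈ 𝒜, A ≤ T → g * x * g⁻¹ ∈ A)
    (hrep : ∀ B : Subgroup G, B ≤ (S : Subgroup G) → ⁅⁅B, B⁆, B⁆ = ⊥ →
      (∃ A ∈ 𝒜, ⁅B, B⁆ ≤ A ∧ ¬ B ≤ A) →
      ∃ A ∈ 𝒜, ¬ B ≤ A ∧ ∀ b ∈ B, ∀ a ∈ A, b * a * b⁻¹ ∈ A) :
    (⨅ A ∈ 𝒜, A : Subgroup G).Normal := by
  set W : Subgroup G := ⨅ A ∈ 𝒜, A with hW
  obtain ⟨A₀, hA₀⟩ := hne
  have hWA : ∀ A ∈ 𝒜, W ≤ A := fun A hA => iInf₂_le A hA
  have hWc : ∀ a ∈ W, ∀ b ∈ W, Commute a b := fun a ha b hb =>
    (h𝒜 A₀ hA₀).2 a (hWA A₀ hA₀ ha) b (hWA A₀ hA₀ hb)
  have hWle : W ≤ (S : Subgroup G) := (hWA A₀ hA₀).trans (h𝒜 A₀ hA₀).1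
  have hWS : ∀ s ∈ (S : Subgroup G), ∀ x ∈ W, s * x * s⁻¹ ∈ W := fun s hs x hx =>
    mem_biInf.mpr fun A hA => hinv S le_rfl ⟨A₀, hA₀, (h𝒜 A₀ hA₀).1⟩ s (le_normalizer hs) x
      (fun A' hA' _ => hWA A' hA' hx) A hA (h𝒜 A hA).1
  have hWn : (S : Subgroup G) ≤ normalizer (W : Set G) := fun s hs =>
    mem_normalizer_iff.mpr fun x => ⟨hWS s hs x, fun h => by
      have := hWS s⁻¹ (inv_mem hs) _ h
      simpa [mul_assoc] using this⟩
  have main : ∀ B : Subgroup G, B.Normal → IsPGroup p B → (B ⊓ W).Normal := by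
    intro B
    induction hn : Nat.card B using Nat.strong_induction_on generalizing B with
    | _ n ih =>
      subst hn
      intro hBn hBp
      haveI := hBn
      have hBS : B ≤ (S : Subgroup G) := (Basics.le_pCore hBp).trans (Basics.pCore_le_sylow p S)
      by_cases hcl : normalClosure ((B ⊓ W : Subgroup G) : Set G) ≠ B
      · set B0 := normalClosure ((B ⊓ W : Subgroup G) : Set G)
        have hle : B0 ≤ B := normalClosure_le_normal fun x hx => hx.1
        have h := ih _ (Basics.card_lt_of_lt (lt_of_le_of_ne hle hcl)) B0 rfl normalClosure_normal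
          (hBp.to_le hle)
        have heq : B0 ⊓ W = B ⊓ W := le_antisymm (inf_le_inf_right _ hle)
          (le_inf subset_normalClosure inf_le_right)
        rwa [heq] at h
      rw [not_not] at hcl
      have hgen : ∀ X : Subgroup G, (∀ g : G, ∀ x ∈ B ⊓ W, g * x * g⁻¹ ∈ X) → B ≤ X := by
        intro X hX
        rw [← hcl, normalClosure, closure_le]
        intro y hy
        obtain ⟨x, hx, hc⟩ := Group.mem_conjugatesOfSet_iff.mp hy
        obtain ⟨c, rfl⟩ := isConj_iff.mp hc
        exact hX c x hx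
      by_cases hBW : B ≤ W
      · rw [inf_eq_left.mpr hBW]; exact hBn
      have hB0 : B ≠ ⊥ := fun h => hBW (h ▸ bot_le)
      -- `B` has class two with derived group in `W`
      have hlt : ⁅B, B⁆ < B := by
        haveI : Nontrivial B := (nontrivial_iff_ne_bot B).mpr hB0
        haveI : Group.IsNilpotent B := hBp.isNilpotent
        refine lt_of_le_of_ne (commutator_le_of_le_normalizer le_normalizer) fun heq => ?_
        have h1 : _root_.commutator B < ⊤ := Group.IsSolvable.commutator_lt_top_of_nontrivial B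
        apply h1.ne
        apply map_injective B.subtype_injective
        rw [map_subtype_commutator, ← MonoidHom.range_eq_map, range_subtype, heq]
      set M := ⁅B, B⁆ ⊓ W with hM
      haveI hMn : M.Normal := ih _ (Basics.card_lt_of_lt hlt) ⁅B, B⁆ rfl inferInstance
        (hBp.to_le hlt.le)
      have hcentM : B ≤ centralizer (M : Set G) := hgen _ fun g x hx =>
        (inferInstance : (centralizer (M : Set G)).Normal).conj_mem x
          (fun m hm => (hWc m hm.2 x hx.2).eq) g
      have hle : ⁅B, B⁆ ≤ M := by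
        rw [commutator_le]
        intro u hu y hy
        have h1 : B ≤ (centralizer ((B.map (QuotientGroup.mk' M) : Subgroup (G ⧸ M)) :
            Set (G ⧸ M))).comap (QuotientGroup.mk' M) := by
          refine hgen _ fun g x hx => ?_
          have hcn : (centralizer ((B.map (QuotientGroup.mk' M) : Subgroup (G ⧸ M)) :
              Set (G ⧸ M))).Normal := by
            haveI : (B.map (QuotientGroup.mk' M)).Normal :=
              Subgroup.Normal.map hBn _ (QuotientGroup.mk'_surjective M)
            infer_instance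
          refine (hcn.comap (QuotientGroup.mk' M)).conj_mem x ?_ g
          rw [mem_comap]
          rintro _ ⟨y, hy, rfl⟩
          refine (commutatorElement_eq_one_iff_commute.mp ?_).eq
          rw [← map_commutatorElement]
          refine (QuotientGroup.eq_one_iff _).mpr ⟨commutator_mem_commutator hy hx.1, ?_⟩
          have h3 := mul_mem ((mem_normalizer_iff.mp (hWn (hBS hy)) x).mp hx.2) (inv_mem hx.2)
          rwa [← commutatorElement_def] at h3
        have h2 : Commute (QuotientGroup.mk' M y) (QuotientGroup.mk' M u) :=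
          h1 hu _ (mem_map_of_mem _ hy)
        refine (QuotientGroup.eq_one_iff _).mp ?_
        show QuotientGroup.mk' M ⁅u, y⁆ = 1
        rw [map_commutatorElement]
        exact commutatorElement_eq_one_iff_commute.mpr h2.symm
      have hcl2 : ⁅⁅B, B⁆, B⁆ = ⊥ := by
        rw [commutator_eq_bot_iff_le_centralizer]
        intro z hz b hb
        exact (hcentM hb z (hle hz)).symm
      obtain ⟨A₁, hA₁, hA₁B⟩ : ∃ A ∈ 𝒜, ¬ B ≤ A := by
        by_contra hno
        push Not at hno
        exact hBW fun b hb => mem_biInf.mpr fun A hA => hno A hA hb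
      obtain ⟨A, hA, hAB, hnorm⟩ := hrep B hBS hcl2
        ⟨A₁, hA₁, (hle.trans inf_le_right).trans (hWA A₁ hA₁), hA₁B⟩
      exfalso
      set C := centralizer (B : Set G) with hC
      set L := (pCore p (G ⧸ C)).comap (QuotientGroup.mk' C) with hL
      have hAL : A ≤ L := by
        intro a ha
        obtain ⟨k, hk⟩ := S.isPGroup' ⟨a, (h𝒜 A hA).1 ha⟩
        refine hst B hBp a ⟨k, congrArg Subtype.val hk⟩ ?_
        rw [commutator_eq_bot_iff_le_centralizer, commutator_le]
        intro b hb s hs z hz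
        have hsA : s ∈ A := (zpowers_le.mpr ha) hs
        have hk : ⁅b, s⁆ ∈ A := by
          rw [commutatorElement_def]
          exact mul_mem (hnorm b hb s hsA) (inv_mem hsA)
        exact ((h𝒜 A hA).2 z ((zpowers_le.mpr ha) hz) _ hk).eq
      set T := (S : Subgroup G) ⊓ L with hT
      have hsup := sup_normalizer_inf_eq_top S L C fun x hx => exists_pow_mem_of_comap_pCore C hx
      refine hAB (hgen A fun g x hx => ?_)
      obtain ⟨n, hn, c, hc, rfl⟩ := (Basics.mem_sup_of_le_normalizer'
        le_normalizer_of_normal).mp (hsup.ge (mem_top g))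
      have hcx : c * x * c⁻¹ = x := by
        rw [← hc x hx.1, mul_inv_cancel_right]
      rw [show n * c * x * (n * c)⁻¹ = n * (c * x * c⁻¹) * n⁻¹ by group, hcx]
      have hAT : A ≤ T := le_inf (h𝒜 A hA).1 hAL
      exact hinv T inf_le_left ⟨A, hA, hAT⟩ n hn x (fun A' hA' _ => hWA A' hA' hx.2) A hA hAT
  set X := pCore p G with hX
  have hXS : X ≤ (S : Subgroup G) := Basics.pCore_le_sylow p S
  have hWX : W ≤ X := by
    intro a ha
    obtain ⟨k, hk⟩ := S.isPGroup' ⟨a, hWle ha⟩
    have hq : ⁅⁅X, zpowers a⁆, zpowers a⁆ = ⊥ := by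
      rw [commutator_eq_bot_iff_le_centralizer, commutator_le]
      intro x hx s hs z hz
      have hsW : s ∈ W := (zpowers_le.mpr ha) hs
      have hk : ⁅x, s⁆ ∈ W := by
        rw [commutatorElement_def]
        exact mul_mem (hWS x (hXS hx) s hsW) (inv_mem hsW)
      exact (hWc z ((zpowers_le.mpr ha) hz) _ hk).eq
    have h := hst X (Basics.pCore_isPGroup p) a ⟨k, congrArg Subtype.val hk⟩ hq
    refine Basics.le_pCore ?_ (show a ∈ (pCore p (G ⧸ centralizer (X : Set G))).comap
      (QuotientGroup.mk' _) from h)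
    exact (Basics.pCore_isPGroup p).comap_of_ker_isPGroup _
      (by rw [QuotientGroup.ker_mk']; exact (Basics.pCore_isPGroup p).to_le hc)
  have h := main X inferInstance (Basics.pCore_isPGroup p)
  rwa [inf_eq_right.mpr hWX] at h

end Cfsg.Agent.Transfer
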