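import Cfsg.Agent.Lib.Transfer.Fusion

/-!
# Subgroups controlling fusion: focal and hyperfocal consequences
-/

set_option autoImplicit false
set_option linter.style.haveILetI false

namespace Cfsg.Agent.Transfer

open Subgroup Cfsg
open scoped commutatorElement Pointwise

variable {G : Type*} [Group G] {p : ℕ}

/-- The focal subgroup of a Sylow subgroup, computed inside a subgroup controlling fusion. -/
theorem commutator_inf_eq_of_control [Finite G] [Fact p.Prime] (P : Sylow p G) (V : Subgroup G)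
    (hPV : (P : Subgroup G) ≤ V)
    (h : ∀ x ∈ (P : Subgroup G), ∀ g : G, g⁻¹ * x * g ∈ (P : Subgroup G) →
      ∃ v ∈ V, v⁻¹ * x * v = g⁻¹ * x * g) :
    _root_.commutator G ⊓ (P : Subgroup G) = ⁅V, V⁆ ⊓ (P : Subgroup G) := by
  refine le_antisymm ?_ (inf_le_inf_right _ ?_)
  · rw [commutator_inf_eq_focalSubgroup P, focalSubgroup_def, closure_le]
    rintro z ⟨hz, x, hx, u, rfl⟩
    refine mem_inf.mpr ⟨?_, hz⟩
    have h1 : u⁻¹⁻¹ * x⁻¹ * u⁻¹ ∈ (P : Subgroup G) := by
      have := mul_mem (inv_mem hx) hz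
      simpa [commutatorElement_def, mul_assoc] using this
    obtain ⟨v, hv, hvx⟩ := h x⁻¹ (inv_mem hx) u⁻¹ h1
    have e : ⁅x, u⁆ = ⁅x, v⁻¹⁆ := by
      rw [commutatorElement_def, commutatorElement_def, mul_assoc x, mul_assoc x,
        mul_assoc x v⁻¹, mul_assoc x (v⁻¹ * x⁻¹), inv_inv]
      congr 1
      rw [hvx]; group
    rw [e]
    exact commutator_mem_commutator (hPV hx) (inv_mem hv)
  · rw [_root_.commutator_def]; exact commutator_mono le_top le_top

/-- The hyperfocal subgroup, computed inside a subgroup controlling fusion. -/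
theorem inf_pResidual_eq_of_control [Finite G] [Fact p.Prime] (P : Sylow p G) (V : Subgroup G)
    (hPV : (P : Subgroup G) ≤ V)
    (h : ∀ x ∈ (P : Subgroup G), ∀ g : G, g⁻¹ * x * g ∈ (P : Subgroup G) →
      ∃ v ∈ V, v⁻¹ * x * v = g⁻¹ * x * g) :
    (P : Subgroup G) ⊓ pResidual p G = (P : Subgroup G) ⊓ (pResidual p V).map V.subtype := by
  have hle : (pResidual p V).map V.subtype ≤ pResidual p G := map_pResidual_le _
  refine le_antisymm (le_trans (inf_pResidual_le_of_fusion P _ (inf_le_inf_left _ hle) ?_ ?_) le_rfl)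
    (inf_le_inf_left _ hle)
  · intro z hz
    refine mem_normalizer_iff.mpr fun y => ?_
    have hzV : z ∈ normalizer (((pResidual p V).map V.subtype : Subgroup G) : Set G) := by
      refine (le_normalizer_map V.subtype) ?_
      refine ⟨⟨z, hPV hz⟩, ?_, rfl⟩
      rw [normalizer_eq_top]; trivial
    have h1 := mem_normalizer_iff.mp hzV y
    have h2 := mem_normalizer_iff.mp ((le_normalizer : (P : Subgroup G) ≤ _) hz) y
    simp only [mem_inf]
    exact and_congr h2 h1
  · intro x hx g hg hy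
    obtain ⟨v, hv, hvx⟩ := h x hx.1 g hy.1
    have hvmem : (⟨v, hv⟩ : V) ∈
        (↑(pResidual p V) * ↑((P.subtype hPV : Sylow p V) : Subgroup V) : Set V) := by
      rw [← normal_mul, pResidual_sup_sylow]; trivial
    obtain ⟨u, hu, z, hz, huz⟩ := Set.mem_mul.mp hvmem
    have hzP : (z : G) ∈ (P : Subgroup G) := hz
    have hveq : (u : G) * z = v := congrArg Subtype.val huz
    have huG : (u : G) ∈ (pResidual p V).map V.subtype := ⟨u, hu, rfl⟩
    set w := (u : G)⁻¹ * x * u with hw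
    have hwy : g⁻¹ * x * g = (z : G)⁻¹ * w * z := by rw [← hvx, ← hveq, hw]; group
    have hwP : w ∈ (P : Subgroup G) := by
      have := mul_mem (mul_mem hzP hy.1) (inv_mem hzP)
      rw [hwy] at this
      simpa [mul_assoc] using this
    have h1 : x⁻¹ * w ∈ (P : Subgroup G) ⊓ (pResidual p V).map V.subtype := by
      refine mem_inf.mpr ⟨mul_mem (inv_mem hx.1) hwP, ?_⟩
      have hxV : (⟨x, hPV hx.1⟩ : V)⁻¹ * u⁻¹ * ⟨x, hPV hx.1⟩ * u ∈ pResidual p V := by
        refine mul_mem ?_ hu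
        simpa using Subgroup.Normal.conj_mem inferInstance u⁻¹ (inv_mem hu)
          (⟨x, hPV hx.1⟩ : V)⁻¹
      exact ⟨_, hxV, by simp [hw, mul_assoc]⟩
    have hwQ : w ∈ (P : Subgroup G) ⊓ pResidual p G := by
      have : x * (x⁻¹ * w) ∈ (P : Subgroup G) ⊓ pResidual p G :=
        mul_mem hx (inf_le_inf_left _ hle h1)
      simpa using this
    have h2 := commutator_mem_commutator (H₁ := (P : Subgroup G) ⊓ pResidual p G)
      (H₂ := (P : Subgroup G)) (inv_mem hwQ) (inv_mem hzP)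
    have e : x⁻¹ * (g⁻¹ * x * g) = (x⁻¹ * w) * ⁅w⁻¹, (z : G)⁻¹⁆ := by
      rw [hwy, commutatorElement_def]; group
    rw [e]
    exact mul_mem_sup h1 h2

/-- If `Z ≤ C(P)` is weakly closed in `P` then `N(Z)` controls the fusion of elements of `P`. -/
theorem control_of_weaklyClosed [Finite G] [Fact p.Prime] (P : Sylow p G) (Z : Subgroup G)
    (hZ : Z ≤ centralizer (P : Set G)) (hW : IsWeaklyClosed Z (P : Subgroup G))
    (x : G) (hx : x ∈ (P : Subgroup G)) (g : G) (hg : g⁻¹ * x * g ∈ (P : Subgroup G)) :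
    ∃ v ∈ normalizer (Z : Set G), v⁻¹ * x * v = g⁻¹ * x * g := by
  have hZp : IsPGroup p Z := P.2.to_le hW.1
  let Z' := Z.map (MulAut.conj g).toMonoidHom
  have hZ'p : IsPGroup p Z' := hZp.map _
  set C := centralizer ({x} : Set G) with hC
  have hZC : Z ≤ C := fun z hz => mem_centralizer_singleton_iff.mpr (hZ hz x hx).symm
  have hZ'C : Z' ≤ C := by
    rintro _ ⟨z, hz, rfl⟩
    refine mem_centralizer_singleton_iff.mpr (Eq.symm ?_)
    have := hZ hz _ hg
    simp only [MulEquiv.coe_toMonoidHom, MulAut.conj_apply]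
    calc x * (g * z * g⁻¹) = g * ((g⁻¹ * x * g) * z) * g⁻¹ := by group
      _ = g * (z * (g⁻¹ * x * g)) * g⁻¹ := by rw [this]
      _ = g * z * g⁻¹ * x := by group
  obtain ⟨S, hS⟩ := (hZp.comap_subtype (K := C)).exists_le_sylow
  obtain ⟨S', hS'⟩ := (hZ'p.comap_subtype (K := C)).exists_le_sylow
  obtain ⟨c, hc⟩ := MulAction.exists_smul_eq C S' S
  obtain ⟨T, hT⟩ := (S.2.map C.subtype).exists_le_sylow
  obtain ⟨t, ht⟩ := MulAction.exists_smul_eq G T P
  have hTP : ∀ y ∈ (T : Subgroup G), t * y * t⁻¹ ∈ (P : Subgroup G) := fun y hy => by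
    rw [← ht]; exact ⟨y, hy, rfl⟩
  have conjclosed : ∀ k : G, (∀ z ∈ Z, k * z * k⁻¹ ∈ (P : Subgroup G)) →
      k ∈ normalizer (Z : Set G) := fun k hk => by
    refine mem_normalizer_iff_map_conj_eq.mpr (hW.2 k ?_)
    rintro _ ⟨z, hz, rfl⟩; exact hk z hz
  have h1 : t ∈ normalizer (Z : Set G) := conjclosed t fun z hz =>
    hTP z (hT ⟨⟨z, hZC hz⟩, hS hz, rfl⟩)
  have h2 : t * (c : G) * g ∈ normalizer (Z : Set G) := conjclosed _ fun z hz => by
    have hz' : g * z * g⁻¹ ∈ Z' := ⟨z, hz, rfl⟩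
    have h3 : (c * (⟨g * z * g⁻¹, hZ'C hz'⟩ : C) * c⁻¹) ∈ (S : Subgroup C) := by
      rw [← hc]; exact ⟨⟨g * z * g⁻¹, hZ'C hz'⟩, hS' hz', rfl⟩
    have h4 := hTP _ (hT ⟨_, h3, rfl⟩)
    simpa [mul_assoc] using h4
  refine ⟨(c : G) * g, ?_, ?_⟩
  · have := mul_mem (inv_mem h1) h2
    simpa [mul_assoc] using this
  · have hcx : (c : G) * x = x * c := mem_centralizer_singleton_iff.mp c.2
    calc ((c : G) * g)⁻¹ * x * (c * g) = g⁻¹ * ((c : G)⁻¹ * (x * c)) * g := by group
      _ = g⁻¹ * x * g := by rw [← hcx, inv_mul_cancel_left]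

end Cfsg.Agent.Transfer
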