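import Mathlib

/-!
Transfer of a central involution of a Sylow 2-subgroup into a commutative group.
-/

set_option autoImplicit false

namespace Cfsg.Agent.Transfer

open MulAction

variable {G : Type*} [Group G] [Finite G]

/-- If a central involution of a Sylow 2-subgroup is fixed by the normalizer and is not killed by
some homomorphism into a commutative group, it is not killed by the transfer. -/
theorem transfer_central_involution_ne_one (X : Sylow 2 G) {A : Type*} [CommGroup A]
    (φ : (X : Subgroup G) →* A) (s : G) (hsX : s ∈ (X : Subgroup G)) (hs2 : s * s = 1)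
    (hcent : ∀ x ∈ (X : Subgroup G), x * s = s * x)
    (hN : ∀ n ∈ Subgroup.normalizer ((X : Subgroup G) : Set G), n⁻¹ * s * n = s)
    (hφ : φ ⟨s, hsX⟩ ≠ 1) : MonoidHom.transfer φ s ≠ 1 := by
  classical
  let H : Subgroup G := (X : Subgroup G)
  haveI : Fintype (G ⧸ H) := Fintype.ofFinite _
  haveI : Fintype (Quotient (orbitRel (Subgroup.zpowers s) (G ⧸ H))) := Fintype.ofFinite _
  -- the value attached to a coset fixed by `s`
  let val : G ⧸ H → A := fun q => if h : q.out⁻¹ * s * q.out ∈ H then φ ⟨_, h⟩ else 1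
  have hfix : ∀ g : G, s • (g : G ⧸ H) = (g : G ⧸ H) ↔ g⁻¹ * s * g ∈ H := by
    intro g
    rw [MulAction.Quotient.smul_coe, smul_eq_mul, eq_comm, QuotientGroup.eq, mul_assoc]
  have hval : ∀ (g : G) (h : g⁻¹ * s * g ∈ H), val (g : G ⧸ H) = φ ⟨_, h⟩ := by
    intro g h
    obtain ⟨x, hx⟩ := QuotientGroup.mk_out_eq_mul H g
    have e : (g * (x : G))⁻¹ * s * (g * (x : G)) = ((x⁻¹ * ⟨_, h⟩ * x : H) : G) := by
      simp only [Subgroup.coe_mul, Subgroup.coe_inv]; group
    have hmem : (g : G ⧸ H).out⁻¹ * s * (g : G ⧸ H).out ∈ H := by rw [hx, e]; exact SetLike.coe_mem _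
    show dite _ _ _ = _
    rw [dif_pos hmem]
    have : (⟨_, hmem⟩ : H) = x⁻¹ * ⟨_, h⟩ * x := Subtype.ext (by rw [← e]; simp only [hx])
    rw [this, map_mul, map_mul, map_inv, inv_mul_cancel_comm]
  set Fix := Finset.univ.filter fun q : G ⧸ H => s • q = q with hFix
  have htr : MonoidHom.transfer φ s = ∏ q ∈ Fix, val q := by
    rw [MonoidHom.transfer_eq_prod_quotient_orbitRel_zpowers_quot]
    rw [← Finset.prod_filter_mul_prod_filter_not Finset.univ
      (fun o : Quotient (orbitRel (Subgroup.zpowers s) (G ⧸ H)) => s • o.out = o.out),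
      Finset.prod_eq_one (s := Finset.univ.filter fun o => ¬ _) fun o ho => ?_, mul_one]
    · refine Finset.prod_nbij' (fun o => o.out) (fun q => Quotient.mk'' q) (fun o ho => ?_) (fun q hq => ?_)
        (fun o _ => Quotient.out_eq' o) (fun q hq => ?_) fun o ho => ?_
      · simp only [Finset.mem_filter, Finset.mem_univ, true_and] at ho ⊢
        simp only [hFix, Finset.mem_filter, Finset.mem_univ, true_and]
        exact ho
      all_goals simp only [hFix, Finset.mem_filter, Finset.mem_univ, true_and] at *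
      · have : ∀ q' : G ⧸ H, (orbitRel (Subgroup.zpowers s) (G ⧸ H)).r q' q → s • q' = q' := by
          rintro q' ⟨⟨t, k, rfl⟩, rfl⟩
          show s • (s ^ k • q) = s ^ k • q
          rw [smul_smul, ← zpow_one_add, add_comm, zpow_add_one, ← smul_smul, hq]
        exact this _ (Quotient.exact' (Quotient.out_eq' (Quotient.mk'' q :
          Quotient (orbitRel (Subgroup.zpowers s) (G ⧸ H)))))
      · have h1 : (orbitRel (Subgroup.zpowers s) (G ⧸ H)).r
            (Quotient.mk'' q : Quotient (orbitRel (Subgroup.zpowers s) (G ⧸ H))).out q :=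
          Quotient.exact' (Quotient.out_eq' _)
        obtain ⟨⟨t, k, rfl⟩, hk⟩ := h1
        rw [← hk]
        show s ^ k • q = q
        exact (MulAction.stabilizer G q).zpow_mem (MulAction.mem_stabilizer_iff.2 hq) k
      · have hp : Function.minimalPeriod (s • ·) o.out = 1 :=
          Function.minimalPeriod_eq_one_iff_isFixedPt.mpr ho
        have hmem : o.out.out⁻¹ * s * o.out.out ∈ H := by
          rw [← hfix, QuotientGroup.out_eq']; exact ho
        show φ _ = dite _ _ _
        rw [dif_pos hmem]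
        refine congrArg φ (Subtype.ext ?_)
        show o.out.out⁻¹ * s ^ Function.minimalPeriod (s • ·) o.out * o.out.out = o.out.out⁻¹ * s * o.out.out
        rw [hp, pow_one]
    · simp only [Finset.mem_filter, Finset.mem_univ, true_and] at ho
      have hp : Function.minimalPeriod (s • ·) o.out = 2 := by
        haveI : Fact (Nat.Prime 2) := ⟨Nat.prime_two⟩
        exact Function.minimalPeriod_eq_prime (show s • (s • o.out) = o.out by rw [smul_smul, hs2, one_smul]) ho
      refine (congrArg φ (Subtype.ext ?_)).trans (map_one φ)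
      show o.out.out⁻¹ * s ^ Function.minimalPeriod (s • ·) o.out * o.out.out = 1
      rw [hp, pow_two, hs2, mul_one, inv_mul_cancel]
  -- fixed points of `X`
  have hinv : ∀ (x : H) (q : G ⧸ H), q ∈ Fix → x • q ∈ Fix ∧ val (x • q) = val q := by
    intro x q hq
    induction q using QuotientGroup.induction_on with | _ g => ?_
    simp only [hFix, Finset.mem_filter, Finset.mem_univ, true_and] at hq ⊢
    have h := (hfix g).1 hq
    have e : ((x : G) * g)⁻¹ * s * ((x : G) * g) = g⁻¹ * s * g := by
      calc ((x : G) * g)⁻¹ * s * ((x : G) * g) = g⁻¹ * ((x : G)⁻¹ * (s * x)) * g := by group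
        _ = g⁻¹ * ((x : G)⁻¹ * (x * s)) * g := by rw [hcent x x.2]
        _ = _ := by group
    show s • ((((x : G) * g : G)) : G ⧸ H) = (((x : G) * g : G) : G ⧸ H) ∧ val (((x : G) * g : G) : G ⧸ H) = _
    refine ⟨(hfix _).2 (e ▸ h), ?_⟩
    rw [hval _ (e ▸ h), hval g h]
    exact congrArg φ (Subtype.ext e)
  have hodd : ∀ a : A, (Fix.filter fun q => val q = a).card % 2 = if a = φ ⟨s, hsX⟩ then 1 else 0 := by
    intro a
    let S : SubMulAction H (G ⧸ H) :=
      { carrier := {q | q ∈ Fix ∧ val q = a}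
        smul_mem' := fun x q hq => ⟨(hinv x q hq.1).1, (hinv x q hq.1).2.trans hq.2⟩ }
    have hX := X.2.card_modEq_card_fixedPoints S
    have hG := X.2.card_modEq_card_fixedPoints (G ⧸ H)
    have hS : Nat.card S = (Fix.filter fun q => val q = a).card := by
      rw [← Nat.card_eq_finsetCard]
      exact Nat.card_congr (Equiv.subtypeEquivRight fun q => by
        show (q ∈ Fix ∧ val q = a) ↔ _
        exact (Finset.mem_filter (s := Fix) (p := fun q => val q = a)).symm)
    have hfp : ∀ q : G ⧸ H, q ∈ fixedPoints H (G ⧸ H) → q ∈ Fix ∧ val q = φ ⟨s, hsX⟩ := by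
      intro q hq
      induction q using QuotientGroup.induction_on with | _ g => ?_
      have hg : g ∈ Subgroup.normalizer (H : Set G) := by
        have := (Sylow.mem_fixedPoints_mul_left_cosets_iff_mem_normalizer (H := H) (x := g)).1 hq
        exact this
      have h : g⁻¹ * s * g = s := hN g hg
      refine ⟨?_, ?_⟩
      · simp only [hFix, Finset.mem_filter, Finset.mem_univ, true_and]
        exact (hfix g).2 (by rw [h]; exact hsX)
      · rw [hval g (by rw [h]; exact hsX)]
        exact congrArg φ (Subtype.ext h)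
    have hidx : Nat.card (G ⧸ H) % 2 = 1 := Nat.two_dvd_ne_zero.1 X.not_dvd_index
    rw [hS] at hX
    unfold Nat.ModEq at hX hG
    rw [hX]
    split_ifs with ha
    · rw [show Nat.card (fixedPoints H S) = Nat.card (fixedPoints H (G ⧸ H)) from
        Nat.card_congr
          { toFun := fun q => ⟨q.1.1, fun x => congrArg Subtype.val (q.2 x)⟩
            invFun := fun q => ⟨⟨q.1, (hfp q.1 q.2).1, (hfp q.1 q.2).2.trans ha.symm⟩,
              fun x => Subtype.ext (q.2 x)⟩
            left_inv := fun q => rfl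
            right_inv := fun q => rfl }, ← hG, hidx]
    · have : IsEmpty (fixedPoints H S) :=
        ⟨fun q => ha (q.1.2.2.symm.trans (hfp q.1.1 fun x => congrArg Subtype.val (q.2 x)).2)⟩
      rw [Nat.card_of_isEmpty]
  rw [htr, ← Finset.prod_fiberwise_of_maps_to (g := val) (t := insert (φ ⟨s, hsX⟩) (Fix.image val))
    (fun q hq => Finset.mem_insert_of_mem (Finset.mem_image_of_mem _ hq)),
    Finset.prod_eq_single (φ ⟨s, hsX⟩)]
  · rw [Finset.prod_congr rfl (fun q hq => (Finset.mem_filter.1 hq).2), Finset.prod_const]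
    have h1 : φ ⟨s, hsX⟩ ^ 2 = 1 := by
      rw [← map_pow, show (⟨s, hsX⟩ : H) ^ 2 = 1 from Subtype.ext (by rw [pow_two]; exact hs2), map_one]
    rw [← Nat.div_add_mod ((Fix.filter fun q => val q = φ ⟨s, hsX⟩).card) 2, hodd, if_pos rfl, pow_add, pow_mul,
      h1, one_pow, one_mul, pow_one]
    exact hφ
  · intro a ha hne
    rw [Finset.prod_congr rfl (fun q hq => (Finset.mem_filter.1 hq).2), Finset.prod_const]
    obtain ⟨k, hk⟩ : 2 ∣ (Fix.filter fun q => val q = a).card :=
      Nat.dvd_of_mod_eq_zero (by rw [hodd, if_neg hne])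
    rcases Finset.eq_empty_or_nonempty (Fix.filter fun q => val q = a) with h0 | ⟨q, hq⟩
    · rw [h0, Finset.card_empty, pow_zero]
    · obtain ⟨hqF, hqa⟩ := Finset.mem_filter.1 hq
      have hmem : q.out⁻¹ * s * q.out ∈ H := by
        rw [← hfix, QuotientGroup.out_eq']
        exact (Finset.mem_filter.1 hqF).2
      have ha2 : a ^ 2 = 1 := by
        rw [← hqa]
        show (dite _ _ _) ^ 2 = 1
        rw [dif_pos hmem, ← map_pow]
        refine (congrArg φ (Subtype.ext ?_)).trans (map_one φ)
        show (q.out⁻¹ * s * q.out) ^ 2 = 1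
        calc (q.out⁻¹ * s * q.out) ^ 2 = q.out⁻¹ * (s * s) * q.out := by rw [pow_two]; group
          _ = 1 := by rw [hs2]; group
      rw [hk, pow_mul, ha2, one_pow]
  · intro h
    exact absurd (Finset.mem_insert_self _ _) h

/-- A finite commutative group with an element of order two has a subgroup of index two. -/
theorem exists_index_two_of_involution {B : Type*} [Group B] [Finite B] (hB : ∀ a b : B, a * b = b * a)
    {b : B} (hb : b ^ 2 = 1) (hb1 : b ≠ 1) : ∃ K : Subgroup B, K.index = 2 := by
  obtain ⟨P⟩ : Nonempty (Sylow 2 B) := inferInstance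
  haveI : IsMulCommutative B := ⟨⟨hB⟩⟩
  haveI : (P : Subgroup B).Normal := Subgroup.normal_of_isMulCommutative _
  haveI : Fact (Nat.Prime 2) := ⟨Nat.prime_two⟩
  obtain ⟨Q, hQ⟩ := Subgroup.exists_right_complement'_of_coprime P.card_coprime_index
  obtain ⟨k, hk⟩ := P.2.exists_card_eq
  have hk0 : k ≠ 0 := fun h => by
    have h2 : 2 ∣ Nat.card B := by
      rw [← orderOf_eq_prime hb hb1]; exact _root_.orderOf_dvd_natCard b
    rw [← hQ.card_mul, hk, h, pow_zero, one_mul, ← hQ.symm.index_eq_card] at h2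
    exact P.not_dvd_index h2
  obtain ⟨R, hR⟩ := Sylow.exists_subgroup_card_pow_prime (G := (P : Subgroup B)) 2 (n := k - 1)
    (by rw [hk]; exact pow_dvd_pow 2 (by omega))
  haveI : Q.Normal := Subgroup.normal_of_isMulCommutative _
  refine ⟨R.map (P : Subgroup B).subtype ⊔ Q, ?_⟩
  have hRP : R.map (P : Subgroup B).subtype ≤ (P : Subgroup B) := Subgroup.map_subtype_le R
  have hdis : Subgroup.IsComplement' ((R.map (P : Subgroup B).subtype).subgroupOf (R.map (P : Subgroup B).subtype ⊔ Q))
      (Q.subgroupOf (R.map (P : Subgroup B).subtype ⊔ Q)) := by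
    refine Subgroup.isComplement'_of_disjoint_and_mul_eq_univ ?_ ?_
    · rw [disjoint_iff, Subgroup.subgroupOf, Subgroup.subgroupOf, ← Subgroup.comap_inf, show R.map (P : Subgroup B).subtype ⊓ Q = ⊥ from
        le_bot_iff.1 ((inf_le_inf_right Q hRP).trans hQ.disjoint.eq_bot.le), MonoidHom.comap_bot, Subgroup.ker_subtype]
    · refine Set.eq_univ_of_forall fun x => ?_
      have hx : (x : B) ∈ ((R.map (P : Subgroup B).subtype ⊔ Q : Subgroup B) : Set B) := x.2
      rw [Subgroup.mul_normal] at hx
      obtain ⟨r, hr, q, hq, e⟩ := hx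
      exact ⟨⟨r, Subgroup.mem_sup_left hr⟩, hr, ⟨q, Subgroup.mem_sup_right hq⟩, hq, Subtype.ext e⟩
  have hc := hdis.card_mul
  rw [Nat.card_congr (Subgroup.subgroupOfEquivOfLe le_sup_left).toEquiv,
    Nat.card_congr (Subgroup.subgroupOfEquivOfLe le_sup_right).toEquiv,
    Subgroup.card_map_of_injective (P : Subgroup B).subtype_injective, hR] at hc
  have h1 := (R.map (P : Subgroup B).subtype ⊔ Q).card_mul_index
  rw [← hc, ← hQ.card_mul, hk, show k = k - 1 + 1 by omega, Nat.add_sub_cancel, pow_succ,
    mul_right_comm (2 ^ (k - 1)) 2] at h1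
  exact Nat.eq_of_mul_eq_mul_left (Nat.mul_pos (pow_pos (by norm_num) _) Nat.card_pos) h1

/-- The same, for the group itself. -/
theorem exists_index_two (X : Sylow 2 G) {A : Type*} [CommGroup A]
    (φ : (X : Subgroup G) →* A) (s : G) (hsX : s ∈ (X : Subgroup G)) (hs2 : s * s = 1)
    (hcent : ∀ x ∈ (X : Subgroup G), x * s = s * x)
    (hN : ∀ n ∈ Subgroup.normalizer ((X : Subgroup G) : Set G), n⁻¹ * s * n = s)
    (hφ : φ ⟨s, hsX⟩ ≠ 1) : ∃ K : Subgroup G, K.index = 2 := by
  set τ := MonoidHom.transfer φ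
  have h1 : τ s ≠ 1 := transfer_central_involution_ne_one X φ s hsX hs2 hcent hN hφ
  haveI : Finite τ.range := Finite.of_surjective _ τ.rangeRestrict_surjective
  obtain ⟨K, hK⟩ := exists_index_two_of_involution (B := τ.range) (b := τ.rangeRestrict s)
    (fun a b => mul_comm a b) (by rw [← map_pow, pow_two, hs2, map_one])
    (fun h => h1 (congrArg Subtype.val h))
  exact ⟨K.comap τ.rangeRestrict, by rw [Subgroup.index_comap_of_surjective K τ.rangeRestrict_surjective, hK]⟩

end Cfsg.Agent.Transfer
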