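import Cfsg.Agent.Lib.Basics.Frattini
import Cfsg.Agent.Lib.Transfer.ClassTwo
import Cfsg.Agent.Lib.Basics.Tools

/-!
# Commutator pairing into a central subgroup of prime order
-/

set_option autoImplicit false
set_option linter.style.haveILetI false

namespace Cfsg.Agent.Transfer

open Subgroup
open scoped commutatorElement

universe u

variable {G : Type*} [Group G] {p : ℕ}

theorem index_centralizer_mul_le [Finite G] [hp : Fact p.Prime] {Z : Subgroup G}
    (hZ : Z ≤ center G) (hZp : Nat.card Z = p) (D : Subgroup G) (hZD : Z ≤ D) (hD : IsPGroup p D)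
    (hDc : ∀ d ∈ D, ∀ g : G, ⁅g, d⁆ ∈ Z) :
    (centralizer (D : Set G)).index * p ≤ Nat.card D := by
  induction hn : Nat.card D using Nat.strong_induction_on generalizing D with
  | _ n ih =>
    subst hn
    by_cases hDZ : D = Z
    · subst hDZ
      have : centralizer (D : Set G) = ⊤ := top_le_iff.mp fun g _ z hz =>
        (mem_center_iff.mp (hZ hz) g).symm
      rw [this, index_top, one_mul, hZp]
    obtain ⟨M, ⟨hZM, hMD⟩, hmax⟩ := WellFounded.has_min (wellFounded_gt (α := Subgroup G))
      {M : Subgroup G | Z ≤ M ∧ M < D} ⟨Z, le_rfl, lt_of_le_of_ne hZD (Ne.symm hDZ)⟩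
    obtain ⟨x, hxD, hxM⟩ := SetLike.exists_of_lt hMD
    have hDeq : M ⊔ zpowers x = D := by
      by_contra hne
      exact hmax _ ⟨hZM.trans le_sup_left,
        lt_of_le_of_ne (sup_le hMD.le (zpowers_le.mpr hxD)) hne⟩
        (lt_of_le_of_ne le_sup_left fun h => hxM (h ▸ mem_sup_right (mem_zpowers x)))
    obtain ⟨a, ha⟩ := hD.exists_card_eq
    obtain ⟨b, hb⟩ := (hD.to_le hMD.le).exists_card_eq
    have hMc : p * Nat.card M ≤ Nat.card D := by
      have h1 := Basics.card_lt_of_lt hMD
      rw [ha, hb, Nat.pow_lt_pow_iff_right hp.out.one_lt] at h1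
      rw [ha, hb, ← pow_succ']
      exact Nat.pow_le_pow_right hp.out.pos h1
    have hih := ih _ (Basics.card_lt_of_lt hMD) M hZM (hD.to_le hMD.le)
      (fun d hd => hDc d (hMD.le hd)) rfl
    set C := centralizer (M : Set G)
    set C' := centralizer (D : Set G)
    have hC'C : C' ≤ C := centralizer_le hMD.le
    have hcl : ∀ g : C, ⁅(g : G), x⁆ ∈ Z := fun g => hDc x hxD g
    let φ : C →* Z :=
      { toFun := fun g => ⟨_, hcl g⟩
        map_one' := Subtype.ext (commutatorElement_one_left x)
        map_mul' := fun g h => Subtype.ext (by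
          have hc := mem_center_iff.mp (hZ (hcl h))
          show ⁅(g : G) * h, x⁆ = ⁅(g : G), x⁆ * ⁅(h : G), x⁆
          have e : ⁅(g : G) * h, x⁆ = g * ⁅(h : G), x⁆ * (g : G)⁻¹ * ⁅(g : G), x⁆ := by
            simp only [commutatorElement_def]; group
          rw [e, hc (g : G), mul_inv_cancel_right, hc ⁅(g : G), x⁆]) }
    have hker : φ.ker ≤ C'.subgroupOf C := by
      intro g hg
      have h1 : ⁅(g : G), x⁆ = 1 := congrArg Subtype.val (MonoidHom.mem_ker.mp hg)
      rw [commutatorElement_eq_one_iff_commute] at h1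
      show (g : G) ∈ centralizer (D : Set G)
      intro d hd
      have h2 : D ≤ centralizer {(g : G)} := by
        rw [← hDeq]
        refine sup_le (fun y hy => mem_centralizer_singleton_iff.mpr (g.2 y hy)) ?_
        rw [zpowers_le]
        exact mem_centralizer_singleton_iff.mpr h1.symm
      exact mem_centralizer_singleton_iff.mp (h2 hd)
    have hidx : C'.relIndex C ≤ p := by
      refine (Nat.le_of_dvd (Nat.pos_of_ne_zero index_ne_zero_of_finite)
        (index_dvd_of_le hker)).trans ?_
      rw [index_ker, ← hZp]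
      exact card_le_card_group _
    calc C'.index * p = C'.relIndex C * (C.index * p) := by
          rw [← relIndex_mul_index hC'C]; ring
      _ ≤ p * Nat.card M := Nat.mul_le_mul hidx hih
      _ ≤ Nat.card D := hMc

/-- A subgroup with centre `Z` on which the commutator pairing takes values in `Z` splits off its
centralizer. -/
theorem sup_centralizer_eq_top [Finite G] [hp : Fact p.Prime] {Z : Subgroup G}
    (hZ : Z ≤ center G) (hZp : Nat.card Z = p) (D : Subgroup G) (hZD : Z ≤ D) (hD : IsPGroup p D)
    (hDc : ∀ d ∈ D, ∀ g : G, ⁅g, d⁆ ∈ Z) (hDZ : D ⊓ centralizer (D : Set G) ≤ Z) :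
    D ⊔ centralizer (D : Set G) = ⊤ ∧
      Nat.card G * p = Nat.card D * Nat.card (centralizer (D : Set G)) := by
  have hn : D ≤ normalizer (centralizer (D : Set G) : Set G) := by
    intro g hg
    rw [mem_normalizer_iff]
    intro x
    constructor
    · intro hx
      rwa [hx g hg, mul_inv_cancel_right]
    · intro hx
      have h := hx g hg
      rw [inv_mul_cancel_right] at h
      rwa [mul_left_cancel h] at hx
  have h1 := Basics.card_mul_card_eq_card_sup_mul_card_inf hn
  rw [sup_comm, inf_comm] at h1
  have h2 : Nat.card (D ⊓ centralizer (D : Set G) : Subgroup G) ≤ p :=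
    hZp ▸ card_le_of_le hDZ
  have h3 := index_centralizer_mul_le hZ hZp D hZD hD hDc
  have h4 := card_mul_index (centralizer (D : Set G))
  have h5 := card_le_card_group (D ⊔ centralizer (D : Set G))
  have hC := Nat.card_pos (α := centralizer (D : Set G))
  have h6 : Nat.card (centralizer (D : Set G)) * Nat.card D ≤
      Nat.card (centralizer (D : Set G)) * ((centralizer (D : Set G)).index * p) := by
    calc Nat.card (centralizer (D : Set G)) * Nat.card D
        ≤ Nat.card (D ⊔ centralizer (D : Set G) : Subgroup G) * p := by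
          rw [h1]; exact Nat.mul_le_mul_left _ h2
      _ ≤ Nat.card G * p := Nat.mul_le_mul_right _ h5
      _ = _ := by rw [← h4]; ring
  have hDi : Nat.card D = (centralizer (D : Set G)).index * p :=
    le_antisymm (Nat.le_of_mul_le_mul_left h6 hC) h3
  have hGp : Nat.card G * p = Nat.card D * Nat.card (centralizer (D : Set G)) := by
    rw [hDi, ← h4]; ring
  refine ⟨eq_top_of_le_card _ (Nat.le_of_mul_le_mul_right ?_ hp.out.pos), hGp⟩
  rw [hGp, mul_comm (Nat.card D), h1]
  exact Nat.mul_le_mul_left _ h2

theorem card_eq_pow_odd_aux [hp : Fact p.Prime] : ∀ n : ℕ, ∀ {P : Type u} [Group P] [Finite P],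
    Nat.card P = n → IsPGroup p P → Nat.card (center P) = p →
      (∀ x y : P, ⁅x, y⁆ ∈ center P) → (∀ x : P, x ^ p ∈ center P) →
      ∃ m : ℕ, Nat.card P = p ^ (2 * m + 1) := by
  intro n
  induction n using Nat.strong_induction_on with
  | _ n ih =>
    intro P _ _ hn hP hZp hc hpow
    set Z := center P
    by_cases hZt : Z = ⊤
    · exact ⟨0, by rw [← card_top (G := P), ← hZt, hZp, mul_zero, zero_add, pow_one]⟩
    obtain ⟨x, hx⟩ := not_forall.mp fun h => hZt ((eq_top_iff' Z).mpr h)
    obtain ⟨y, hy⟩ := not_forall.mp fun h => hx (mem_center_iff.mpr h)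
    haveI : Z.Normal := inferInstance
    set M := Z ⊔ zpowers x with hM
    have hMn : ∀ t : P, t ∈ normalizer (M : Set P) := by
      have key : ∀ t : P, ∀ m ∈ M, t * m * t⁻¹ ∈ M := by
        intro t m hm
        have e : t * m * t⁻¹ = ⁅t, m⁆ * m := by simp only [commutatorElement_def]; group
        rw [e]
        exact mul_mem (mem_sup_left (hc t m)) hm
      intro t
      rw [mem_normalizer_iff]
      refine fun m => ⟨key t m, fun hm => ?_⟩
      have := key t⁻¹ _ hm
      simpa [mul_assoc] using this
    have hMcard : Nat.card M = p * p := by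
      rw [hM, (Basics.card_sup_zpowers (le_normalizer_of_normal (mem_top x)) (hpow x)).2 hx, hZp]
    have hxc : M ≤ centralizer {x} := sup_le
      (fun z hz => mem_centralizer_singleton_iff.mpr (mem_center_iff.mp hz x).symm)
      (zpowers_le.mpr (mem_centralizer_singleton_iff.mpr rfl))
    have hyM : y ∉ M := fun h => hy (mem_centralizer_singleton_iff.mp (hxc h))
    set D := M ⊔ zpowers y with hD
    have hDcard : Nat.card D = p * (p * p) := by
      rw [hD, (Basics.card_sup_zpowers (hMn y) (mem_sup_left (hpow y))).2 hyM, hMcard]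
    have hxD : x ∈ D := mem_sup_left (mem_sup_right (mem_zpowers x))
    have hyD : y ∈ D := mem_sup_right (mem_zpowers y)
    have hDZ : D ⊓ centralizer (D : Set P) ≤ Z := by
      set I := D ⊓ centralizer (D : Set P) with hI
      have hIx : I ≤ D ⊓ centralizer {x} := le_inf inf_le_left fun i hi =>
        mem_centralizer_singleton_iff.mpr (hi.2 x hxD).symm
      have hlt : D ⊓ centralizer {x} < D := lt_of_le_of_ne inf_le_left fun e =>
        hy (mem_centralizer_singleton_iff.mp (e.ge hyD).2)
      obtain ⟨a, ha⟩ := (hP.to_subgroup (D ⊓ centralizer {x})).exists_card_eq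
      have h1 := Basics.card_lt_of_lt hlt
      have hMe : M = D ⊓ centralizer {x} := by
        refine eq_of_le_of_card_ge (le_inf le_sup_left hxc) ?_
        rw [ha, hDcard, show p * (p * p) = p ^ 3 by ring,
          Nat.pow_lt_pow_iff_right hp.out.one_lt] at h1
        rw [ha, hMcard, ← sq]
        exact Nat.pow_le_pow_right hp.out.pos (by omega)
      have hIM : I ≤ M := hMe ▸ hIx
      have hlt2 : I < M := lt_of_le_of_ne hIM fun e =>
        hy ((e.ge (mem_sup_right (mem_zpowers x))).2 y hyD)
      intro i hi
      by_contra hiZ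
      have hZI : Z ≤ I := fun z hz => ⟨mem_sup_left (mem_sup_left hz),
        fun d _ => mem_center_iff.mp hz d⟩
      obtain ⟨b, hb⟩ := (hP.to_subgroup I).exists_card_eq
      have h2 := Basics.card_lt_of_lt hlt2
      have h3 := Basics.card_lt_of_lt (lt_of_le_of_ne hZI fun e => hiZ (e.ge hi))
      rw [hb, hMcard, ← sq, Nat.pow_lt_pow_iff_right hp.out.one_lt] at h2
      rw [hb, hZp] at h3
      nth_rewrite 1 [← pow_one p] at h3
      rw [Nat.pow_lt_pow_iff_right hp.out.one_lt] at h3
      omega
    have hZD : Z ≤ D := le_sup_left.trans le_sup_left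
    obtain ⟨htop, hcard⟩ := sup_centralizer_eq_top le_rfl hZp D hZD (hP.to_subgroup D)
      (fun d _ g => hc g d) hDZ
    set C := centralizer (D : Set P)
    have hCc : ∀ c : C, c ∈ center C ↔ (c : P) ∈ Z := by
      intro c
      refine ⟨fun h => mem_center_iff.mpr fun g => ?_, fun h => mem_center_iff.mpr fun d =>
        Subtype.ext (mem_center_iff.mp h d)⟩
      have : (⊤ : Subgroup P) ≤ centralizer {(c : P)} := htop ▸ sup_le
        (fun d hd => mem_centralizer_singleton_iff.mpr (c.2 d hd))
        (fun d hd => mem_centralizer_singleton_iff.mpr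
          (congrArg Subtype.val (mem_center_iff.mp h ⟨d, hd⟩)))
      exact mem_centralizer_singleton_iff.mp (this (mem_top g))
    have hCZ : Nat.card (center C) = p := by
      have : center C = Z.subgroupOf C := Subgroup.ext hCc
      rw [this, Basics.card_subgroupOf (show Z ≤ C from fun z hz d _ => mem_center_iff.mp hz d), hZp]
    have hClt : Nat.card C < n := by
      rw [← hn]
      refine Basics.card_lt_card_of_ne_top fun e => hy ?_
      have h : y ∈ C := e ▸ mem_top y
      exact (h x hxD).symm
    obtain ⟨m, hm⟩ := ih _ hClt rfl (hP.to_subgroup C) hCZ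
      (fun a b => (hCc _).mpr (by simpa [commutatorElement_def] using hc (a : P) b))
      (fun a => (hCc _).mpr (by simpa using hpow (a : P)))
    refine ⟨m + 1, ?_⟩
    rw [hDcard, hm] at hcard
    refine Nat.eq_of_mul_eq_mul_right hp.out.pos (hcard.trans ?_)
    ring

end Cfsg.Agent.Transfer
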