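import Cfsg.Agent.Lib.Transfer.Quadratic
import Cfsg.Agent.Lib.Transfer.JSubgroup
import Cfsg.Agent.Lib.Transfer.Fusion
import Cfsg.Agent.Lib.Basics.Tools

/-!
# No failure of factorization for abelian p'-groups, p odd
-/

set_option autoImplicit false
set_option linter.style.haveILetI false

namespace Cfsg.Agent.Transfer

open Subgroup Cfsg
open scoped commutatorElement IsMulCommutative

variable {G : Type*} [Group G] {p : ℕ}

/-- An element inducing a map with cyclic image of order `p` is quadratic. -/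
theorem quadratic_of_relIndex [Finite G] [hp : Fact p.Prime] {V : Subgroup G} [IsMulCommutative V]
    (hexp : ∀ v ∈ V, v ^ p = 1) {b : G} (hb : b ^ p = 1) (hbV : b ∈ normalizer (V : Set G))
    (hidx : (V ⊓ centralizer (zpowers b : Set G)).relIndex V = p) :
    ∀ v ∈ V, Commute b (b * v * b⁻¹ * v⁻¹) := by
  let bN : normalizer (V : Set G) := ⟨b, hbV⟩
  let φ : V →* V :=
    { toFun := fun v => normalizerMonoidHom V bN v * v⁻¹
      map_one' := by simp
      map_mul' := fun a c => by rw [map_mul, mul_inv, mul_mul_mul_comm] }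
  have hker : φ.ker = (V ⊓ centralizer (zpowers b : Set G)).subgroupOf V := by
    ext v
    rw [MonoidHom.mem_ker, mem_subgroupOf, mem_inf]
    show normalizerMonoidHom V bN v * v⁻¹ = 1 ↔ _
    rw [mul_inv_eq_one]
    constructor
    · intro h
      refine ⟨v.2, ?_⟩
      have h2 : b * (v : G) * b⁻¹ = v := congrArg Subtype.val h
      have h3 : Commute (v : G) b := (mul_inv_eq_iff_eq_mul.mp h2).symm
      intro z hz
      obtain ⟨i, rfl⟩ := mem_zpowers_iff.mp hz
      exact (h3.zpow_right i).symm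
    · rintro ⟨-, h⟩
      apply Subtype.ext
      show b * (v : G) * b⁻¹ = v
      rw [h b (mem_zpowers b), mul_inv_cancel_right]
  have hcard : Nat.card φ.range = p := by
    rw [← index_ker, hker]; exact hidx
  intro v hv
  let I : Subgroup G := φ.range.map V.subtype
  have hIc : Nat.card I = p := by rw [card_map_of_injective V.subtype_injective, hcard]
  have hIV : I ≤ V := map_subtype_le _
  have hVp : IsPGroup p V := fun w => ⟨1, Subtype.ext (by simpa using hexp w.1 w.2)⟩
  have hzp : IsPGroup p (zpowers b) :=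
    IsPGroup.of_card_dvd_pow (n := 1) (by
      rw [Nat.card_zpowers, pow_one]; exact orderOf_dvd_of_pow_eq_one hb)
  haveI : Group.IsNilpotent (V ⊔ zpowers b : Subgroup G) :=
    (hVp.to_sup_of_normal_left' hzp (zpowers_le.mpr hbV)).isNilpotent
  let φI : I →* I :=
    { toFun := fun w => ⟨(φ ⟨w, hIV w.2⟩ : V), ⟨φ ⟨w, hIV w.2⟩, ⟨_, rfl⟩, rfl⟩⟩
      map_one' := Subtype.ext (congrArg Subtype.val (map_one φ) :)
      map_mul' := fun a c => Subtype.ext
        (congrArg Subtype.val (map_mul φ ⟨a, hIV a.2⟩ ⟨c, hIV c.2⟩) :) }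
  set w : I := ⟨(φ ⟨v, hv⟩ : V), ⟨φ ⟨v, hv⟩, ⟨_, rfl⟩, rfl⟩⟩ with hwdef
  by_contra hne
  have hw1 : φI w ≠ 1 := by
    intro h
    apply hne
    have h2 : φ ⟨(w : G), hIV w.2⟩ = 1 := Subtype.ext (congrArg Subtype.val h :)
    have h3 : b * (b * v * b⁻¹ * v⁻¹) * b⁻¹ * (b * v * b⁻¹ * v⁻¹)⁻¹ = 1 := congrArg Subtype.val h2
    exact mul_inv_eq_iff_eq_mul.mp (mul_inv_eq_one.mp h3)
  haveI : Fact (Nat.card I).Prime := ⟨hIc ▸ hp.out⟩
  have hsurj : Function.Surjective φI := by
    rw [← MonoidHom.range_eq_top]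
    refine (φI.range.eq_bot_or_eq_top_of_prime_card).resolve_left fun h => hw1 ?_
    exact mem_bot.mp (h ▸ ⟨w, rfl⟩)
  have hIbot : I ≤ ⊥ := by
    refine le_of_le_sup_commutator (S := V ⊔ zpowers b) (hIV.trans le_sup_left)
      (by rw [normalizer_eq_top]; exact le_top) ?_
    intro z hz
    obtain ⟨z', hz'⟩ := hsurj ⟨z, hz⟩
    have h4 : b * (z' : G) * b⁻¹ * (z' : G)⁻¹ = z := congrArg Subtype.val hz'
    rw [bot_sup_eq, commutator_comm, ← h4, ← commutatorElement_def]
    exact commutator_mem_commutator (mem_sup_right (mem_zpowers b)) z'.2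
  rw [le_bot_iff] at hIbot
  rw [hIbot, card_bot] at hIc
  exact hp.out.one_lt.ne hIc

/-- Cyclic-quotient lemma: an elementary abelian group acting nontrivially on an abelian `p'`-group
has a maximal subgroup whose centralizer is not centralized by the whole group. -/
theorem exists_maximal_fixing [Finite G] [hp : Fact p.Prime] {B Q : Subgroup G}
    (hB : IsElementaryAbelian p B) [IsMulCommutative Q] (hQ : (Nat.card Q).Coprime p)
    (hBQ : B ≤ normalizer (Q : Set G)) (hne : ¬ Q ≤ centralizer (B : Set G)) :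
    ∃ B1 ≤ B, (∃ b ∈ B, b ∉ B1 ∧ B = B1 ⊔ zpowers b) ∧
      ¬ Q ⊓ centralizer (B1 : Set G) ≤ centralizer (B : Set G) := by
  obtain ⟨B1, ⟨hB1B, hB1⟩, hmax⟩ :=
    WellFounded.has_min (wellFounded_gt (α := Subgroup G))
      {B1 : Subgroup G | B1 ≤ B ∧ ¬ Q ⊓ centralizer (B1 : Set G) ≤ centralizer (B : Set G)}
      ⟨⊥, bot_le, fun hle => hne fun q hq => hle (mem_inf.mpr
        ⟨hq, fun y hy => by obtain rfl : y = 1 := mem_bot.mp hy; simp⟩)⟩
  have hmax' : ∀ c ∈ B, c ∉ B1 → ∀ q ∈ Q, q ∈ centralizer (B1 : Set G) → c * q = q * c →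
      q ∈ centralizer (B : Set G) := by
    intro c hc hc1 q hq hq1 hqc
    by_contra hnot
    refine hmax (B1 ⊔ zpowers c) ⟨sup_le hB1B (zpowers_le.mpr hc), fun hle => hnot (hle ⟨hq, ?_⟩)⟩
      (lt_of_le_of_ne le_sup_left fun e => hc1 (e ▸ mem_sup_right (mem_zpowers c)))
    have : B1 ⊔ zpowers c ≤ centralizer {q} := by
      refine sup_le (fun y hy => mem_centralizer_singleton_iff.mpr (hq1 y hy)) ?_
      rw [zpowers_le]; exact mem_centralizer_singleton_iff.mpr hqc
    exact fun y hy => mem_centralizer_singleton_iff.mp (this hy)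
  obtain ⟨b, hbB, hb1⟩ := SetLike.exists_of_lt (lt_of_le_of_ne hB1B fun e => hB1 (by
    rw [e]; exact inf_le_right))
  refine ⟨B1, hB1B, ⟨b, hbB, hb1, le_antisymm ?_ (sup_le hB1B (zpowers_le.mpr hbB))⟩, hB1⟩
  by_contra hB2
  obtain ⟨b', hb'B, hb'⟩ := SetLike.not_le_iff_exists.mp hB2
  apply hB1
  rintro q ⟨hqQ, hq1⟩
  let σ : B →* MulAut Q := (normalizerMonoidHom Q).comp (inclusion hBQ)
  have hσ : ∀ (c : B) (y : Q), ((σ c y : Q) : G) = (c : G) * y * (c : G)⁻¹ := fun _ _ => rfl
  let Qf : Subgroup Q := (centralizer (B : Set G)).subgroupOf Q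
  let Q1 : Subgroup Q := (centralizer (B1 : Set G)).subgroupOf Q
  have hQ1inv : ∀ (c : B) (y : Q), y ∈ Q1 → σ c y ∈ Q1 := by
    intro c y hy a ha
    rw [Subgroup.subtype_apply, hσ]
    have h1 : (c : G) * a = a * c := ea_commute hB c.2 (hB1B ha)
    have h2 : a * (y : G) = y * a := hy a ha
    have h3 : (c : G)⁻¹ * a = a * (c : G)⁻¹ := ea_commute hB (inv_mem c.2) (hB1B ha)
    calc a * ((c : G) * y * (c : G)⁻¹) = (a * c) * y * (c : G)⁻¹ := by group
      _ = c * (a * y) * (c : G)⁻¹ := by rw [← h1]; group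
      _ = c * y * (a * (c : G)⁻¹) := by rw [h2]; group
      _ = _ := by rw [← h3]; group
  let nm : B → Q → Q := fun c y => ∏ j ∈ Finset.range p, σ (c ^ j) y
  have hnm : ∀ (c : B) (y : Q), (c : G) ∉ B1 → y ∈ Q1 → nm c y ∈ Qf := by
    intro c y hc hy
    refine hmax' c c.2 hc _ (nm c y).2 (Q1.prod_mem fun j _ => hQ1inv _ _ hy) ?_
    have hfix : σ c (nm c y) = nm c y := by
      show σ c (∏ j ∈ Finset.range p, σ (c ^ j) y) = _
      rw [map_prod]
      simp only [← MulAut.mul_apply, ← map_mul, ← pow_succ']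
      have h1 := Finset.prod_range_succ (fun j => σ (c ^ j) y) p
      have h2 := Finset.prod_range_succ' (fun j => σ (c ^ j) y) p
      have hcp : c ^ p = 1 := Subtype.ext (by simpa using hB.2 c.1 c.2)
      rw [h1] at h2
      rw [hcp] at h2
      simp only [pow_zero] at h2
      exact (mul_right_cancel h2).symm
    have h5 : (c : G) * (nm c y : G) * (c : G)⁻¹ = (nm c y : G) := congrArg Subtype.val hfix
    exact mul_inv_eq_iff_eq_mul.mp h5
  let bb : B := ⟨b, hbB⟩
  let bb' : B := ⟨b', hb'B⟩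
  let y : Q := ⟨q, hqQ⟩
  have hy : y ∈ Q1 := hq1
  have hlines : ∀ i : ℕ, ((bb' * bb ^ i : B) : G) ∉ B1 := by
    intro i hi
    apply hb'
    have h1 : b' * b ^ i ∈ B1 := hi
    have := mul_mem (mem_sup_left (T := zpowers b) h1) (inv_mem (mem_sup_right (pow_mem (mem_zpowers b) i)))
    rwa [mul_inv_cancel_right] at this
  have key : y ^ p ∈ Qf := by
    have hP : (∏ i ∈ Finset.range p, nm (bb' * bb ^ i) y) ∈ Qf :=
      Qf.prod_mem fun i _ => hnm _ _ (hlines i) hy
    have e1 : (∏ i ∈ Finset.range p, nm (bb' * bb ^ i) y) =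
        ∏ j ∈ Finset.range p, nm (bb ^ j) (σ (bb' ^ j) y) := by
      show (∏ i ∈ Finset.range p, ∏ j ∈ Finset.range p, σ ((bb' * bb ^ i) ^ j) y) = _
      rw [Finset.prod_comm]
      refine Finset.prod_congr rfl fun j _ => Finset.prod_congr rfl fun i _ => ?_
      rw [← MulAut.mul_apply, ← map_mul]
      congr 2
      have hcb : Commute bb' bb := Subtype.ext (ea_commute hB hb'B hbB)
      have hc : Commute bb' (bb ^ i) := hcb.pow_right i
      rw [hc.mul_pow, ← pow_mul, ← pow_mul, mul_comm i j]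
      exact (hcb.pow_pow _ _).eq
    rw [e1, ← Finset.mul_prod_erase _ _ (Finset.mem_range.mpr hp.out.pos)] at hP
    have hrest : (∏ j ∈ (Finset.range p).erase 0, nm (bb ^ j) (σ (bb' ^ j) y)) ∈ Qf := by
      refine Qf.prod_mem fun j hj => hnm _ _ ?_ (hQ1inv _ _ hy)
      obtain ⟨hj0, hjp⟩ := Finset.mem_erase.mp hj
      intro h
      apply hb1
      have hcop : j.Coprime (orderOf b) := Nat.Coprime.coprime_dvd_right
        (orderOf_dvd_of_pow_eq_one (hB.2 b hbB))
        ((hp.out.coprime_iff_not_dvd.mpr (Nat.not_dvd_of_pos_of_lt (Nat.pos_of_ne_zero hj0)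
          (Finset.mem_range.mp hjp))).symm)
      obtain ⟨k, hk⟩ := exists_pow_eq_self_of_coprime hcop
      rw [← hk]; exact pow_mem h k
    have h0 : nm (bb ^ 0) (σ (bb' ^ 0) y) = y ^ p := by
      show (∏ i ∈ Finset.range p, σ ((bb ^ 0) ^ i) (σ (bb' ^ 0) y)) = _
      simp
    rw [h0] at hP
    exact (mul_mem_cancel_right hrest).mp hP
  have hcop : p.Coprime (orderOf y) :=
    (hQ.coprime_dvd_left (_root_.orderOf_dvd_natCard y)).symm
  obtain ⟨k, hk⟩ := exists_pow_eq_self_of_coprime hcop
  have : y ∈ Qf := hk ▸ pow_mem key k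
  exact this

/-- For odd `p` an abelian `p'`-group excludes nontrivial offenders. -/
theorem card_mul_card_centralizer_lt [Finite G] [hp : Fact p.Prime] (hodd : p ≠ 2)
    {V Q : Subgroup G} [IsMulCommutative V] [IsMulCommutative Q] (hexp : ∀ v ∈ V, v ^ p = 1)
    (hQ : (Nat.card Q).Coprime p) (hQV : Q ≤ normalizer (V : Set G))
    (hQf : ∀ q ∈ Q, q ∈ centralizer (V : Set G) → q = 1) :
    ∀ B : Subgroup G, IsElementaryAbelian p B → B ≤ normalizer (V : Set G) →
      B ≤ normalizer (Q : Set G) → (∀ b ∈ B, b ∈ centralizer (Q : Set G) → b = 1) → B ≠ ⊥ →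
      Nat.card B * Nat.card (V ⊓ centralizer (B : Set G) : Subgroup G) < Nat.card V := by
  intro B
  induction hn : Nat.card B using Nat.strong_induction_on generalizing B with
  | _ n ih =>
    intro hB hBV hBQ hfaith hB0
    have hne : ¬ Q ≤ centralizer (B : Set G) := fun h => hB0 (le_bot_iff.mp fun b hb =>
      mem_bot.mpr (hfaith b hb fun q hq => (h hq b hb).symm))
    obtain ⟨B1, hB1B, ⟨b, hbB, hb1, hBeq⟩, hB1⟩ := exists_maximal_fixing hB hQ hBQ hne
    obtain ⟨q, hq, hqn⟩ := SetLike.not_le_iff_exists.mp hB1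
    obtain ⟨hqQ, hqC⟩ := mem_inf.mp hq
    have hbV := hBV hbB
    have hbQ := hBQ hbB
    set U := V ⊓ centralizer (B1 : Set G) with hU
    set W := V ⊓ centralizer (B : Set G) with hW
    have hWU : W ≤ U := inf_le_inf_left _ (centralizer_le hB1B)
    -- the fixed points of `b` on `U` are proper
    have hlt : Nat.card W < Nat.card U := by
      refine lt_of_le_of_ne (card_le_of_le hWU) fun e => hqn ?_
      have hUW : W = U := eq_of_le_of_card_ge hWU e.ge
      set x := q * b * q⁻¹ * b⁻¹ with hx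
      have hxQ : x ∈ Q := by
        have h1 := mul_mem hqQ ((mem_normalizer_iff.mp hbQ q⁻¹).mp (inv_mem hqQ))
        simpa [hx, mul_assoc] using h1
      have hbc : ∀ a ∈ B1, a * b = b * a := fun a ha => ea_commute hB (hB1B ha) hbB
      have hxC : ∀ a ∈ B1, Commute x a := by
        intro a ha
        have h1 : Commute a q := hqC a ha
        have h2 : Commute a b := hbc a ha
        exact (((h1.mul_right h2).mul_right h1.inv_right).mul_right h2.inv_right).symm
      have hxx : ∀ v ∈ V, Commute x v := by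
        have hVp : IsPGroup p V := fun w => ⟨1, Subtype.ext (by simpa using hexp w.1 w.2)⟩
        refine commute_of_commute_fixed ((ea_isPGroup hB).to_le hB1B) hVp (hB1B.trans hBV)
          (hQ.coprime_dvd_left (by rw [← Subgroup.orderOf_mk x hxQ]; exact _root_.orderOf_dvd_natCard _))
          (hQV hxQ) hxC fun v hv hvC => ?_
        have hvU : v ∈ U := mem_inf.mpr ⟨hv, fun a ha => hvC a ha⟩
        have hvb : Commute b v := (hUW.ge hvU).2 b hbB
        have hwU : q⁻¹ * v * q ∈ U := by
          refine mem_inf.mpr ⟨(mem_normalizer_iff''.mp (hQV hqQ) v).mp hv, fun a ha => ?_⟩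
          have h1 : Commute a q := hqC a ha
          exact ((h1.inv_right.mul_right (hvC a ha)).mul_right h1).eq
        have hwb : Commute b (q⁻¹ * v * q) := (hUW.ge hwU).2 b hbB
        have e1 : Commute (q * b * q⁻¹) v := by
          have h5 := hwb.map (MulAut.conj q).toMonoidHom
          simpa [mul_assoc] using h5
        exact e1.mul_left hvb.inv_left
      have h1 : x = 1 := hQf x hxQ fun v hv => (hxx v hv).symm
      have h2 : q * b = b * q := by
        rw [hx, mul_inv_eq_one, mul_inv_eq_iff_eq_mul] at h1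
        exact h1
      intro a ha
      have h3 : B ≤ centralizer {q} := by
        rw [hBeq]
        refine sup_le (fun y hy => mem_centralizer_singleton_iff.mpr (hqC y hy)) ?_
        rw [zpowers_le]; exact mem_centralizer_singleton_iff.mpr h2.symm
      exact mem_centralizer_singleton_iff.mp (h3 ha)
    have hVp : IsPGroup p V := fun w => ⟨1, Subtype.ext (by simpa using hexp w.1 w.2)⟩
    obtain ⟨u, hu⟩ := (hVp.to_le (inf_le_left : U ≤ V)).exists_card_eq
    obtain ⟨w, hw⟩ := (hVp.to_le (inf_le_left : W ≤ V)).exists_card_eq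
    obtain ⟨vv, hvv⟩ := hVp.exists_card_eq
    have hb_ord : orderOf b = p := orderOf_eq_prime (hB.2 b hbB) fun e => hb1 (e ▸ one_mem _)
    have hBcard : Nat.card B = Nat.card B1 * p := by
      have h1 := Basics.card_mul_card_eq_card_sup_mul_card_inf (N := B1) (H := zpowers b)
        (by
          rw [zpowers_le]
          refine mem_normalizer_iff.mpr fun a => ⟨fun ha => ?_, fun ha => ?_⟩
          · rwa [ea_commute hB hbB (hB1B ha), mul_inv_cancel_right]
          · have h2 := ea_commute hB hbB (hB1B ha)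
            rw [inv_mul_cancel_right] at h2
            rw [mul_left_cancel h2] at ha
            exact ha)
      have hinf : B1 ⊓ zpowers b = ⊥ := by
        haveI : Fact (Nat.card (zpowers b)).Prime := ⟨by rw [Nat.card_zpowers, hb_ord]; exact hp.out⟩
        rcases ((B1 ⊓ zpowers b).subgroupOf (zpowers b)).eq_bot_or_eq_top_of_prime_card with h2 | h2
        · rwa [subgroupOf_eq_bot, disjoint_iff, inf_assoc, inf_idem] at h2
        · exact absurd ((subgroupOf_eq_top.mp h2) (mem_zpowers b)).1 hb1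
      rw [← hBeq, hinf, card_bot, mul_one, Nat.card_zpowers, hb_ord] at h1
      exact h1.symm
    rw [← hn, hBcard]
    have hwu : w < u := by
      rw [hw, hu] at hlt; exact (Nat.pow_lt_pow_iff_right hp.out.one_lt).mp hlt
    rw [hw, hvv]
    by_cases hB10 : B1 = ⊥
    · rw [hB10, card_bot, one_mul, ← pow_succ']
      have hUV : U = V := by
        rw [hU, hB10]
        exact inf_eq_left.mpr fun v _ y hy => by obtain rfl : y = 1 := mem_bot.mp hy; simp
      have huv : u = vv := Nat.pow_right_injective hp.out.two_le (by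
        show p ^ u = p ^ vv
        rw [← hu, ← hvv, ← hU, hUV])
      refine Nat.pow_lt_pow_right hp.out.one_lt ?_
      by_contra hge
      have hveq : vv = w + 1 := by omega
      have hzb : zpowers b = B := by rw [hBeq, hB10, bot_sup_eq]
      have hidx : (V ⊓ centralizer (zpowers b : Set G)).relIndex V = p := by
        rw [hzb]
        have h1 : Nat.card W * W.relIndex V = Nat.card V := by
          have := card_mul_index (W.subgroupOf V)
          rwa [Nat.card_congr (subgroupOfEquivOfLe inf_le_left).toEquiv] at this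
        rw [hw, hvv, hveq, pow_succ] at h1
        exact Nat.eq_of_mul_eq_mul_left (pow_pos hp.out.pos w) h1
      have hquad := quadratic_of_relIndex hexp (hB.2 b hbB) hbV hidx
      apply hne
      intro y hy
      have h1 := commutator_centralizes_of_quadratic hodd V hexp Q hQ hQV hbV hbQ hquad hy
      have hc : b⁻¹ * (y * b * y⁻¹) ∈ Q := by
        have h2 := mul_mem ((mem_normalizer_iff''.mp hbQ y).mp hy) (inv_mem hy)
        simpa [mul_assoc] using h2
      have h3 := hQf _ hc h1
      rw [inv_mul_eq_one, eq_mul_inv_iff_mul_eq] at h3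
      rw [← hzb]
      intro z hz
      obtain ⟨i, rfl⟩ := mem_zpowers_iff.mp hz
      exact ((show Commute b y from h3).zpow_left i).eq
    · have hlt' : Nat.card B1 < n := by
        rw [← hn, hBcard]; exact lt_mul_of_one_lt_right Nat.card_pos hp.out.one_lt
      have h := ih _ hlt' B1 rfl (ea_mono hB hB1B) (hB1B.trans hBV) (hB1B.trans hBQ)
        (fun a ha hac => hfaith a (hB1B ha) hac) hB10
      rw [← hU, hu, hvv] at h
      refine lt_of_le_of_lt ?_ h
      rw [mul_assoc, ← pow_succ']
      exact Nat.mul_le_mul_left _ (Nat.pow_le_pow_right hp.out.pos hwu)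

end Cfsg.Agent.Transfer
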