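import Cfsg.Agent.Lib.Transfer.Control
import Cfsg.Agent.Lib.FGB.KulakoffEnum
import Cfsg.Agent.Lib.FGB.PGroupBasic
import Cfsg.Agent.Lib.Fusion.YoshidaTransfer

/-!
# The transfer argument of Hall and Wielandt
-/

set_option autoImplicit false
set_option linter.all false

namespace Cfsg.Agent.Transfer

open Subgroup

/-- A sum over an invariant set reduces to the fixed points when every longer cycle sums to zero. -/
theorem sum_eq_sum_fixed {I M : Type*} [DecidableEq I] [AddCommMonoid M] (σ : I ≃ I) (g : I → M)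
    (B : Finset I) (hB : ∀ i, σ i ∈ B ↔ i ∈ B) (hper : ∀ i ∈ B, i ∈ Function.periodicPts σ)
    (hcyc : ∀ i ∈ B, 1 < Function.minimalPeriod σ i →
      ∑ t ∈ Finset.range (Function.minimalPeriod σ i), g (σ^[t] i) = 0) :
    ∑ i ∈ B, g i = ∑ i ∈ B.filter (fun i => σ i = i), g i := by
  induction B using Finset.strongInduction with
  | H B ih =>
    by_cases hall : ∀ i ∈ B, σ i = i
    · rw [Finset.filter_true_of_mem hall]
    push Not at hall
    obtain ⟨i, hi, hne⟩ := hall
    set n := Function.minimalPeriod σ i with hn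
    have hnpos : 0 < n := Function.minimalPeriod_pos_of_mem_periodicPts (hper i hi)
    have hfix : σ^[n] i = i := Function.isPeriodicPt_minimalPeriod σ i
    have hn1 : 1 < n := by
      by_contra hle
      rw [show n = 1 by omega] at hfix
      exact hne hfix
    set O := (Finset.range n).image fun t => σ^[t] i with hO
    have hOmem : ∀ j, σ j ∈ O ↔ j ∈ O := by
      intro j
      constructor
      · intro hj
        obtain ⟨t, ht, htj⟩ := Finset.mem_image.mp hj
        refine Finset.mem_image.mpr ⟨(t + (n - 1)) % n, Finset.mem_range.mpr (Nat.mod_lt _ hnpos), ?_⟩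
        rw [Function.iterate_mod_minimalPeriod_eq]
        apply σ.injective
        rw [← Function.iterate_succ_apply' (⇑σ), show (t + (n - 1)).succ = t + n by omega,
          Function.iterate_add_apply, hfix, htj]
      · intro hj
        obtain ⟨t, ht, rfl⟩ := Finset.mem_image.mp hj
        refine Finset.mem_image.mpr ⟨(t + 1) % n, Finset.mem_range.mpr (Nat.mod_lt _ hnpos), ?_⟩
        rw [Function.iterate_mod_minimalPeriod_eq, Function.iterate_succ_apply']
    have hOB : O ⊆ B := by
      intro j hj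
      obtain ⟨t, -, rfl⟩ := Finset.mem_image.mp hj
      clear hj
      induction t with
      | zero => exact hi
      | succ t iht => rw [Function.iterate_succ_apply']; exact (hB _).mpr iht
    have hiO : i ∈ O := Finset.mem_image.mpr ⟨0, Finset.mem_range.mpr hnpos, rfl⟩
    have hOfix : ∀ j ∈ O, σ j ≠ j := by
      intro j hj heq
      obtain ⟨t, ht, rfl⟩ := Finset.mem_image.mp hj
      rw [← Function.iterate_succ_apply' (⇑σ), Function.iterate_succ_apply] at heq
      exact hne (σ.injective.iterate t heq)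
    rw [← Finset.sum_sdiff hOB, ih (B \ O) (Finset.sdiff_ssubset hOB ⟨i, hiO⟩)
      (fun j => by rw [Finset.mem_sdiff, Finset.mem_sdiff, hB, hOmem])
      (fun j hj => hper j (Finset.mem_sdiff.mp hj).1) (fun j hj => hcyc j (Finset.mem_sdiff.mp hj).1),
      show ∑ j ∈ O, g j = 0 from ?_, add_zero]
    · congr 1
      ext j
      simp only [Finset.mem_filter, Finset.mem_sdiff]
      exact ⟨fun h => ⟨h.1.1, h.2⟩, fun h => ⟨⟨h.1, fun hj => hOfix j hj h.2⟩, h.2⟩⟩
    · rw [hO, Finset.sum_image fun s hs t ht h => Function.iterate_injOn_Iio_minimalPeriod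
        (Finset.mem_range.mp hs) (Finset.mem_range.mp ht) h]
      exact hcyc i hi hn1

variable {p : ℕ} [hp : Fact p.Prime]

/-- The transfer argument of Hall and Wielandt, for a weakly closed subgroup `W` and a functional
`lam` on the Sylow subgroup `S` which is invariant under fusion in the normalizer of `W`. -/
theorem exists_iterated_commutator {G : Type*} [Group G] [Finite G] (S : Sylow p G) (W : Subgroup G)
    (hW : Cfsg.IsWeaklyClosed W (S : Subgroup G)) (lam : G → ZMod p)
    (hlam : ∀ a ∈ (S : Subgroup G), ∀ b ∈ (S : Subgroup G), lam (a * b) = lam a + lam b)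
    (hinv : ∀ n ∈ normalizer (W : Set G), ∀ s ∈ (S : Subgroup G), n * s * n⁻¹ ∈ (S : Subgroup G) →
      lam (n * s * n⁻¹) = lam s)
    (hu : ∃ u ∈ (S : Subgroup G), u ∈ commutator G ∧ lam u ≠ 0) :
    ∃ x ∈ (S : Subgroup G), ∃ z ∈ W, ∃ W₀ : Subgroup W, IsCoatom W₀ ∧
      (fun y : G => y⁻¹ * z⁻¹ * y * z)^[p - 1] x ∈ W₀.map W.subtype ∧
      (fun y : G => y⁻¹ * z⁻¹ * y * z)^[p - 1] x ∉ ((frattini W₀).map W₀.subtype).map W.subtype := by
  classical
  set Sg := (S : Subgroup G) with hSg
  set N := normalizer (W : Set G) with hNdef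
  have hSp : IsPGroup p Sg := S.2
  have hWS : W ≤ Sg := hW.1
  have hSN : Sg ≤ N := fun s hs => mem_normalizer_iff_map_conj_eq.mpr (hW.2 s (by
    rintro _ ⟨w, hw, rfl⟩
    exact Sg.mul_mem (Sg.mul_mem hs (hWS hw)) (Sg.inv_mem hs)))
  have hWn : ∀ s ∈ Sg, ∀ w ∈ W, s * w * s⁻¹ ∈ W := fun s hs w hw => (mem_normalizer_iff.mp (hSN hs) w).mp hw
  have hlam1 : lam 1 = 0 := by
    have := hlam 1 Sg.one_mem 1 Sg.one_mem
    rwa [one_mul, left_eq_add] at this
  have hlampow : ∀ a ∈ Sg, ∀ n : ℕ, lam (a ^ n) = n * lam a := by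
    intro a ha n
    induction n with
    | zero => simp [hlam1]
    | succ n ih => rw [pow_succ, hlam _ (Sg.pow_mem ha n) a ha, ih]; push_cast; ring
  -- an element of least order
  obtain ⟨u, ⟨huS, huG, hu0⟩, humin⟩ := Set.exists_min_image
    {u | u ∈ Sg ∧ u ∈ commutator G ∧ lam u ≠ 0} orderOf (Set.toFinite _) (by obtain ⟨u, h⟩ := hu; exact ⟨u, h⟩)
  have hlow : ∀ v ∈ Sg, v ∈ commutator G → orderOf v < orderOf u → lam v = 0 := by
    intro v hv hv' hlt
    by_contra h
    exact absurd (humin v ⟨hv, hv', h⟩) (not_le.mpr hlt)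
  -- the cocycle
  let I := G ⧸ Sg
  haveI : Fintype I := Fintype.ofFinite I
  let r : I → G := Quotient.out
  have hr : ∀ i : I, (QuotientGroup.mk (r i) : I) = i := Quotient.out_eq
  let c : G → I → G := fun a i => (r (a • i))⁻¹ * (a * r i)
  have hc : ∀ a i, c a i ∈ Sg := fun a i => QuotientGroup.eq.mp (by
    rw [hr]; conv_lhs => rw [← hr i]
    exact (MulAction.Quotient.smul_mk Sg a (r i)))
  let ell : G → I → ZMod p := fun a i => lam (c a i)
  have hell : ∀ a b i, ell (a * b) i = ell a (b • i) + ell b i := fun a b i => by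
    show lam (c (a * b) i) = _
    rw [← hlam _ (hc a (b • i)) _ (hc b i)]
    congr 1
    show (r ((a * b) • i))⁻¹ * (a * b * r i) = (r (a • b • i))⁻¹ * (a * r (b • i)) * ((r (b • i))⁻¹ * (b * r i))
    rw [mul_smul]; group
  let T : G → Finset I → ZMod p := fun a B => ∑ i ∈ B, ell a i
  have hTmul : ∀ a b (B : Finset I), (∀ i, b • i ∈ B ↔ i ∈ B) → T (a * b) B = T a B + T b B := by
    intro a b B hB
    show ∑ i ∈ B, ell (a * b) i = _
    simp only [hell, Finset.sum_add_distrib]
    congr 1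
    exact Finset.sum_nbij (fun i => b • i) (fun i hi => (hB i).mpr hi)
      (fun i _ j _ h => MulAction.injective b h)
      (fun j hj => ⟨b⁻¹ • j, (hB _).mp (by rwa [smul_inv_smul]), smul_inv_smul b j⟩) (fun _ _ => rfl)
  have hell1 : ∀ i, ell 1 i = 0 := fun i => by
    have := hell 1 1 i
    rwa [one_mul, one_smul, left_eq_add] at this
  have hTu : T u Finset.univ = 0 := by
    let Th : G →* Multiplicative (ZMod p) :=
      { toFun := fun a => Multiplicative.ofAdd (T a Finset.univ)
        map_one' := by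
          show Multiplicative.ofAdd (∑ i : I, ell 1 i) = 1
          simp [hell1]
        map_mul' := fun a b => by
          show Multiplicative.ofAdd _ = _
          rw [hTmul a b _ (by simp)]; rfl }
    have : Th u = 1 := Abelianization.commutator_subset_ker Th huG
    exact Multiplicative.ofAdd.injective this
  have hpowell : ∀ (a : G) (i : I) (n : ℕ), ∑ t ∈ Finset.range n, ell a ((a • ·)^[t] i) = ell (a ^ n) i := by
    intro a i n
    induction n with
    | zero => simp [hell1]
    | succ n ih =>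
      rw [Finset.sum_range_succ, ih, pow_succ', hell, add_comm, smul_iterate]
  have hfixc : ∀ {a : G} {i : I}, a • i = i → c a i = (r i)⁻¹ * a * r i := fun {a i} h => by
    show (r (a • i))⁻¹ * (a * r i) = _
    rw [h, mul_assoc]
  let σ : I ≃ I := MulAction.toPerm u
  have hper : ∀ i : I, i ∈ Function.periodicPts σ := fun i =>
    Function.mk_mem_periodicPts (orderOf_pos u) (by
      show (fun j => u • j)^[orderOf u] i = i
      rw [smul_iterate, pow_orderOf_eq_one]; exact one_smul G i)
  have hnfix : ∀ i, u ^ Function.minimalPeriod σ i • i = i := fun i => by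
    have h : (fun j => u • j)^[Function.minimalPeriod σ i] i = i :=
      Function.isPeriodicPt_minimalPeriod σ i
    rwa [smul_iterate] at h
  have hsmall : ∀ i, 1 < Function.minimalPeriod σ i → ell (u ^ Function.minimalPeriod σ i) i = 0 := by
    intro i hlt
    set n := Function.minimalPeriod σ i
    have hn : n ∣ orderOf u := Function.IsPeriodicPt.minimalPeriod_dvd (by
      show (fun j => u • j)^[orderOf u] i = i
      rw [smul_iterate, pow_orderOf_eq_one]; exact one_smul G i)
    have hmem := hc (u ^ n) i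
    rw [hfixc (hnfix i)] at hmem
    show lam _ = 0
    rw [hfixc (hnfix i)]
    refine hlow _ hmem ?_ ?_
    · have hn' : (commutator G).Normal := inferInstance
      have := hn'.conj_mem _ ((commutator G).pow_mem huG n) (r i)⁻¹
      rwa [inv_inv] at this
    · have h1 : orderOf ((r i)⁻¹ * u ^ n * r i) = orderOf (u ^ n) := by
        have := orderOf_injective (MulAut.conj (r i)⁻¹).toMonoidHom (MulAut.conj (r i)⁻¹).injective (u ^ n)
        simpa using this
      rw [h1, orderOf_pow_of_dvd (by omega) hn]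
      exact Nat.div_lt_self (orderOf_pos u) hlt
  -- the base orbit
  let B0 : Finset I := Finset.univ.filter fun i => r i ∈ N
  let B1 : Finset I := Finset.univ.filter fun i => r i ∉ N
  have hBinv : ∀ s ∈ Sg, ∀ i : I, r (s • i) ∈ N ↔ r i ∈ N := by
    intro s hs i
    have h1 : r (s • i) = s * r i * ((c s i)⁻¹) := by
      show _ = s * r i * ((r (s • i))⁻¹ * (s * r i))⁻¹
      group
    rw [h1, Subgroup.mul_mem_cancel_right _ (inv_mem (hSN (hc s i))),
      Subgroup.mul_mem_cancel_left _ (hSN hs)]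
  have hB1inv : ∀ i, σ i ∈ B1 ↔ i ∈ B1 := fun i => by
    simp only [B1, Finset.mem_filter, Finset.mem_univ, true_and]
    exact not_congr (hBinv u huS i)
  have hB0 : T u B0 = (B0.card : ZMod p) * lam u := by
    have key : ∀ i ∈ B0, ∀ n : ℕ, u ^ n • i = i → ell (u ^ n) i = n * lam u := by
      intro i hi n hfix
      have hiN : r i ∈ N := (Finset.mem_filter.mp hi).2
      have hmem := hc (u ^ n) i
      rw [hfixc hfix] at hmem
      show lam _ = _
      rw [hfixc hfix, ← hlampow u huS n]
      have := hinv (r i)⁻¹ (inv_mem hiN) (u ^ n) (Sg.pow_mem huS n) (by rwa [inv_inv])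
      rwa [inv_inv] at this
    have h1 : ∑ i ∈ B0, (ell u i - lam u) = ∑ i ∈ B0.filter (fun i => σ i = i), (ell u i - lam u) := by
      refine sum_eq_sum_fixed σ _ B0 (fun i => ?_) (fun i _ => hper i) fun i hi _ => ?_
      · simp only [B0, Finset.mem_filter, Finset.mem_univ, true_and]
        exact hBinv u huS i
      · rw [Finset.sum_sub_distrib, Finset.sum_const, Finset.card_range, nsmul_eq_mul]
        rw [show (σ : I → I) = (u • ·) from rfl] at *
        rw [hpowell, key i hi _ (hnfix i), sub_self]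
    rw [Finset.sum_eq_zero (s := B0.filter fun i => σ i = i) (fun i hi => by
      obtain ⟨hi0, hfix⟩ := Finset.mem_filter.mp hi
      have hf : u • i = i := hfix
      have := key i hi0 1 (by rwa [pow_one])
      rw [pow_one, Nat.cast_one, one_mul] at this
      rw [this, sub_self]), Finset.sum_sub_distrib, sub_eq_zero, Finset.sum_const, nsmul_eq_mul] at h1
    exact h1
  have hB0card : (B0.card : ZMod p) ≠ 0 := by
    rw [Ne, ZMod.natCast_eq_zero_iff]
    intro hd
    have h1 : B0.card = Sg.relIndex N := by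
      rw [Subgroup.relIndex, Subgroup.index_eq_card, ← Nat.card_eq_finsetCard]
      refine (Nat.card_eq_of_bijective (fun q : N ⧸ Sg.subgroupOf N => (⟨Quotient.liftOn' q
        (fun n => (QuotientGroup.mk (n : G) : I)) (fun a b h => QuotientGroup.eq.mpr (by
          have := QuotientGroup.leftRel_apply.mp h; exact this)), ?_⟩ : B0)) ⟨?_, ?_⟩).symm
      · induction q using QuotientGroup.induction_on with
        | H n =>
          refine Finset.mem_filter.mpr ⟨Finset.mem_univ _, ?_⟩
          show r (QuotientGroup.mk (n : G)) ∈ N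
          have h2 : (n : G)⁻¹ * r (QuotientGroup.mk (n : G)) ∈ Sg := QuotientGroup.eq.mp (hr _).symm
          have := mul_mem n.2 (hSN h2)
          rwa [mul_inv_cancel_left] at this
      · intro a b
        induction a using QuotientGroup.induction_on with
        | H a =>
          induction b using QuotientGroup.induction_on with
          | H b =>
            intro h
            have h2 : (QuotientGroup.mk (a : G) : I) = QuotientGroup.mk (b : G) := congrArg Subtype.val h
            have h3 : ((a : G))⁻¹ * (b : G) ∈ Sg := (QuotientGroup.eq (s := Sg)).mp h2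
            exact QuotientGroup.eq.mpr h3
      · rintro ⟨i, hi⟩
        exact ⟨QuotientGroup.mk ⟨r i, (Finset.mem_filter.mp hi).2⟩, Subtype.ext (hr i)⟩
    rw [h1] at hd
    exact S.not_dvd_index (hd.trans (relIndex_dvd_index_of_le hSN))
  have hB1 : T u B1 ≠ 0 := by
    intro h
    have hsplit : T u B0 + T u B1 = T u Finset.univ := Finset.sum_filter_add_sum_filter_not _ _ _
    rw [hTu, h, add_zero, hB0] at hsplit
    exact mul_ne_zero hB0card hu0 hsplit
  have hfixsum : ∀ B : Finset I, (∀ i, σ i ∈ B ↔ i ∈ B) →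
      T u B = ∑ i ∈ B.filter (fun i => σ i = i), ell u i := fun B hB =>
    sum_eq_sum_fixed σ _ B hB (fun i _ => hper i) fun i _ hlt => by
      rw [show (σ : I → I) = (u • ·) from rfl]
      rw [hpowell]
      exact hsmall i hlt
  -- an orbit of `W`
  let orb : I → Finset I := fun i => Finset.univ.filter fun j => j ∈ MulAction.orbit W i
  have horbmem : ∀ {i j : I}, j ∈ orb i ↔ ∃ w ∈ W, w • i = j := fun {i j} => by
    simp only [orb, Finset.mem_filter, Finset.mem_univ, true_and, MulAction.mem_orbit_iff]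
    exact ⟨fun ⟨w, h⟩ => ⟨w, w.2, h⟩, fun ⟨w, hw, h⟩ => ⟨⟨w, hw⟩, h⟩⟩
  obtain ⟨i₀, hi₀, hfix0, hO⟩ : ∃ i₀ ∈ B1, u • i₀ = i₀ ∧
      ∑ i ∈ (orb i₀).filter (fun i => σ i = i), ell u i ≠ 0 := by
    by_contra hall
    push Not at hall
    rw [hfixsum B1 hB1inv] at hB1
    refine hB1 ?_
    rw [← Finset.sum_fiberwise_of_maps_to (g := orb) (fun i hi => Finset.mem_image_of_mem orb hi)]
    refine Finset.sum_eq_zero fun O hO => ?_
    obtain ⟨i, hi, rfl⟩ := Finset.mem_image.mp hO
    obtain ⟨hi1, hif⟩ := Finset.mem_filter.mp hi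
    refine Eq.trans (Finset.sum_congr ?_ fun _ _ => rfl) (hall i hi1 hif)
    ext j
    simp only [Finset.mem_filter]
    constructor
    · rintro ⟨⟨hj1, hjf⟩, he⟩
      exact ⟨he ▸ horbmem.mpr ⟨1, W.one_mem, one_smul G j⟩, hjf⟩
    · rintro ⟨hjO, hjf⟩
      obtain ⟨w, hw, rfl⟩ := horbmem.mp hjO
      refine ⟨⟨?_, hjf⟩, ?_⟩
      · simp only [B1, Finset.mem_filter, Finset.mem_univ, true_and] at hi1 ⊢
        rwa [hBinv w (hWS hw) i]
      · ext k
        rw [horbmem, horbmem]
        exact ⟨fun ⟨v, hv, hk⟩ => ⟨v * w, W.mul_mem hv hw, by rw [mul_smul, hk]⟩,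
          fun ⟨v, hv, hk⟩ => ⟨v * w⁻¹, W.mul_mem hv (W.inv_mem hw), by rw [mul_smul, inv_smul_smul, hk]⟩⟩
  set O := orb i₀ with hOdef
  -- the group generated by `W` and `u`
  set K : Subgroup G := W ⊔ zpowers u with hK
  have hWK : W ≤ K := le_sup_left
  have huK : u ∈ K := mem_sup_right (mem_zpowers u)
  have hKS : K ≤ Sg := sup_le hWS (zpowers_le.mpr huS)
  have hKn : zpowers u ≤ normalizer (W : Set G) := zpowers_le.mpr (hSN huS)
  have hKO : ∀ k ∈ K, k • i₀ ∈ O := by
    intro k hk
    rw [hK, ← SetLike.mem_coe, coe_mul_of_right_le_normalizer_left _ _ hKn] at hk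
    obtain ⟨w, hw, v, hv, rfl⟩ := Set.mem_mul.mp hk
    have hv0 : v ∈ MulAction.stabilizer G i₀ := zpowers_le.mpr (MulAction.mem_stabilizer_iff.mpr hfix0) hv
    exact horbmem.mpr ⟨w, hw, by rw [mul_smul, MulAction.mem_stabilizer_iff.mp hv0]⟩
  let H : Subgroup K := (MulAction.stabilizer G i₀).subgroupOf K
  have hHtop : H ≠ ⊤ := by
    intro h
    have hiN : r i₀ ∉ N := (Finset.mem_filter.mp hi₀).2
    apply hiN
    have hsub : W.map (MulAut.conj (r i₀)⁻¹).toMonoidHom ≤ Sg := by
      rintro _ ⟨w, hw, rfl⟩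
      have h1 : w • i₀ = i₀ := MulAction.mem_stabilizer_iff.mp
        (h.ge (mem_top (⟨w, hWK hw⟩ : K)) : w ∈ MulAction.stabilizer G i₀)
      have h2 := hc w i₀
      rw [hfixc h1] at h2
      simpa using h2
    exact inv_mem_iff.mp (mem_normalizer_iff_map_conj_eq.mpr (hW.2 _ hsub))
  have hKp : IsPGroup p K := hSp.to_le hKS
  haveI := hKp.isNilpotent
  obtain ⟨M, hM, hHM⟩ := (eq_top_or_exists_le_coatom H).resolve_left hHtop
  haveI hMn : M.Normal := Subgroup.NormalizerCondition.normal_of_coatom M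
    Group.normalizerCondition_of_isNilpotent hM
  have hMidx : M.index = p := (FGB.coatom_normal_and_index hKp hM).2
  obtain ⟨z, hzW, hzM⟩ : ∃ z : K, (z : G) ∈ W ∧ z ∉ M := by
    by_contra hall
    push Not at hall
    apply hM.1
    rw [eq_top_iff]
    rintro ⟨k, hk⟩ -
    have h1 := hKO k hk
    obtain ⟨w, hw, hwk⟩ := horbmem.mp h1
    have h2 : (⟨w, hWK hw⟩ : K)⁻¹ * ⟨k, hk⟩ ∈ H := by
      rw [mem_subgroupOf, MulAction.mem_stabilizer_iff]
      show (w⁻¹ * k) • i₀ = i₀
      rw [mul_smul, ← hwk, inv_smul_smul]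
    have := M.mul_mem (hall ⟨w, hWK hw⟩ hw) (hHM h2)
    rwa [mul_inv_cancel_left] at this
  have hgen : zpowers (QuotientGroup.mk z : K ⧸ M) = ⊤ := by
    haveI : Fact (Nat.card (K ⧸ M)).Prime := ⟨by rw [← Subgroup.index_eq_card, hMidx]; exact hp.out⟩
    exact ((zpowers _).eq_bot_or_eq_top_of_prime_card).resolve_left
      (fun h => hzM ((QuotientGroup.eq_one_iff z).mp (zpowers_eq_bot.mp h)))
  have hzord : orderOf (QuotientGroup.mk z : K ⧸ M) = p := by
    rw [← Nat.card_zpowers, hgen, card_top, ← Subgroup.index_eq_card, hMidx]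
  have hcover : ∀ k : K, ∃ j < p, (z ^ j)⁻¹ * k ∈ M := by
    intro k
    obtain ⟨j, hj⟩ := mem_powers_iff_mem_zpowers.mpr (hgen.ge (mem_top (QuotientGroup.mk k : K ⧸ M)))
    refine ⟨j % p, Nat.mod_lt _ hp.out.pos, ?_⟩
    rw [← QuotientGroup.eq_one_iff, QuotientGroup.mk_mul, QuotientGroup.mk_inv, QuotientGroup.mk_pow,
      inv_mul_eq_one, ← hzord, pow_mod_orderOf]
    exact hj
  let P0 : Finset I := Finset.univ.filter fun i => ∃ m ∈ M, ((m : K) : G) • i₀ = i
  have hP0inv : ∀ m ∈ M, ∀ i, ((m : K) : G) • i ∈ P0 ↔ i ∈ P0 := by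
    intro m hm i
    simp only [P0, Finset.mem_filter, Finset.mem_univ, true_and]
    constructor
    · rintro ⟨m', hm', h⟩
      refine ⟨m⁻¹ * m', M.mul_mem (M.inv_mem hm) hm', ?_⟩
      rw [Subgroup.coe_mul, mul_smul, h, Subgroup.coe_inv, inv_smul_smul]
    · rintro ⟨m', hm', rfl⟩
      exact ⟨m * m', M.mul_mem hm hm', by rw [Subgroup.coe_mul, mul_smul]⟩
  have huM : (⟨u, huK⟩ : K) ∈ M := hHM (MulAction.mem_stabilizer_iff.mpr hfix0)
  -- the orbit splits into blocks
  have hOsum : T u O = ∑ j ∈ Finset.range p, T u (P0.image fun i => (z : G) ^ j • i) := by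
    have hdisj : ((Finset.range p : Finset ℕ) : Set ℕ).PairwiseDisjoint
        (fun j => P0.image fun i => (z : G) ^ j • i) := by
      intro a ha b hb hab
      rw [Function.onFun, Finset.disjoint_left]
      intro x hxa hxb
      obtain ⟨i, hi, rfl⟩ := Finset.mem_image.mp hxa
      obtain ⟨i', hi', he⟩ := Finset.mem_image.mp hxb
      obtain ⟨m, hm, rfl⟩ := (Finset.mem_filter.mp hi).2
      obtain ⟨m', hm', rfl⟩ := (Finset.mem_filter.mp hi').2
      have h1 : m⁻¹ * (z ^ a)⁻¹ * z ^ b * m' ∈ M := by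
        refine hHM (MulAction.mem_stabilizer_iff.mpr ?_)
        show ((m : G)⁻¹ * ((z : G) ^ a)⁻¹ * (z : G) ^ b * (m' : G)) • i₀ = i₀
        rw [mul_smul, mul_smul, mul_smul, he, inv_smul_smul, inv_smul_smul]
      have h2 : (QuotientGroup.mk z : K ⧸ M) ^ a = QuotientGroup.mk z ^ b := by
        rw [← QuotientGroup.mk_pow, ← QuotientGroup.mk_pow, QuotientGroup.eq]
        have := M.mul_mem (M.mul_mem hm h1) (M.inv_mem hm')
        simpa [mul_assoc] using this
      exact hab (pow_injOn_Iio_orderOf (by simpa [hzord] using ha) (by simpa [hzord] using hb) h2)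
    rw [show O = (Finset.range p).biUnion (fun j => P0.image fun i => (z : G) ^ j • i) from ?_]
    · exact Finset.sum_biUnion hdisj
    ext x
    simp only [Finset.mem_biUnion, Finset.mem_range, Finset.mem_image, P0, Finset.mem_filter,
      Finset.mem_univ, true_and, hOdef, horbmem]
    constructor
    · rintro ⟨w, hw, rfl⟩
      obtain ⟨j, hj, hjm⟩ := hcover ⟨w, hWK hw⟩
      refine ⟨j, hj, _, ⟨_, hjm, rfl⟩, ?_⟩
      rw [← mul_smul]
      congr 1
      show (z : G) ^ j * (((z : G) ^ j)⁻¹ * w) = w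
      rw [mul_inv_cancel_left]
    · rintro ⟨j, -, i, ⟨m, -, rfl⟩, rfl⟩
      rw [← mul_smul]
      exact horbmem.mp (hKO _ (K.mul_mem (K.pow_mem z.2 j) m.2))
  let φ : K → ZMod p := fun a => T (a : G) P0
  have hφ : ∀ a b : K, b ∈ M → φ (a * b) = φ a + φ b := fun a b hb => hTmul _ _ _ (hP0inv b hb)
  have hblock : ∀ j : ℕ, T u (P0.image fun i => (z : G) ^ j • i) = φ ((z ^ j)⁻¹ * ⟨u, huK⟩ * z ^ j) := by
    intro j
    set w := (z : G) ^ j
    set u' := w⁻¹ * u * w
    show ∑ i ∈ P0.image (fun i => w • i), ell u i = ∑ i ∈ P0, ell u' i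
    rw [Finset.sum_image fun a _ b _ h => MulAction.injective w h]
    have hu' : ∀ i, u' • i ∈ P0 ↔ i ∈ P0 := hP0inv ((z ^ j)⁻¹ * ⟨u, huK⟩ * z ^ j)
      (by simpa using hMn.conj_mem _ huM (z ^ j)⁻¹)
    have h1 : ∑ i ∈ P0, ell (u * w) i = ∑ i ∈ P0, ell u (w • i) + ∑ i ∈ P0, ell w i := by
      simp only [hell, Finset.sum_add_distrib]
    have h2 : ∑ i ∈ P0, ell (u * w) i = ∑ i ∈ P0, ell w (u' • i) + ∑ i ∈ P0, ell u' i := by
      rw [show u * w = w * u' by simp [u', mul_assoc]]
      simp only [hell, Finset.sum_add_distrib]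
    have h3 : ∑ i ∈ P0, ell w (u' • i) = ∑ i ∈ P0, ell w i :=
      Finset.sum_nbij (fun i => u' • i) (fun i hi => (hu' i).mpr hi)
        (fun i _ k _ h => MulAction.injective u' h)
        (fun k hk => ⟨u'⁻¹ • k, (hu' _).mp (by rwa [smul_inv_smul]), smul_inv_smul u' k⟩) (fun _ _ => rfl)
    rw [h3, h1, add_comm] at h2
    exact add_left_cancel h2
  let D : K → K := fun y => y⁻¹ * z⁻¹ * y * z
  have hDM : ∀ y ∈ M, D y ∈ M := fun y hy => by
    have h := M.mul_mem (M.inv_mem hy) (hMn.conj_mem y hy z⁻¹)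
    simpa [D, mul_assoc] using h
  have hDit : ∀ (f : ℕ) (y : K), y ∈ M → φ (D^[f] y) =
      ∑ j ∈ Finset.range (f + 1), ((f.choose j : ℕ) : ZMod p) * (-1) ^ (f - j) * φ ((z ^ j)⁻¹ * y * z ^ j) := by
    intro f
    induction f with
    | zero => intro y _; simp
    | succ f ih =>
      intro y hy
      rw [Function.iterate_succ_apply, ih _ (hDM y hy)]
      set F : ℕ → ZMod p := fun j => φ ((z ^ j)⁻¹ * y * z ^ j)
      have hstep : ∀ j, φ ((z ^ j)⁻¹ * D y * z ^ j) = F (j + 1) - F j := by
        intro j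
        have hmem : ∀ k : ℕ, (z ^ k)⁻¹ * y * z ^ k ∈ M := fun k => by simpa using hMn.conj_mem y hy (z ^ k)⁻¹
        have h := hφ ((z ^ j)⁻¹ * y * z ^ j) ((z ^ j)⁻¹ * D y * z ^ j)
          (by simpa using hMn.conj_mem _ (hDM y hy) (z ^ j)⁻¹)
        rw [show (z ^ j)⁻¹ * y * z ^ j * ((z ^ j)⁻¹ * D y * z ^ j) = (z ^ (j + 1))⁻¹ * y * z ^ (j + 1) by
          simp only [D, pow_succ']; group] at h
        show _ = φ _ - φ _
        rw [h, add_sub_cancel_left]
      rw [Finset.sum_congr rfl fun j _ => by rw [hstep j, mul_sub], Finset.sum_sub_distrib,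
        Finset.sum_range_succ' (n := f + 1) (f := fun j => (((f + 1).choose j : ℕ) : ZMod p) * (-1) ^ (f + 1 - j) * F j)]
      have h1 : ∀ j ∈ Finset.range (f + 1), (((f + 1).choose (j + 1) : ℕ) : ZMod p) * (-1) ^ (f + 1 - (j + 1)) * F (j + 1)
          = ((f.choose j : ℕ) : ZMod p) * (-1) ^ (f - j) * F (j + 1) +
            ((f.choose (j + 1) : ℕ) : ZMod p) * (-1) ^ (f - j) * F (j + 1) := by
        intro j _
        rw [Nat.choose_succ_succ', Nat.cast_add, Nat.add_sub_add_right]; ring
      have h2 : ∑ j ∈ Finset.range (f + 1), ((f.choose j : ℕ) : ZMod p) * (-1) ^ (f - j) * F j =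
          ((f.choose 0 : ℕ) : ZMod p) * (-1) ^ f * F 0 -
            ∑ j ∈ Finset.range (f + 1), ((f.choose (j + 1) : ℕ) : ZMod p) * (-1) ^ (f - j) * F (j + 1) := by
        rw [Finset.sum_range_succ', Finset.sum_range_succ (n := f), Nat.choose_succ_self, Nat.cast_zero,
          zero_mul, zero_mul, add_zero, Nat.sub_zero, add_comm, sub_eq_add_neg, ← Finset.sum_neg_distrib]
        congr 1
        refine Finset.sum_congr rfl fun j hj => ?_
        rw [Finset.mem_range] at hj
        rw [show f - j = f - (j + 1) + 1 by omega, pow_succ]; ring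
      rw [Finset.sum_congr rfl h1, Finset.sum_add_distrib, h2, Nat.sub_zero, Nat.choose_zero_right,
        Nat.choose_zero_right, pow_succ]
      ring
  have hcoef : ∀ k, k ≤ p - 1 → ((p - 1).choose k : ZMod p) = (-1) ^ k := by
    intro k
    induction k with
    | zero => simp
    | succ k ih =>
      intro hk
      have h1 := Nat.choose_succ_succ' (p - 1) k
      rw [Nat.sub_add_cancel hp.out.one_le] at h1
      have h2 : ((p.choose (k + 1) : ℕ) : ZMod p) = 0 :=
        (ZMod.natCast_eq_zero_iff _ _).mpr (hp.out.dvd_choose_self (Nat.succ_ne_zero k) (by omega))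
      rw [h1, Nat.cast_add, ih (by omega)] at h2
      rw [pow_succ, eq_neg_of_add_eq_zero_right h2]; ring
  set cc := D^[p - 1] ⟨u, huK⟩ with hcc
  have hφc : φ cc ≠ 0 := by
    have hTO : T u O ≠ 0 := by
      rw [hfixsum O fun i => ?_]
      · exact hO
      show u • i ∈ O ↔ i ∈ O
      rw [hOdef, horbmem, horbmem]
      constructor
      · rintro ⟨w, hw, h⟩
        refine ⟨u⁻¹ * w * u, by simpa using hWn u⁻¹ (Sg.inv_mem huS) w hw, ?_⟩
        rw [mul_smul, mul_smul, hfix0, h, inv_smul_smul]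
      · rintro ⟨w, hw, rfl⟩
        refine ⟨u * w * u⁻¹, hWn u huS w hw, ?_⟩
        rw [mul_smul, mul_smul]
        conv_lhs => rw [← hfix0, inv_smul_smul]
    rw [hcc, hDit _ _ huM, Nat.sub_add_cancel hp.out.one_le]
    intro h
    apply hTO
    rw [hOsum, Finset.sum_congr rfl fun j _ => hblock j, ← h]
    refine Finset.sum_congr rfl fun j hj => ?_
    rw [Finset.mem_range] at hj
    rw [hcoef j (by omega), ← pow_add, show j + (p - 1 - j) = p - 1 by omega, show ((-1 : ZMod p)) ^ (p - 1) = 1 from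
      ZMod.pow_card_sub_one_eq_one (neg_ne_zero.mpr one_ne_zero), one_mul]
  have hit : ∀ (f : ℕ) (y : K), ((D^[f] y : K) : G) = (fun y : G => y⁻¹ * (z : G)⁻¹ * y * (z : G))^[f] (y : G) := by
    intro f
    induction f with
    | zero => intro y; rfl
    | succ f ih => intro y; rw [Function.iterate_succ_apply, Function.iterate_succ_apply, ih]; rfl
  have hDW : ∀ (f : ℕ) (y : K), ((D^[f + 1] y : K) : G) ∈ W := by
    intro f y
    rw [Function.iterate_succ_apply']
    set a := D^[f] y
    show (a : G)⁻¹ * (z : G)⁻¹ * (a : G) * (z : G) ∈ W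
    exact W.mul_mem (by simpa using hWn (a : G)⁻¹ (Sg.inv_mem (hKS a.2)) _ (W.inv_mem hzW)) hzW
  have hDMit : ∀ f, D^[f] ⟨u, huK⟩ ∈ M := by
    intro f
    induction f with
    | zero => exact huM
    | succ f ih => rw [Function.iterate_succ_apply']; exact hDM _ ih
  let W₀ : Subgroup W := M.comap (inclusion hWK)
  have hW0 : W₀.index = p := by
    have hd : W₀.index ∣ p := by
      show (M.comap (inclusion hWK)).index ∣ p
      rw [Subgroup.index_comap, ← hMidx]
      exact relIndex_dvd_index_of_normal M _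
    rcases hp.out.eq_one_or_self_of_dvd _ hd with h | h
    · exact absurd ((index_eq_one.mp h).ge (mem_top (⟨z, hzW⟩ : W)) : inclusion hWK ⟨z, hzW⟩ ∈ M) hzM
    · exact h
  have hW0c : IsCoatom W₀ := ⟨fun h => hp.out.one_lt.ne' (by rw [← hW0, h, index_top]), fun L hL => by
    have hd := (relIndex_mul_index hL.le).trans hW0
    rcases hp.out.eq_one_or_self_of_dvd _ (Dvd.intro_left _ hd) with h | h
    · exact index_eq_one.mp h
    · exfalso
      rw [h] at hd
      exact hL.not_ge (relIndex_eq_one.mp (Nat.eq_of_mul_eq_mul_right hp.out.pos (hd.trans (one_mul p).symm)))⟩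
  obtain ⟨f, hf⟩ : ∃ f, p - 1 = f + 1 := ⟨p - 2, by have := hp.out.two_le; omega⟩
  have hccW : (cc : G) ∈ W := by rw [hcc, hf]; exact hDW f _
  have hccM : cc ∈ M := hDMit _
  have hccW0 : (⟨(cc : G), hccW⟩ : W) ∈ W₀ := by
    show inclusion hWK ⟨(cc : G), hccW⟩ ∈ M
    exact hccM
  refine ⟨u, huS, z, hzW, W₀, hW0c, ?_, ?_⟩
  · rw [← hit (p - 1) ⟨u, huK⟩]
    exact ⟨_, hccW0, rfl⟩
  rw [← hit (p - 1) ⟨u, huK⟩]
  rintro ⟨a, ⟨b, hb, rfl⟩, ha⟩
  apply hφc
  have hmemM : ∀ d : W₀, inclusion hWK d.1 ∈ M := fun d => d.2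
  let χ : W₀ →* Multiplicative (ZMod p) :=
    { toFun := fun d => Multiplicative.ofAdd (φ (inclusion hWK d.1))
      map_one' := by
        show Multiplicative.ofAdd (∑ i ∈ P0, ell ((1 : K) : G) i) = 1
        simp [hell1]
      map_mul' := fun d e => by
        show Multiplicative.ofAdd (φ (inclusion hWK (d.1 * e.1))) = _
        rw [map_mul, hφ _ _ (hmemM e)]; rfl }
  have hχ : χ b = 1 := by
    have hW0p : IsPGroup p W₀ := (hSp.to_le hWS).to_subgroup _
    by_cases htop : χ.ker = ⊤
    · exact htop.ge (mem_top b)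
    · have hidx : χ.ker.index = p := by
        have h1 : χ.ker.index ∣ p := by
          rw [index_ker]
          exact (card_subgroup_dvd_card χ.range).trans (dvd_of_eq (Nat.card_zmod p))
        exact (hp.out.eq_one_or_self_of_dvd _ h1).resolve_left fun h => htop (index_eq_one.mp h)
      exact FGB.frattini_le_of_index_prime hW0p hidx hb
  have hbc : inclusion hWK b.1 = cc := Subtype.ext ha
  rw [← hbc]
  exact Multiplicative.ofAdd.injective hχ

end Cfsg.Agent.Transfer
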