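import Cfsg.Agent.Lib.Transfer.Replacement
import Cfsg.Prelude.Def_PLocal

/-!
# The rank in Glauberman's replacement theorem
-/

set_option autoImplicit false
set_option linter.style.haveILetI false

namespace Cfsg.Agent.Transfer

open Subgroup
open scoped commutatorElement

variable {S : Type*} [Group S] {p : ℕ}

theorem pow_eq_one_of_mem_omegaOne {A : Subgroup S} (hA : IsMulCommutative A) {x : S}
    (hx : x ∈ Cfsg.omegaOne p A) : x ∈ A ∧ x ^ p = 1 := by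
  induction hx using Subgroup.closure_induction with
  | mem x hx => exact hx
  | one => exact ⟨one_mem _, one_pow _⟩
  | mul x y _ _ hx hy =>
    refine ⟨mul_mem hx.1 hy.1, ?_⟩
    have h : Commute x y := congrArg Subtype.val (mul_comm' (⟨x, hx.1⟩ : A) ⟨y, hy.1⟩)
    rw [h.mul_pow, hx.2, hy.2, one_mul]
  | inv x _ hx => exact ⟨inv_mem hx.1, by rw [inv_pow, hx.2, inv_one]⟩

/-- The replaced subgroup has rank at least that of `A`. -/
theorem card_omegaOne_le_replaced [Finite S] [hp : Fact p.Prime] (hodd : p ≠ 2) (A : Subgroup S)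
    (hA : IsMulCommutative A) (b : S) (hRc : IsMulCommutative (replaced A b))
    (hcomm : ∀ a ∈ A, ∀ c ∈ A.map (MulAut.conj b⁻¹).toMonoidHom,
      ⁅c, a⁆ ∈ A ⊓ A.map (MulAut.conj b⁻¹).toMonoidHom) :
    Nat.card ↥(Cfsg.omegaOne p A) ≤ Nat.card ↥(Cfsg.omegaOne p (replaced A b)) := by
  set A' := A.map (MulAut.conj b⁻¹).toMonoidHom with hA'
  set Z := A ⊓ A' with hZ
  set R := replaced A b
  set A₁ := Cfsg.omegaOne p A with hA₁
  set x : S → S := fun a => a * b⁻¹ * a⁻¹ * b with hx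
  set f : S → S := fun a => b⁻¹ * a⁻¹ * b with hf
  have hxf : ∀ a, x a = a * f a := fun a => by simp [hx, hf, mul_assoc]
  have hfA' : ∀ a ∈ A, f a ∈ A' := fun a ha => ⟨a⁻¹, inv_mem ha, by simp [hf, mul_assoc]⟩
  have hZR : Z ≤ R := le_sup_left
  have hxR : ∀ a ∈ A, x a ∈ R := fun a ha => mem_sup_right (subset_closure ⟨a, ha, rfl⟩)
  have hAc : ∀ {a c : S}, a ∈ A → c ∈ A → Commute a c := fun ha hc =>
    congrArg Subtype.val (mul_comm' (⟨_, ha⟩ : A) ⟨_, hc⟩)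
  have hA'c : ∀ {a c : S}, a ∈ A' → c ∈ A' → Commute a c := by
    rintro _ _ ⟨a, ha, rfl⟩ ⟨c, hc, rfl⟩
    exact (hAc ha hc).map (MulAut.conj b⁻¹).toMonoidHom
  have h1 : ∀ a ∈ A₁, a ∈ A ∧ a ^ p = 1 := fun a ha => pow_eq_one_of_mem_omegaOne hA ha
  have hxp : ∀ a ∈ A₁, x a ^ p = 1 := by
    intro a ha
    obtain ⟨haA, hap⟩ := h1 a ha
    have hk : ⁅f a, a⁆ ∈ Z := hcomm a haA _ (hfA' a haA)
    have hfp : f a ^ p = 1 := by
      rw [show f a = b⁻¹ * a⁻¹ * (b⁻¹)⁻¹ by simp [hf], conj_pow, inv_pow, hap]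
      simp
    rw [hxf, mul_pow_of_commute (hAc hk.1 haA) (hA'c hk.2 (hfA' a haA)), hap, hfp, one_mul, one_mul]
    have hkp : ⁅f a, a⁆ ^ p = 1 := by
      have h2 : ∀ n : ℕ, ⁅f a, a ^ n⁆ = ⁅f a, a⁆ ^ n := by
        intro n
        induction n with
        | zero => simp
        | succ n ih =>
          rw [pow_succ, show ⁅f a, a ^ n * a⁆ = ⁅f a, a ^ n⁆ * (a ^ n * ⁅f a, a⁆ * (a ^ n)⁻¹) by
            simp only [commutatorElement_def]; group, ih,
            ((hAc hk.1 (pow_mem haA n)).symm).eq, mul_inv_cancel_right, ← pow_succ]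
      rw [← h2, hap, commutatorElement_one_right]
    obtain ⟨m, hm⟩ := dvd_choose_two_of_odd (hp.out.odd_of_ne_two hodd)
    rw [hm, pow_mul, hkp, one_pow]
  have hinj : ∀ a ∈ A, ∀ c ∈ A, ∀ z ∈ Z, ∀ w ∈ Z, x a * z = x c * w → c⁻¹ * a ∈ Z := by
    intro a ha c hc z hz w hw h
    refine mem_inf.mpr ⟨A.mul_mem (A.inv_mem hc) ha, ?_⟩
    have e : c⁻¹ * a = f c * w * z⁻¹ * (f a)⁻¹ := by
      rw [hxf, hxf] at h
      calc c⁻¹ * a = c⁻¹ * (a * f a * z) * z⁻¹ * (f a)⁻¹ := by group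
        _ = _ := by rw [h]; group
    rw [e]
    exact A'.mul_mem (A'.mul_mem (A'.mul_mem (hfA' c hc) (mem_inf.mp hw).2) (A'.inv_mem (mem_inf.mp hz).2)) (A'.inv_mem (hfA' a ha))
  let r : ↥A₁ → ↥A₁ := fun a => (QuotientGroup.mk (s := Z.subgroupOf A₁) a).out
  have hr : ∀ a : ↥A₁, ((r a : S))⁻¹ * a ∈ Z := fun a => by
    have h2 := QuotientGroup.eq.mp
      (QuotientGroup.out_eq' (QuotientGroup.mk (s := Z.subgroupOf A₁) a))
    exact h2
  let φ : ↥A₁ → ↥(Cfsg.omegaOne p R) := fun a => ⟨x (r a) * ((r a : S)⁻¹ * a),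
    subset_closure ⟨mul_mem (hxR _ (h1 _ (r a).2).1) (hZR (hr a)), by
      have hc : Commute (x (r a)) ((r a : S)⁻¹ * a) := congrArg Subtype.val
        (mul_comm' (⟨_, hxR _ (h1 _ (r a).2).1⟩ : R) ⟨_, hZR (hr a)⟩)
      rw [hc.mul_pow, hxp _ (r a).2, one_mul]
      exact (h1 _ (mul_mem (inv_mem (r a).2) a.2)).2⟩⟩
  refine Nat.card_le_card_of_injective φ fun a c h => ?_
  have h' : x (r a) * ((r a : S)⁻¹ * a) = x (r c) * ((r c : S)⁻¹ * c) := congrArg Subtype.val h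
  have h2 := hinj _ (h1 _ (r a).2).1 _ (h1 _ (r c).2).1 _ (hr a) _ (hr c) h'
  have h3 : QuotientGroup.mk (s := Z.subgroupOf A₁) c = QuotientGroup.mk a := by
    rw [← QuotientGroup.out_eq' (QuotientGroup.mk (s := Z.subgroupOf A₁) c),
      ← QuotientGroup.out_eq' (QuotientGroup.mk (s := Z.subgroupOf A₁) a)]
    exact QuotientGroup.eq.mpr h2
  have h4 : r c = r a := congrArg Quotient.out h3
  rw [h4] at h'
  exact Subtype.ext (mul_left_cancel (mul_left_cancel h'))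

end Cfsg.Agent.Transfer
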