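import Cfsg.Agent.Lib.Basics.CoprimeGen
import Cfsg.Agent.Lib.PGroup23.NormalSq
import Cfsg.Agent.Lib.OddLocal.Rank

/-!
A p-group of odd order acting coprimely on an abelian group, where the fixed points of the members of
two generating sets always span, acts trivially.
-/

set_option autoImplicit false

namespace Cfsg.Agent.Transfer.SpanFixed

variable {V : Type*} [CommGroup V] [Finite V] {p : ℕ} [hp : Fact p.Prime]

/-- The fixed subgroup of an automorphism. -/
def fx (g : MulAut V) : Subgroup V where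
  carrier := {v | g v = v}
  one_mem' := map_one g
  mul_mem' {a b} ha hb := by
    simp only [Set.mem_setOf_eq] at *
    rw [map_mul, ha, hb]
  inv_mem' {a} ha := by
    simp only [Set.mem_setOf_eq] at *
    rw [map_inv, ha]

theorem mem_fx {g : MulAut V} {v : V} : v ∈ fx g ↔ g v = v := Iff.rfl

omit [Finite V] in
theorem fx_pow {g : MulAut V} {v : V} (h : v ∈ fx g) (n : ℕ) : v ∈ fx (g ^ n) := by
  induction n with
  | zero => exact rfl
  | succ n ih =>
    show (g ^ (n + 1)) v = v
    rw [pow_succ, MulAut.mul_apply, h, ih]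

theorem eq_one_of_pow (hV : (Nat.card V).Coprime p) {v : V} (h : v ^ p = 1) : v = 1 := by
  refine orderOf_eq_one_iff.mp (Nat.dvd_one.mp (hV ▸ Nat.dvd_gcd (orderOf_dvd_natCard v) ?_))
  exact orderOf_dvd_of_pow_eq_one h

/-- The irreducible faithful case. -/
theorem false_of_irreducible (hp2 : p ≠ 2) (hV : (Nat.card V).Coprime p) [Nontrivial V]
    (P : Subgroup (MulAut V)) (hP : IsPGroup p P)
    (hirr : ∀ U : Subgroup V, (∀ g ∈ P, ∀ u ∈ U, g u ∈ U) → U = ⊥ ∨ U = ⊤)
    (hfix : ∀ v : V, (∀ g ∈ P, g v = v) → v = 1)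
    (C D : Set (MulAut V)) (hC : Subgroup.closure C = P) (hD : Subgroup.closure D = P)
    (h : ∀ c ∈ C, ∀ d ∈ D, ∀ v : V, ∃ a ∈ fx c, ∃ b ∈ fx d, v = a * b) : False := by
  classical
  have hfree : ∀ z ∈ P, (∀ g ∈ P, Commute g z) → z ≠ 1 → fx z = ⊥ := fun z _ hc hz1 => by
    refine (hirr _ fun g hg u hu => ?_).resolve_right fun e => hz1 (MulEquiv.ext fun v => ?_)
    · show z (g u) = g u
      rw [← MulAut.mul_apply, ← (hc g hg).eq, MulAut.mul_apply, hu]
    · exact (e.ge (Subgroup.mem_top v) : z v = v)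
  have hgen : ∀ S : Set (MulAut V), Subgroup.closure S = P → ∀ H : Subgroup (MulAut V), ¬ P ≤ H →
      ∃ c ∈ S, c ∉ H := fun S hS H hH => by
    by_contra hcon
    push Not at hcon
    exact hH (hS ▸ (Subgroup.closure_le H).mpr hcon)
  have hnbot : ¬ P ≤ ⊥ := fun hb => by
    obtain ⟨v, hv⟩ := exists_ne (1 : V)
    exact hv (hfix v fun g hg => by rw [Subgroup.mem_bot.mp (hb hg)]; rfl)
  -- not abelian
  by_cases hcyc : IsCyclic P
  · obtain ⟨c, hcC, hc1⟩ := hgen C hC ⊥ hnbot
    obtain ⟨d, hdD, hd1⟩ := hgen D hD ⊥ hnbot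
    have hcomm : ∀ x ∈ P, ∀ y ∈ P, Commute x y := fun x hx y hy =>
      congrArg Subtype.val ((IsCyclic.commGroup (α := P)).mul_comm ⟨x, hx⟩ ⟨y, hy⟩)
    have hcP : c ∈ P := hC ▸ Subgroup.subset_closure hcC
    have hdP : d ∈ P := hD ▸ Subgroup.subset_closure hdD
    obtain ⟨v, hv⟩ := exists_ne (1 : V)
    obtain ⟨a, ha, b, hb, rfl⟩ := h c hcC d hdD v
    rw [hfree c hcP (fun g hg => hcomm g hg c hcP) (fun e => hc1 (Subgroup.mem_bot.mpr e)),
      Subgroup.mem_bot] at ha
    rw [hfree d hdP (fun g hg => hcomm g hg d hdP) (fun e => hd1 (Subgroup.mem_bot.mpr e)),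
      Subgroup.mem_bot] at hb
    exact hv (by rw [ha, hb, one_mul])
  obtain ⟨E, hEn, hEcard, hEab, hEexp⟩ := PGroup23.exists_normal_elementary_sq hp2 hP hcyc
  haveI := hEn
  have hEcomm : ∀ x ∈ E, ∀ y ∈ E, Commute (x : MulAut V) y := fun x hx y hy =>
    congrArg Subtype.val (congrArg Subtype.val (hEab.is_comm.comm ⟨x, hx⟩ ⟨y, hy⟩))
  have hpow : ∀ x ∈ E, (x : MulAut V) ^ p = 1 := fun x hx =>
    congrArg Subtype.val (hEexp x hx)
  -- `z`
  have hEbot : E ≠ ⊥ := fun e => by
    rw [e, Subgroup.card_bot] at hEcard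
    have := Nat.one_lt_pow (n := 2) (by norm_num) hp.out.one_lt
    omega
  haveI := E.nontrivial_iff_ne_bot.mpr hEbot
  obtain ⟨z, hzE, hzZ, hz1⟩ : ∃ z ∈ E, z ∈ Subgroup.center P ∧ z ≠ 1 := by
    exact OddLocal.exists_mem_center_ne_one_of_normal hP E hEbot
  have hzc : ∀ g ∈ P, Commute g (z : MulAut V) := fun g hg =>
    congrArg Subtype.val (Subgroup.mem_center_iff.mp hzZ ⟨g, hg⟩)
  have hzfx : fx (z : MulAut V) = ⊥ :=
    hfree z z.2 hzc fun e => hz1 (Subtype.ext e)
  have hnc : ¬ E ≤ Subgroup.center P := fun hEc => by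
    obtain ⟨a, haE, haz⟩ : ∃ a ∈ E, a ∉ Subgroup.zpowers z := by
      by_contra hcon
      push Not at hcon
      have h1 := Subgroup.card_le_of_le (show E ≤ Subgroup.zpowers z from hcon)
      rw [hEcard, Nat.card_zpowers] at h1
      have h2 := Nat.le_of_dvd hp.out.pos (orderOf_dvd_of_pow_eq_one (hEexp z hzE))
      have := hp.out.two_le
      nlinarith
    obtain ⟨v, hv⟩ := exists_ne (1 : V)
    refine hv (eq_one_of_pow hV (Subgroup.mem_bot.mp (Basics.pow_mem_of_commuting_auts p
      (a : MulAut V) z (hEcomm a haE z hzE) (hpow a haE) (hpow z hzE) ⊥ ?_ v)))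
    rintro g (⟨j, rfl⟩ | rfl) w hw
    · have hmem : a * z ^ j ∈ E := E.mul_mem haE (E.pow_mem hzE j)
      have hne : a * z ^ j ≠ 1 := fun e => haz (by
        rw [mul_eq_one_iff_eq_inv.mp e]
        exact inv_mem (Subgroup.npow_mem_zpowers z j))
      exact (hfree _ (a * z ^ j).2 (fun g hg =>
        congrArg Subtype.val (Subgroup.mem_center_iff.mp (hEc hmem) ⟨g, hg⟩))
        (fun e => hne (Subtype.ext e))).le hw
    · exact hzfx.le hw
  obtain ⟨a, haE, haZ⟩ := SetLike.not_le_iff_exists.mp hnc
  have hcent : E ⊓ Subgroup.center P = Subgroup.zpowers z := by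
    refine (Subgroup.eq_of_le_of_card_ge (Subgroup.zpowers_le.mpr
      (Subgroup.mem_inf.mpr ⟨hzE, hzZ⟩)) ?_).symm
    rw [Nat.card_zpowers, orderOf_eq_prime (hEexp z hzE) hz1]
    obtain ⟨i, hi, hi2⟩ := (Nat.dvd_prime_pow hp.out).mp
      (hEcard ▸ Subgroup.card_dvd_of_le (inf_le_left : E ⊓ Subgroup.center P ≤ E))
    rw [hi2]
    rcases Nat.lt_or_ge i 2 with hi' | hi'
    · calc p ^ i ≤ p ^ 1 := Nat.pow_le_pow_right hp.out.pos (by omega)
        _ = p := pow_one p
    · exfalso
      refine haZ ((Subgroup.eq_of_le_of_card_ge inf_le_left ?_).ge haE).2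
      rw [hi2, hEcard, show i = 2 by omega]
  have hstep : ∀ x : P, x * a * x⁻¹ * a⁻¹ ∈ Subgroup.zpowers z := fun x => by
    rw [← hcent]
    have h1 := OddLocal.commutator_top_le_center hP E hEcard.le
      (Subgroup.commutator_mem_commutator haE (Subgroup.mem_top x))
    have h2 := (E ⊓ Subgroup.center P).inv_mem h1
    rw [commutatorElement_inv] at h2
    exact h2
  -- the pieces
  let g : ZMod p → MulAut V := fun i => (a : MulAut V) * (z : MulAut V) ^ i.val
  have hzadd : ∀ i j : ZMod p,
      (z : MulAut V) ^ i.val * (z : MulAut V) ^ j.val = (z : MulAut V) ^ (i + j).val := fun i j => by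
    rw [← pow_add, ZMod.val_add]
    exact pow_eq_pow_mod _ (hpow z hzE)
  let φ : (∀ i : ZMod p, fx (g i)) →* V :=
    { toFun := fun w => ∏ i, (w i : V)
      map_one' := by simp
      map_mul' := fun u w => by simp [Finset.prod_mul_distrib] }
  have hsurj : Function.Surjective φ := by
    have hW : ∀ i, fx (g i) ≤ φ.range := fun i v hv =>
      ⟨Pi.mulSingle i ⟨v, hv⟩, by
        show ∏ k, ((Pi.mulSingle (M := fun k => fx (g k)) i ⟨v, hv⟩ k : fx (g k)) : V) = v
        rw [Finset.prod_eq_single_of_mem i (Finset.mem_univ i) fun k _ hk => by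
          rw [Pi.mulSingle_eq_of_ne hk]; rfl]
        rw [Pi.mulSingle_eq_same]⟩
    intro v
    obtain ⟨u, hu⟩ := (powCoprime hV).surjective v
    rw [← MonoidHom.mem_range, ← hu]
    refine Basics.pow_mem_of_commuting_auts p (a : MulAut V) z (hEcomm a haE z hzE) (hpow a haE)
      (hpow z hzE) φ.range ?_ u
    rintro f (⟨j, rfl⟩ | rfl) w hw
    · refine hW (j : ZMod p) (show g (j : ZMod p) w = w from ?_)
      rw [show g (j : ZMod p) = (a : MulAut V) * (z : MulAut V) ^ j from
        congrArg ((a : MulAut V) * ·) (by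
          rw [ZMod.val_natCast]; exact (pow_eq_pow_mod _ (hpow z hzE)).symm)]
      exact hw
    · rw [Subgroup.mem_bot.mp (hzfx.le hw)]
      exact one_mem _
  have hgcomm : ∀ i j, Commute (g i) (g j) := fun i j =>
    hEcomm _ (E.mul_mem haE (E.pow_mem hzE i.val)) _ (E.mul_mem haE (E.pow_mem hzE j.val))
  have hinter : ∀ i j, i ≠ j → ∀ v, g i v = v → g j v = v → v = 1 := fun i j hij v hi hj => by
    have h0 : g j = g i * (z : MulAut V) ^ (j - i).val := by
      simp only [g]
      rw [mul_assoc, hzadd, add_sub_cancel]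
    rw [h0, MulAut.mul_apply] at hj
    have h1 : v ∈ fx ((z : MulAut V) ^ (j - i).val) := (g i).injective (hj.trans hi.symm)
    have hd : ((j - i).val).Coprime p := by
      refine ((Nat.Prime.coprime_iff_not_dvd hp.out).mpr fun hd => ?_).symm
      have := (ZMod.natCast_eq_zero_iff (j - i).val p).mpr hd
      rw [ZMod.natCast_zmod_val, sub_eq_zero] at this
      exact hij this.symm
    obtain ⟨m, hm⟩ := exists_pow_eq_self_of_coprime
      (x := (z : MulAut V)) (n := (j - i).val)
      (hd.coprime_dvd_right (orderOf_dvd_of_pow_eq_one (hpow z hzE)))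
    have h2 := fx_pow h1 m
    rw [hm, hzfx] at h2
    exact Subgroup.mem_bot.mp h2
  have hinj : Function.Injective φ := by
    rw [injective_iff_map_eq_one]
    intro w hw
    funext j
    refine Subtype.ext (eq_one_of_pow hV ?_)
    let S : V → V := fun v => ∏ t : ZMod p, (g j ^ t.val) v
    have hjp : g j ^ p = 1 := hpow _ (E.mul_mem haE (E.pow_mem hzE j.val))
    have hSmul : ∀ (s : Finset (ZMod p)) (f : ZMod p → V), S (∏ i ∈ s, f i) = ∏ i ∈ s, S (f i) := by
      intro s f
      simp only [S, map_prod]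
      exact Finset.prod_comm
    have hSfix : ∀ v, g j (S v) = S v := fun v => by
      show g j (∏ t : ZMod p, (g j ^ t.val) v) = _
      rw [map_prod]
      refine Fintype.prod_equiv (Equiv.addLeft (1 : ZMod p)) _ _ fun t => ?_
      rw [← MulAut.mul_apply, ← pow_succ']
      congr 1
      rw [Equiv.coe_addLeft, ZMod.val_add, ZMod.val_one, add_comm]
      exact pow_eq_pow_mod _ hjp
    have hone : ∀ i, i ≠ j → S (w i : V) = 1 := fun i hij => by
      refine hinter i j hij _ ?_ (hSfix _)
      simp only [S, map_prod]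
      refine Finset.prod_congr rfl fun t _ => ?_
      rw [← MulAut.mul_apply, ((hgcomm i j).pow_right t.val).eq, MulAut.mul_apply, (w i).2]
    have hself : S (w j : V) = (w j : V) ^ p := by
      show ∏ t : ZMod p, (g j ^ t.val) (w j : V) = _
      rw [Finset.prod_congr rfl (fun (t : ZMod p) _ => (fx_pow (w j).2 t.val : (g j ^ t.val) (w j : V) = w j)), Finset.prod_const,
        Finset.card_univ, ZMod.card]
    rw [← hself]
    have := hSmul Finset.univ fun i => (w i : V)
    rw [Finset.prod_eq_single_of_mem j (Finset.mem_univ j) fun i _ hij => hone i hij] at this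
    rw [← this, show (∏ i, (w i : V)) = 1 from hw]
    simp [S]
  -- bounds
  have hbound : ∀ S : Set (MulAut V), Subgroup.closure S = P →
      ∃ c ∈ S, Nat.card (fx c) ≤ Nat.card (fx (g 0)) ∧
        Nat.card V = Nat.card (fx (g 0)) ^ p := by
    intro S hS
    have hna : ¬ P ≤ Subgroup.centralizer ({(a : MulAut V)} : Set (MulAut V)) := fun hle =>
      haZ (Subgroup.mem_center_iff.mpr fun x => Subtype.ext
        ((Subgroup.mem_centralizer_iff.mp (hle x.2)) _ rfl).symm)
    obtain ⟨c, hcS, hca⟩ := hgen S hS _ hna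
    refine ⟨c, hcS, ?_⟩
    have hcP : c ∈ P := hS ▸ Subgroup.subset_closure hcS
    obtain ⟨k, hk⟩ := (Submonoid.mem_powers_iff _ _).mp
      (mem_powers_iff_mem_zpowers.mpr (hstep ⟨c, hcP⟩))
    have hk' : c * (a : MulAut V) * c⁻¹ = (z : MulAut V) ^ k * a := by
      have := congrArg Subtype.val hk
      simp only [SubmonoidClass.coe_pow, Subgroup.coe_mul, Subgroup.coe_inv] at this
      rw [this, inv_mul_cancel_right]
    have hzk : (z : MulAut V) ^ k = (z : MulAut V) ^ (k : ZMod p).val := by
      rw [ZMod.val_natCast]; exact pow_eq_pow_mod _ (hpow z hzE)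
    set r : ZMod p := (k : ZMod p) with hr
    have hr0 : r ≠ 0 := fun e => hca (Subgroup.mem_centralizer_iff.mpr fun y hy => by
      rw [Set.mem_singleton_iff.mp hy]
      rw [hzk, e, ZMod.val_zero, pow_zero, one_mul, mul_inv_eq_iff_eq_mul] at hk'
      exact hk'.symm)
    have hconj : ∀ i, c * g i = g (i + r) * c := fun i => by
      simp only [g]
      have h1 : c * (a : MulAut V) = (z : MulAut V) ^ k * a * c := mul_inv_eq_iff_eq_mul.mp hk'
      rw [← mul_assoc, h1, mul_assoc, ((hzc c hcP).pow_right _).eq, hzk,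
        ((hEcomm z hzE a haE).pow_left r.val).eq, ← hzadd]
      rw [show (z : MulAut V) ^ i.val * (z : MulAut V) ^ r.val =
        (z : MulAut V) ^ r.val * (z : MulAut V) ^ i.val from Commute.pow_pow_self _ _ _]
      simp only [mul_assoc]
    have hmaps : ∀ i v, v ∈ fx (g i) → c v ∈ fx (g (i + r)) := fun i v hv => by
      show g (i + r) (c v) = c v
      rw [← MulAut.mul_apply, ← hconj, MulAut.mul_apply, hv]
    have horb : ∀ i : ZMod p, ∃ n : ℕ, i = (n : ZMod p) * r := fun i =>
      ⟨(i * r⁻¹).val, by rw [ZMod.natCast_zmod_val, mul_assoc, inv_mul_cancel₀ hr0, mul_one]⟩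
    have hcards : ∀ i, Nat.card (fx (g i)) ≤ Nat.card (fx (g (i + r))) := fun i =>
      Nat.card_le_card_of_injective (fun v => (⟨c v, hmaps i v v.2⟩ : fx (g (i + r))))
        fun u v e => Subtype.ext (c.injective (congrArg Subtype.val e))
    have hmono : ∀ (n : ℕ) (i : ZMod p),
        Nat.card (fx (g i)) ≤ Nat.card (fx (g (i + (n : ZMod p) * r))) := by
      intro n
      induction n with
      | zero => intro i; simp
      | succ n ih =>
        intro i
        refine (ih i).trans ((hcards _).trans (le_of_eq ?_))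
        rw [show i + (n : ZMod p) * r + r = i + ((n + 1 : ℕ) : ZMod p) * r by push_cast; ring]
    refine ⟨?_, ?_⟩
    · let ψ : fx c → fx (g 0) := fun v => (hsurj (v : V)).choose 0
      refine Nat.card_le_card_of_injective ψ fun u v e => ?_
      have hdet : ∀ (v : fx c) (i : ZMod p),
          (((hsurj (v : V)).choose (i + r) : fx (g (i + r))) : V) =
            c ((hsurj (v : V)).choose i) := by
        intro v i
        set w := (hsurj (v : V)).choose with hw
        have hwv : φ w = v := (hsurj (v : V)).choose_spec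
        let w' : ∀ i : ZMod p, fx (g i) := fun i =>
          ⟨c (w (i - r)), by simpa using hmaps (i - r) _ (w (i - r)).2⟩
        have : φ w' = v := by
          show ∏ i, c (w (i - r) : V) = v
          rw [← map_prod]
          refine (congrArg c (Equiv.prod_comp (Equiv.subRight r) fun i => ((w i : fx (g i)) : V))).trans ?_
          show c (φ w) = v
          rw [hwv]
          exact v.2
        have := congrArg Subtype.val (congrFun (hinj (this.trans hwv.symm)) (i + r))
        simp only [w'] at this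
        rw [add_sub_cancel_right] at this
        exact this.symm
      have hall : ∀ n : ℕ, (((hsurj (u : V)).choose ((n : ZMod p) * r) : fx _) : V) =
          ((hsurj (v : V)).choose ((n : ZMod p) * r) : fx _) := by
        intro n
        induction n with
        | zero => rw [Nat.cast_zero, zero_mul]; exact congrArg Subtype.val e
        | succ n ih => rw [Nat.cast_succ, add_mul, one_mul, hdet, hdet, ih]
      refine Subtype.ext ?_
      rw [← (hsurj (u : V)).choose_spec, ← (hsurj (v : V)).choose_spec]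
      congr 1
      funext i
      obtain ⟨n, rfl⟩ := horb i
      exact Subtype.ext (hall n)
    · rw [← Nat.card_congr (Equiv.ofBijective φ ⟨hinj, hsurj⟩), Nat.card_pi]
      rw [Finset.prod_congr rfl fun i _ => show Nat.card (fx (g i)) = Nat.card (fx (g 0)) from ?_,
        Finset.prod_const, Finset.card_univ, ZMod.card]
      refine le_antisymm ?_ ?_
      · obtain ⟨n, hn⟩ := horb (-i)
        exact (hmono n i).trans (le_of_eq (by rw [← hn, add_neg_cancel]))
      · obtain ⟨n, hn⟩ := horb i
        exact (hmono n 0).trans (le_of_eq (by rw [← hn, zero_add]))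
  obtain ⟨c, hcC, hcle, hcardV⟩ := hbound C hC
  obtain ⟨d, hdD, hdle, -⟩ := hbound D hD
  have hprod : Nat.card V ≤ Nat.card (fx c) * Nat.card (fx d) := by
    rw [← Nat.card_prod]
    refine Nat.card_le_card_of_surjective (fun w : fx c × fx d => (w.1 : V) * w.2) fun v => ?_
    obtain ⟨a, ha, b, hb, e⟩ := h c hcC d hdD v
    exact ⟨(⟨a, ha⟩, ⟨b, hb⟩), e.symm⟩
  have h2 : 2 < p := lt_of_le_of_ne hp.out.two_le (Ne.symm hp2)
  have hV1 := Finite.one_lt_card (α := V)
  have hW1 : 1 < Nat.card (fx (g 0)) := by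
    by_contra hle
    rw [show Nat.card (fx (g 0)) = 1 from le_antisymm (not_lt.mp hle) Nat.card_pos, one_pow]
      at hcardV
    omega
  have := Nat.pow_lt_pow_right hW1 h2
  nlinarith [Nat.mul_le_mul hcle hdle]

/-- The action is trivial. -/
theorem trivial_action (hp2 : p ≠ 2) {P : Type*} [Group P] [Finite P] (hP : IsPGroup p P)
    (C D : Set P) (hC : Subgroup.closure C = ⊤) (hD : Subgroup.closure D = ⊤) :
    ∀ (n : ℕ) {V : Type*} [CommGroup V] [Finite V], Nat.card V = n → (Nat.card V).Coprime p →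
      ∀ ρ : P →* MulAut V,
        (∀ c ∈ C, ∀ d ∈ D, ∀ v : V, ∃ a ∈ fx (ρ c), ∃ b ∈ fx (ρ d), v = a * b) →
        ∀ (g : P) (v : V), ρ g v = v := by
  intro n
  induction n using Nat.strong_induction_on with
  | _ n ih =>
  intro V _ _ hn hV ρ h
  classical
  have := Fintype.ofFinite P
  rcases subsingleton_or_nontrivial V with hs | hnt
  · intro g v; exact Subsingleton.elim _ _
  -- quotients by invariant subgroups
  have hquot : ∀ U : Subgroup V, U ≠ ⊥ → (∀ g, ∀ u ∈ U, ρ g u ∈ U) →
      ∀ g v, v⁻¹ * ρ g v ∈ U := by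
    intro U hU hinv
    have hmap : ∀ g, U.map (ρ g).toMonoidHom = U := fun g =>
      Subgroup.eq_of_le_of_card_ge (fun _ ⟨u, hu, e⟩ => e ▸ hinv g u hu)
        (Subgroup.card_map_of_injective (ρ g).injective).ge
    let σ : P →* MulAut (V ⧸ U) :=
      { toFun := fun g => QuotientGroup.congr U U (ρ g) (hmap g)
        map_one' := MulEquiv.ext fun q => by
          induction q using QuotientGroup.induction_on with
          | H v => show ((ρ 1 v : V) : V ⧸ U) = _; rw [map_one]; rfl
        map_mul' := fun a b => MulEquiv.ext fun q => by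
          induction q using QuotientGroup.induction_on with
          | H v =>
            show ((ρ (a * b) v : V) : V ⧸ U) = ((ρ a (ρ b v) : V) : V ⧸ U)
            rw [map_mul]; rfl }
    have hlt : Nat.card (V ⧸ U) < n := hn ▸ Basics.card_quotient_lt hU
    have htriv := ih _ hlt rfl (hV.coprime_dvd_left (Subgroup.card_quotient_dvd_card U)) σ
      fun c hc d hd q => by
        induction q using QuotientGroup.induction_on with
        | H v =>
          obtain ⟨a, ha, b, hb, rfl⟩ := h c hc d hd v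
          exact ⟨a, show ((ρ c a : V) : V ⧸ U) = a by rw [mem_fx.mp ha], b,
            show ((ρ d b : V) : V ⧸ U) = b by rw [mem_fx.mp hb], rfl⟩
    intro g v
    exact QuotientGroup.eq.mp (show ((v : V) : V ⧸ U) = ((ρ g v : V) : V ⧸ U) from (htriv g v).symm)
  let F : Subgroup V := ⨅ g : P, fx (ρ g)
  have hF : ∀ v, v ∈ F ↔ ∀ g, ρ g v = v := fun v => by simp [F, mem_fx]
  have hcopP : (Nat.card V).Coprime (Nat.card P) := by
    obtain ⟨k, hk⟩ := IsPGroup.iff_card.mp hP
    rw [hk]; exact hV.pow_right k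
  by_cases hFbot : F = ⊥
  · exfalso
    have hnorm : ∀ v : V, ∏ g : P, ρ g v = 1 := fun v => by
      refine Subgroup.mem_bot.mp (hFbot.le ((hF _).mpr fun b => ?_))
      rw [map_prod]
      refine Fintype.prod_equiv (Equiv.mulLeft b) _ _ fun g => ?_
      rw [← MulAut.mul_apply, ← map_mul]; rfl
    refine false_of_irreducible hp2 hV ρ.range (hP.of_surjective ρ.rangeRestrict
      ρ.rangeRestrict_surjective) ?_ ?_ (ρ '' C) (ρ '' D) ?_ ?_ ?_
    · intro U hU
      rcases eq_or_ne U ⊥ with hb | hb
      · exact Or.inl hb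
      refine Or.inr (eq_top_iff.mpr fun v _ => ?_)
      have hq := hquot U hb fun g u hu => hU _ ⟨g, rfl⟩ u hu
      have h1 : v ^ Nat.card P ∈ U := by
        have h2 : ∏ g : P, v⁻¹ * ρ g v ∈ U := Subgroup.prod_mem U fun g _ => hq g v
        rw [Finset.prod_mul_distrib, hnorm, mul_one, Finset.prod_const, Finset.card_univ,
          ← Nat.card_eq_fintype_card, inv_pow] at h2
        exact inv_mem_iff.mp h2
      obtain ⟨m, hm⟩ := exists_pow_eq_self_of_coprime (x := v)
        (hcopP.coprime_dvd_left (orderOf_dvd_natCard v)).symm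
      exact hm ▸ pow_mem h1 m
    · exact fun v hv => Subgroup.mem_bot.mp (hFbot.le ((hF v).mpr fun g => hv _ ⟨g, rfl⟩))
    · rw [← MonoidHom.map_closure, hC, MonoidHom.range_eq_map]
    · rw [← MonoidHom.map_closure, hD, MonoidHom.range_eq_map]
    · rintro _ ⟨c, hc, rfl⟩ _ ⟨d, hd, rfl⟩ v
      exact h c hc d hd v
  · have hq := hquot F hFbot fun g u hu => by rw [(hF u).mp hu g]; exact hu
    intro g v
    have hiter : ∀ k : ℕ, ρ (g ^ k) v = v * (v⁻¹ * ρ g v) ^ k := by
      intro k
      induction k with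
      | zero => simp
      | succ k ihk =>
        rw [pow_succ', map_mul, MulAut.mul_apply, ihk, map_mul, map_pow, (hF _).mp (hq g v) g,
          pow_succ', ← mul_assoc v, mul_inv_cancel_left]
    have h1 := hiter (orderOf g)
    rw [pow_orderOf_eq_one, map_one, MulAut.one_apply, eq_comm, mul_eq_left] at h1
    have h2 : v⁻¹ * ρ g v = 1 := orderOf_eq_one_iff.mp (Nat.eq_one_of_dvd_coprimes hcopP
      (orderOf_dvd_natCard _) ((orderOf_dvd_of_pow_eq_one h1).trans (orderOf_dvd_natCard g)))
    exact (inv_mul_eq_one.mp h2).symm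

end Cfsg.Agent.Transfer.SpanFixed
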