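import Mathlib
import Cfsg.Prelude.Def_Local
import Cfsg.Agent.Lib.Transfer.ZJ
import Cfsg.Agent.Lib.Components.PLocal
import Cfsg.Agent.Lib.Components.PConstrained
import Cfsg.Agent.Lib.Components.Fitting

/-!
# `p`-stability and the quotient by `O_{p'}`
-/

set_option autoImplicit false

namespace Cfsg.Agent.Transfer

open Subgroup Cfsg

variable {G : Type*} [Group G] [Finite G] {p : ℕ} [hp : Fact p.Prime]

omit [Finite G] hp in
/-- The image of an element in the core of a quotient, seen through a surjection. -/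
theorem mk_mem_pCore_iff_of_surjective {B : Type*} [Group B] (φ : G →* B)
    (hφ : Function.Surjective φ) (C : Subgroup G) [C.Normal] (C' : Subgroup B) [C'.Normal]
    (hC : C'.comap φ = C) (a : G) :
    (QuotientGroup.mk a : G ⧸ C) ∈ pCore p (G ⧸ C) ↔
      (QuotientGroup.mk (φ a) : B ⧸ C') ∈ pCore p (B ⧸ C') := by
  let ψ : G →* B ⧸ C' := (QuotientGroup.mk' C').comp φ
  have hk : ψ.ker = C := by rw [← hC, ← MonoidHom.comap_ker, QuotientGroup.ker_mk']
  let e : G ⧸ C ≃* B ⧸ C' := (QuotientGroup.quotientMulEquivOfEq hk.symm).trans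
    (QuotientGroup.quotientKerEquivOfSurjective ψ ((QuotientGroup.mk'_surjective C').comp hφ))
  have he : e (QuotientGroup.mk a) = QuotientGroup.mk (φ a) := rfl
  rw [← Components.map_pCore_equiv e, ← he]
  exact (Subgroup.mem_map_iff_mem e.injective).symm

/-- Stability at a `p`-subgroup does not change modulo a normal `p'`-subgroup. -/
theorem mk_mem_pCore_normalizer_iff {N : Subgroup G} [N.Normal] (hN : (Nat.card N).Coprime p)
    {P : Subgroup G} (hP : IsPGroup p P) (a : G) (ha : a ∈ normalizer (P : Set G)) :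
    (QuotientGroup.mk (⟨a, ha⟩ : normalizer (P : Set G)) :
        normalizer (P : Set G) ⧸ (centralizer (P : Set G)).subgroupOf (normalizer (P : Set G))) ∈
      pCore p _ ↔
    (QuotientGroup.mk (⟨QuotientGroup.mk' N a, le_normalizer_map _ ⟨a, ha, rfl⟩⟩ :
        normalizer ((P.map (QuotientGroup.mk' N) : Subgroup (G ⧸ N)) : Set (G ⧸ N))) :
        normalizer ((P.map (QuotientGroup.mk' N) : Subgroup (G ⧸ N)) : Set (G ⧸ N)) ⧸
          (centralizer ((P.map (QuotientGroup.mk' N) : Subgroup (G ⧸ N)) : Set (G ⧸ N))).subgroupOf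
            (normalizer ((P.map (QuotientGroup.mk' N) : Subgroup (G ⧸ N)) : Set (G ⧸ N)))) ∈
      pCore p _ := by
  set π := QuotientGroup.mk' N
  let φ : normalizer (P : Set G) →* normalizer ((P.map π : Subgroup (G ⧸ N)) : Set (G ⧸ N)) :=
    (π.comp (normalizer (P : Set G)).subtype).codRestrict _ fun z => le_normalizer_map _ ⟨z, z.2, rfl⟩
  have hφ : Function.Surjective φ := by
    rintro ⟨y, hy⟩
    rw [← Components.map_normalizer_of_coprime hN hP] at hy
    obtain ⟨x, hx, rfl⟩ := hy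
    exact ⟨⟨x, hx⟩, rfl⟩
  refine mk_mem_pCore_iff_of_surjective φ hφ _ _ ?_ ⟨a, ha⟩
  ext ⟨x, hx⟩
  rw [mem_comap, mem_subgroupOf, mem_subgroupOf]
  show π x ∈ centralizer ((P.map π : Subgroup (G ⧸ N)) : Set (G ⧸ N)) ↔ x ∈ centralizer (P : Set G)
  refine ⟨fun h v hv => ?_, fun h => ?_⟩
  · have h1 : x * v * x⁻¹ * v⁻¹ ∈ N ⊓ P := by
      refine mem_inf.mpr ⟨?_, mul_mem ((mem_normalizer_iff.mp hx v).mp hv) (inv_mem hv)⟩
      rw [← QuotientGroup.eq_one_iff (N := N)]
      show π _ = 1
      have h0 := h (π v) ⟨v, hv, rfl⟩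
      rw [map_mul, map_mul, map_mul, map_inv, map_inv, ← h0]
      group
    rw [Components.inf_eq_bot_of_coprime_isPGroup hN hP, mem_bot, mul_inv_eq_one,
      mul_inv_eq_iff_eq_mul] at h1
    exact h1.symm
  · rw [← Components.map_centralizer_of_coprime hN hP]
    exact mem_map_of_mem π h

theorem mk_mem_pCore_normalizer_iff' {N : Subgroup G} [N.Normal] (hN : (Nat.card N).Coprime p)
    {P : Subgroup G} (hP : IsPGroup p P) {P₁ : Subgroup (G ⧸ N)}
    (h : P.map (QuotientGroup.mk' N) = P₁) (a : G) (ha : a ∈ normalizer (P : Set G))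
    (hb : QuotientGroup.mk' N a ∈ normalizer (P₁ : Set (G ⧸ N))) :
    (QuotientGroup.mk (⟨a, ha⟩ : normalizer (P : Set G)) :
        normalizer (P : Set G) ⧸ (centralizer (P : Set G)).subgroupOf (normalizer (P : Set G))) ∈
      pCore p _ ↔
    (QuotientGroup.mk (⟨QuotientGroup.mk' N a, hb⟩ : normalizer (P₁ : Set (G ⧸ N))) :
        normalizer (P₁ : Set (G ⧸ N)) ⧸
          (centralizer (P₁ : Set (G ⧸ N))).subgroupOf (normalizer (P₁ : Set (G ⧸ N)))) ∈
      pCore p _ := by
  subst h
  exact mk_mem_pCore_normalizer_iff hN hP a ha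

theorem map_pCore_le_of_surjective {B : Type*} [Group B] (f : G →* B) (hf : Function.Surjective f) :
    (pCore p G).map f ≤ pCore p B := by
  haveI : ((pCore p G).map f).Normal := Subgroup.Normal.map inferInstance f hf
  exact Basics.le_pCore ((Basics.pCore_isPGroup p).map f)

/-- **`p`-stability passes to and from the quotient by `O_{p'}`.** -/
theorem isPStable_iff_quotient (hO : pCore p G ≠ ⊥) :
    IsPStable p G ↔ IsPStable p (G ⧸ pPrimeCore p G) := by
  set N := pPrimeCore p G
  set π := QuotientGroup.mk' N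
  have hN : (Nat.card N).Coprime p := Basics.pPrimeCore_coprime p
  have hbot : pPrimeCore p (G ⧸ N) = ⊥ := Basics.pPrimeCore_quotient_eq_bot p
  have hinj : ∀ B : Subgroup G, IsPGroup p B → Set.InjOn π B := by
    intro B hB x hx y hy hxy
    have h : x⁻¹ * y ∈ N ⊓ B := mem_inf.mpr
      ⟨QuotientGroup.eq.mp hxy, mul_mem (inv_mem hx) hy⟩
    rw [Components.inf_eq_bot_of_coprime_isPGroup hN hB, mem_bot] at h
    exact inv_mul_eq_one.mp h
  have hpp : pPrimePCore p (G ⧸ N) = pCore p (G ⧸ N) := by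
    have hmap := Components.map_pPrimePCore (G := G ⧸ N) (p := p)
    let e : G ⧸ N ≃* (G ⧸ N) ⧸ pPrimeCore p (G ⧸ N) :=
      (QuotientGroup.quotientBot.symm).trans (QuotientGroup.quotientMulEquivOfEq hbot.symm)
    have he : e.toMonoidHom = QuotientGroup.mk' (pPrimeCore p (G ⧸ N)) := MonoidHom.ext fun x => rfl
    rw [← Components.map_pCore_equiv e, he] at hmap
    have hk : (QuotientGroup.mk' (pPrimeCore p (G ⧸ N))).ker = ⊥ := by
      rw [QuotientGroup.ker_mk', hbot]
    exact Subgroup.map_injective ((MonoidHom.ker_eq_bot_iff _).mp hk) hmap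
  constructor
  · rintro ⟨hodd, -, hst⟩
    refine ⟨hodd, fun h => hO ?_, fun A P hA hP hAP hPle hPn hq => ?_⟩
    · have h1 := (map_pCore_le_of_surjective π (QuotientGroup.mk'_surjective N) (p := p)).trans h.le
      rw [le_bot_iff, Subgroup.map_eq_bot_iff, QuotientGroup.ker_mk'] at h1
      rw [← le_bot_iff, ← Components.inf_eq_bot_of_coprime_isPGroup hN (Basics.pCore_isPGroup p)]
      exact le_inf h1 le_rfl
    rw [hbot, bot_sup_eq] at hPn
    have hAn : A ≤ normalizer (P : Set (G ⧸ N)) := by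
      rw [normalizer_eq_top_iff.mpr hPn]; exact le_top
    set Bb := A ⊔ P
    have hBp : IsPGroup p Bb := hA.to_sup_of_normal_right' hP hAn
    obtain ⟨B, hBB, hBp'⟩ : ∃ B : Subgroup G, B.map π = Bb ∧ IsPGroup p B := by
      obtain ⟨S⟩ : Nonempty (Sylow p (Bb.comap π)) := inferInstance
      have hs : Function.Surjective (π.subgroupComap Bb) :=
        MonoidHom.subgroupComap_surjective_of_surjective π Bb (QuotientGroup.mk'_surjective N)
      have htop : (S.mapSurjective hs : Subgroup Bb) = ⊤ :=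
        ((S.mapSurjective hs).3 (hBp.to_subgroup ⊤) le_top).symm
      rw [Sylow.coe_mapSurjective] at htop
      refine ⟨(S : Subgroup (Bb.comap π)).map (Bb.comap π).subtype, ?_, S.isPGroup'.map _⟩
      rw [Subgroup.map_map, show π.comp (Bb.comap π).subtype = Bb.subtype.comp (π.subgroupComap Bb)
        from rfl, ← Subgroup.map_map, htop, ← MonoidHom.range_eq_map, range_subtype]
    set A' := B ⊓ A.comap π
    set P' := B ⊓ P.comap π
    have hmapA : A'.map π = A := by
      apply le_antisymm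
      · rintro _ ⟨x, hx, rfl⟩; exact hx.2
      · intro y hy
        obtain ⟨x, hx, rfl⟩ := (hBB.ge (le_sup_left (b := P) hy) : y ∈ B.map π)
        exact ⟨x, ⟨hx, hy⟩, rfl⟩
    have hmapP : P'.map π = P := by
      apply le_antisymm
      · rintro _ ⟨x, hx, rfl⟩; exact hx.2
      · intro y hy
        obtain ⟨x, hx, rfl⟩ := (hBB.ge (le_sup_right (a := A) hy) : y ∈ B.map π)
        exact ⟨x, ⟨hx, hy⟩, rfl⟩
    have hP'p : IsPGroup p P' := hBp'.to_inf_left
    have hnorm : ∀ a ∈ A', ∀ x ∈ P', a * x * a⁻¹ ∈ P' := fun a ha x hx =>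
      ⟨B.mul_mem (B.mul_mem ha.1 hx.1) (B.inv_mem ha.1), by
        show π (a * x * a⁻¹) ∈ P
        rw [map_mul, map_mul, map_inv]
        exact hAP _ ha.2 _ hx.2⟩
    have hsupP : N ⊔ P' = P.comap π := by
      rw [← hmapP, comap_map_eq, QuotientGroup.ker_mk', sup_comm]
    have hP'le : P' ≤ pPrimePCore p G := fun x hx => by
      show π x ∈ pCore p (G ⧸ N)
      rw [← hpp]
      exact hPle hx.2
    have hq' : ⁅⁅P', A'⁆, A'⁆ = ⊥ := by
      have hle : ⁅⁅P', A'⁆, A'⁆ ≤ B :=
        (commutator_mono ((commutator_mono inf_le_left inf_le_left).trans (commutator_le_self B))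
          inf_le_left).trans (commutator_le_self B)
      rw [eq_bot_iff]
      intro x hx
      have h1 : π x ∈ (⊥ : Subgroup (G ⧸ N)) := by
        rw [← hq, ← hmapA, ← hmapP, ← map_commutator, ← map_commutator]
        exact mem_map_of_mem π hx
      exact mem_bot.mpr (hinj B hBp' (hle hx) (one_mem B) (by rw [mem_bot.mp h1, map_one]))
    have h := hst A' P' hBp'.to_inf_left hP'p hnorm hP'le (by rw [hsupP]; infer_instance) hq'
    rintro _ ⟨⟨a, haN⟩, ha, rfl⟩
    obtain ⟨a', ha', hae⟩ := (hmapA.ge (show a ∈ A from ha) : a ∈ A'.map π)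
    have ha'N : a' ∈ normalizer (P' : Set G) := by
      rw [mem_normalizer_iff_map_conj_eq]
      refine eq_of_le_of_card_ge ?_ (card_map_of_injective (MulAut.conj a').injective).ge
      rintro _ ⟨x, hx, rfl⟩
      exact hnorm a' ha' x hx
    subst hae
    exact (mk_mem_pCore_normalizer_iff' hN hP'p hmapP a' ha'N haN).mp (h ⟨⟨a', ha'N⟩, ha', rfl⟩)
  · rintro ⟨hodd, -, hst⟩
    refine ⟨hodd, hO, fun A P hA hP hAP hPle hPn hq => ?_⟩
    haveI := hPn
    have hPn' : (P.map π).Normal := by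
      have : P.map π = (N ⊔ P).map π := by
        rw [Subgroup.map_sup, show N.map π = ⊥ by
          rw [Subgroup.map_eq_bot_iff, QuotientGroup.ker_mk'], bot_sup_eq]
      rw [this]
      exact Subgroup.Normal.map hPn π (QuotientGroup.mk'_surjective N)
    have h := hst (A.map π) (P.map π) (hA.map π) (hP.map π)
      (by
        rintro _ ⟨a, ha, rfl⟩ _ ⟨x, hx, rfl⟩
        exact ⟨_, hAP a ha x hx, by rw [map_mul, map_mul, map_inv]⟩)
      (by
        rw [hpp]
        rintro _ ⟨x, hx, rfl⟩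
        exact hPle hx)
      (by rw [hbot, bot_sup_eq]; exact hPn')
      (by rw [← map_commutator, ← map_commutator, hq, Subgroup.map_bot])
    rintro _ ⟨⟨a, haN⟩, ha, rfl⟩
    exact (mk_mem_pCore_normalizer_iff hN hP a haN).mpr (h ⟨⟨π a, _⟩, ⟨a, ha, rfl⟩, rfl⟩)

/-- With trivial `O_{p'}`, a `p`-stable group is stable at every quadratic `p`-element. -/
theorem pStableElts_of_isPStable (hbot : pPrimeCore p G = ⊥) (hs : IsPStable p G) :
    PStableElts p G := by
  intro V _ hV a ⟨k, hk⟩ hq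
  have hA : IsPGroup p (zpowers a) := by
    rintro ⟨_, n, rfl⟩
    refine ⟨k, Subtype.ext ?_⟩
    show (a ^ n) ^ p ^ k = 1
    rw [← zpow_natCast, ← zpow_mul, mul_comm, zpow_mul, zpow_natCast, hk, one_zpow]
  have hVle : V ≤ pPrimePCore p G := fun x hx => by
    show QuotientGroup.mk' (pPrimeCore p G) x ∈ pCore p (G ⧸ pPrimeCore p G)
    exact map_pCore_le_of_surjective _ (QuotientGroup.mk'_surjective _)
      (mem_map_of_mem _ (Basics.le_pCore hV hx))
  have h := hs.2.2 (zpowers a) V hA hV (fun b _ x hx => (inferInstance : V.Normal).conj_mem x hx b)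
    hVle (by rw [hbot, bot_sup_eq]; infer_instance) hq
  have hN : normalizer (V : Set G) = ⊤ := normalizer_eq_top_iff.mpr inferInstance
  let φ : normalizer (V : Set G) →* G := (normalizer (V : Set G)).subtype
  refine (mk_mem_pCore_iff_of_surjective φ (fun g => ⟨⟨g, hN ▸ mem_top g⟩, rfl⟩) _ _ rfl
    ⟨a, hN ▸ mem_top a⟩).mp ?_
  exact h ⟨⟨a, hN ▸ mem_top a⟩, mem_zpowers a, rfl⟩

/-- Frattini argument: a subgroup of a Sylow subgroup with normal image modulo a normal
`p'`-subgroup. -/
theorem sup_normalizer_eq_top_of_map_normal (S : Sylow p G) {N : Subgroup G} [N.Normal]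
    (hN : (Nat.card N).Coprime p) {W : Subgroup G} (hWS : W ≤ (S : Subgroup G))
    (hW : (W.map (QuotientGroup.mk' N)).Normal) : N ⊔ normalizer (W : Set G) = ⊤ := by
  haveI := hW
  set π := QuotientGroup.mk' N
  set L := (W.map π).comap π with hLdef
  have hinf : (S : Subgroup G) ⊓ L = W := by
    apply le_antisymm
    · rintro x ⟨hxS, y, hy, hxy⟩
      have h : y⁻¹ * x ∈ N ⊓ (S : Subgroup G) :=
        mem_inf.mpr ⟨QuotientGroup.eq.mp hxy, mul_mem (inv_mem (hWS hy)) hxS⟩
      rw [Components.inf_eq_bot_of_coprime_isPGroup hN S.isPGroup', mem_bot] at h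
      exact inv_mul_eq_one.mp h ▸ hy
    · exact le_inf hWS fun x hx => mem_map_of_mem π hx
  have hpow : ∀ x ∈ L, ∃ k, x ^ p ^ k ∈ N := by
    rintro x ⟨y, hy, hxy⟩
    obtain ⟨k, hk⟩ := S.isPGroup' ⟨y, hWS hy⟩
    refine ⟨k, (QuotientGroup.eq_one_iff _).mp ?_⟩
    show π (x ^ p ^ k) = 1
    rw [map_pow, ← hxy, ← map_pow, show y ^ p ^ k = 1 from congrArg Subtype.val hk, map_one]
  have h := sup_normalizer_inf_eq_top S L N hpow
  rwa [hinf] at h

/-- **Glauberman's theorem** for `p`-constrained `p`-stable groups. -/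
theorem sup_normalizer_ZJAb_eq_top (hodd : p ≠ 2) {e : ℕ} (he : e = 0 ∨ e = p)
    (hc : IsPConstrained p G) (hs : IsPStable p G) (P : Sylow p G) :
    pPrimeCore p G ⊔ normalizer (ZJAb e (P : Subgroup G) : Set G) = ⊤ := by
  set N := pPrimeCore p G
  set π := QuotientGroup.mk' N
  have hN : (Nat.card N).Coprime p := Basics.pPrimeCore_coprime p
  refine sup_normalizer_eq_top_of_map_normal P hN (ZJAb_le _) ?_
  rw [map_ZJAb _ π ?_, ← Sylow.coe_mapSurjective (f := π) (QuotientGroup.mk'_surjective N) P]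
  · exact ZJAb_normal hodd he (Components.isPConstrained_iff.mp hc)
      (pStableElts_of_isPStable (Basics.pPrimeCore_quotient_eq_bot p)
        ((isPStable_iff_quotient hs.2.1).mp hs)) _
  · intro x hx y hy hxy
    have h : x⁻¹ * y ∈ N ⊓ (P : Subgroup G) :=
      mem_inf.mpr ⟨QuotientGroup.eq.mp hxy, mul_mem (inv_mem hx) hy⟩
    rw [Components.inf_eq_bot_of_coprime_isPGroup hN P.isPGroup', mem_bot] at h
    exact inv_mul_eq_one.mp h

/-- In a group of characteristic `p` type with stable locals, `N(Z(J(P)))` contains every `N(Q)`. -/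
theorem normalizer_le_normalizer_ZJAb_of_locals (hodd : p ≠ 2) {e : ℕ} (he : e = 0 ∨ e = p)
    (hloc : ∀ Q : Subgroup G, IsPGroup p Q → Q ≠ ⊥ →
      pPrimeCore p ↥(normalizer (Q : Set G)) = ⊥ ∧ IsPConstrained p ↥(normalizer (Q : Set G)) ∧
        IsPStable p ↥(normalizer (Q : Set G)))
    (P : Sylow p G) {Q : Subgroup G} (hQP : Q ≤ (P : Subgroup G)) (hQ : Q ≠ ⊥) :
    normalizer (Q : Set G) ≤ normalizer (ZJAb e (P : Subgroup G) : Set G) := by
  set M := normalizer (ZJAb e (P : Subgroup G) : Set G)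
  -- the Sylow subgroups of a local
  have local_le : ∀ (R T : Subgroup G), IsPGroup p R → R ≠ ⊥ → T ≤ normalizer (R : Set G) →
      IsPGroup p T → (∀ U : Subgroup G, U ≤ normalizer (R : Set G) → IsPGroup p U → T ≤ U → U = T) →
      normalizer (R : Set G) ≤ normalizer (ZJAb e T : Set G) := by
    intro R T hR hR1 hTN hT hmax
    set H := normalizer (R : Set G)
    let S : Sylow p H :=
      { toSubgroup := T.subgroupOf H
        isPGroup' := hT.comap_subtype
        is_maximal' := fun {U} hU hle => by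
          have h1 := hmax (U.map H.subtype) (map_subtype_le U) (hU.map _)
            ((map_subgroupOf_eq_of_le hTN).ge.trans (map_mono hle))
          rw [← h1, subgroupOf, comap_map_eq_self_of_injective H.subtype_injective] }
    obtain ⟨h1, h2, h3⟩ := hloc R hR hR1
    have h := sup_normalizer_ZJAb_eq_top hodd he h2 h3 S
    rw [h1, bot_sup_eq] at h
    have hmap : (ZJAb e (S : Subgroup H)).map H.subtype = ZJAb e T := by
      rw [map_ZJAb _ _ H.subtype_injective.injOn]
      congr 1
      exact map_subgroupOf_eq_of_le hTN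
    intro x hx
    rw [← hmap]
    refine le_normalizer_map H.subtype ⟨⟨x, hx⟩, ?_, rfl⟩
    rw [h]
    exact mem_top _
  suffices key : ∀ (n : ℕ) (Q : Subgroup G), Q ≤ (P : Subgroup G) → Q ≠ ⊥ →
      Nat.card (P : Subgroup G) ≤ Nat.card ((P : Subgroup G) ⊓ normalizer (Q : Set G) : Subgroup G) + n →
      normalizer (Q : Set G) ≤ M from key _ Q hQP hQ (Nat.le_add_left _ _)
  intro n
  induction n with
  | zero =>
    intro Q hQP hQ hn
    have heq : (P : Subgroup G) ⊓ normalizer (Q : Set G) = P :=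
      eq_of_le_of_card_ge inf_le_left (by simpa using hn)
    exact local_le Q P (P.isPGroup'.to_le hQP) hQ (heq ▸ inf_le_right) P.isPGroup'
      fun U _ hU hle => P.3 hU hle
  | succ n ih =>
    intro Q hQP hQ hn
    set P₁ := (P : Subgroup G) ⊓ normalizer (Q : Set G) with hP₁def
    by_cases hP₁ : P₁ = P
    · exact ih Q hQP hQ (by rw [← hP₁def, hP₁]; omega)
    have hQP₁ : Q ≤ P₁ := le_inf hQP le_normalizer
    have hP₁ne : P₁ ≠ ⊥ := ne_bot_of_le_ne_bot hQ hQP₁
    have hP₁p : IsPGroup p P₁ := P.isPGroup'.to_le inf_le_left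
    have hgrow : ∀ {U T : Subgroup G}, IsPGroup p T → U ≤ T → U ≠ T →
        Nat.card U < Nat.card (T ⊓ normalizer (U : Set G) : Subgroup G) := by
      intro U T hT hUT hne
      haveI : Group.IsNilpotent T := hT.isNilpotent
      have hlt : U.subgroupOf T < ⊤ := lt_top_iff_ne_top.mpr fun h =>
        hne (le_antisymm hUT (subgroupOf_eq_top.mp h))
      obtain ⟨x, hx, hxU⟩ := SetLike.exists_of_lt
        (Group.normalizerCondition_of_isNilpotent (G := T) _ hlt)
      have hxN : (x : G) ∈ normalizer (U : Set G) := by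
        rw [subgroupOf, ← comap_normalizer_eq_of_le_range (f := T.subtype) (H := U)
          (by rw [range_subtype]; exact hUT)] at hx
        exact hx
      refine lt_of_le_of_ne (card_le_of_le (le_inf hUT le_normalizer)) fun he => hxU ?_
      rw [mem_subgroupOf, eq_of_le_of_card_ge (le_inf hUT le_normalizer) he.ge]
      exact ⟨x.2, hxN⟩
    obtain ⟨T, hT1, hTmax⟩ : ∃ T : Subgroup G, (T ≤ normalizer (Q : Set G) ∧ IsPGroup p T ∧ P₁ ≤ T) ∧
        ∀ U : Subgroup G, U ≤ normalizer (Q : Set G) → IsPGroup p U → T ≤ U → U = T := by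
      obtain ⟨T, hT1, hTm⟩ := Set.Finite.exists_maximal
        (Set.toFinite {T : Subgroup G | T ≤ normalizer (Q : Set G) ∧ IsPGroup p T ∧ P₁ ≤ T})
        ⟨P₁, inf_le_right, hP₁p, le_rfl⟩
      exact ⟨T, hT1, fun U h1 h2 h3 => le_antisymm (hTm ⟨h1, h2, hT1.2.2.trans h3⟩ h3) h3⟩
    obtain ⟨hTN, hTp, hP₁T⟩ := hT1
    by_cases hTeq : T = P₁
    · refine (local_le Q T (P.isPGroup'.to_le hQP) hQ hTN hTp hTmax).trans ?_
      rw [hTeq]
      refine ih _ ((ZJAb_le _).trans inf_le_left) (ZJAb_ne_bot he hP₁p hP₁ne) ?_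
      have h1 := hgrow (U := P₁) P.isPGroup' inf_le_left hP₁
      have h2 : Nat.card ((P : Subgroup G) ⊓ normalizer (P₁ : Set G) : Subgroup G) ≤
          Nat.card ((P : Subgroup G) ⊓ normalizer (ZJAb e P₁ : Set G) : Subgroup G) :=
        card_le_of_le (inf_le_inf_left _ (normalizer_le_normalizer_ZJAb _))
      omega
    · set T₂ := T ⊓ normalizer (P₁ : Set G) with hT₂
      have hM1 : normalizer (P₁ : Set G) ≤ M := by
        refine ih _ inf_le_left hP₁ne ?_
        have := hgrow (U := P₁) P.isPGroup' inf_le_left hP₁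
        omega
      have hT₂M : T₂ ≤ M := inf_le_right.trans hM1
      have hPM : (P : Subgroup G) ≤ M := le_normalizer.trans (normalizer_le_normalizer_ZJAb _)
      let PM : Sylow p M := P.subtype hPM
      obtain ⟨R, hR⟩ := ((hTp.to_le inf_le_left : IsPGroup p T₂).comap_subtype
        (K := M)).exists_le_sylow
      obtain ⟨m, hm⟩ := MulAction.exists_smul_eq M R PM
      have hle : T₂.map (MulAut.conj (m : G)).toMonoidHom ≤ (P : Subgroup G) := by
        rintro _ ⟨t, ht, rfl⟩
        have h1 : m * ⟨t, hT₂M ht⟩ * m⁻¹ ∈ (PM : Subgroup M) := by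
          rw [← hm, Sylow.coe_subgroup_smul]
          exact ⟨⟨t, hT₂M ht⟩, hR ht, rfl⟩
        exact h1
      set Q' := Q.map (MulAut.conj (m : G)).toMonoidHom with hQ'
      have hQT₂ : Q ≤ T₂ := le_inf (hQP₁.trans hP₁T) (hQP₁.trans le_normalizer)
      have hQ'P : Q' ≤ (P : Subgroup G) := (map_mono hQT₂).trans hle
      have hQ'1 : Q' ≠ ⊥ := fun h => hQ
        ((map_eq_bot_iff_of_injective _ (MulAut.conj (m : G)).injective).mp h)
      have hbig : T₂.map (MulAut.conj (m : G)).toMonoidHom ≤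
          (P : Subgroup G) ⊓ normalizer (Q' : Set G) :=
        le_inf hle ((map_mono (inf_le_left.trans hTN)).trans (le_normalizer_map _))
      have hN' := ih Q' hQ'P hQ'1 (by
        have h1 : Nat.card P₁ < Nat.card T₂ := hgrow hTp hP₁T (Ne.symm hTeq)
        have h2 := card_le_of_le hbig
        rw [card_map_of_injective (MulAut.conj (m : G)).injective] at h2
        omega)
      intro x hx
      have h1 : (m : G) * x * (m : G)⁻¹ ∈ M := hN' (le_normalizer_map _ ⟨x, hx, rfl⟩)
      have h2 := mul_mem (mul_mem (inv_mem m.2) h1) m.2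
      simpa [mul_assoc] using h2

end Cfsg.Agent.Transfer
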