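import Cfsg.Agent.Lib.TwoRank.Basic
import Cfsg.Agent.Lib.Transfer.CentralInvolution
import Mathlib

/-!
A nonabelian Sylow 2-subgroup inside `GL₃` of odd characteristic with an elementary abelian subgroup
of order 8 forces a subgroup of index 2.
-/

set_option autoImplicit false

namespace Cfsg.Agent.Transfer

open Cfsg.Agent.TwoRank
open scoped commutatorElement

/-- The facts about a nonabelian 2-subgroup of `GL₃` containing eight commuting involutions. -/
theorem glThree_data {X : Type*} [Group X] [Finite X] (hX : IsPGroup 2 X) (hna : ¬ ∀ a b : X, a * b = b * a)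
    {F : Type*} [Field F] (h2 : (2 : F) ≠ 0) (f : X →* GL (Fin 3) F) (hf : Function.Injective f)
    (E : Subgroup X) (hEc : IsMulCommutative E) (hE2 : ∀ e ∈ E, e ^ 2 = 1) (hE8 : Nat.card E = 8) :
    ∃ (φ : X →* Fˣ) (s y : X), φ s ≠ 1 ∧ s * s = 1 ∧ (∀ x, x * s = s * x) ∧
      ∀ α : MulAut X, α s = s ∨ (α s = s * y ∧ α (s * y) = s ∧ y ≠ 1) := by
  classical
  let ρ : X →* ((Fin 3 → F) ≃ₗ[F] (Fin 3 → F)) :=
    (LinearMap.GeneralLinearGroup.generalLinearEquiv F (Fin 3 → F)).toMonoidHom.comp
      (Matrix.GeneralLinearGroup.toLin.toMonoidHom.comp f)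
  have hρ : Function.Injective ρ :=
    (LinearMap.GeneralLinearGroup.generalLinearEquiv F (Fin 3 → F)).injective.comp
      ((Matrix.GeneralLinearGroup.toLin (n := Fin 3) (R := F)).injective.comp hf)
  have hmv : ∀ x v, ρ x v = (f x).1.mulVec v := fun x v => rfl
  obtain ⟨b, ε, hε⟩ := exists_signs h2 ρ E hEc hE2
  have hεb : Function.Bijective ε := by
    refine (Nat.bijective_iff_injective_and_card ε).2 ⟨signs_injective hρ hε, ?_⟩
    rw [hE8, card_signs, Fintype.card_fin, Module.finrank_fin_fun]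
    rfl
  -- the scalar `-1`
  obtain ⟨e₀, he₀⟩ := hεb.2 (fun _ => -1)
  have hneg : ∀ v, ρ e₀.1 v = -v := by
    have h : (ρ e₀.1 : (Fin 3 → F) →ₗ[F] (Fin 3 → F)) = -LinearMap.id := b.ext fun i => by
      show ρ e₀.1 (b i) = -b i
      rw [hε, he₀]
      simp
    exact fun v => DFunLike.congr_fun h v
  set s : X := e₀.1 with hs
  have hsc : ∀ x, x * s = s * x := fun x => hρ (LinearEquiv.ext fun v => by
    rw [map_mul, map_mul, LinearEquiv.mul_apply, LinearEquiv.mul_apply, hneg, hneg, map_neg])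
  let φ : X →* Fˣ := Matrix.GeneralLinearGroup.det.comp f
  have hφs : φ s ≠ 1 := by
    intro h
    have hm : (f s).1 = -1 := by
      refine Matrix.toLin'.injective (LinearMap.ext fun v => ?_)
      rw [Matrix.toLin'_apply, Matrix.toLin'_apply, Matrix.neg_mulVec, Matrix.one_mulVec, ← hmv, hneg]
    have h1 : (f s).1.det = 1 := congrArg Units.val h
    rw [hm, Matrix.det_neg, Matrix.det_one, mul_one, Fintype.card_fin] at h1
    exact h2 (by linear_combination -h1)
  -- elements commuting with `E` are diagonal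
  have hdiag : ∀ u : X, (∀ e ∈ E, u * e = e * u) → ∀ i, ρ u (b i) = b.repr (ρ u (b i)) i • b i := by
    intro u hu i
    refine b.repr.injective (Finsupp.ext fun j => ?_)
    rw [map_smul, Module.Basis.repr_self, Finsupp.smul_apply, Finsupp.single_apply, smul_eq_mul]
    by_cases hij : i = j
    · subst hij; rw [if_pos rfl, mul_one]
    rw [if_neg hij, mul_zero]
    obtain ⟨e, he⟩ := hεb.2 (Pi.mulSingle i (-1))
    have hcoord : ∀ v, b.repr (ρ e.1 v) j = b.repr v j := by
      have h : (b.coord j).comp (ρ e.1 : (Fin 3 → F) →ₗ[F] (Fin 3 → F)) = b.coord j := b.ext fun k => by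
        show b.repr (ρ e.1 (b k)) j = b.repr (b k) j
        rw [hε, he, map_smul, Module.Basis.repr_self, Finsupp.smul_apply, Finsupp.single_apply, smul_eq_mul]
        by_cases hk : k = j
        · rw [if_pos hk, hk, Pi.mulSingle_eq_of_ne (fun h => hij h.symm)]
          simp
        · rw [if_neg hk, mul_zero]
      exact fun v => DFunLike.congr_fun h v
    have h1 : ρ e.1 (ρ u (b i)) = -ρ u (b i) := by
      rw [← LinearEquiv.mul_apply, ← map_mul, ← hu e.1 e.2, map_mul, LinearEquiv.mul_apply, hε, he,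
        Pi.mulSingle_eq_same, map_smul]
      simp
    have h3 := hcoord (ρ u (b i))
    rw [h1, map_neg, Finsupp.neg_apply] at h3
    exact (mul_eq_zero.1 (show (2 : F) * b.repr (ρ u (b i)) j = 0 by linear_combination -h3)).resolve_left h2
  have hcomm : ∀ u v : X, (∀ e ∈ E, u * e = e * u) → (∀ e ∈ E, v * e = e * v) → u * v = v * u := by
    intro u v hu hv
    refine hρ (LinearEquiv.toLinearMap_injective (b.ext fun i => ?_))
    show ρ (u * v) (b i) = ρ (v * u) (b i)
    obtain ⟨cu, hcu⟩ : ∃ c : F, ρ u (b i) = c • b i := ⟨_, hdiag u hu i⟩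
    obtain ⟨cv, hcv⟩ : ∃ c : F, ρ v (b i) = c • b i := ⟨_, hdiag v hv i⟩
    rw [map_mul, map_mul, LinearEquiv.mul_apply, LinearEquiv.mul_apply, hcu, hcv, map_smul, map_smul, hcu, hcv,
      smul_comm]
  have hinE : ∀ u : X, u * u = 1 → (∀ e ∈ E, u * e = e * u) → u ∈ E := by
    intro u hu2 hu
    have hc : ∀ i, b.repr (ρ u (b i)) i = 1 ∨ b.repr (ρ u (b i)) i = -1 := fun i => by
      refine mul_self_eq_one_iff.1 ?_
      have h : ρ u (ρ u (b i)) = b i := by
        rw [← LinearEquiv.mul_apply, ← map_mul, hu2, map_one]; rfl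
      have hd := hdiag u hu i
      generalize b.repr (ρ u (b i)) i = c at hd ⊢
      rw [hd, map_smul, hd, smul_smul] at h
      have h4 : (c * c) • b i = (1 : F) • b i := by
        rw [one_smul]; exact h
      exact smul_left_injective F (b.ne_zero i) h4
    obtain ⟨e, he⟩ := hεb.2 (fun i => if b.repr (ρ u (b i)) i = 1 then 1 else -1)
    have : u = e.1 := hρ (LinearEquiv.toLinearMap_injective (b.ext fun i => by
      show ρ u (b i) = ρ e.1 (b i)
      rw [hε, he]
      have hd := hdiag u hu i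
      beta_reduce
      rcases hc i with h | h
      · rw [h] at hd
        rw [if_pos h, hd]
        simp
      · rw [h] at hd
        rw [if_neg (fun h' => h2 (by rw [h] at h'; linear_combination -h')), hd]
        simp))
    rw [this]
    exact e.2
  -- the central involutions
  set Z0 := E ⊓ Subgroup.center X with hZ0
  have hZmem : ∀ u : X, u * u = 1 → u ∈ Subgroup.center X → u ∈ Z0 := fun u hu hc =>
    ⟨hinE u hu fun e _ => (Subgroup.mem_center_iff.1 hc e).symm, hc⟩
  have hsZ : s ∈ Z0 := ⟨e₀.2, Subgroup.mem_center_iff.2 hsc⟩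
  have hZ4 : Nat.card Z0 ≤ 4 := by
    have hne : Z0 ≠ E := fun h => hna fun x y => hcomm x y
      (fun e he => Subgroup.mem_center_iff.1 (show e ∈ Z0 from h.symm ▸ he).2 x)
      fun e he => Subgroup.mem_center_iff.1 (show e ∈ Z0 from h.symm ▸ he).2 y
    have h := Subgroup.card_dvd_of_le (show Z0 ≤ E from inf_le_left)
    rw [hE8] at h
    have h8 : Nat.card Z0 ≠ 8 := fun h' => hne (Subgroup.eq_of_le_of_card_ge inf_le_left (by omega))
    have hle := Nat.le_of_dvd (by norm_num) h
    by_contra hgt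
    interval_cases hn : Nat.card Z0 <;> omega
  -- the involution in the derived subgroup and the centre
  obtain ⟨y, hyN, hyZ, hy2, hy1⟩ : ∃ y, y ∈ commutator X ∧ y ∈ Subgroup.center X ∧ y * y = 1 ∧ y ≠ 1 := by
    haveI : Fact (Nat.Prime 2) := ⟨Nat.prime_two⟩
    obtain ⟨a, b', hab⟩ : ∃ a b' : X, a * b' ≠ b' * a := by simpa only [not_forall] using hna
    let N := commutator X
    let α : MulAction X N :=
      { smul := fun x n => ⟨x * n.1 * x⁻¹, (inferInstance : (commutator X).Normal).conj_mem n.1 n.2 x⟩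
        one_smul := fun n => Subtype.ext (by show (1 : X) * n.1 * 1⁻¹ = n.1; simp)
        mul_smul := fun x x' n => Subtype.ext (by
          show x * x' * n.1 * (x * x')⁻¹ = x * (x' * n.1 * x'⁻¹) * x⁻¹; group) }
    have hNne : ⁅a, b'⁆ ≠ 1 := fun h => hab (commutatorElement_eq_one_iff_mul_comm.1 h)
    have hmem : ⁅a, b'⁆ ∈ N := Subgroup.commutator_mem_commutator (Subgroup.mem_top _) (Subgroup.mem_top _)
    have hdvd : 2 ∣ Nat.card N := by
      obtain ⟨k, hk⟩ := (hX.to_subgroup N).exists_card_eq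
      have : 1 < Nat.card N := Finite.one_lt_card_iff_nontrivial.2
        ⟨⟨⟨⁅a, b'⁆, hmem⟩, 1, fun h => hNne (congrArg Subtype.val h)⟩⟩
      rw [hk] at this ⊢
      exact dvd_pow_self 2 (fun h => by rw [h] at this; norm_num at this)
    obtain ⟨c, hc, hc1⟩ := hX.exists_fixed_point_of_prime_dvd_card_of_fixed_point (α := N) hdvd
      (a := 1) (fun x => Subtype.ext (by show x * (1 : X) * x⁻¹ = 1; simp))
    have hcZ : c.1 ∈ Subgroup.center X := Subgroup.mem_center_iff.2 fun x =>
      mul_inv_eq_iff_eq_mul.1 (congrArg Subtype.val (hc x))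
    have hc0 : c.1 ≠ 1 := fun h => hc1 (Subtype.ext h.symm)
    obtain ⟨k, hk⟩ := IsPGroup.iff_orderOf.1 hX c.1
    obtain ⟨m, rfl⟩ : ∃ m, k = m + 1 := ⟨k - 1, by
      rcases k with _ | k
      · rw [pow_zero, orderOf_eq_one_iff] at hk; exact absurd hk hc0
      · rfl⟩
    refine ⟨c.1 ^ 2 ^ m, pow_mem c.2 _, pow_mem hcZ _, ?_, fun h => ?_⟩
    · rw [← pow_add, ← two_mul, ← pow_succ', ← hk, pow_orderOf_eq_one]
    · have := orderOf_dvd_of_pow_eq_one h
      rw [hk, Nat.pow_dvd_pow_iff_le_right (by norm_num)] at this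
      omega
  have hker : ∀ u ∈ commutator X, φ u = 1 := fun u hu =>
    Abelianization.commutator_subset_ker φ hu
  have hyZ0 : y ∈ Z0 := hZmem y hy2 hyZ
  have hlist : ∀ u ∈ Z0, u = 1 ∨ u = y ∨ u = s ∨ u = s * y := by
    intro u hu
    have hs2 : s * s = 1 := by rw [← pow_two]; exact hE2 s e₀.2
    have hs1 : s ≠ 1 := fun h => hφs (by rw [h, map_one])
    have hsy : s ≠ y := fun h => hφs (by rw [h]; exact hker y hyN)
    have hsy1 : s * y ≠ 1 := fun h => hsy (mul_left_cancel (hs2.trans h.symm))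
    by_contra hcon
    simp only [not_or] at hcon
    have hcard : ({1, y, s, s * y, u} : Finset X).card = 5 := by
      have h5 : s ≠ s * y := fun h => hy1 (left_eq_mul.1 h)
      have h6 : y ≠ s * y := fun h => hs1 (right_eq_mul.1 h)
      simp only [Finset.card_insert_of_notMem, Finset.mem_insert, Finset.mem_singleton, not_or,
        Finset.card_singleton, Ne.symm hy1, Ne.symm hs1, Ne.symm hsy1, Ne.symm hsy, h5, h6, Ne.symm hcon.1,
        Ne.symm hcon.2.1, Ne.symm hcon.2.2.1, Ne.symm hcon.2.2.2, not_false_eq_true, and_self]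
    haveI : Fintype (Z0 : Set X) := Fintype.ofFinite _
    have hsub : ({1, y, s, s * y, u} : Finset X) ⊆ (Z0 : Set X).toFinset := by
      intro t ht
      rw [Set.mem_toFinset]
      simp only [Finset.mem_insert, Finset.mem_singleton] at ht
      rcases ht with rfl | rfl | rfl | rfl | rfl
      exacts [one_mem _, hyZ0, hsZ, mul_mem hsZ hyZ0, hu]
    have := Finset.card_le_card hsub
    rw [hcard, Set.toFinset_card, ← Nat.card_eq_fintype_card] at this
    exact absurd (this.trans hZ4) (by norm_num)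
  have hs2 : s * s = 1 := by rw [← pow_two]; exact hE2 s e₀.2
  refine ⟨φ, s, y, hφs, hs2, hsc, fun α => ?_⟩
  have hαZ : ∀ u ∈ Z0, α u ∈ Z0 := fun u hu => by
    refine hZmem _ ?_ ?_
    · rw [← map_mul, ← pow_two, hE2 u hu.1, map_one]
    · refine Subgroup.mem_center_iff.2 fun x => ?_
      obtain ⟨x', rfl⟩ := α.surjective x
      rw [← map_mul, ← map_mul, Subgroup.mem_center_iff.1 hu.2 x']
  have hαy : α y = y := by
    have hcm : α y ∈ commutator X := by
      have : (commutator X).map α.toMonoidHom = commutator X := by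
        rw [map_commutator_eq, MonoidHom.range_eq_top.2 α.surjective]; rfl
      rw [← this]
      exact ⟨y, hyN, rfl⟩
    rcases hlist _ (hαZ y hyZ0) with h | h | h | h
    · exact absurd ((EmbeddingLike.map_eq_one_iff).1 h) hy1
    · exact h
    · exact absurd (hker _ hcm) (by rw [h]; exact hφs)
    · exact absurd (hker _ hcm) (by rw [h, map_mul, hker y hyN, mul_one]; exact hφs)
  rcases hlist _ (hαZ s hsZ) with h | h | h | h
  · exact absurd ((EmbeddingLike.map_eq_one_iff).1 h) (fun h' => hφs (by rw [h', map_one]))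
  · refine absurd (α.injective (h.trans hαy.symm)) fun h' => hφs (by rw [h']; exact hker y hyN)
  · exact Or.inl h
  · exact Or.inr ⟨h, by rw [map_mul, h, hαy, mul_assoc, hy2, mul_one], hy1⟩

/-- A nonabelian Sylow 2-subgroup in `GL₃(F)`, `F` of odd characteristic, with eight commuting
involutions forces a subgroup of index two. -/
theorem exists_index_two_of_glThree {G : Type*} [Group G] [Finite G] (X : Sylow 2 G)
    (hna : ¬ ∀ a b : (X : Subgroup G), a * b = b * a) {F : Type*} [Field F] (h2 : (2 : F) ≠ 0)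
    (f : (X : Subgroup G) →* GL (Fin 3) F) (hf : Function.Injective f) (E : Subgroup (X : Subgroup G))
    (hEc : IsMulCommutative E) (hE2 : ∀ e ∈ E, e ^ 2 = 1) (hE8 : Nat.card E = 8) :
    ∃ K : Subgroup G, K.index = 2 := by
  obtain ⟨φ, s, y, hφ, hs2, hsc, hα⟩ := glThree_data X.2 hna h2 f hf E hEc hE2 hE8
  refine exists_index_two X φ (s : G) s.2 (congrArg Subtype.val hs2)
    (fun x hx => congrArg Subtype.val (hsc ⟨x, hx⟩)) (fun n hn => ?_) hφ
  set N := Subgroup.normalizer ((X : Subgroup G) : Set G)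
  let α : MulAut (X : Subgroup G) := (X : Subgroup G).normalizerMonoidHom ⟨n⁻¹, inv_mem hn⟩
  have hval : ∀ x : (X : Subgroup G), ((α x : (X : Subgroup G)) : G) = n⁻¹ * x * n := fun x => by
    show n⁻¹ * (x : G) * n⁻¹⁻¹ = _
    rw [inv_inv]
  rcases hα α with h | ⟨h, h', hy⟩
  · rw [← hval, h]
  exfalso
  -- an odd power of `n` lies in `X`
  haveI : ((X : Subgroup G).subgroupOf N).Normal := Subgroup.normal_in_normalizer
  have hodd : Odd ((X : Subgroup G).subgroupOf N).index := by
    rw [← Nat.not_even_iff_odd, even_iff_two_dvd]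
    intro hd
    exact X.not_dvd_index (hd.trans ⟨N.index, (Subgroup.relIndex_mul_index Subgroup.le_normalizer).symm⟩)
  have hk := ((X : Subgroup G).subgroupOf N).pow_index_mem (⟨n⁻¹, inv_mem hn⟩ : N)
  set k := ((X : Subgroup G).subgroupOf N).index
  have hpow : ∀ i, (α ^ (2 * i)) s = s ∧ (α ^ (2 * i + 1)) s = s * y := by
    intro i
    induction i with
    | zero => exact ⟨by simp, by simpa using h⟩
    | succ i ih =>
      have e1 : (α ^ (2 * (i + 1))) s = s := by
        rw [show 2 * (i + 1) = 2 * i + 1 + 1 by ring, pow_succ', MulAut.mul_apply, ih.2, h']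
      exact ⟨e1, by rw [pow_succ', MulAut.mul_apply, e1, h]⟩
  obtain ⟨i, hi⟩ := hodd
  have hfix : (α ^ k) s = s := by
    apply Subtype.ext
    rw [← map_pow]
    show ((⟨n⁻¹, inv_mem hn⟩ : N) ^ k : N).1 * (s : G) * (((⟨n⁻¹, inv_mem hn⟩ : N) ^ k : N).1)⁻¹ = (s : G)
    have hcm := congrArg Subtype.val (hsc ⟨((⟨n⁻¹, inv_mem hn⟩ : N) ^ k).1, hk⟩)
    simp only [Subgroup.coe_mul] at hcm
    exact mul_inv_eq_iff_eq_mul.2 hcm
  rw [hi, (hpow i).2] at hfix
  exact hy (mul_eq_left.1 hfix)

end Cfsg.Agent.Transfer
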