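import Cfsg.Agent.Lib.Transfer.ZJRelStable
import Cfsg.Agent.Lib.Transfer.Glauberman

/-!
# Normal `p`-complements from `Z(J(D))`, `D` a strongly closed subgroup
-/

set_option autoImplicit false
set_option linter.style.haveILetI false

namespace Cfsg.Agent.Transfer

open Subgroup Cfsg
open scoped Pointwise
open ConjFunctor (cj IsSylIn IsFN nS)

universe u

variable {p e : ℕ} [hp : Fact p.Prime] {G : Type u} [Group G] [Finite G]

/-- Strong closure passes to the quotient by a normal `p'`-subgroup. -/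
theorem Closed.map_coprime (R : Subgroup G) [R.Normal] (S : Sylow p G) {D : Subgroup G}
    (hD : Closed (S : Subgroup G) D) :
    Closed ((S : Subgroup G).map (QuotientGroup.mk' R)) (D.map (QuotientGroup.mk' R)) := by
  set q := QuotientGroup.mk' R
  refine ⟨map_mono hD.1, ?_⟩
  rintro _ ⟨d, hd, rfl⟩ y hy
  obtain ⟨x, rfl⟩ := QuotientGroup.mk'_surjective R y
  rw [← map_inv, ← map_mul, ← map_mul] at hy
  have hle : zpowers (x * d * x⁻¹) ≤ ((S : Subgroup G).map q).comap q := zpowers_le.mpr hy
  have hp' : IsPGroup p (zpowers (x * d * x⁻¹)) := by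
    refine (ConjFunctor.cj_isPGroup x (S.2.to_le hD.1)).to_le (zpowers_le.mpr ⟨d, hd, rfl⟩)
  obtain ⟨c, hc, hcS⟩ := ConjFunctor.exists_conj_le_of_isSylIn
    (ConjFunctor.isSylIn_of_le (ConjFunctor.isSylIn_top S)
      (le_comap_map q (S : Subgroup G)) le_top) hle hp'
  have hcx : c * (x * d * x⁻¹) * c⁻¹ ∈ (S : Subgroup G) := hcS ⟨_, mem_zpowers _, rfl⟩
  have h1 : c * x * d * (c * x)⁻¹ ∈ (S : Subgroup G) := by
    convert hcx using 1; group
  have h2 := hD.2 d hd (c * x) h1
  rw [comap_map_eq, QuotientGroup.ker_mk', ← SetLike.mem_coe,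
    coe_mul_of_left_le_normalizer_right _ _ (le_normalizer_of_normal)] at hc
  obtain ⟨s, hs, r, hr, rfl⟩ := hc
  refine ⟨s⁻¹ * (s * r * x * d * (s * r * x)⁻¹) * s⁻¹⁻¹, ?_, ?_⟩
  · exact hD.2 _ h2 s⁻¹ (mul_mem (mul_mem (inv_mem hs) (hD.1 h2)) (inv_mem (inv_mem hs)))
  · have hr1 : QuotientGroup.mk' R r = 1 := (QuotientGroup.eq_one_iff r).mpr hr
    simp only [q, map_mul, map_inv, hr1, mul_one, inv_inv, mul_inv_rev, inv_one, one_mul]
    group

/-- The hypothesis passes to a subgroup containing `T`. -/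
theorem compHyp_sub {M T E : Subgroup G} (hET : E ≤ T) (hTM : T ≤ M)
    (h : HasNormalPComplement p (normalizer (ZJAb e E : Set G))) :
    HasNormalPComplement p (normalizer (ZJAb e (E.subgroupOf M) : Set M)) := by
  refine hasNormalPComplement_of_injective
    ((M.subtype.comp (Subgroup.subtype _)).codRestrict _ fun x => ?_) ?_ h
  · have h1 := le_normalizer_map M.subtype (mem_map_of_mem M.subtype x.2)
    rwa [map_ZJAb _ _ M.subtype_injective.injOn, map_subgroupOf_eq_of_le (hET.trans hTM)] at h1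
  · intro a b h'
    have h2 := congrArg Subtype.val h'
    exact Subtype.ext (Subtype.ext h2)

/-- The complement statement for one group. -/
def CompZJ (p e : ℕ) (G : Type u) [Group G] : Prop :=
  ∀ (S : Sylow p G) (D : Subgroup G), Closed (S : Subgroup G) D →
    HasNormalPComplement p (normalizer (ZJAb e D : Set G)) → HasNormalPComplement p G

theorem compZJ_sub {S D M T : Subgroup G} (hD : Closed S D) (hT : IsSylIn p T M) (hTS : T ≤ S)
    (hM : CompZJ p e M) (h : HasNormalPComplement p (normalizer (ZJAb e (D ⊓ T) : Set G))) :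
    HasNormalPComplement p M :=
  hM ((hT.2.1.comap_subtype (K := M)).toSylow hT.2.2) ((D ⊓ T).subgroupOf M)
    ⟨fun _ hd => hd.2, fun d hd g hg => ⟨hD.2 (d : G) hd.1 (g : G) (hTS hg), hg⟩⟩
    (compHyp_sub inf_le_right hT.1 h)

theorem pCore_ne_bot_rel (he : e = 0 ∨ e = p) (S : Sylow p G) {D : Subgroup G}
    (hD : Closed (S : Subgroup G) D) (hD0 : D ≠ ⊥)
    (hP : HasNormalPComplement p (normalizer (ZJAb e D : Set G)))
    (hG : ¬ HasNormalPComplement p G)
    (hsub : ∀ K : Subgroup G, K ≠ ⊤ → CompZJ p e K) : pCore p G ≠ ⊥ := by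
  classical
  haveI : Fintype {U : Subgroup G // U ≤ (S : Subgroup G) ∧ U ≠ ⊥ ∧
    ¬ HasNormalPComplement p (normalizer (U : Set G))} := Fintype.ofFinite _
  have hne : (Finset.univ : Finset {U : Subgroup G // U ≤ (S : Subgroup G) ∧ U ≠ ⊥ ∧
      ¬ HasNormalPComplement p (normalizer (U : Set G))}).Nonempty := by
    by_contra hemp
    refine hG (hasNormalPComplement_of_frobenius fun V hV g hg hgo => ?_)
    by_cases hV0 : V = ⊥
    · intro y hy
      rw [hV0, SetLike.mem_coe, mem_bot] at hy
      rw [hy, one_mul, mul_one]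
    obtain ⟨c, -, hc⟩ := ConjFunctor.exists_conj_le_of_isSylIn (ConjFunctor.isSylIn_top S)
      (le_top : V ≤ ⊤) hV
    have hN' : HasNormalPComplement p (normalizer ((cj c V : Subgroup G) : Set G)) := by
      by_contra hN
      exact hemp ⟨⟨cj c V, hc, fun h => hV0 (ConjFunctor.cj_eq_bot.mp h), hN⟩, Finset.mem_univ _⟩
    have hN : HasNormalPComplement p (normalizer (V : Set G)) := by
      rw [← ConjFunctor.cj_inv_cj c V, ← ConjFunctor.cj_normalizer]
      exact hasNormalPComplement_map _ hN'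
    have h1 := centralizes_of_hasNormalPComplement hN (V.subgroupOf _) (hV.comap_subtype) ⟨g, hg⟩
      (mem_normalizer_iff.mpr fun y => mem_normalizer_iff.mp hg (y : G))
      (by rwa [Subgroup.orderOf_mk])
    intro y hy
    exact congrArg Subtype.val (h1 ⟨y, le_normalizer hy⟩ hy)
  obtain ⟨⟨U₁, hU₁S, hU₁0, hU₁N⟩, -, hmax⟩ := Finset.exists_max_image _
    (fun U => (Nat.card (normalizer ((U.1 : Subgroup G) : Set G))).factorization p) hne
  by_contra hcore
  obtain ⟨a, hfn⟩ := ConjFunctor.exists_isFN S hU₁S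
  set U := cj a U₁ with hU
  have hU0 : U ≠ ⊥ := fun h => hU₁0 (ConjFunctor.cj_eq_bot.mp h)
  have hNU : normalizer (U : Set G) = cj a (normalizer (U₁ : Set G)) := by
    rw [hU, ← ConjFunctor.cj_normalizer]
  have hUN : ¬ HasNormalPComplement p (normalizer (U : Set G)) := fun h => hU₁N (by
    rw [← ConjFunctor.cj_inv_cj a U₁, ← ConjFunctor.cj_normalizer, ← hU]
    exact hasNormalPComplement_map _ h)
  have hNtop : normalizer (U : Set G) ≠ ⊤ := by
    intro h
    exact hU0 (le_bot_iff.mp (hcore ▸ ConjFunctor.le_pCore_of_normalizer (S.2.to_le hfn.1) h))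
  set T := nS (S : Subgroup G) U with hTdef
  have hTS : T ≤ (S : Subgroup G) := inf_le_left
  have hTsyl : IsSylIn p T (normalizer (U : Set G)) := hfn.sylIn S.2
  refine hUN (compZJ_sub hD hTsyl hTS (hsub _ hNtop) ?_)
  by_cases hDT : D ≤ T
  · rwa [inf_eq_left.mpr hDT]
  by_contra hbad
  set D' := D ⊓ T with hD'
  have hSD : (S : Subgroup G) ≤ normalizer (D : Set G) := le_normalizer.trans hD.normalizer_le
  have hD'0 : D' ≠ ⊥ := by
    intro h0
    refine LocalEvenA.inf_centralizer_ne_bot S.2 (S.2.to_le hD.1) hD0 hSD (le_bot_iff.mp ?_)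
    rw [← h0]
    rintro z ⟨hz, hzc⟩
    refine ⟨hz, hD.1 hz, mem_normalizer_iff.mpr fun v => ?_⟩
    constructor
    · intro hv
      rwa [← hzc v (hfn.1 hv), mul_inv_cancel_right]
    · intro hv
      have h1 : (z * v * z⁻¹) * z = z * (z * v * z⁻¹) := hzc _ (hfn.1 hv)
      rw [inv_mul_cancel_right, mul_left_cancel_iff] at h1
      rwa [← h1] at hv
  set V2 := ZJAb e D'
  have hV2 : V2 ≤ (S : Subgroup G) := (ZJAb_le _).trans (inf_le_right.trans hTS)
  have hTN : T ≤ normalizer (V2 : Set G) := by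
    refine le_trans ?_ (normalizer_le_normalizer_ZJAb _)
    exact (le_inf (hTS.trans hSD) le_normalizer).trans inf_normalizer_le_normalizer_inf
  have hgrow : T < nS (S : Subgroup G) V2 := by
    refine lt_of_le_of_ne (le_inf hTS hTN) fun eq => ?_
    obtain ⟨d, hd, hdn⟩ := SetLike.exists_of_lt (ConjFunctor.lt_nS (S.2.to_le hD.1)
      (inf_le_left : D' ≤ D) fun h' => hDT (h' ▸ inf_le_right))
    apply hdn
    refine ⟨hd.1, ?_⟩
    rw [eq]
    exact ⟨hD.1 hd.1, normalizer_le_normalizer_ZJAb _ hd.2⟩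
  have h1 := hmax ⟨V2, hV2, ZJAb_ne_bot he (S.2.to_le (inf_le_right.trans hTS)) hD'0, hbad⟩
    (Finset.mem_univ _)
  obtain ⟨k, hk⟩ := (S.2.to_le (inf_le_left : nS (S : Subgroup G) V2 ≤ S)).exists_card_eq
  have h3 := exponent_le_factorization (inf_le_right : nS (S : Subgroup G) V2 ≤ _) hk
  have h4 : Nat.card T < p ^ k := hk ▸ lt_of_le_of_ne (card_le_of_le hgrow.le)
    fun eq => hgrow.ne (eq_of_le_of_card_ge hgrow.le eq.ge)
  let S1 : Sylow p (normalizer (U : Set G)) :=
    (hTsyl.2.1.comap_subtype (K := normalizer (U : Set G))).toSylow hTsyl.2.2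
  have h5 : Nat.card T = p ^ (Nat.card (normalizer (U₁ : Set G))).factorization p := by
    rw [← ConjFunctor.cj_card a (normalizer (U₁ : Set G)), ← hNU, ← Sylow.card_eq_multiplicity S1]
    exact (Nat.card_congr (subgroupOfEquivOfLe hTsyl.1).toEquiv).symm
  rw [h5, Nat.pow_lt_pow_iff_right hp.out.one_lt] at h4
  simp only at h1
  omega

theorem compZJ_aux (hodd : p ≠ 2) (he : e = 0 ∨ e = p) : ∀ n : ℕ,
    ∀ (G : Type u) [Group G] [Finite G], Nat.card G = n → CompZJ p e G := by
  intro n
  induction n using Nat.strong_induction_on with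
  | _ n ih =>
    intro G _ _ hn P D hD hP
    by_contra hG
    have hsub0 : ∀ U : Subgroup G, U ≠ ⊤ → CompZJ p e U := fun U hU =>
      ih _ (hn ▸ Basics.card_lt_card_of_ne_top hU) U rfl
    have hD0 : D ≠ ⊥ := by
      rintro rfl
      refine hG (hasNormalPComplement_of_eq_top ?_ hP)
      rw [le_bot_iff.mp (ZJAb_le (e := e) (⊥ : Subgroup G)), normalizer_eq_top]
    have hsub : ∀ U : Subgroup G, U ≠ ⊤ → (P : Subgroup G) ≤ U → HasNormalPComplement p U := by
      intro U hU hPU
      refine compZJ_sub hD (ConjFunctor.isSylIn_of_le (ConjFunctor.isSylIn_top P) hPU le_top) le_rfl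
        (hsub0 U hU) ?_
      rwa [inf_eq_left.mpr hD.1]
    have hX0 := pCore_ne_bot_rel he P hD hD0 hP hG hsub0
    have hM0 : pPrimeCore p G = ⊥ := by
      by_contra hM
      apply hG
      have hMd := Basics.not_dvd_card_pPrimeCore (G := G) p
      set f := QuotientGroup.mk' (pPrimeCore p G) with hfdef
      let P' : Sylow p (G ⧸ pPrimeCore p G) := P.mapSurjective (f := f) (QuotientGroup.mk'_surjective _)
      have hP' : (P' : Subgroup _) = (P : Subgroup G).map f :=
        Sylow.coe_mapSurjective (QuotientGroup.mk'_surjective _) P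
      refine hasNormalPComplement_of_quotient _ hMd ?_
      refine ih _ (hn ▸ Basics.card_quotient_lt hM) (G ⧸ pPrimeCore p G) rfl P' (D.map f)
        (hP' ▸ hD.map_coprime (pPrimeCore p G) P) ?_
      have hinj : Set.InjOn f (P : Subgroup G) :=
        ConjFunctor.injOn_mk'_of_coprime (Basics.pPrimeCore_coprime p) P.2
      rw [← map_ZJAb D f (hinj.mono hD.1)]
      refine hasNormalPComplement_of_le (normalizer_map_le (QuotientGroup.mk'_surjective _) ?_
        (P.isPGroup'.to_le ((ZJAb_le D).trans hD.1))) (hasNormalPComplement_map f hP)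
      rwa [QuotientGroup.ker_mk']
    set X := pCore p G with hXdef
    have hXP : X ≤ (P : Subgroup G) := Basics.pCore_le_sylow p P
    have hDX : ¬ D ≤ X := by
      intro hle
      haveI : D.Normal := ⟨fun d hd x =>
        hD.2 d hd x (hXP ((inferInstance : X.Normal).conj_mem d (hle hd) x))⟩
      refine hG (hasNormalPComplement_of_eq_top ?_ hP)
      exact top_le_iff.mp ((normalizer_eq_top (H := D)).ge.trans (normalizer_le_normalizer_ZJAb D))
    have hquot : HasNormalPComplement p (G ⧸ X) := by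
      let f := QuotientGroup.mk' X
      let P' : Sylow p (G ⧸ X) := P.mapSurjective (QuotientGroup.mk'_surjective X)
      have hP' : (P' : Subgroup (G ⧸ X)) = (P : Subgroup G).map f :=
        Sylow.coe_mapSurjective (QuotientGroup.mk'_surjective X) P
      have hcl : Closed (P' : Subgroup (G ⧸ X)) (D.map f) := by
        refine ⟨hP' ▸ map_mono hD.1, ?_⟩
        rintro _ ⟨d, hd, rfl⟩ y hy
        obtain ⟨x, rfl⟩ := QuotientGroup.mk'_surjective X y
        rw [← map_inv, ← map_mul, ← map_mul, hP', ← mem_comap, comap_map_eq, QuotientGroup.ker_mk',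
          sup_eq_left.mpr hXP] at hy
        exact ⟨x * d * x⁻¹, hD.2 d hd x hy, by simp [f]⟩
      have hPne : D.map f ≠ ⊥ := by
        rw [Ne, Subgroup.map_eq_bot_iff, QuotientGroup.ker_mk']; exact hDX
      refine ih _ (hn ▸ Basics.card_quotient_lt hX0) (G ⧸ X) rfl P' _ hcl ?_
      set W := ZJAb e (D.map f) with hW
      have hDp : IsPGroup p (D.map f) := (P.2.to_le hD.1).map f
      have hT : IsPGroup p (W.comap f) := (hDp.to_le (ZJAb_le _)).comap_of_ker_isPGroup _
        (by rw [QuotientGroup.ker_mk']; exact Basics.pCore_isPGroup p)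
      have hne : normalizer ((W.comap f : Subgroup G) : Set G) ≠ ⊤ := by
        intro h
        haveI := normal_of_normalizer_eq_top' h
        apply ZJAb_ne_bot he hDp hPne
        rw [← hW, ← le_bot_iff,
          ← map_comap_eq_self_of_surjective (QuotientGroup.mk'_surjective X) W]
        refine (map_mono (Basics.le_pCore hT)).trans ?_
        rw [le_bot_iff, Subgroup.map_eq_bot_iff, QuotientGroup.ker_mk']
      have hle : (P : Subgroup G) ≤ normalizer ((W.comap f : Subgroup G) : Set G) := by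
        rw [← comap_normalizer_eq_of_surjective W (QuotientGroup.mk'_surjective X),
          ← map_le_iff_le_comap, ← hP']
        exact le_normalizer.trans hcl.normalizer_le_ZJAb
      have h1 := hasNormalPComplement_map f (hsub _ hne hle)
      rwa [← comap_normalizer_eq_of_surjective W (QuotientGroup.mk'_surjective X),
        map_comap_eq_self_of_surjective (QuotientGroup.mk'_surjective X)] at h1
    obtain ⟨hCX, hmax, hKab, hfix⟩ := core_structure P hM0 hsub hquot
    have hn' := ZJAb_normal_rel hodd he hCX (pStableElts_of_core P hodd hquot hmax hKab hfix) P D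
      hD.1 hD.2
    exact hG (hasNormalPComplement_of_eq_top (normalizer_eq_top_iff.mpr hn') hP)

end Cfsg.Agent.Transfer
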