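import Cfsg.Agent.Lib.Transfer.ZJRel
import Cfsg.Agent.Lib.Transfer.StableQuotient
import Cfsg.Agent.Lib.ConjFunctor.FusionStep
import Cfsg.Agent.Lib.LocalEvenA.Large

/-!
# `Z(J(D))` controls fusion, `D` a strongly closed subgroup
-/

set_option autoImplicit false
set_option linter.style.haveILetI false

namespace Cfsg.Agent.Transfer

open Subgroup
open scoped Pointwise
open ConjFunctor (cj IsSylIn IsFN nS)

universe u

variable {G : Type u} [Group G] {p : ℕ}

/-- The map of `T` induced by `g` is realised in `N(W)`. -/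
def RReal (W T : Subgroup G) (g : G) : Prop :=
  ∃ h ∈ normalizer (W : Set G), ∀ t ∈ T, h * t * h⁻¹ = g * t * g⁻¹

/-- `D` is strongly closed in `S`. -/
def Closed (S D : Subgroup G) : Prop :=
  D ≤ S ∧ ∀ d ∈ D, ∀ g : G, g * d * g⁻¹ ∈ S → g * d * g⁻¹ ∈ D

/-- `Z(J(D))` controls the fusion in a Sylow subgroup, for every strongly closed `D`. -/
def GoodZJ (p e : ℕ) (G : Type u) [Group G] : Prop :=
  ∀ (S : Sylow p G) (D : Subgroup G), Closed (S : Subgroup G) D → ∀ (T : Subgroup G) (g : G),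
    T ≤ (S : Subgroup G) → cj g T ≤ (S : Subgroup G) → RReal (ZJAb e D) T g

theorem RReal.mono {W T T' : Subgroup G} {g : G} (h : RReal W T g) (hT : T' ≤ T) :
    RReal W T' g := by
  obtain ⟨k, hk, he⟩ := h
  exact ⟨k, hk, fun t ht => he t (hT ht)⟩

theorem RReal.trans {W T : Subgroup G} {x y : G} (h₁ : RReal W T x)
    (h₂ : RReal W (cj x T) y) : RReal W T (y * x) := by
  obtain ⟨a, ha, hea⟩ := h₁
  obtain ⟨b, hb, heb⟩ := h₂
  refine ⟨b * a, mul_mem hb ha, fun t ht => ?_⟩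
  calc b * a * t * (b * a)⁻¹ = b * (a * t * a⁻¹) * b⁻¹ := by group
    _ = y * (x * t * x⁻¹) * y⁻¹ := by rw [hea t ht, heb (x * t * x⁻¹) ⟨t, ht, rfl⟩]
    _ = _ := by group

variable [Finite G] [hp : Fact p.Prime]

/-- A Sylow subgroup meets a normal subgroup in a Sylow subgroup. -/
theorem isSylIn_inf_of_le {T M K : Subgroup G} (hT : IsSylIn p T M) (hK : K ≤ M)
    (hn : M ≤ normalizer (K : Set G)) : IsSylIn p (T ⊓ K) K := by
  obtain ⟨T', hT', hle⟩ := ConjFunctor.exists_isSylIn_ge (p := p) (inf_le_right : T ⊓ K ≤ K)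
    hT.2.1.to_inf_left
  obtain ⟨m, hm, hm'⟩ := ConjFunctor.exists_conj_le_of_isSylIn hT (hT'.1.trans hK) hT'.2.1
  have h1 : cj m T' ≤ T ⊓ K := le_inf hm' (by
    rintro _ ⟨z, hz, rfl⟩
    exact (mem_normalizer_iff.mp (hn hm) z).mp (hT'.1 hz))
  have h2 := card_le_of_le h1
  rw [ConjFunctor.cj_card] at h2
  rwa [eq_of_le_of_card_ge hle h2]

theorem Closed.normalizer_le {S D : Subgroup G} (hD : Closed S D) :
    normalizer (S : Set G) ≤ normalizer (D : Set G) := by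
  intro g hg
  refine ConjFunctor.cj_eq_iff.mp (eq_of_le_of_card_ge ?_ (by rw [ConjFunctor.cj_card]))
  rintro _ ⟨d, hd, rfl⟩
  exact hD.2 d hd g ((mem_normalizer_iff.mp hg d).mp (hD.1 hd))

theorem Closed.normalizer_le_ZJAb {e : ℕ} {S D : Subgroup G} (hD : Closed S D) :
    normalizer (S : Set G) ≤ normalizer (ZJAb e D : Set G) :=
  hD.normalizer_le.trans (normalizer_le_normalizer_ZJAb D)

/-- Reduction to the elements normalizing a fully normalized subgroup. -/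
theorem rreal_driver (S : Sylow p G) {W : Subgroup G}
    (hSW : normalizer ((S : Subgroup G) : Set G) ≤ normalizer (W : Set G))
    (hmid : ∀ U : Subgroup G, IsFN p (S : Subgroup G) U → U ≤ (S : Subgroup G) →
      U ≠ (S : Subgroup G) → U ≠ ⊥ → ∀ n ∈ normalizer (U : Set G),
      (∀ (T : Subgroup G) (g : G), Nat.card U < Nat.card T → T ≤ (S : Subgroup G) →
        cj g T ≤ (S : Subgroup G) → RReal W T g) → RReal W U n) :
    ∀ (T : Subgroup G) (g : G), T ≤ (S : Subgroup G) → cj g T ≤ (S : Subgroup G) →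
      RReal W T g := by
  intro T
  induction hk : Nat.card (S : Subgroup G) - Nat.card T using Nat.strong_induction_on generalizing T with
  | _ k ih =>
  intro g hT hg
  subst hk
  by_cases hT0 : T = ⊥
  · refine ⟨1, one_mem _, fun t ht => ?_⟩
    rw [hT0, mem_bot] at ht
    simp [ht]
  by_cases hTS : T = (S : Subgroup G)
  · subst hTS
    refine ⟨g, hSW (ConjFunctor.cj_eq_iff.mp ?_), fun t _ => rfl⟩
    exact eq_of_le_of_card_ge hg (by rw [ConjFunctor.cj_card])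
  have hbig : ∀ T' : Subgroup G, Nat.card T < Nat.card T' → T' ≤ (S : Subgroup G) →
      ∀ g' : G, cj g' T' ≤ (S : Subgroup G) → RReal W T' g' := by
    intro T' hlt hT' g' hg'
    have h2 := card_le_of_le hT'
    exact ih _ (by omega) T' rfl g' hT' hg'
  obtain ⟨a, ha⟩ := ConjFunctor.exists_isFN S hT
  set U := cj a T with hU
  have hgT : cj g T ≠ (S : Subgroup G) := fun e => hTS (eq_of_le_of_card_ge hT (by
    rw [← e, ConjFunctor.cj_card]))
  have hlt' : ∀ {V : Subgroup G}, V ≤ (S : Subgroup G) → V ≠ (S : Subgroup G) →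
      Nat.card V < Nat.card (nS (S : Subgroup G) V : Subgroup G) := fun hV hne =>
    lt_of_le_of_ne (card_le_of_le (ConjFunctor.le_nS hV)) fun e =>
      (ConjFunctor.lt_nS S.2 hV hne).ne (eq_of_le_of_card_ge (ConjFunctor.le_nS hV) e.ge)
  obtain ⟨m₁, hm₁, e₁, n₁⟩ := ConjFunctor.exists_conj_nS S.2 ha a rfl
  obtain ⟨m₂, hm₂, e₂, n₂⟩ := ConjFunctor.exists_conj_nS S.2 ha (a * g⁻¹)
    (T := cj g T) (by rw [← ConjFunctor.cj_mul, inv_mul_cancel_right])
  obtain ⟨h₁, hh₁, r₁⟩ := hbig _ (hlt' hT hTS) inf_le_left (m₁ * a) (n₁.trans inf_le_left)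
  obtain ⟨h₂, hh₂, r₂⟩ := hbig _ (by
      have := hlt' hg hgT
      rwa [ConjFunctor.cj_card] at this)
    inf_le_left (m₂ * (a * g⁻¹)) (n₂.trans inf_le_left)
  set n := m₂ * m₁⁻¹ with hndef
  have hnU : n ∈ normalizer (U : Set G) := mul_mem hm₂ (inv_mem hm₁)
  obtain ⟨h₀, hh₀, r₀⟩ := hmid U ha ha.1
    (fun e => hTS (eq_of_le_of_card_ge hT (by rw [← e, hU, ConjFunctor.cj_card])))
    (fun e => hT0 (ConjFunctor.cj_eq_bot.mp e)) n hnU fun T' g' hc hT' hg' =>
      hbig T' (by rwa [hU, ConjFunctor.cj_card] at hc) hT' g' hg'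
  refine ⟨h₂⁻¹ * h₀ * h₁, mul_mem (mul_mem (inv_mem hh₂) hh₀) hh₁, fun t ht => ?_⟩
  have hs : m₁ * a * t * (m₁ * a)⁻¹ ∈ U := e₁ ▸ ⟨t, ht, rfl⟩
  have h4 := r₂ (g * t * g⁻¹) (ConjFunctor.le_nS hg ⟨t, ht, rfl⟩)
  calc h₂⁻¹ * h₀ * h₁ * t * (h₂⁻¹ * h₀ * h₁)⁻¹
      = h₂⁻¹ * (h₀ * (h₁ * t * h₁⁻¹) * h₀⁻¹) * h₂ := by group
    _ = h₂⁻¹ * (n * (m₁ * a * t * (m₁ * a)⁻¹) * n⁻¹) * h₂ := by
        rw [r₁ t (ConjFunctor.le_nS hT ht), r₀ _ hs]
    _ = h₂⁻¹ * (m₂ * (a * g⁻¹) * (g * t * g⁻¹) * (m₂ * (a * g⁻¹))⁻¹) * h₂ := by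
        rw [hndef]; group
    _ = g * t * g⁻¹ := by rw [← h4]; group

/-- Control inside a subgroup, seen from the group. -/
theorem goodZJ_sub {e : ℕ} {S D M T : Subgroup G} (hD : Closed S D) (hT : IsSylIn p T M)
    (hTS : T ≤ S) (hM : GoodZJ p e M) {A : Subgroup G} {m : G} (hA : A ≤ T) (hm : m ∈ M)
    (hmA : cj m A ≤ T) :
    ∃ h ∈ M, h ∈ normalizer (ZJAb e (D ⊓ T) : Set G) ∧ ∀ a ∈ A, h * a * h⁻¹ = m * a * m⁻¹ := by
  let TM : Sylow p M := (hT.2.1.comap_subtype (K := M)).toSylow hT.2.2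
  have hDM : Closed (TM : Subgroup M) ((D ⊓ T).subgroupOf M) := by
    refine ⟨fun d hd => hd.2, fun d hd g hg => ⟨?_, hg⟩⟩
    exact hD.2 (d : G) hd.1 (g : G) (hTS hg)
  have hA' : A.subgroupOf M ≤ (TM : Subgroup M) := fun a ha => hA ha
  obtain ⟨h, hh, he⟩ := hM TM _ hDM (A.subgroupOf M) ⟨m, hm⟩ hA' (by
    rintro _ ⟨a, ha, rfl⟩
    exact hmA ⟨(a : G), ha, rfl⟩)
  refine ⟨h, h.2, ?_, fun a ha => ?_⟩
  · have h1 := le_normalizer_map M.subtype (mem_map_of_mem _ hh)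
    rwa [map_ZJAb _ _ M.subtype_injective.injOn,
      map_subgroupOf_eq_of_le (inf_le_right.trans hT.1)] at h1
  · simpa using congrArg Subtype.val (he ⟨a, hT.1 (hA ha)⟩ ha)

/-- The chain of local subgroups `N(Z(J(D ∩ T)))`, along the subgroups with property `Φ`. -/
theorem rreal_chain' {e : ℕ} (he : e = 0 ∨ e = p) (S : Sylow p G) {D : Subgroup G}
    (hD : Closed (S : Subgroup G) D) (hD0 : D ≠ ⊥) (Φ : Subgroup G → Prop)
    (hloc : ∀ V : Subgroup G, V ≤ (S : Subgroup G) → V ≠ ⊥ → Φ V →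
      GoodZJ p e (normalizer (V : Set G)))
    (hconj : ∀ (V : Subgroup G) (a : G), Φ V → Φ (cj a V))
    (hnext : ∀ V : Subgroup G, V ≤ (S : Subgroup G) → Φ V →
      Φ (ZJAb e (D ⊓ nS (S : Subgroup G) V))) {N0 : ℕ}
    (hbig : ∀ (T : Subgroup G) (g : G), N0 < Nat.card T → T ≤ (S : Subgroup G) →
      cj g T ≤ (S : Subgroup G) → RReal (ZJAb e D) T g) :
    ∀ (k : ℕ) (V X : Subgroup G) (n : G), V ≤ (S : Subgroup G) → V ≠ ⊥ → Φ V →
      Nat.card (S : Subgroup G) - Nat.card (nS (S : Subgroup G) V : Subgroup G) = k →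
      N0 < Nat.card (nS (S : Subgroup G) V : Subgroup G) → X ≤ nS (S : Subgroup G) V →
      n ∈ normalizer (V : Set G) → cj n X ≤ (S : Subgroup G) → RReal (ZJAb e D) X n := by
  intro k
  induction k using Nat.strong_induction_on with
  | _ k ih =>
  intro V X n hVS hV0 hΦ hk hlt hX hn hnX
  subst hk
  have hnX' : cj n X ≤ nS (S : Subgroup G) V := le_inf hnX (by
    rintro _ ⟨x, hx, rfl⟩
    exact mul_mem (mul_mem hn (hX hx).2) (inv_mem hn))
  obtain ⟨a₀, hfn⟩ := ConjFunctor.exists_isFN S hVS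
  obtain ⟨m, hm, eV, eN⟩ := ConjFunctor.exists_conj_nS S.2 hfn a₀ rfl
  set a := m * a₀
  set V' := cj a₀ V
  set T' := nS (S : Subgroup G) V'
  obtain ⟨h₁, hh₁, r₁⟩ := hbig _ a hlt inf_le_left (eN.trans inf_le_left)
  have hn' : a * n * a⁻¹ ∈ normalizer (V' : Set G) := by
    rw [← eV, ← ConjFunctor.cj_normalizer]
    exact ⟨n, hn, rfl⟩
  have hX' : cj a X ≤ T' := (ConjFunctor.cj_le_cj.mpr hX).trans eN
  have hnX'' : cj (a * n * a⁻¹) (cj a X) ≤ T' := by
    rw [← ConjFunctor.cj_mul, inv_mul_cancel_right, ConjFunctor.cj_mul]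
    exact (ConjFunctor.cj_le_cj.mpr hnX').trans eN
  have hT'S : T' ≤ (S : Subgroup G) := inf_le_left
  obtain ⟨h, hhN, hhZ, hhe⟩ := goodZJ_sub hD (hfn.sylIn S.2) hT'S
    (hloc V' hfn.1 (fun e' => hV0 (ConjFunctor.cj_eq_bot.mp e')) (hconj V a₀ hΦ)) hX' hn' hnX''
  suffices hmid : RReal (ZJAb e D) (cj a X) h by
    obtain ⟨h₀, hh₀, r₀⟩ := hmid
    refine ⟨h₁⁻¹ * h₀ * h₁, mul_mem (mul_mem (inv_mem hh₁) hh₀) hh₁, fun x hx => ?_⟩
    have hax : a * x * a⁻¹ ∈ cj a X := ⟨x, hx, rfl⟩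
    have h4 := r₁ (n * x * n⁻¹) (hnX' ⟨x, hx, rfl⟩)
    calc h₁⁻¹ * h₀ * h₁ * x * (h₁⁻¹ * h₀ * h₁)⁻¹
        = h₁⁻¹ * (h₀ * (h₁ * x * h₁⁻¹) * h₀⁻¹) * h₁ := by group
      _ = h₁⁻¹ * (a * n * a⁻¹ * (a * x * a⁻¹) * (a * n * a⁻¹)⁻¹) * h₁ := by
          rw [r₁ x (hX hx), r₀ _ hax, hhe _ hax]
      _ = h₁⁻¹ * (a * (n * x * n⁻¹) * a⁻¹) * h₁ := by group
      _ = n * x * n⁻¹ := by rw [← h4]; group
  by_cases hDT : D ≤ T'
  · rw [inf_eq_left.mpr hDT] at hhZ
    exact ⟨h, hhZ, fun _ _ => rfl⟩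
  set D' := D ⊓ T' with hD'
  have hSD : (S : Subgroup G) ≤ normalizer (D : Set G) := le_normalizer.trans hD.normalizer_le
  have hD'0 : D' ≠ ⊥ := by
    intro h0
    refine LocalEvenA.inf_centralizer_ne_bot S.2 (S.2.to_le hD.1) hD0 hSD (le_bot_iff.mp ?_)
    rw [← h0]
    rintro z ⟨hz, hzc⟩
    refine ⟨hz, hD.1 hz, mem_normalizer_iff.mpr fun v => ?_⟩
    constructor
    · intro hv
      rwa [← hzc v (hfn.1 hv), mul_inv_cancel_right]
    · intro hv
      have h1 : (z * v * z⁻¹) * z = z * (z * v * z⁻¹) := hzc _ (hfn.1 hv)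
      rw [inv_mul_cancel_right, mul_left_cancel_iff] at h1
      rwa [← h1] at hv
  have hV2 : ZJAb e D' ≤ (S : Subgroup G) := (ZJAb_le _).trans (inf_le_right.trans hT'S)
  have hT'N : T' ≤ normalizer (ZJAb e D' : Set G) := by
    refine le_trans ?_ (normalizer_le_normalizer_ZJAb _)
    exact (le_inf (hT'S.trans hSD) le_normalizer).trans inf_normalizer_le_normalizer_inf
  have hgrow : T' < nS (S : Subgroup G) (ZJAb e D') := by
    refine lt_of_le_of_ne (le_inf hT'S hT'N) fun eq => ?_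
    obtain ⟨d, hd, hdn⟩ := SetLike.exists_of_lt (ConjFunctor.lt_nS (S.2.to_le hD.1)
      (inf_le_left : D' ≤ D) fun h' => hDT (h' ▸ inf_le_right))
    apply hdn
    refine ⟨hd.1, ?_⟩
    rw [eq]
    exact ⟨hD.1 hd.1, normalizer_le_normalizer_ZJAb _ hd.2⟩
  have hc1 : Nat.card T' < Nat.card (nS (S : Subgroup G) (ZJAb e D') : Subgroup G) :=
    lt_of_le_of_ne (card_le_of_le hgrow.le) fun eq => hgrow.ne (eq_of_le_of_card_ge hgrow.le eq.ge)
  have hc2 : Nat.card (nS (S : Subgroup G) V : Subgroup G) ≤ Nat.card T' := by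
    rw [← ConjFunctor.cj_card a (nS (S : Subgroup G) V)]
    exact card_le_of_le eN
  have hc3 : Nat.card (nS (S : Subgroup G) (ZJAb e D') : Subgroup G) ≤
      Nat.card (S : Subgroup G) := card_le_of_le inf_le_left
  refine ih _ (by omega) _ (cj a X) h hV2 (ZJAb_ne_bot he (S.2.to_le (inf_le_right.trans hT'S)) hD'0)
    (hnext V' hfn.1 (hconj V a₀ hΦ)) rfl (by omega) (hX'.trans hgrow.le) hhZ ?_
  rintro _ ⟨x, hx, rfl⟩
  show h * x * h⁻¹ ∈ (S : Subgroup G)
  rw [hhe x hx]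
  exact hT'S (hnX'' ⟨x, hx, rfl⟩)

/-- The chain with all local subgroups good. -/
theorem rreal_chain {e : ℕ} (he : e = 0 ∨ e = p) (S : Sylow p G) {D : Subgroup G}
    (hD : Closed (S : Subgroup G) D) (hD0 : D ≠ ⊥)
    (hloc : ∀ V : Subgroup G, V ≤ (S : Subgroup G) → V ≠ ⊥ →
      GoodZJ p e (normalizer (V : Set G))) {N0 : ℕ}
    (hbig : ∀ (T : Subgroup G) (g : G), N0 < Nat.card T → T ≤ (S : Subgroup G) →
      cj g T ≤ (S : Subgroup G) → RReal (ZJAb e D) T g)
    (k : ℕ) (V X : Subgroup G) (n : G) (hV : V ≤ (S : Subgroup G)) (hV0 : V ≠ ⊥) :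
    Nat.card (S : Subgroup G) - Nat.card (nS (S : Subgroup G) V : Subgroup G) = k →
      N0 < Nat.card (nS (S : Subgroup G) V : Subgroup G) → X ≤ nS (S : Subgroup G) V →
      n ∈ normalizer (V : Set G) → cj n X ≤ (S : Subgroup G) → RReal (ZJAb e D) X n :=
  rreal_chain' he S hD hD0 (fun _ => True) (fun V h1 h2 _ => hloc V h1 h2) (fun _ _ _ => trivial)
    (fun _ _ _ => trivial) hbig k V X n hV hV0 trivial

theorem rreal_of_bot {e : ℕ} {T : Subgroup G} {g : G} :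
    RReal (ZJAb e (⊥ : Subgroup G)) T g := by
  refine ⟨g, ?_, fun _ _ => rfl⟩
  rw [le_bot_iff.mp (ZJAb_le (e := e) (⊥ : Subgroup G)), normalizer_eq_top]
  trivial

/-- All local subgroups are good. -/
theorem goodZJ_of_locals {e : ℕ} (he : e = 0 ∨ e = p)
    (hloc : ∀ V : Subgroup G, IsPGroup p V → V ≠ ⊥ → GoodZJ p e (normalizer (V : Set G))) :
    GoodZJ p e G := by
  intro S D hD T g hT hg
  by_cases hD0 : D = ⊥
  · subst hD0; exact rreal_of_bot
  refine rreal_driver S hD.normalizer_le_ZJAb (fun U _ hUS hUne hU0 n hn hbig => ?_) T g hT hg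
  refine rreal_chain he S hD hD0 (fun V hV => hloc V (S.2.to_le hV)) (N0 := Nat.card U) hbig _
    U U n hUS hU0 rfl ?_ (ConjFunctor.le_nS hUS) hn ((ConjFunctor.cj_eq_iff.mpr hn).le.trans hUS)
  exact lt_of_le_of_ne (card_le_of_le (ConjFunctor.le_nS hUS)) fun e' =>
    (ConjFunctor.lt_nS S.2 hUS hUne).ne (eq_of_le_of_card_ge (ConjFunctor.le_nS hUS) e'.ge)

/-- Modulo a normal `p'`-subgroup. -/
theorem goodZJ_of_quotient {e : ℕ} (R : Subgroup G) [R.Normal] (hR : (Nat.card R).Coprime p)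
    (hq : GoodZJ p e (G ⧸ R)) : GoodZJ p e G := by
  intro S D hD T g hT hg
  set q := QuotientGroup.mk' R with hqdef
  have hqs : Function.Surjective q := QuotientGroup.mk'_surjective R
  let S' : Sylow p (G ⧸ R) := S.mapSurjective hqs
  have hS' : (S' : Subgroup (G ⧸ R)) = (S : Subgroup G).map q := Sylow.coe_mapSurjective hqs S
  have hinj : Set.InjOn q (S : Subgroup G) := ConjFunctor.injOn_mk'_of_coprime hR S.2
  have hcl : Closed (S' : Subgroup (G ⧸ R)) (D.map q) := by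
    refine ⟨hS' ▸ map_mono hD.1, ?_⟩
    rintro _ ⟨d, hd, rfl⟩ y hy
    obtain ⟨x, rfl⟩ := hqs y
    rw [← map_inv, ← map_mul, ← map_mul, hS'] at hy
    have hle : zpowers (x * d * x⁻¹) ≤ ((S : Subgroup G).map q).comap q := zpowers_le.mpr hy
    have hp' : IsPGroup p (zpowers (x * d * x⁻¹)) := by
      refine (ConjFunctor.cj_isPGroup x (S.2.to_le hD.1)).to_le (zpowers_le.mpr ⟨d, hd, rfl⟩)
    obtain ⟨c, hc, hcS⟩ := ConjFunctor.exists_conj_le_of_isSylIn
      (ConjFunctor.isSylIn_of_le (ConjFunctor.isSylIn_top S)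
        (le_comap_map q (S : Subgroup G)) le_top) hle hp'
    have hcx : c * (x * d * x⁻¹) * c⁻¹ ∈ (S : Subgroup G) := hcS ⟨_, mem_zpowers _, rfl⟩
    have h1 : c * x * d * (c * x)⁻¹ ∈ (S : Subgroup G) := by
      convert hcx using 1; group
    have h2 := hD.2 d hd (c * x) h1
    rw [comap_map_eq, QuotientGroup.ker_mk', ← SetLike.mem_coe,
      coe_mul_of_left_le_normalizer_right _ _ (le_normalizer_of_normal)] at hc
    obtain ⟨s, hs, r, hr, rfl⟩ := hc
    refine ⟨s⁻¹ * (s * r * x * d * (s * r * x)⁻¹) * s⁻¹⁻¹, ?_, ?_⟩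
    · exact hD.2 _ h2 s⁻¹ (mul_mem (mul_mem (inv_mem hs) (hD.1 h2)) (inv_mem (inv_mem hs)))
    · have hr1 : q r = 1 := (QuotientGroup.eq_one_iff r).mpr hr
      simp only [map_mul, map_inv, hr1, mul_one, inv_inv, mul_inv_rev, inv_one, one_mul]
      group
  have hgT : (cj g T).map q ≤ (S' : Subgroup (G ⧸ R)) := hS' ▸ map_mono hg
  obtain ⟨k, hk, hke⟩ := hq S' _ hcl (T.map q) (q g) (hS' ▸ map_mono hT) (by
    refine le_trans ?_ hgT
    rw [ConjFunctor.cj, ConjFunctor.cj, Subgroup.map_map, Subgroup.map_map]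
    refine le_of_eq (congrArg (fun f => T.map f) ?_)
    ext x; simp)
  rw [← map_ZJAb D q (hinj.mono hD.1),
    ← ConjFunctor.map_normalizer_mk' hR (S.2.to_le ((ZJAb_le D).trans hD.1))] at hk
  obtain ⟨k₀, hk₀, rfl⟩ := hk
  set L := normalizer (ZJAb e D : Set G)
  have hSL : (S : Subgroup G) ≤ L := le_normalizer.trans hD.normalizer_le_ZJAb
  -- correct by an element of `L ∩ R`
  set Y := cj g T
  set X1 := cj k₀ T
  have hX1L : X1 ≤ L := by
    rintro _ ⟨t, ht, rfl⟩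
    exact mul_mem (mul_mem hk₀ (hSL (hT ht))) (inv_mem hk₀)
  have hYL : Y ≤ L := hg.trans hSL
  have hYp : IsPGroup p Y := S.2.to_le hg
  set E := Y ⊔ (R ⊓ L) with hE
  have hX1E : X1 ≤ E := by
    rintro _ ⟨t, ht, rfl⟩
    have h1 : (g * t * g⁻¹)⁻¹ * (k₀ * t * k₀⁻¹) ∈ R ⊓ L := by
      refine mem_inf.mpr ⟨?_, L.mul_mem (L.inv_mem (hYL ⟨t, ht, rfl⟩)) (hX1L ⟨t, ht, rfl⟩)⟩
      rw [← QuotientGroup.eq_one_iff (N := R)]
      show q _ = 1
      have := hke (q t) (mem_map_of_mem q ht)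
      rw [map_mul, map_inv, map_mul, map_mul, map_inv, map_mul, map_mul, map_inv, this,
        inv_mul_cancel]
    have := E.mul_mem (mem_sup_left (T := R ⊓ L) (⟨t, ht, rfl⟩ : g * t * g⁻¹ ∈ Y))
      (mem_sup_right h1)
    rwa [mul_inv_cancel_left] at this
  have hYn : Y ≤ normalizer ((R ⊓ L : Subgroup G) : Set G) :=
    (le_inf le_normalizer_of_normal (hYL.trans le_normalizer)).trans inf_normalizer_le_normalizer_inf
  have hsyl : IsSylIn p Y E := by
    refine ⟨le_sup_left, hYp, fun hd => ?_⟩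
    have h2 : Nat.card E = Nat.card (R ⊓ L : Subgroup G) * Nat.card Y := by
      obtain ⟨i, hi⟩ := hYp.exists_card_eq
      rw [hE, sup_comm]
      exact Basics.card_sup_of_coprime hYn
        (hi ▸ (hR.coprime_dvd_left (card_dvd_of_le inf_le_left)).pow_right i)
    have h3 : Y.relIndex E * Nat.card Y = Nat.card E := by
      rw [mul_comm, ← card_mul_index (Y.subgroupOf E), relIndex,
        Nat.card_congr (subgroupOfEquivOfLe (le_sup_left : Y ≤ E)).toEquiv]
    rw [h2] at h3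
    have h4 := Nat.eq_of_mul_eq_mul_right Nat.card_pos h3
    rw [h4] at hd
    exact (hp.out.coprime_iff_not_dvd.mp hR.symm)
      (hd.trans (card_dvd_of_le inf_le_left))
  obtain ⟨d, hd, hdX⟩ := ConjFunctor.exists_conj_le_of_isSylIn hsyl hX1E
    (ConjFunctor.cj_isPGroup k₀ (S.2.to_le hT))
  rw [hE, sup_comm, ← SetLike.mem_coe, coe_mul_of_right_le_normalizer_left _ _ hYn] at hd
  obtain ⟨r, hr, y, hy, rfl⟩ := hd
  -- replace the conjugating element by its `R`-part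
  set d' := y⁻¹ * (r * y) with hd'
  have hd'R : d' ∈ R ⊓ L := by
    have h5 := (mem_normalizer_iff.mp (hYn (inv_mem hy)) r).mp hr
    rwa [inv_inv, mul_assoc] at h5
  refine ⟨d' * k₀, mul_mem hd'R.2 hk₀, fun t ht => ?_⟩
  have h6 : d' * (k₀ * t * k₀⁻¹) * d'⁻¹ ∈ Y := by
    have h7 : r * y * (k₀ * t * k₀⁻¹) * (r * y)⁻¹ ∈ Y := hdX ⟨_, ⟨t, ht, rfl⟩, rfl⟩
    have h8 := Y.mul_mem (Y.mul_mem (Y.inv_mem hy) h7) hy
    convert h8 using 1
    simp [hd', mul_assoc]
  have h9 : q (d' * k₀ * t * (d' * k₀)⁻¹) = q (g * t * g⁻¹) := by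
    have hq1 : q d' = 1 := (QuotientGroup.eq_one_iff d').mpr hd'R.1
    have := hke (q t) (mem_map_of_mem q ht)
    simp only [map_mul, map_inv, mul_inv_rev, hq1, one_mul, inv_one, mul_one] at this ⊢
    simp only [mul_assoc] at this ⊢; exact this
  refine hinj ?_ (hg ⟨t, ht, rfl⟩) h9
  have e1 : d' * k₀ * t * (d' * k₀)⁻¹ = d' * (k₀ * t * k₀⁻¹) * d'⁻¹ := by group
  rw [e1]
  exact hg h6

/-- The constrained stable case. -/
theorem goodZJ_of_stable {e : ℕ} (hodd : p ≠ 2) (he : e = 0 ∨ e = p)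
    (hc : centralizer (Cfsg.pCore p G : Set G) ≤ Cfsg.pCore p G) (hst : PStableElts p G) :
    GoodZJ p e G := by
  intro S D hD T g _ _
  haveI := ZJAb_normal_rel hodd he hc hst S D hD.1 hD.2
  exact ⟨g, by rw [normalizer_eq_top]; trivial, fun _ _ => rfl⟩

/-- The `p`-constrained case. -/
theorem goodZJ_of_constrained {e : ℕ} (hodd : p ≠ 2) (he : e = 0 ∨ e = p)
    (hc : Cfsg.IsPConstrained p G) (hst : PStableElts p (G ⧸ Cfsg.pPrimeCore p G)) :
    GoodZJ p e G :=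
  goodZJ_of_quotient _ (Basics.pPrimeCore_coprime p)
    (goodZJ_of_stable hodd he (Components.isPConstrained_iff.mp hc) hst)

/-- The step for a class closed under sections. -/
theorem goodZJ_step {e : ℕ} (hodd : p ≠ 2) (he : e = 0 ∨ e = p) (hst : PStableElts p G)
    (hsub : ∀ M : Subgroup G, M ≠ ⊤ → GoodZJ p e M)
    (hquot : ∀ (N : Subgroup G) [N.Normal], N ≠ ⊥ → GoodZJ p e (G ⧸ N)) : GoodZJ p e G := by
  haveI := LocalEvenA.pCore_normal' p G
  set Q := Cfsg.pCore p G with hQdef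
  set C := centralizer ((Q : Subgroup G) : Set G) with hCdef
  by_cases hQ : Q = ⊥
  · refine goodZJ_of_locals he fun V hV hV0 => hsub _ fun h => hV0 ?_
    exact le_bot_iff.mp (hQ ▸ ConjFunctor.le_pCore_of_normalizer hV h)
  intro S D hD T g hT hg
  set U₀ := (S : Subgroup G) ⊓ (Q ⊔ C) with hU₀
  set N₀ := normalizer (U₀ : Set G) with hN₀
  by_cases hN : N₀ = ⊤
  · obtain ⟨R, hRn, hRc, hR0⟩ := ConjFunctor.exists_pPrime_part S hN
    by_cases hR : R = ⊥
    · exact goodZJ_of_stable hodd he (hR0 hR) hst S D hD T g hT hg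
    · haveI := hRn
      exact goodZJ_of_quotient R hRc (hquot R hR) S D hD T g hT hg
  have hSN : (S : Subgroup G) ≤ N₀ :=
    (le_inf le_normalizer le_normalizer_of_normal).trans inf_normalizer_le_normalizer_inf
  have hSZ : (S : Subgroup G) ≤ normalizer (ZJAb e D : Set G) :=
    le_normalizer.trans hD.normalizer_le_ZJAb
  have hsubS : ∀ M : Subgroup G, M ≠ ⊤ → (S : Subgroup G) ≤ M → ∀ (A : Subgroup G) (x : G),
      x ∈ M → A ≤ (S : Subgroup G) → cj x A ≤ (S : Subgroup G) → RReal (ZJAb e D) A x := by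
    intro M hM hSM A x hx hA hxA
    obtain ⟨h, -, hh, hhe⟩ := goodZJ_sub hD
      (ConjFunctor.isSylIn_of_le (ConjFunctor.isSylIn_top S) hSM le_top) le_rfl (hsub M hM) hA hx hxA
    rw [inf_eq_left.mpr hD.1] at hh
    exact ⟨h, hh, hhe⟩
  by_cases hL : C ⊔ (S : Subgroup G) = ⊤
  swap
  · -- both `C ⊔ S` and `N₀` are proper
    have hgm : g ∈ (C : Set G) * (N₀ : Set G) := by
      rw [← normal_mul, ConjFunctor.centralizer_sup_normalizer S]
      trivial
    obtain ⟨c, hc, n, hn, rfl⟩ := Set.mem_mul.mp hgm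
    have hn1 : cj n (S : Subgroup G) ≤ N₀ := by
      rintro _ ⟨x, hx, rfl⟩
      exact mul_mem (mul_mem hn (hSN hx)) (inv_mem hn)
    obtain ⟨m, hm, hle⟩ := ConjFunctor.exists_conj_le_of_isSylIn
      (ConjFunctor.isSylIn_of_le (ConjFunctor.isSylIn_top S) hSN le_top) hn1
      (ConjFunctor.cj_isPGroup n S.2)
    have hT1 : cj (m * n) T ≤ (S : Subgroup G) := by
      rw [ConjFunctor.cj_mul]
      exact (ConjFunctor.cj_le_cj.mpr (ConjFunctor.cj_le_cj.mpr hT)).trans hle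
    set c' := m * c * m⁻¹ with hc'
    have hc'C : c' ∈ C := (inferInstance : C.Normal).conj_mem c hc m
    set L := C ⊔ (S : Subgroup G) with hLdef
    set P := cj c' (cj (m * n) T) with hP
    have heq : P = cj m (cj (c * n) T) := by
      rw [hP, ← ConjFunctor.cj_mul, ← ConjFunctor.cj_mul]
      congr 1
      rw [hc']; group
    have hPle : P ≤ L ⊓ N₀ := by
      refine le_inf ?_ ?_
      · rw [hP]
        rintro _ ⟨x, hx, rfl⟩
        exact L.mul_mem (L.mul_mem (mem_sup_left hc'C) (mem_sup_right (hT1 hx)))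
          (L.inv_mem (mem_sup_left hc'C))
      · rw [heq]
        rintro _ ⟨x, hx, rfl⟩
        exact N₀.mul_mem (N₀.mul_mem hm (hSN (hg hx))) (N₀.inv_mem hm)
    obtain ⟨m', hm', hle'⟩ := ConjFunctor.exists_conj_le_of_isSylIn
      (ConjFunctor.isSylIn_of_le (ConjFunctor.isSylIn_top S)
        (le_inf (le_sup_right : (S : Subgroup G) ≤ L) hSN) le_top)
      hPle (ConjFunctor.cj_isPGroup c' (S.2.to_le hT1))
    have h2 : cj (m' * c') (cj (m * n) T) ≤ (S : Subgroup G) := by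
      rw [ConjFunctor.cj_mul m' c', ← hP]; exact hle'
    have r₁ := hsubS N₀ hN hSN T (m * n) (N₀.mul_mem hm hn) hT hT1
    have r₂ := hsubS L hL le_sup_right _ (m' * c')
      (L.mul_mem hm'.1 (mem_sup_left hc'C)) hT1 h2
    have e1 : (m' * m)⁻¹ * (m' * c' * (m * n)) = c * n := by rw [hc']; group
    have r₃ := hsubS N₀ hN hSN (cj (m' * c' * (m * n)) T) (m' * m)⁻¹
      (N₀.inv_mem (N₀.mul_mem hm'.2 hm))
      (by rw [ConjFunctor.cj_mul (m' * c')]; exact h2)
      (by rw [← ConjFunctor.cj_mul, e1]; exact hg)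
    have := (r₁.trans r₂).trans r₃
    rwa [e1] at this
  -- `G = C S`
  have hQS : Q ≤ (S : Subgroup G) := Basics.pCore_le_sylow p S
  by_cases hDQ : D ≤ Q
  · have hDn : D.Normal := ⟨fun d hd x =>
      hD.2 d hd x (hQS ((inferInstance : Q.Normal).conj_mem d (hDQ hd) x))⟩
    refine ⟨g, normalizer_le_normalizer_ZJAb D ?_, fun _ _ => rfl⟩
    rw [normalizer_eq_top]; trivial
  set q := QuotientGroup.mk' Q with hqdef
  have hq : Function.Surjective q := QuotientGroup.mk'_surjective _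
  let S' : Sylow p (G ⧸ Q) := S.mapSurjective hq
  have hS' : (S' : Subgroup (G ⧸ Q)) = (S : Subgroup G).map q := Sylow.coe_mapSurjective hq S
  have hcomap : ((S : Subgroup G).map q).comap q = (S : Subgroup G) := by
    rw [comap_map_eq, QuotientGroup.ker_mk', sup_eq_left.mpr hQS]
  have hcl : Closed (S' : Subgroup (G ⧸ Q)) (D.map q) := by
    refine ⟨hS' ▸ map_mono hD.1, ?_⟩
    rintro _ ⟨d, hd, rfl⟩ y hy
    obtain ⟨x, rfl⟩ := hq y
    rw [← map_inv, ← map_mul, ← map_mul, hS', ← mem_comap, hcomap] at hy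
    exact ⟨x * d * x⁻¹, hD.2 d hd x hy, by simp⟩
  set M := (normalizer (ZJAb e (D.map q) : Set (G ⧸ Q))).comap q with hMdef
  have hSM : (S : Subgroup G) ≤ M := fun s hs =>
    hcl.normalizer_le_ZJAb (le_normalizer (hS'.symm ▸ mem_map_of_mem q hs))
  have hM : M ≠ ⊤ := by
    intro hM
    have hDp : IsPGroup p (D.map q) := (S.2.to_le hD.1).map q
    have hne : D.map q ≠ ⊥ := by
      rw [Ne, Subgroup.map_eq_bot_iff, QuotientGroup.ker_mk']; exact hDQ
    refine ZJAb_ne_bot he hDp hne (le_bot_iff.mp ?_)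
    rw [← ConjFunctor.pCore_quotient_pCore (X := G) (p := p)]
    refine ConjFunctor.le_pCore_of_normalizer (hDp.to_le (ZJAb_le _)) ?_
    rw [← map_comap_eq_self_of_surjective hq (normalizer _), ← hMdef, hM,
      map_top_of_surjective q hq]
  refine rreal_driver S hD.normalizer_le_ZJAb (fun U hfn hUS hUne hU0 n hn hbig => ?_) T g hT hg
  have hQn : cj n Q = Q := ConjFunctor.cj_eq_iff.mpr (by rw [normalizer_eq_top]; trivial)
  by_cases hQU : Q ≤ U
  swap
  · have hlt : U < U ⊔ Q := left_lt_sup.mpr hQU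
    refine (hbig (U ⊔ Q) n ?_ (sup_le hUS hQS) ?_).mono le_sup_left
    · exact lt_of_le_of_ne (card_le_of_le hlt.le) fun e' =>
        hlt.ne (eq_of_le_of_card_ge hlt.le e'.ge)
    · rw [ConjFunctor.cj, Subgroup.map_sup]
      exact sup_le ((ConjFunctor.cj_eq_iff.mpr hn).le.trans hUS) (hQn.le.trans hQS)
  obtain ⟨k, hk, hke⟩ := hquot Q hQ S' _ hcl (U.map q) (q n) (hS' ▸ map_mono hUS) (by
    rintro _ ⟨_, ⟨u, hu, rfl⟩, rfl⟩
    rw [hS']
    exact ⟨n * u * n⁻¹, hUS ((mem_normalizer_iff.mp hn u).mp hu), by simp⟩)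
  obtain ⟨c, rfl⟩ := hq k
  have hUQ : (U.map q).comap q = U := by
    rw [comap_map_eq, QuotientGroup.ker_mk', sup_eq_left.mpr hQU]
  have hcU : ∀ u ∈ U, c * u * c⁻¹ ∈ U := fun u hu => by
    rw [← hUQ, mem_comap, map_mul, map_mul, map_inv, hke (q u) (mem_map_of_mem q hu), ← map_inv,
      ← map_mul, ← map_mul]
    exact mem_map_of_mem q ((mem_normalizer_iff.mp hn u).mp hu)
  have hcN : c ∈ normalizer (U : Set G) := by
    refine ConjFunctor.cj_eq_iff.mp (eq_of_le_of_card_ge ?_ (by rw [ConjFunctor.cj_card]))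
    rintro _ ⟨u, hu, rfl⟩
    exact hcU u hu
  obtain ⟨h, hh, hhe⟩ := hsubS M hM hSM U c hk hUS
    ((ConjFunctor.cj_eq_iff.mpr hcN).le.trans hUS)
  set E := normalizer (U : Set G) ⊓
    (centralizer ((U.map q : Subgroup (G ⧸ Q)) : Set (G ⧸ Q))).comap q with hE
  have hNE : normalizer (U : Set G) ≤ normalizer (E : Set G) := by
    refine (le_inf le_normalizer fun x hx => ?_).trans inf_normalizer_le_normalizer_inf
    rw [← comap_normalizer_eq_of_surjective _ hq, mem_comap]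
    exact normalizer_le_normalizer_centralizer' _ (le_normalizer_map q (mem_map_of_mem q hx))
  have hRs := isSylIn_inf_of_le (hfn.sylIn S.2) inf_le_left hNE
  have hyE : c⁻¹ * n ∈ E := by
    refine mem_inf.mpr ⟨(normalizer (U : Set G)).mul_mem ((normalizer (U : Set G)).inv_mem hcN) hn, ?_⟩
    rintro _ ⟨u, hu, rfl⟩
    rw [map_mul, map_inv]
    have := hke (q u) (mem_map_of_mem q hu)
    calc q u * ((q c)⁻¹ * q n) = (q c)⁻¹ * (q c * q u * (q c)⁻¹) * q n := by group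
      _ = (q c)⁻¹ * (q n * q u * (q n)⁻¹) * q n := by rw [this]
      _ = (q c)⁻¹ * q n * q u := by group
  have hdec := ConjFunctor.le_sup_of_coprime_le
    (Z := centralizer (U : Set G) ⊓ E) inf_le_right hRs (fun y hy hyp => by
      refine ⟨mem_centralizer_iff.mpr fun u hu => ?_, hy⟩
      refine (ConjFunctor.comm_of_coprime_of_fixed hyp (Basics.pCore_isPGroup p) ?_ ?_).symm
      · have hyC : y ∈ C := by
          have hsurj : Function.Surjective
              ((QuotientGroup.mk' C).comp (S : Subgroup G).subtype) := by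
            rw [← MonoidHom.range_eq_top, MonoidHom.range_comp, range_subtype,
              ← (comap_injective (QuotientGroup.mk'_surjective C)).eq_iff,
              comap_map_eq, QuotientGroup.ker_mk', comap_top, sup_comm]
            exact hL
          obtain ⟨k, hk⟩ := (S.2.of_surjective _ hsurj) (QuotientGroup.mk' C y)
          refine (QuotientGroup.eq_one_iff y).mp
            (Components.eq_one_of_pow_prime_pow_of_coprime hyp hk ?_)
          show (QuotientGroup.mk' C y) ^ _ = 1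
          rw [← map_pow, pow_orderOf_eq_one, map_one]
        exact fun w hw => (mem_centralizer_iff.mp hyC w hw).symm
      · refine (QuotientGroup.eq_one_iff (N := Q) _).mp ?_
        show q _ = 1
        have := hy.2 (q u) (mem_map_of_mem q hu)
        rw [map_mul, map_mul, map_mul, map_inv, map_inv, ← this]
        group) hyE
  have hnorm : nS (S : Subgroup G) U ⊓ E ≤
      normalizer ((centralizer (U : Set G) ⊓ E : Subgroup G) : Set G) :=
    (le_inf ((inf_le_left.trans inf_le_right).trans (normalizer_le_normalizer_centralizer' U))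
      (inf_le_right.trans le_normalizer)).trans inf_normalizer_le_normalizer_inf
  rw [← SetLike.mem_coe, coe_mul_of_right_le_normalizer_left _ _ hnorm, Set.mem_mul] at hdec
  obtain ⟨z, hz, s, hs, hzs⟩ := hdec
  refine ⟨h * s, mul_mem hh (hSZ hs.1.1), fun u hu => ?_⟩
  have hsu : s * u * s⁻¹ ∈ U := (mem_normalizer_iff.mp hs.1.2 u).mp hu
  have hzc : z * (s * u * s⁻¹) * z⁻¹ = s * u * s⁻¹ := by
    rw [← mem_centralizer_iff.mp hz.1 _ hsu, mul_inv_cancel_right]
  calc h * s * u * (h * s)⁻¹ = h * (s * u * s⁻¹) * h⁻¹ := by group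
    _ = c * (z * (s * u * s⁻¹) * z⁻¹) * c⁻¹ := by rw [hzc, hhe _ hsu]
    _ = c * (z * s) * u * (c * (z * s))⁻¹ := by group
    _ = n * u * n⁻¹ := by rw [hzs, mul_inv_cancel_left]

end Cfsg.Agent.Transfer
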