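import Cfsg.Agent.Lib.Transfer.ZJRelControl
import Cfsg.Agent.Lib.Transfer.QuadStable
import Cfsg.Agent.Lib.ConjFunctor.KConsequences

/-!
# Stability modulo `p'`, and `Z(J(D))` under the usual hypotheses
-/

set_option autoImplicit false
set_option linter.style.haveILetI false

namespace Cfsg.Agent.Transfer

open Subgroup
open ConjFunctor (cj IsSylIn IsFN nS)

universe u

variable {G : Type u} [Group G] [Finite G] {p : ℕ} [hp : Fact p.Prime]

/-- Normalizer `p`-stability gives stability modulo a normal `p'`-subgroup. -/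
theorem pStableElts_of_normalizerPStable (hst : Cfsg.IsNormalizerPStable p G) (R : Subgroup G)
    [R.Normal] (hR : (Nat.card R).Coprime p) : PStableElts p (G ⧸ R) := by
  intro V _ hV a ⟨k, hk⟩ hq
  set π := QuotientGroup.mk' R
  have hA : IsPGroup p (zpowers a) := by
    rintro ⟨_, n, rfl⟩
    refine ⟨k, Subtype.ext ?_⟩
    show (a ^ n) ^ p ^ k = 1
    rw [← zpow_natCast, ← zpow_mul, mul_comm, zpow_mul, zpow_natCast, hk, one_zpow]
  set Bb := zpowers a ⊔ V
  have hBp : IsPGroup p Bb := hA.to_sup_of_normal_right hV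
  obtain ⟨B, hBB, hBp'⟩ : ∃ B : Subgroup G, B.map π = Bb ∧ IsPGroup p B := by
    obtain ⟨S⟩ : Nonempty (Sylow p (Bb.comap π)) := inferInstance
    have hs : Function.Surjective (π.subgroupComap Bb) :=
      MonoidHom.subgroupComap_surjective_of_surjective π Bb (QuotientGroup.mk'_surjective R)
    have htop : (S.mapSurjective hs : Subgroup Bb) = ⊤ :=
      ((S.mapSurjective hs).3 (hBp.to_subgroup ⊤) le_top).symm
    rw [Sylow.coe_mapSurjective] at htop
    refine ⟨(S : Subgroup (Bb.comap π)).map (Bb.comap π).subtype, ?_, S.isPGroup'.map _⟩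
    rw [Subgroup.map_map, show π.comp (Bb.comap π).subtype = Bb.subtype.comp (π.subgroupComap Bb)
      from rfl, ← Subgroup.map_map, htop, ← MonoidHom.range_eq_map, range_subtype]
  obtain ⟨a', ha', hae⟩ := (hBB.ge (le_sup_left (b := V) (mem_zpowers a)) : a ∈ B.map π)
  set W := B ⊓ V.comap π
  have hWV : W.map π = V := by
    apply le_antisymm
    · rintro _ ⟨x, hx, rfl⟩; exact hx.2
    · intro y hy
      obtain ⟨x, hx, rfl⟩ := (hBB.ge (le_sup_right (a := zpowers a) hy) : y ∈ B.map π)
      exact ⟨x, ⟨hx, hy⟩, rfl⟩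
  have ha'N : a' ∈ normalizer (W : Set G) :=
    inf_normalizer_le_normalizer_inf (G := G) (H := B) (K := V.comap π)
      ⟨le_normalizer ha', le_normalizer_of_normal ha'⟩
  have hq' : ⁅⁅W, zpowers a'⁆, zpowers a'⁆ = ⊥ := by
    have hle : ⁅⁅W, zpowers a'⁆, zpowers a'⁆ ≤ B :=
      (commutator_mono ((commutator_mono inf_le_left (zpowers_le.mpr ha')).trans
        (commutator_le_self B)) (zpowers_le.mpr ha')).trans (commutator_le_self B)
    rw [eq_bot_iff]
    intro x hx
    have h1 : π x ∈ (⊥ : Subgroup (G ⧸ R)) := by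
      rw [← hq, ← hWV, ← hae, ← MonoidHom.map_zpowers, ← map_commutator, ← map_commutator]
      exact mem_map_of_mem π hx
    exact mem_bot.mpr (ConjFunctor.injOn_mk'_of_coprime hR hBp' (hle hx) (one_mem B)
      (by rw [mem_bot.mp h1, map_one]))
  have hN : normalizer (V : Set (G ⧸ R)) = ⊤ := normalizer_eq_top_iff.mpr inferInstance
  have h := (mk_mem_pCore_normalizer_iff' hR hBp'.to_inf_left hWV a' ha'N (hN ▸ mem_top _)).mp
    (hst W hBp'.to_inf_left a' ha'N hq')
  let φ : normalizer (V : Set (G ⧸ R)) →* G ⧸ R := (normalizer (V : Set (G ⧸ R))).subtype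
  refine (mk_mem_pCore_iff_of_surjective φ (fun g => ⟨⟨g, hN ▸ mem_top g⟩, rfl⟩) _ _ rfl
    ⟨a, hN ▸ mem_top a⟩).mp ?_
  subst hae
  exact h

theorem pStableElts_self (hst : Cfsg.IsNormalizerPStable p G) : PStableElts p G := by
  intro V _ hV a ha hq
  obtain ⟨k, hk⟩ := ha
  have hN : normalizer (V : Set G) = ⊤ := normalizer_eq_top_iff.mpr inferInstance
  let φ : normalizer (V : Set G) →* G := (normalizer (V : Set G)).subtype
  exact (mk_mem_pCore_iff_of_surjective φ (fun g => ⟨⟨g, hN ▸ mem_top g⟩, rfl⟩) _ _ rfl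
    ⟨a, hN ▸ mem_top a⟩).mp (hst V hV a (hN ▸ mem_top a) hq)

/-- Stable and with constrained local subgroups. -/
theorem goodZJ_of_normalizerPStable {e : ℕ} (hodd : p ≠ 2) (he : e = 0 ∨ e = p)
    (hst : Cfsg.IsNormalizerPStable p G) (P : Sylow p G)
    (hc : ∀ U : Subgroup G, U ≤ (P : Subgroup G) → U ≠ ⊥ →
      Cfsg.IsPConstrained p ↥(normalizer (U : Set G)))
    {D : Subgroup G} (hD : Closed (P : Subgroup G) D) (T : Subgroup G) (g : G)
    (hT : T ≤ (P : Subgroup G)) (hg : cj g T ≤ (P : Subgroup G)) : RReal (ZJAb e D) T g := by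
  by_cases hD0 : D = ⊥
  · subst hD0; exact rreal_of_bot
  refine rreal_driver P hD.normalizer_le_ZJAb (fun U _ hUS hUne hU0 n hn hbig => ?_) T g hT hg
  refine rreal_chain he P hD hD0 (fun V hV hV0 => goodZJ_of_constrained hodd he (hc V hV hV0)
      (pStableElts_of_normalizerPStable (ConjFunctor.isNormalizerPStable_of_injective _
        (Subgroup.subtype_injective _) hst) _ (Basics.pPrimeCore_coprime p))) (N0 := Nat.card U)
    hbig _ U U n hUS hU0 rfl ?_ (ConjFunctor.le_nS hUS) hn
    ((ConjFunctor.cj_eq_iff.mpr hn).le.trans hUS)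
  exact lt_of_le_of_ne (card_le_of_le (ConjFunctor.le_nS hUS)) fun e' =>
    (ConjFunctor.lt_nS P.2 hUS hUne).ne (eq_of_le_of_card_ge (ConjFunctor.le_nS hUS) e'.ge)

/-- From controlling maps of subgroups to strong fusion of subsets, for `W` and above. -/
theorem controlsStrongFusionOf_of_rreal {S W : Subgroup G} {X : Subgroup G}
    (hX : normalizer (W : Set G) ≤ X)
    (h : ∀ (T : Subgroup G) (g : G), T ≤ S → cj g T ≤ S → RReal W T g) :
    ∀ A : Set G, A ⊆ S → Cfsg.ControlsStrongFusionOf X S A := by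
  refine fun A hA => ⟨hA, fun g hg => ?_⟩
  obtain ⟨x, hx, he⟩ := h (closure A) g ((closure_le _).mpr hA) (by
    rw [ConjFunctor.cj, MonoidHom.map_closure, closure_le]
    exact hg)
  exact ⟨x, hX hx, fun b hb => (he b (subset_closure hb)).symm⟩

/-- Passing to `Ω₁`. -/
theorem normalizer_le_omegaOne {e : ℕ} (T : Subgroup G) :
    normalizer (ZJAb e T : Set G) ≤
      normalizer (Cfsg.omegaOne p (ZJAb e T) : Set G) := by
  intro g hg
  refine ConjFunctor.cj_eq_iff.mp ?_
  rw [ConjFunctor.cj, map_omegaOne _ (MulAut.conj g).injective]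
  exact congrArg _ (ConjFunctor.cj_eq_iff.mpr hg)

/-- Invariance under isomorphisms. -/
theorem goodZJ_congr {e : ℕ} {H : Type u} [Group H] [Finite H] (f : G ≃* H)
    (h : GoodZJ p e G) : GoodZJ p e H := by
  intro S D hD T g hT hg
  have hinj : Function.Injective f.toMonoidHom := f.injective
  have hback : ∀ U : Subgroup H, (U.comap f.toMonoidHom).map f.toMonoidHom = U := fun U =>
    map_comap_eq_self_of_surjective f.surjective U
  let S' : Sylow p G := S.comapOfInjective f.toMonoidHom hinj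
    (by rw [MonoidHom.range_eq_top_of_surjective _ f.surjective]; exact le_top)
  have hcl : Closed (S' : Subgroup G) (D.comap f.toMonoidHom) := by
    refine ⟨Subgroup.comap_mono hD.1, fun d hd x hx => ?_⟩
    have hx' : f (x * d * x⁻¹) ∈ (S : Subgroup H) := hx
    show f (x * d * x⁻¹) ∈ D
    rw [map_mul, map_mul, map_inv] at hx' ⊢
    exact hD.2 (f d) hd (f x) hx'
  obtain ⟨k, hk, hke⟩ := h S' _ hcl (T.comap f.toMonoidHom) (f.symm g) (Subgroup.comap_mono hT) (by
    rintro _ ⟨t, ht, rfl⟩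
    show f (f.symm g * t * (f.symm g)⁻¹) ∈ (S : Subgroup H)
    rw [map_mul, map_mul, map_inv, f.apply_symm_apply]
    exact hg ⟨f t, ht, rfl⟩)
  refine ⟨f k, ?_, fun t ht => ?_⟩
  · have h1 := le_normalizer_map f.toMonoidHom (mem_map_of_mem _ hk)
    rwa [map_ZJAb _ _ hinj.injOn, hback] at h1
  · have h1 := congrArg f (hke (f.symm t) (by
      show f (f.symm t) ∈ T
      rwa [f.apply_symm_apply]))
    simpa [map_mul, map_inv] using h1

end Cfsg.Agent.Transfer
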